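import Cfsg.Agent.Lib.GorensteinWalter.Sylow

/-!
# From the minimal counterexample to the Gorenstein–Walter theorem
-/

set_option autoImplicit false
set_option linter.unusedSectionVars false
set_option linter.style.haveILetI false

namespace Cfsg.Agent.Lib.GorensteinWalter

open Cfsg.Agent.Lib.Fusion.Dihedral

universe u v

theorem IsKnownD.congr {G H : Type u} [Group G] [Group H] (h : IsKnownD G) (e : G ≃* H) :
    IsKnownD H := by
  rcases h with ⟨F, hF, hF', ho, h3, ⟨f⟩⟩ | h7
  · exact Or.inl ⟨F, hF, hF', ho, h3, ⟨e.symm.trans f⟩⟩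
  · exact Or.inr (h7.map fun f => e.symm.trans f)

/-- A proper section is smaller. -/
theorem card_section_lt {G : Type u} [Group G] [Finite G] {H : Subgroup G} (hH : H ≠ ⊤)
    (N : Subgroup H) [N.Normal] : Nat.card (H ⧸ N) < Nat.card G :=
  lt_of_le_of_lt (Nat.card_le_card_of_surjective _ (QuotientGroup.mk'_surjective N))
    (lt_of_le_of_ne (Subgroup.card_le_card_group H) fun e => hH (Subgroup.eq_top_of_card_eq H e))

/-- Every simple non-abelian group with dihedral Sylow 2-subgroups is known, given the main proposition. -/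
theorem known_of_propMain (hM : PropMain.{u}) (G : Type u) [Group G] [Finite G] (hs : IsSimpleGroup G)
    (hna : ¬ IsMulCommutative G) (hd : HasDihedralSylow G) : IsKnownD G := by
  suffices ∀ (n : ℕ) (G : Type u) [Group G] [Finite G], Nat.card G = n → IsSimpleGroup G →
      ¬ IsMulCommutative G → HasDihedralSylow G → IsKnownD G from this _ G rfl hs hna hd
  intro n
  induction n using Nat.strong_induction_on with
  | _ n ih =>
    intro G _ _ hn hs hna hd
    refine hM G ⟨hs, hna, hd, fun H hH N _ hsN hnaN => ?_⟩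
    haveI := hsN
    exact ih _ (hn ▸ card_section_lt hH N) (H ⧸ N) rfl hsN hnaN
      (((hd.sylowCD.subgroup H).of_surjective _ (QuotientGroup.mk'_surjective N)).dihedral_of_simple hnaN)

/-- The statement for perfect groups. -/
theorem perfect_of_propMain (hM : PropMain.{u}) {X : Type u} [Group X] [Finite X] [Group.IsPerfect X]
    (S : Sylow 2 X) (n : ℕ) (hn : 2 ≤ n) (hS : Nonempty ((S : Subgroup X) ≃* DihedralGroup n)) :
    IsKnownD (X ⧸ Cfsg.oddCore X) := by
  haveI : Fact (Nat.Prime 2) := ⟨Nat.prime_two⟩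
  haveI : (Cfsg.oddCore X).Normal := by unfold Cfsg.oddCore; infer_instance
  have hcd : SylowCD X := fun T => Or.inr ⟨n, hn, hS.map fun e => (Sylow.equiv T S).trans e⟩
  have hY := hcd.of_surjective _ (QuotientGroup.mk'_surjective (Cfsg.oddCore X))
  haveI : Group.IsPerfect (X ⧸ Cfsg.oddCore X) := ⟨by
    rw [_root_.commutator_def,
      ← Subgroup.map_top_of_surjective _ (QuotientGroup.mk'_surjective (Cfsg.oddCore X)),
      ← Subgroup.map_commutator, ← _root_.commutator_def, Group.IsPerfect.commutator_eq_top]⟩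
  haveI : Nontrivial (X ⧸ Cfsg.oddCore X) := by
    refine (QuotientGroup.nontrivial_iff (N := Cfsg.oddCore X)).2 fun htop => ?_
    have h2 : ¬ Odd (Nat.card X) := by
      obtain ⟨e⟩ := hS
      haveI : NeZero n := ⟨by omega⟩
      rw [Nat.not_odd_iff_even, even_iff_two_dvd]
      refine dvd_trans ?_ (Subgroup.card_subgroup_dvd_card (S : Subgroup X))
      rw [Nat.card_congr e.toEquiv, DihedralGroup.nat_card]
      exact dvd_mul_right 2 n
    apply h2
    rw [← Subgroup.card_top, ← htop]
    exact Cores.oddCore_odd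
  obtain ⟨hs, hna, hd⟩ := hY.simple_of_perfect (Cores.pPrimeCore_quotient_pPrimeCore 2)
  exact known_of_propMain hM _ hs hna hd

end Cfsg.Agent.Lib.GorensteinWalter
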