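import Cfsg.Agent.Lib.GorensteinWalter.Sylow
import Cfsg.Agent.S0514
import Cfsg.Agent.S0205
import Cfsg.Agent.Lib.Coprime.Generation
import Cfsg.Agent.Lib.PLocal.PStable
import Cfsg.Agent.Lib.ZJ.StableFree
import Cfsg.Agent.Lib.ZJ.Abelian
import Cfsg.Agent.Lib.Transfer.PResidual
import Cfsg.Prelude.Def_Local

/-!
# Gorenstein–Walter: preliminaries for the local sections

`coreC v` is `O(C(v))` and `coreV V` is `O(C(V))`, both as subgroups of `G`.
-/

set_option autoImplicit false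
set_option linter.unusedSectionVars false
set_option linter.style.haveILetI false

namespace Cfsg.Agent.Lib.GorensteinWalter

open Cfsg.Agent.Lib.Fusion.Dihedral
open scoped commutatorElement

universe u

variable {G : Type u} [Group G] [Finite G]

/-- `O(C(v))`, inside `G`. -/
abbrev coreC (v : G) : Subgroup G := Cfsg.centralizerPPrimeCore 2 v

/-- `O(C(V))`, inside `G`. -/
def coreV (V : Subgroup G) : Subgroup G :=
  (Cfsg.oddCore ↥(Subgroup.centralizer (V : Set G))).map (Subgroup.centralizer (V : Set G)).subtype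

theorem coreC_le (v : G) : coreC v ≤ Subgroup.centralizer ({v} : Set G) :=
  Subgroup.map_subtype_le _

theorem coreV_le (V : Subgroup G) : coreV V ≤ Subgroup.centralizer (V : Set G) :=
  Subgroup.map_subtype_le _

theorem card_coreC (v : G) :
    Nat.card (coreC v) = Nat.card (Cfsg.oddCore ↥(Subgroup.centralizer ({v} : Set G))) :=
  Subgroup.card_map_of_injective (Subgroup.subtype_injective _)

theorem card_coreV (V : Subgroup G) :
    Nat.card (coreV V) = Nat.card (Cfsg.oddCore ↥(Subgroup.centralizer (V : Set G))) :=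
  Subgroup.card_map_of_injective (Subgroup.subtype_injective _)

theorem coreC_odd (v : G) : Odd (Nat.card (coreC v)) := card_coreC v ▸ Cores.oddCore_odd

theorem coreV_odd (V : Subgroup G) : Odd (Nat.card (coreV V)) := card_coreV V ▸ Cores.oddCore_odd

theorem orderOf_odd_of_mem {K : Subgroup G} (hK : Odd (Nat.card K)) {g : G} (hg : g ∈ K) :
    Odd (orderOf g) := Odd.of_dvd_nat hK (Subgroup.orderOf_dvd_natCard K hg)

theorem centralizer_le_normalizer_coreC (v : G) :
    Subgroup.centralizer ({v} : Set G) ≤ Subgroup.normalizer (coreC v : Set G) := by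
  intro x hx
  refine Subgroup.mem_normalizer_fintype fun n hn => ?_
  obtain ⟨a, ha, rfl⟩ := hn
  exact ⟨⟨x, hx⟩ * a * ⟨x, hx⟩⁻¹,
    (inferInstance : (Cfsg.pPrimeCore 2 ↥(Subgroup.centralizer ({v} : Set G))).Normal).conj_mem a ha _,
    rfl⟩

theorem isSolvable_coreC (v : G) : Group.IsSolvable ↥(coreC v) :=
  Cfsg.Agent.S0205.result (coreC_odd v)

theorem _root_.Cfsg.Agent.Lib.Fusion.Dihedral.IsFour.ne_bot {V : Subgroup G} (hV : IsFour V) : V ≠ ⊥ := fun h => by
  have := hV.1
  rw [h, Subgroup.card_bot] at this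
  omega

theorem _root_.Cfsg.Agent.Lib.Fusion.Dihedral.IsFour.orderOf_eq {V : Subgroup G} (hV : IsFour V) {v : G} (hv : v ∈ V) (hv1 : v ≠ 1) :
    orderOf v = 2 :=
  orderOf_eq_prime (by rw [sq]; exact hV.2 v hv) hv1

theorem _root_.Cfsg.Agent.Lib.Fusion.Dihedral.IsFour.le_centralizer_self {V : Subgroup G} (hV : IsFour V) :
    V ≤ Subgroup.centralizer (V : Set G) := fun _ hx =>
  Subgroup.mem_centralizer_iff.2 fun _ hy => hV.comm hy hx

theorem _root_.Cfsg.Agent.Lib.Fusion.Dihedral.IsFour.centralizer_le {V : Subgroup G} {v : G} (hv : v ∈ V) :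
    Subgroup.centralizer (V : Set G) ≤ Subgroup.centralizer ({v} : Set G) :=
  Subgroup.centralizer_le (Set.singleton_subset_iff.2 hv)

theorem not_isCyclic_of_four {V : Subgroup G} (hV : IsFour V) : ¬ IsCyclic V := by
  rw [not_isCyclic_iff_exponent_eq_prime Nat.prime_two (by rw [hV.1]; rfl)]
  exact (isFour_iff.1 hV).exponent_two

/-- Two distinct involutions of a four-group generate it. -/
theorem _root_.Cfsg.Agent.Lib.Fusion.Dihedral.IsFour.eq_of_mem {V W : Subgroup G} (hV : IsFour V) {a b : G} (ha : a ∈ V) (hb : b ∈ V)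
    (ha1 : a ≠ 1) (hb1 : b ≠ 1) (hab : a ≠ b) (haW : a ∈ W) (hbW : b ∈ W) : V ≤ W := by
  classical
  intro x hx
  have := Fintype.ofFinite V
  have hab' : a * b ≠ a ∧ a * b ≠ b ∧ a * b ≠ 1 := by
    refine ⟨fun e => hb1 (mul_eq_left.1 e), fun e => ha1 (mul_eq_right.1 e), fun e => hab ?_⟩
    calc a = a * (b * b) := by rw [hV.2 b hb, mul_one]
      _ = b := by rw [← mul_assoc, e, one_mul]
  have hcard : ({(1 : G), a, b, a * b} : Set G).ncard = 4 := by
    rw [Set.ncard_insert_of_notMem, Set.ncard_insert_of_notMem, Set.ncard_pair hab'.2.1.symm]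
    · simp only [Set.mem_insert_iff, Set.mem_singleton_iff, not_or]
      exact ⟨hab, hab'.1.symm⟩
    · simp only [Set.mem_insert_iff, Set.mem_singleton_iff, not_or]
      exact ⟨ha1.symm, hb1.symm, hab'.2.2.symm⟩
  have hsub : ({(1 : G), a, b, a * b} : Set G) = V := by
    refine Set.eq_of_subset_of_ncard_le ?_ ?_ (Set.toFinite _)
    · rintro y (rfl | rfl | rfl | rfl)
      exacts [one_mem V, ha, hb, mul_mem ha hb]
    · rw [hcard, ← Nat.card_coe_set_eq]
      exact hV.1.le
  have hx' : x ∈ ({(1 : G), a, b, a * b} : Set G) := hsub ▸ hx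
  rcases hx' with rfl | rfl | rfl | rfl
  exacts [one_mem W, haW, hbW, mul_mem haW hbW]

theorem _root_.Cfsg.Agent.Lib.Fusion.Dihedral.IsFour.centralizer_pair {V : Subgroup G} (hV : IsFour V) {a b : G} (ha : a ∈ V) (hb : b ∈ V)
    (ha1 : a ≠ 1) (hb1 : b ≠ 1) (hab : a ≠ b) :
    Subgroup.centralizer ({a, b} : Set G) = Subgroup.centralizer (V : Set G) := by
  refine le_antisymm (fun x hx => ?_) (Subgroup.centralizer_le ?_)
  · have hle : V ≤ Subgroup.centralizer ({x} : Set G) := hV.eq_of_mem ha hb ha1 hb1 hab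
      (Subgroup.mem_centralizer_singleton_iff.2 (Subgroup.mem_centralizer_iff.1 hx a (Or.inl rfl)))
      (Subgroup.mem_centralizer_singleton_iff.2 (Subgroup.mem_centralizer_iff.1 hx b (Or.inr rfl)))
    exact Subgroup.mem_centralizer_iff.2 fun y hy => Subgroup.mem_centralizer_singleton_iff.1 (hle hy)
  · rintro y (rfl | rfl)
    exacts [ha, hb]

/-! ## Cyclic or dihedral Sylow 2-subgroups -/

/-- An involution centralising a four-group lies in it. -/
theorem SylowCD.mem_of_commute (h : SylowCD G) {V : Subgroup G} (hV : IsFour V) {z : G}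
    (hz : z * z = 1) (hc : ∀ v ∈ V, v * z = z * v) : z ∈ V := by
  have hzc : Subgroup.zpowers z ≤ Subgroup.centralizer (V : Set G) :=
    Subgroup.zpowers_le.2 (Subgroup.mem_centralizer_iff.2 hc)
  have hp : IsPGroup 2 (Subgroup.zpowers z) := by
    rintro ⟨x, i, rfl⟩
    refine ⟨1, Subtype.ext ?_⟩
    show (z ^ i) ^ (2 ^ 1) = 1
    rw [pow_one, sq, ← (Commute.refl z).mul_zpow, hz, one_zpow]
  exact h.mem_four hV
    (IsPGroup.to_sup_of_normal_right' hp hV.isPGroup
      (hzc.trans (Subgroup.centralizer_le_normalizer _)))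
    le_sup_right (sup_le hzc hV.le_centralizer_self)
    (le_sup_left (α := Subgroup G) (Subgroup.mem_zpowers z))

/-- A central involution of a 2-group containing a four-group lies in the four-group. -/
theorem SylowCD.mem_four_of_central (h : SylowCD G) {V P : Subgroup G} (hV : IsFour V) (hVP : V ≤ P)
    {z : G} (hz2 : z * z = 1) (hz : ∀ x ∈ P, x * z = z * x) : z ∈ V :=
  h.mem_of_commute hV hz2 fun v hv => hz v (hVP hv)

theorem exists_central_involution {P : Subgroup G} (hP : IsPGroup 2 P) (hne : P ≠ ⊥) :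
    ∃ z ∈ P, orderOf z = 2 ∧ ∀ x ∈ P, x * z = z * x := by
  haveI : Fact (Nat.Prime 2) := ⟨Nat.prime_two⟩
  haveI : Nontrivial P := (Subgroup.nontrivial_iff_ne_bot P).2 hne
  haveI := hP.center_nontrivial
  obtain ⟨k, hk⟩ := IsPGroup.iff_card.1 (hP.to_subgroup (Subgroup.center P))
  have hk0 : k ≠ 0 := fun e => by
    rw [e, pow_zero] at hk
    exact absurd hk (ne_of_gt (Finite.one_lt_card_iff_nontrivial.2 inferInstance))
  obtain ⟨z, hz⟩ := exists_prime_orderOf_dvd_card' (G := Subgroup.center P) 2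
    (hk ▸ dvd_pow_self 2 hk0)
  refine ⟨((z : P) : G), (z : P).2, by rw [Subgroup.orderOf_coe, Subgroup.orderOf_coe, hz], fun x hx => ?_⟩
  exact congrArg Subtype.val (Subgroup.mem_center_iff.1 z.2 ⟨x, hx⟩)

open Matrix in
/-- `SL(2,p)` is not a section. -/
theorem SylowCD.noSLTwo (h : SylowCD G) {p : ℕ} [Fact p.Prime] (hp : p ≠ 2) :
    PLocal.NoSLTwo p G := by
  intro K f hf
  haveI : Fact (2 < p) := ⟨by have := (Fact.out : p.Prime).two_le; omega⟩
  have hinv : ∀ M : SpecialLinearGroup (Fin 2) (ZMod p), M * M = 1 → M ≠ 1 →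
      M.1 = -1 := by
    intro M hM hM1
    have hinv : M⁻¹ = M := inv_eq_of_mul_eq_one_right hM
    have h4 : (2 : ZMod p) ≠ 0 := by
      intro h0
      have : ((2 : ℕ) : ZMod p) = 0 := by exact_mod_cast h0
      rw [ZMod.natCast_eq_zero_iff] at this
      exact absurd (Nat.le_of_dvd two_pos this) (by have := (Fact.out : 2 < p); omega)
    have hadj : M.1.adjugate = M.1 := by
      have h5 := congrArg Subtype.val hinv
      exact (Matrix.SpecialLinearGroup.coe_inv M).symm.trans h5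
    rw [Matrix.adjugate_fin_two] at hadj
    have h00 : M.1 1 1 = M.1 0 0 := congrFun (congrFun hadj 0) 0
    have h01 : -M.1 0 1 = M.1 0 1 := congrFun (congrFun hadj 0) 1
    have h10 : -M.1 1 0 = M.1 1 0 := congrFun (congrFun hadj 1) 0
    have hb : M.1 0 1 = 0 := by
      have : (2 : ZMod p) * M.1 0 1 = 0 := by linear_combination (-1 : ZMod p) * h01
      exact (mul_eq_zero.1 this).resolve_left h4
    have hc : M.1 1 0 = 0 := by
      have : (2 : ZMod p) * M.1 1 0 = 0 := by linear_combination (-1 : ZMod p) * h10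
      exact (mul_eq_zero.1 this).resolve_left h4
    have hdet := M.2
    rw [Matrix.det_fin_two, hb, h00, zero_mul, sub_zero] at hdet
    rcases mul_self_eq_one_iff.1 hdet with ha | ha
    · exact absurd (Subtype.ext (by
        ext i j; fin_cases i <;> fin_cases j <;> simp [ha, hb, hc, h00])) hM1
    · ext i j; fin_cases i <;> fin_cases j <;> simp [ha, hb, hc, h00]
  obtain ⟨P, hP, x, hx, y, hy, hne⟩ := PLocal.Sections.exists_noncomm_two (p := p) hp
  rcases ((h.subgroup K).of_surjective f hf).twoSubgroup hP with hc | ⟨n, hn, ⟨e⟩⟩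
  · haveI := hc
    exact hne (congrArg Subtype.val
      ((IsCyclic.commGroup (α := P)).mul_comm ⟨x, hx⟩ ⟨y, hy⟩))
  · haveI : NeZero n := ⟨by omega⟩
    haveI : Fact (1 < n) := ⟨by omega⟩
    have key : ∀ i : ZMod n, ((e.symm (DihedralGroup.sr i) : P) : SpecialLinearGroup (Fin 2) (ZMod p)).1
        = -1 := by
      intro i
      refine hinv _ ?_ fun e1 => ?_
      · rw [← Subgroup.coe_mul, ← map_mul, DihedralGroup.sr_mul_self, map_one, Subgroup.coe_one]
      · have h1 : e.symm (DihedralGroup.sr i) = 1 := Subtype.ext e1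
        rw [MulEquiv.map_eq_one_iff, DihedralGroup.one_def] at h1
        cases h1
    have := e.symm.injective (Subtype.ext (Subtype.ext ((key 0).trans (key 1).symm)))
    exact zero_ne_one (α := ZMod n) (DihedralGroup.sr.inj this)

/-- All `p`-subgroups are acted on `p`-stably. -/
theorem SylowCD.pStableOn (h : SylowCD G) {p : ℕ} [Fact p.Prime] (hp : p ≠ 2)
    (P : Subgroup G) [P.Normal] (hP : IsPGroup p P) : Cfsg.IsPStableOn p P :=
  ZJ.isPStableOn_of_noSLTwo hp (h.noSLTwo hp) P hP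

/-- The ZJ-theorem in subgroups. -/
theorem SylowCD.zj_normal (h : SylowCD G) {p : ℕ} [Fact p.Prime] (hp : p ≠ 2) (H : Subgroup G)
    (hc : Subgroup.centralizer (Cfsg.pCore p H : Set H) ≤ Cfsg.pCore p H) (P : Sylow p H) :
    (Cfsg.centerThompsonAOf (P : Subgroup H)).Normal :=
  ZJ.centerThompsonAOf_normal hp hc
    (ZJ.stable_of_noSLTwo hp ((h.subgroup H).noSLTwo hp)) P

theorem SylowCD.le_normalizer_zj (h : SylowCD G) {p : ℕ} [Fact p.Prime] (hp : p ≠ 2) (H : Subgroup G)
    (hc : Subgroup.centralizer (Cfsg.pCore p H : Set H) ≤ Cfsg.pCore p H) (P : Sylow p H) :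
    H ≤ Subgroup.normalizer
      (Cfsg.centerThompsonAOf ((P : Subgroup H).map H.subtype) : Set G) := by
  haveI := h.zj_normal hp H hc P
  rw [← ZJ.map_centerThompsonAOf H.subtype H.subtype_injective]
  intro x hx
  refine Subgroup.le_normalizer_map H.subtype ⟨⟨x, hx⟩, ?_, rfl⟩
  rw [Subgroup.normalizer_eq_top]
  trivial

/-- If a fused four-group of `H` has an involution centralising `Q`, which `H` normalises, then
every four-group of `H` has one. -/
theorem SylowCD.exists_centralizing_of_fused (h : SylowCD G) {H Q U V : Subgroup G}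
    (hnorm : H ≤ Subgroup.normalizer (Q : Set G)) (hU : FusedIn U H) {u : G} (hu : u ∈ U) (hu1 : u ≠ 1)
    (huQ : Q ≤ Subgroup.centralizer ({u} : Set G)) (hV : IsFour V) (hVH : V ≤ H) :
    ∃ v ∈ V, v ≠ 1 ∧ Q ≤ Subgroup.centralizer ({v} : Set G) := by
  haveI : Fact (Nat.Prime 2) := ⟨Nat.prime_two⟩
  have hUC : ∀ w ∈ U, ∀ q ∈ Q, q * w = w * q := by
    intro w hw q hq
    by_cases hw1 : w = 1
    · rw [hw1, mul_one, one_mul]
    obtain ⟨g, hgH, -, rfl⟩ := hU.2.2 u hu hu1 w hw hw1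
    have h1 := Subgroup.mem_centralizer_singleton_iff.1
      (huQ ((Subgroup.mem_normalizer_iff''.1 (hnorm hgH) q).1 hq))
    calc q * (g * u * g⁻¹) = g * (g⁻¹ * q * g * u) * g⁻¹ := by group
      _ = g * u * g⁻¹ * q := by rw [h1]; group
  obtain ⟨T, hT⟩ := ((hV.isPGroup).comap_subtype (K := H)).exists_le_sylow
  obtain ⟨T', hT'⟩ := ((hU.1.isPGroup).comap_subtype (K := H)).exists_le_sylow
  obtain ⟨k, hk⟩ := MulAction.exists_smul_eq H T' T
  set P := (T : Subgroup H).map H.subtype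
  have hVP : V ≤ P := fun x hx => ⟨⟨x, hVH hx⟩, hT (show (x : G) ∈ V from hx), rfl⟩
  have hUP : ∀ w ∈ U, (k : G) * w * (k : G)⁻¹ ∈ P := fun w hw =>
    ⟨k * ⟨w, hU.2.1 hw⟩ * k⁻¹, by
      rw [← hk]
      exact Subgroup.smul_mem_pointwise_smul _ (MulAut.conj k) (T' : Subgroup H)
        (hT' (show (w : G) ∈ U from hw)), rfl⟩
  have hPp : IsPGroup 2 P := T.2.map _
  obtain ⟨z, -, hzo, hzc⟩ := exists_central_involution hPp
    fun e => hV.ne_bot (le_bot_iff.1 (e ▸ hVP))
  have hz2 : z * z = 1 := by rw [← sq, ← hzo, pow_orderOf_eq_one]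
  have hz1 : z ≠ 1 := fun e => by rw [e, orderOf_one] at hzo; omega
  refine ⟨z, h.mem_four_of_central hV hVP hz2 hzc, hz1, fun q hq => ?_⟩
  rw [Subgroup.mem_centralizer_singleton_iff]
  have hzU : (k : G)⁻¹ * z * k ∈ U := by
    refine h.mem_of_commute hU.1 ?_ fun w hw => ?_
    · calc (k : G)⁻¹ * z * k * ((k : G)⁻¹ * z * k) = (k : G)⁻¹ * (z * z) * k := by group
        _ = 1 := by rw [hz2]; group
    · calc w * ((k : G)⁻¹ * z * k) = (k : G)⁻¹ * ((k : G) * w * (k : G)⁻¹ * z) * k := by group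
        _ = (k : G)⁻¹ * z * k * w := by rw [hzc _ (hUP w hw)]; group
  have h2 := hUC _ hzU _ ((Subgroup.mem_normalizer_iff''.1 (hnorm k.2) q).1 hq)
  calc q * z = (k : G) * ((k : G)⁻¹ * q * k * ((k : G)⁻¹ * z * k)) * (k : G)⁻¹ := by group
    _ = z * q := by rw [h2]; group

/-! ## Four-groups acting on subgroups of odd order -/

theorem iSup_four_eq {V K : Subgroup G} (hV : IsFour V) (hK : Odd (Nat.card K))
    (hn : V ≤ Subgroup.normalizer (K : Set G)) :
    (⨆ v ∈ {v : G | v ∈ V ∧ v ≠ 1}, K ⊓ Subgroup.centralizer {v}) = K := by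
  haveI : IsMulCommutative V := ⟨⟨fun a b => Subtype.ext (hV.comm a.2 b.2)⟩⟩
  exact Coprime.iSup_centralizer_eq (not_isCyclic_of_four hV) hn (by
    rw [hV.1]
    exact (Nat.coprime_two_left.2 hK).pow_left 2)

theorem le_of_four {V K L : Subgroup G} (hV : IsFour V) (hK : Odd (Nat.card K))
    (hn : V ≤ Subgroup.normalizer (K : Set G))
    (h : ∀ v ∈ V, v ≠ 1 → K ⊓ Subgroup.centralizer {v} ≤ L) : K ≤ L :=
  (iSup_four_eq hV hK hn).ge.trans (iSup₂_le fun v hv => h v hv.1 hv.2)

/-- A fused four-group centralises what one of its involutions centralises. -/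
theorem centralizes_of_fused {V H K : Subgroup G} (hV : FusedIn V H)
    (hn : H ≤ Subgroup.normalizer (K : Set G)) {v : G} (hv : v ∈ V) (hv1 : v ≠ 1)
    (hvK : K ≤ Subgroup.centralizer ({v} : Set G)) : K ≤ Subgroup.centralizer (V : Set G) := by
  intro k hk
  rw [Subgroup.mem_centralizer_iff]
  intro w hw
  by_cases hw1 : w = 1
  · rw [hw1, mul_one, one_mul]
  obtain ⟨g, hgH, -, rfl⟩ := hV.2.2 v hv hv1 w hw hw1
  have h1 := Subgroup.mem_centralizer_singleton_iff.1
    (hvK ((Subgroup.mem_normalizer_iff''.1 (hn hgH) k).1 hk))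
  calc g * v * g⁻¹ * k = g * (v * (g⁻¹ * k * g)) * g⁻¹ := by group
    _ = k * (g * v * g⁻¹) := by rw [← h1]; group

/-! ## Minimal counterexamples -/

namespace Hyp

variable (hG : Hyp G)
include hG

theorem cd : SylowCD G := hG.dihedral.sylowCD

theorem noSLTwo {p : ℕ} [Fact p.Prime] (hp : p ≠ 2) : PLocal.NoSLTwo p G := hG.cd.noSLTwo hp

theorem no_index_two (H : Subgroup G) : H.index ≠ 2 := by
  intro hH
  haveI := hG.simple
  rcases (Subgroup.normal_of_index_eq_two hH).eq_bot_or_eq_top with hb | ht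
  · rw [hb, Subgroup.index_bot] at hH
    haveI : Fact (Nat.Prime 2) := ⟨Nat.prime_two⟩
    haveI := isCyclic_of_prime_card hH
    exact hG.nonabelian ⟨⟨fun a b => (IsCyclic.commGroup (α := G)).mul_comm a b⟩⟩
  · rw [ht, Subgroup.index_top] at hH; omega

theorem normalizer_ne_top {K : Subgroup G} (h1 : K ≠ ⊥) (h2 : K ≠ ⊤) :
    Subgroup.normalizer (K : Set G) ≠ ⊤ := by
  intro h
  haveI := hG.simple
  exact ((Subgroup.normalizer_eq_top_iff.1 h).eq_bot_or_eq_top).elim h1 h2

theorem ne_top_of_odd {K : Subgroup G} (hK : Odd (Nat.card K)) : K ≠ ⊤ := by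
  haveI := hG.simple
  rintro rfl
  rw [Subgroup.card_top] at hK
  exact hG.nonabelian ⟨⟨IsSimpleGroup.comm_iff_isSolvable.2 (Cfsg.Agent.S0205.result hK)⟩⟩

theorem not_oddTrivial {V : Subgroup G} (hV : IsFour V) : ¬ OddTrivial V := by
  obtain ⟨S, hS⟩ := hV.isPGroup.exists_le_sylow
  obtain ⟨m, hm, ⟨e⟩⟩ := hG.dihedral S
  intro hodd
  obtain ⟨H, hH⟩ := (Coords.ofEquiv e).exists_index_two hm hS hV hodd
  exact hG.no_index_two H hH

/-- Every four-group is fused. -/
theorem fusedIn_top {V : Subgroup G} (hV : IsFour V) : FusedIn V ⊤ := by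
  refine ⟨hV, le_top, fun v hv hv1 w hw hw1 => ?_⟩
  obtain ⟨n, hn, hodd, hne⟩ : ∃ n, n ∈ Subgroup.normalizer (V : Set G) ∧ Odd (orderOf n) ∧
      ¬ ∀ x ∈ V, n * x = x * n := by
    have := hG.not_oddTrivial hV
    unfold OddTrivial at this
    push Not at this ⊢
    exact this
  obtain ⟨g, -, hg, hgv⟩ := exists_conj_of_odd hV hn hodd hne hv hv1 hw hw1
  exact ⟨g, trivial, hg, hgv⟩

/-- One class of involutions. -/
theorem isConj {a b : G} (ha : orderOf a = 2) (hb : orderOf b = 2) : IsConj a b := by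
  obtain ⟨S⟩ : Nonempty (Sylow 2 G) := inferInstance
  obtain ⟨m, hm, ⟨e⟩⟩ := hG.dihedral S
  refine (Coords.ofEquiv e).isConj_of_three hm (fun U hU hf => ?_) a b ha hb
  by_contra h3
  exact hG.not_oddTrivial hf fun n hn hodd => commute_of_not_three hf h3 hn hodd

theorem exists_four {v : G} (hv : orderOf v = 2) : ∃ V : Subgroup G, IsFour V ∧ v ∈ V := by
  obtain ⟨S⟩ : Nonempty (Sylow 2 G) := inferInstance
  obtain ⟨m, hm, ⟨e⟩⟩ := hG.dihedral S
  obtain ⟨R, -, hR, hiR, -⟩ := (Coords.ofEquiv e).exists_four_of_le hm 0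
  obtain ⟨g, hg⟩ := isConj_iff.1 (hG.isConj ((Coords.ofEquiv e).orderOf_sr' 0) hv)
  refine ⟨Fusion.Alperin.conjS g R, hR.map g, ?_⟩
  rw [← hg]
  exact Fusion.Alperin.conj_mem_conjS hiR

/-- `O(C(v))` contains the elements of odd order of `C(v)`. -/
theorem mem_coreC {v x : G} (hv : orderOf v = 2) (hx : x ∈ Subgroup.centralizer ({v} : Set G))
    (hodd : Odd (orderOf x)) : x ∈ coreC v := by
  obtain ⟨S⟩ : Nonempty (Sylow 2 G) := inferInstance
  obtain ⟨m, hm, he⟩ := hG.dihedral S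
  obtain ⟨N, hN, hNodd, k, hk⟩ := Cfsg.Agent.S0514.result S m hm he v hv
  haveI := hN
  refine ⟨⟨x, hx⟩, Cores.le_oddCore hNodd ?_, rfl⟩
  rw [← QuotientGroup.eq_one_iff]
  refine orderOf_eq_one_iff.1 (Nat.eq_one_of_dvd_coprimes
    ((Nat.coprime_two_left.2 hodd).pow_left k) ?_ ?_)
  · rw [← hk, Subgroup.index_eq_card]
    exact orderOf_dvd_natCard _
  · rw [← Subgroup.orderOf_mk x hx]
    exact orderOf_map_dvd (QuotientGroup.mk' N) _

theorem le_coreC {v : G} (hv : orderOf v = 2) {K : Subgroup G}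
    (hK : K ≤ Subgroup.centralizer ({v} : Set G)) (hodd : Odd (Nat.card K)) : K ≤ coreC v :=
  fun _ hx => hG.mem_coreC hv (hK hx) (orderOf_odd_of_mem hodd hx)

/-- Balance. -/
theorem coreC_inf_le {v w : G} (hw : orderOf w = 2) :
    coreC v ⊓ Subgroup.centralizer ({w} : Set G) ≤ coreC w ⊓ Subgroup.centralizer ({v} : Set G) :=
  le_inf (hG.le_coreC hw inf_le_right (Odd.of_dvd_nat (coreC_odd v) (Subgroup.card_dvd_of_le inf_le_left)))
    (inf_le_left.trans (coreC_le v))

theorem isBalanced : Cfsg.IsBalanced G := fun _ _ hx hy _ =>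
  le_antisymm (hG.coreC_inf_le hy) (hG.coreC_inf_le hx)

theorem coreC_conj {v : G} (hv : orderOf v = 2) (g : G) {x : G} (hx : x ∈ coreC v) :
    g * x * g⁻¹ ∈ coreC (g * v * g⁻¹) := by
  refine hG.mem_coreC ?_ ?_ ?_
  · rw [← MulAut.conj_apply, ← hv]
    exact MulEquiv.orderOf_eq (MulAut.conj g) v
  · rw [Subgroup.mem_centralizer_singleton_iff]
    have := Subgroup.mem_centralizer_singleton_iff.1 (coreC_le v hx)
    calc g * x * g⁻¹ * (g * v * g⁻¹) = g * (x * v) * g⁻¹ := by group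
      _ = g * v * g⁻¹ * (g * x * g⁻¹) := by rw [this]; group
  · rw [← MulAut.conj_apply, MulEquiv.orderOf_eq (MulAut.conj g) x]
    exact orderOf_odd_of_mem (coreC_odd v) hx

/-- `C(v) = O(C(v)) T` for a Sylow 2-subgroup `T` of `C(v)`. -/
theorem coreC_sup_sylow {v : G} (hv : orderOf v = 2)
    (T : Sylow 2 ↥(Subgroup.centralizer ({v} : Set G))) :
    coreC v ⊔ (T : Subgroup ↥(Subgroup.centralizer ({v} : Set G))).map
      (Subgroup.centralizer ({v} : Set G)).subtype = Subgroup.centralizer ({v} : Set G) := by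
  haveI : Fact (Nat.Prime 2) := ⟨Nat.prime_two⟩
  revert T
  set C := Subgroup.centralizer ({v} : Set G) with hC
  intro T
  have hO : ∀ x : C, Odd (orderOf x) → x ∈ Cfsg.oddCore C ⊔ (T : Subgroup C) := by
    intro x hx
    obtain ⟨y, hy, hxy⟩ := hG.mem_coreC hv x.2 (by rwa [Subgroup.orderOf_coe])
    exact Subgroup.mem_sup_left (Subtype.ext hxy ▸ hy)
  have htop : Cfsg.oddCore C ⊔ (T : Subgroup C) = ⊤ := by
    set N := Cfsg.oddCore C ⊔ (T : Subgroup C) with hN
    by_contra hne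
    obtain ⟨p, hp, hpd⟩ := Nat.exists_prime_and_dvd (mt Subgroup.index_eq_one.1 hne)
    haveI := Fact.mk hp
    by_cases hp2 : p = 2
    · subst hp2
      exact T.not_dvd_index (hpd.trans (Subgroup.index_dvd_of_le le_sup_right))
    obtain ⟨Q⟩ : Nonempty (Sylow p C) := inferInstance
    have hQN : (Q : Subgroup C) ≤ N := fun x hx => hO x (by
      obtain ⟨j, hj⟩ := Q.2 ⟨x, hx⟩
      have h1 : x ^ p ^ j = 1 := congrArg Subtype.val hj
      exact Odd.of_dvd_nat ((hp.odd_of_ne_two hp2).pow) (orderOf_dvd_of_pow_eq_one h1))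
    exact Q.not_dvd_index (hpd.trans (Subgroup.index_dvd_of_le hQN))
  show (Cfsg.oddCore C).map C.subtype ⊔ _ = _
  rw [← Subgroup.map_sup, htop, ← MonoidHom.range_eq_map, Subgroup.range_subtype]

/-- `O(C(V))` contains the elements of odd order of `C(V)`. -/
theorem mem_coreV {V : Subgroup G} (hV : IsFour V) {x : G}
    (hx : x ∈ Subgroup.centralizer (V : Set G)) (hodd : Odd (orderOf x)) : x ∈ coreV V := by
  obtain ⟨v, hv, hv1⟩ := V.bot_or_exists_ne_one.resolve_left hV.ne_bot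
  have hv2 := hV.orderOf_eq hv hv1
  let N := (coreC v).subgroupOf (Subgroup.centralizer (V : Set G))
  have hle := IsFour.centralizer_le hv
  haveI : N.Normal := Subgroup.normal_subgroupOf_of_le_normalizer
    (hle.trans (centralizer_le_normalizer_coreC v))
  have hN : Odd (Nat.card N) := Odd.of_dvd_nat (coreC_odd v)
    (Subgroup.card_comap_dvd_of_injective _ _ (Subgroup.subtype_injective _))
  exact ⟨⟨x, hx⟩, Cores.le_oddCore hN (hG.mem_coreC hv2 (hle hx) hodd), rfl⟩

theorem le_coreV {V : Subgroup G} (hV : IsFour V) {K : Subgroup G}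
    (hK : K ≤ Subgroup.centralizer (V : Set G)) (hodd : Odd (Nat.card K)) : K ≤ coreV V :=
  fun _ hx => hG.mem_coreV hV (hK hx) (orderOf_odd_of_mem hodd hx)

/-- `O(C(V)) = O(C(v)) ∩ C(V)`. -/
theorem coreV_eq {V : Subgroup G} (hV : IsFour V) {v : G} (hv : v ∈ V) (hv1 : v ≠ 1) :
    coreV V = coreC v ⊓ Subgroup.centralizer (V : Set G) :=
  le_antisymm
    (le_inf (hG.le_coreC (hV.orderOf_eq hv hv1) ((coreV_le V).trans (IsFour.centralizer_le hv))
      (coreV_odd V)) (coreV_le V))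
    (hG.le_coreV hV inf_le_right (Odd.of_dvd_nat (coreC_odd v) (Subgroup.card_dvd_of_le inf_le_left)))

/-- `O(C(v)) ∩ C(w) = O(C(V))` for distinct involutions of a four-group. -/
theorem coreC_inf_eq {V : Subgroup G} (hV : IsFour V) {v w : G} (hv : v ∈ V) (hv1 : v ≠ 1)
    (hw : w ∈ V) (hw1 : w ≠ 1) (hvw : v ≠ w) :
    coreC v ⊓ Subgroup.centralizer ({w} : Set G) = coreV V := by
  rw [hG.coreV_eq hV hv hv1]
  refine le_antisymm (le_inf inf_le_left fun x hx => ?_)
    (inf_le_inf_left _ (IsFour.centralizer_le hw))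
  rw [← hV.centralizer_pair hv hw hv1 hw1 hvw]
  refine Subgroup.mem_centralizer_iff.2 fun y hy => ?_
  rcases hy with rfl | rfl
  · exact (Subgroup.mem_centralizer_singleton_iff.1 (coreC_le y hx.1)).symm
  · exact (Subgroup.mem_centralizer_singleton_iff.1 hx.2).symm

/-- `C(V) = V × O(C(V))`. -/
theorem centralizer_four {V : Subgroup G} (hV : IsFour V) :
    V ⊔ coreV V = Subgroup.centralizer (V : Set G) ∧ V ⊓ coreV V = ⊥ := by
  haveI : Fact (Nat.Prime 2) := ⟨Nat.prime_two⟩
  refine ⟨le_antisymm (sup_le hV.le_centralizer_self (coreV_le V)) fun g hg => ?_,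
    eq_bot_iff.2 fun x hx => ?_⟩
  · obtain ⟨a, b, haz, hbz, hab, -, ⟨k, hk⟩, hb⟩ :=
      Transfer.PResidual.exists_pPart_mul_pPrimePart (p := 2) g (isOfFinOrder_of_finite g)
    rw [← hab]
    have hzg : Subgroup.zpowers g ≤ Subgroup.centralizer (V : Set G) := Subgroup.zpowers_le.2 hg
    refine mul_mem (Subgroup.mem_sup_left ?_)
      (Subgroup.mem_sup_right (hG.mem_coreV hV (hzg hbz) (Nat.coprime_two_right.1 hb)))
    have hp : IsPGroup 2 (Subgroup.zpowers a) := by
      obtain ⟨j, -, hj⟩ := (Nat.dvd_prime_pow Nat.prime_two).1 (orderOf_dvd_of_pow_eq_one hk)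
      exact IsPGroup.of_card (n := j) (by rw [Nat.card_zpowers, hj])
    have hle : Subgroup.zpowers a ≤ Subgroup.centralizer (V : Set G) :=
      Subgroup.zpowers_le.2 (hzg haz)
    exact hG.cd.mem_four hV
      (IsPGroup.to_sup_of_normal_right' hp hV.isPGroup
        (hle.trans (Subgroup.centralizer_le_normalizer _)))
      le_sup_right (sup_le hle hV.le_centralizer_self)
      (le_sup_left (α := Subgroup G) (Subgroup.mem_zpowers a))
  · rw [Subgroup.mem_bot, ← orderOf_eq_one_iff]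
    exact Nat.eq_one_of_dvd_coprimes (Nat.coprime_two_left.2 (orderOf_odd_of_mem (coreV_odd V) hx.2))
      (orderOf_dvd_of_pow_eq_one (by rw [sq]; exact hV.2 x hx.1)) dvd_rfl

/-- A centralizer of an involution contains no four-group fused in it. -/
theorem not_fusedIn_centralizer {V : Subgroup G} {v : G} (hv : v ∈ V) (hv1 : v ≠ 1)
    (hV : FusedIn V (Subgroup.centralizer ({v} : Set G))) : False := by
  haveI : Nontrivial V := (Subgroup.nontrivial_iff_ne_bot V).2 hV.1.ne_bot
  obtain ⟨w, hw⟩ : ∃ w ∈ V, w ≠ 1 ∧ w ≠ v := by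
    by_contra hno
    push Not at hno
    have hs : Function.Surjective (fun i : Bool => if i then (⟨v, hv⟩ : V) else 1) := fun x => by
      by_cases hx : (x : G) = 1
      · exact ⟨false, Subtype.ext hx.symm⟩
      · exact ⟨true, Subtype.ext (hno x x.2 hx).symm⟩
    have := Nat.card_le_card_of_surjective _ hs
    rw [hV.1.1, Nat.card_eq_fintype_card, Fintype.card_bool] at this
    omega
  obtain ⟨g, hg, -, hgv⟩ := hV.2.2 v hv hv1 w hw.1 hw.2.1
  exact hw.2.2 (by rw [← hgv, Subgroup.mem_centralizer_singleton_iff.1 hg, mul_inv_cancel_right])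

end Hyp

end Cfsg.Agent.Lib.GorensteinWalter
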