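import Mathlib.Tactic
import Mathlib.RingTheory.Coprime.Lemmas
import Mathlib.RingTheory.Int.Basic

/-!
# The arithmetic of a block over a linear character of `O(C(t))`

`(a - b)² / (ab(a + b)) = X² / ((X + 1)(X + 2))` with `a ≡ b ≡ 1` and `X ≡ 0` modulo `2ⁿ`: one of
`a`, `b` is a unit, or `n = 3` and `a + b = -6`.
-/

set_option autoImplicit false

namespace Cfsg.Agent.Lib.GorensteinWalter.CoinvariantArith

/-- The equation on the absolute values, the signs of `α`, `β` being equal. -/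
theorem same_sign {u v L K h : ℕ} (hu : 1 ≤ u) (hK : 1 ≤ K) (hh : 1 ≤ h) (hL : 8 ≤ L)
    (hv : v = u + K * L) (hP : h * (u * v * (u + v)) ≤ (L + 1) * (L + 2)) :
    u = 1 ∧ K = 1 ∧ h = 1 := by
  have hKL : L ≤ K * L := Nat.le_mul_of_pos_left L hK
  have h1 : u * v * (u + v) ≤ (L + 1) * (L + 2) := (Nat.le_mul_of_pos_left _ hh).trans hP
  have hu1 : u = 1 := by
    by_contra hne
    have h2 : 2 ≤ u := by omega
    have h3 : 2 * (L + 2) * (L + 4) ≤ u * v * (u + v) :=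
      Nat.mul_le_mul (Nat.mul_le_mul h2 (by omega)) (by omega)
    nlinarith
  subst hu1
  have hK1 : K = 1 := by
    by_contra hne
    have h2 : 2 * L ≤ K * L := Nat.mul_le_mul_right L (by omega)
    have h3 : (1 + 2 * L) * (2 + 2 * L) ≤ 1 * v * (1 + v) :=
      Nat.mul_le_mul (by omega) (by omega)
    nlinarith
  subst hK1
  refine ⟨rfl, rfl, ?_⟩
  by_contra hne
  subst hv
  have h3 : 2 * (1 * (1 + 1 * L) * (1 + (1 + 1 * L))) ≤ h * (1 * (1 + 1 * L) * (1 + (1 + 1 * L))) :=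
    Nat.mul_le_mul_right _ (by omega)
  nlinarith

/-- The equation on the absolute values, the signs of `α`, `β` being opposite. -/
theorem opposite {u v L K h e : ℕ} (hu : 1 ≤ u) (huo : Odd u) (hv : u < v) (hvo : Odd v)
    (hK : 1 ≤ K) (hh : 1 ≤ h) (hL : 8 ≤ L) (h8 : 8 ∣ L) (hs : u + v = K * L)
    (he : e + 2 = L ∨ e = L + 1)
    (hP : h * (u * v * (v - u)) = if e = L + 1 then (L + 1) * (L + 2) else (L - 1) * (L - 2)) :
    (u = 1 ∧ K = 1 ∧ h = 1) ∨ (L = 8 ∧ K = 1 ∧ h = 3 ∧ u = 3 ∧ v = 5) := by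
  obtain ⟨D, rfl⟩ : ∃ D, v = u + D := ⟨v - u, by omega⟩
  rw [Nat.add_sub_cancel_left] at hP
  have hle : h * (u * (u + D) * D) ≤ (L + 1) * (L + 2) := by
    rw [hP]
    split_ifs with hc
    · exact le_rfl
    · exact Nat.mul_le_mul (by omega) (by omega)
  have h1 : u * (u + D) * D ≤ (L + 1) * (L + 2) := (Nat.le_mul_of_pos_left _ hh).trans hle
  obtain ⟨m, hm⟩ := h8
  have hKL : L ≤ K * L := Nat.le_mul_of_pos_left L hK
  rcases eq_or_ne u 1 with rfl | hu1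
  · left
    have hK1 : K = 1 := by
      by_contra hne
      have h2 : 2 * L ≤ K * L := Nat.mul_le_mul_right L (by omega)
      have h3 : (2 * L - 1) * (2 * L - 2) ≤ 1 * (1 + D) * D := Nat.mul_le_mul (by omega) (by omega)
      obtain ⟨q, rfl⟩ : ∃ q, L = q + 8 := ⟨L - 8, by omega⟩
      rw [show 2 * (q + 8) - 1 = 2 * q + 15 by omega, show 2 * (q + 8) - 2 = 2 * q + 14 by omega] at h3
      nlinarith
    subst hK1
    refine ⟨rfl, rfl, ?_⟩
    obtain ⟨q, rfl⟩ : ∃ q, L = q + 8 := ⟨L - 8, by omega⟩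
    obtain rfl : D = q + 6 := by omega
    split_ifs at hP with hc
    · exfalso
      rcases (show h = 1 ∨ 2 ≤ h by omega) with rfl | h2
      · nlinarith
      · have h3 : 2 * (1 * (1 + (q + 6)) * (q + 6)) ≤ h * (1 * (1 + (q + 6)) * (q + 6)) :=
          Nat.mul_le_mul_right _ h2
        rcases Nat.eq_zero_or_pos q with rfl | hq
        · omega
        · nlinarith
    · rw [show q + 8 - 1 = 1 + (q + 6) by omega, show q + 8 - 2 = q + 6 by omega, one_mul] at hP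
      exact Nat.eq_of_mul_eq_mul_right (by positivity) (hP.trans (one_mul _).symm)
  · right
    have hu3 : 3 ≤ u := by
      obtain ⟨i, hi⟩ := huo
      omega
    obtain ⟨i, hi⟩ := huo
    obtain ⟨j, hj⟩ := hvo
    have hK8 : 8 ∣ K * L := Dvd.dvd.mul_left ⟨m, hm⟩ K
    obtain ⟨z, hz⟩ := hK8
    rcases (show D = 2 ∨ 6 ≤ D by omega) with rfl | hD
    · have hK1 : K = 1 := by
        by_contra hne
        have h2 : 2 * L ≤ K * L := Nat.mul_le_mul_right L (by omega)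
        have h3 : (L - 1) * (L + 1) * 2 ≤ u * (u + 2) * 2 :=
          Nat.mul_le_mul_right 2 (Nat.mul_le_mul (by omega) (by omega))
        obtain ⟨q, rfl⟩ : ∃ q, L = q + 8 := ⟨L - 8, by omega⟩
        rw [show q + 8 - 1 = q + 7 by omega] at h3
        nlinarith
      subst hK1
      obtain rfl : L = 2 * u + 2 := by omega
      split_ifs at hP with hc
      · have e2 : h * u = 2 * u + 3 := by
          refine Nat.eq_of_mul_eq_mul_right (show 0 < 2 * (u + 2) by omega) ?_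
          linear_combination hP
        have hh3 : h = 3 := by
          rcases (show h ≤ 2 ∨ h = 3 ∨ 4 ≤ h by omega) with h4 | h4 | h4
          · have := Nat.mul_le_mul_right u h4; omega
          · exact h4
          · have := Nat.mul_le_mul_right u h4; omega
        subst hh3
        obtain rfl : u = 3 := by omega
        exact ⟨rfl, rfl, rfl, rfl, rfl⟩
      · exfalso
        rw [show 2 * u + 2 - 1 = 2 * u + 1 by omega, show 2 * u + 2 - 2 = 2 * u by omega] at hP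
        have e2 : h * (u + 2) = 2 * u + 1 := by
          refine Nat.eq_of_mul_eq_mul_right (show 0 < 2 * u by omega) ?_
          linear_combination hP
        rcases (show h = 1 ∨ 2 ≤ h by omega) with h4 | h4
        · rw [h4] at e2; omega
        · have := Nat.mul_le_mul_right (u + 2) h4; omega
    · exfalso
      have hS : 16 ≤ 2 * u + D := by omega
      have h2 : (L + 1) * (L + 2) ≤ (2 * u + D + 1) * (2 * u + D + 2) :=
        Nat.mul_le_mul (by omega) (by omega)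
      have h5 : (2 * u + D + 1) * (2 * u + D + 2) < u * (u + D) * D := by
        obtain ⟨x, rfl⟩ : ∃ x, D = x + 6 := ⟨D - 6, by omega⟩
        obtain ⟨y, rfl⟩ : ∃ y, u = y + 3 := ⟨u - 3, by omega⟩
        rcases (show 4 ≤ x ∨ 2 ≤ y by omega) with h6 | h6 <;>
          nlinarith [Nat.mul_le_mul h6 h6, Nat.zero_le (x * y), Nat.zero_le (x * x * y),
            Nat.zero_le (x * y * y)]
      omega

/-- The absolute values of `(X + 1)(X + 2)`. -/
theorem natAbs_cases {X : ℤ} {L : ℕ} (hL : L = X.natAbs) (h8 : 8 ≤ L) :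
    ∃ e, (e + 2 = L ∨ e = L + 1) ∧ (X + 1).natAbs * (X + 2).natAbs =
      if e = L + 1 then (L + 1) * (L + 2) else (L - 1) * (L - 2) := by
  rcases lt_or_gt_of_ne (show X ≠ 0 by omega) with hneg | hpos
  · obtain ⟨e1, e2⟩ : (X + 1).natAbs = L - 1 ∧ (X + 2).natAbs = L - 2 := by omega
    exact ⟨L - 2, Or.inl (by omega), by rw [e1, e2, if_neg (by omega)]⟩
  · obtain ⟨e1, e2⟩ : (X + 1).natAbs = L + 1 ∧ (X + 2).natAbs = L + 2 := by omega
    exact ⟨L + 1, Or.inr rfl, by rw [e1, e2, if_pos rfl]⟩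

/-- The absolute values of `α ± β`. -/
theorem natAbs_signs (α β : ℤ) :
    (((0 < α ∧ 0 < β) ∨ (α < 0 ∧ β < 0)) → (α + β).natAbs = α.natAbs + β.natAbs ∧
      (α.natAbs ≤ β.natAbs → β.natAbs = α.natAbs + (α - β).natAbs) ∧
      (β.natAbs ≤ α.natAbs → α.natAbs = β.natAbs + (α - β).natAbs)) ∧
    (¬((0 < α ∧ 0 < β) ∨ (α < 0 ∧ β < 0)) → α + β ≠ 0 → α.natAbs ≠ β.natAbs ∧
      α.natAbs + β.natAbs = (α - β).natAbs ∧
      (α.natAbs < β.natAbs → β.natAbs - α.natAbs = (α + β).natAbs) ∧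
      (β.natAbs < α.natAbs → α.natAbs - β.natAbs = (α + β).natAbs)) := by
  omega

/-- The final step on the absolute values. -/
theorem finish_nat {g K H L u v d s : ℕ} {same : Prop} (hgK : g = K * K * H) (hK : 1 ≤ K)
    (hH : 1 ≤ H) (hu : 1 ≤ u) (hv : 1 ≤ v) (huo : Odd u) (hvo : Odd v) (hL : 8 ≤ L) (h8 : 8 ∣ L)
    (hd : d = K * L)
    (hsame : same → s = u + v ∧ (u ≤ v → v = u + d) ∧ (v ≤ u → u = v + d))
    (hopp : ¬ same → u ≠ v ∧ u + v = d ∧ (u < v → v - u = s) ∧ (v < u → u - v = s)) {e : ℕ}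
    (he : e + 2 = L ∨ e = L + 1)
    (hP : H * (u * v * s) = if e = L + 1 then (L + 1) * (L + 2) else (L - 1) * (L - 2)) :
    u * g = 1 ∨ v * g = 1 ∨ (L = 8 ∧ g = 3 ∧ u + v = 8 ∧ (u = 3 ∨ v = 3)) := by
  subst hd
  by_cases hs : same
  · obtain ⟨rfl, h1, h2⟩ := hsame hs
    have hle : H * (u * v * (u + v)) ≤ (L + 1) * (L + 2) := by
      rw [hP]
      split_ifs
      · exact le_rfl
      · exact Nat.mul_le_mul (by omega) (by omega)
    rcases Nat.le_total u v with hl | hl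
    · obtain ⟨e1, e2, e3⟩ := same_sign hu hK hH hL (h1 hl) hle
      exact Or.inl (by rw [hgK, e1, e2, e3])
    · obtain ⟨e1, e2, e3⟩ := same_sign hv hK hH hL (h2 hl)
        (by rw [mul_comm v u, add_comm v u]; exact hle)
      exact Or.inr (Or.inl (by rw [hgK, e1, e2, e3]))
  obtain ⟨hne, hsum, h1, h2⟩ := hopp hs
  rcases lt_or_gt_of_ne hne with hlt | hlt
  · rcases opposite hu huo hlt hvo hK hH hL h8 hsum he (by rw [h1 hlt]; exact hP) with
      ⟨e1, e2, e3⟩ | ⟨rfl, rfl, rfl, rfl, rfl⟩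
    · exact Or.inl (by rw [hgK, e1, e2, e3])
    · exact Or.inr (Or.inr ⟨rfl, hgK, rfl, Or.inl rfl⟩)
  · rcases opposite hv hvo hlt huo hK hH hL h8 ((add_comm v u).trans hsum) he
        (by rw [mul_comm v u, h2 hlt]; exact hP) with
      ⟨e1, e2, e3⟩ | ⟨rfl, rfl, rfl, rfl, rfl⟩
    · exact Or.inr (Or.inl (by rw [hgK, e1, e2, e3]))
    · exact Or.inr (Or.inr ⟨rfl, hgK, rfl, Or.inr rfl⟩)

/-- The final step. -/
theorem finish {n g : ℕ} {Y α β k w : ℤ} (hn : 3 ≤ n) (hX : (2 : ℤ) ^ n ∣ 2 * Y)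
    (ha8 : (8 : ℤ) ∣ α * g - 1) (hb8 : (8 : ℤ) ∣ β * g - 1) (hαo : ¬ (2 : ℤ) ∣ α)
    (hβo : ¬ (2 : ℤ) ∣ β) (hgo : ¬ (2 : ℤ) ∣ (g : ℤ)) (hk0 : k ≠ 0) (hw : (g : ℤ) = k ^ 2 * w)
    (h5 : w * (α * β * (α + β)) = (2 * Y + 1) * (2 * Y + 2)) (hdiff : α - β = k * (2 * Y))
    (hY0 : Y ≠ 0) :
    (α * (g : ℤ)).natAbs = 1 ∨ (β * (g : ℤ)).natAbs = 1 ∨ (n = 3 ∧ α * g + β * g = -6) := by
  have hX8 : (8 : ℤ) ∣ 2 * Y := by
    refine Dvd.dvd.trans ?_ hX
    obtain ⟨i, rfl⟩ : ∃ i, n = i + 3 := ⟨n - 3, by omega⟩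
    exact ⟨2 ^ i, by rw [pow_add]; ring⟩
  have hgK : g = k.natAbs * k.natAbs * w.natAbs := by
    have := congrArg Int.natAbs hw
    rwa [Int.natAbs_natCast, Int.natAbs_mul, Int.natAbs_pow, pow_two] at this
  have hw0 : w ≠ 0 := fun e => hgo (by rw [hw, e, mul_zero]; exact dvd_zero 2)
  have hab : α + β ≠ 0 := by
    intro e
    rw [e, mul_zero, mul_zero] at h5
    rcases mul_eq_zero.1 h5.symm with e' | e' <;> omega
  have hodd : ∀ {z : ℤ}, ¬ (2 : ℤ) ∣ z → Odd z.natAbs ∧ 1 ≤ z.natAbs := fun {z} hz =>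
    ⟨Nat.odd_iff.2 (by omega), by omega⟩
  have hL : 8 ≤ (2 * Y).natAbs ∧ 8 ∣ (2 * Y).natAbs := by omega
  obtain ⟨e, he, hE⟩ := natAbs_cases (X := 2 * Y) rfl hL.1
  have hP := congrArg Int.natAbs h5
  rw [Int.natAbs_mul, Int.natAbs_mul, Int.natAbs_mul, Int.natAbs_mul, hE] at hP
  have hd : (α - β).natAbs = k.natAbs * (2 * Y).natAbs := by rw [hdiff, Int.natAbs_mul]
  obtain ⟨h1, h2⟩ := natAbs_signs α β
  rcases finish_nat hgK (Int.natAbs_pos.2 hk0) (Int.natAbs_pos.2 hw0) (hodd hαo).2 (hodd hβo).2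
      (hodd hαo).1 (hodd hβo).1 hL.1 hL.2 hd h1 (fun h => h2 h hab) he hP with
    h | h | ⟨hL8, hg3, hs8, h35⟩
  · exact Or.inl (by rwa [Int.natAbs_mul, Int.natAbs_natCast])
  · exact Or.inr (Or.inl (by rwa [Int.natAbs_mul, Int.natAbs_natCast]))
  refine Or.inr (Or.inr ⟨?_, ?_⟩)
  · by_contra hne3
    have h16 : (16 : ℤ) ∣ (2 : ℤ) ^ n := by
      obtain ⟨i, rfl⟩ : ∃ i, n = i + 4 := ⟨n - 4, by omega⟩
      exact ⟨2 ^ i, by rw [pow_add]; ring⟩
    have h17 := h16.trans hX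
    clear * - hL8 h17
    omega
  · rw [hg3] at ha8 hb8 ⊢
    clear * - ha8 hb8 hs8 h35
    omega

/-- The arithmetic. -/
theorem arith {n : ℕ} (hn : 3 ≤ n) {X a b : ℤ} (hX0 : X ≠ 0) (hX : (2 : ℤ) ^ n ∣ X)
    (ha : (2 : ℤ) ^ n ∣ a - 1) (hb : (2 : ℤ) ^ n ∣ b - 1)
    (h : (a - b) ^ 2 * ((X + 1) * (X + 2)) = X ^ 2 * (a * b * (a + b))) :
    a.natAbs = 1 ∨ b.natAbs = 1 ∨ (n = 3 ∧ a + b = -6) := by
  have h8 : (8 : ℤ) ∣ (2 : ℤ) ^ n := by
    obtain ⟨i, rfl⟩ : ∃ i, n = i + 3 := ⟨n - 3, by omega⟩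
    exact ⟨2 ^ i, by rw [pow_add]; ring⟩
  have hX8 := h8.trans hX
  have ha8 := h8.trans ha
  have hb8 := h8.trans hb
  have ha0 : a ≠ 0 := by omega
  have hb0 : b ≠ 0 := by omega
  have hab : a + b ≠ 0 := by omega
  have hgpos : 0 < Int.gcd a b := Int.gcd_pos_of_ne_zero_left _ ha0
  obtain ⟨g, α, β, hg, hcop, rfl, rfl⟩ :=
    (Int.exists_gcd_one' hgpos : ∃ (g : ℕ) (m' n' : ℤ), 0 < g ∧ Int.gcd m' n' = 1 ∧ a = m' * g ∧
      b = n' * g)
  have hgz : (g : ℤ) ≠ 0 := by exact_mod_cast hg.ne'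
  have hcop' : IsCoprime α β := Int.isCoprime_iff_gcd_eq_one.2 hcop
  have hαo : ¬ (2 : ℤ) ∣ α := fun d => by have := d.mul_right (g : ℤ); omega
  have hβo : ¬ (2 : ℤ) ∣ β := fun d => by have := d.mul_right (g : ℤ); omega
  have hgo : ¬ (2 : ℤ) ∣ (g : ℤ) := fun d => by have := d.mul_left α; omega
  have h1 : (α - β) ^ 2 * ((X + 1) * (X + 2)) = X ^ 2 * ((g : ℤ) * (α * β * (α + β))) := by
    refine mul_left_cancel₀ (pow_ne_zero 2 hgz) ?_
    linear_combination h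
  obtain ⟨Y, rfl⟩ : (2 : ℤ) ∣ X := (show (2 : ℤ) ∣ 8 by norm_num).trans hX8
  obtain ⟨Z, hZ⟩ : (2 : ℤ) ∣ Y := by omega
  have hY0 : Y ≠ 0 := fun e => hX0 (by rw [e, mul_zero])
  have cY : IsCoprime Y ((2 * Y + 1) * (Y + 1)) :=
    IsCoprime.mul_right ⟨-2, 1, by ring⟩ ⟨-1, 1, by ring⟩
  obtain ⟨c, hc⟩ : Y ∣ α - β := by
    refine (Int.pow_dvd_pow_iff two_ne_zero).1 ((cY.pow_left (m := 2)).dvd_of_dvd_mul_right ?_)
    exact ⟨2 * ((g : ℤ) * (α * β * (α + β))), mul_left_cancel₀ (two_ne_zero : (2 : ℤ) ≠ 0)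
      (by linear_combination h1)⟩
  obtain ⟨s, hs⟩ : (2 : ℤ) ∣ α + β := by omega
  have h2 : c ^ 2 * ((2 * Y + 1) * (Y + 1)) = 4 * ((g : ℤ) * (α * β * s)) := by
    refine mul_left_cancel₀ (mul_ne_zero (pow_ne_zero 2 hY0) (two_ne_zero : (2 : ℤ) ≠ 0)) ?_
    rw [hc, hs] at h1
    linear_combination h1
  obtain ⟨k, rfl⟩ : (2 : ℤ) ∣ c := by
    have c2 : IsCoprime (2 : ℤ) ((2 * Y + 1) * (Y + 1)) :=
      IsCoprime.mul_right ⟨-Y, 1, by ring⟩ ⟨-Z, 1, by rw [hZ]; ring⟩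
    exact Int.prime_two.dvd_of_dvd_pow (n := 2)
      (c2.dvd_of_dvd_mul_right ⟨2 * ((g : ℤ) * (α * β * s)), by linear_combination h2⟩)
  have h3 : k ^ 2 * ((2 * Y + 1) * (Y + 1)) = (g : ℤ) * (α * β * s) :=
    mul_left_cancel₀ (four_ne_zero : (4 : ℤ) ≠ 0) (by linear_combination h2)
  -- `k` is prime to `α β s`
  have cαd : IsCoprime α (α - β) := by
    obtain ⟨x, y, e⟩ := hcop'
    exact ⟨x + y, -y, by linear_combination e⟩
  have cβd : IsCoprime β (α - β) := by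
    obtain ⟨x, y, e⟩ := hcop'
    exact ⟨x + y, x, by linear_combination e⟩
  have csd : IsCoprime s (α - β) := by
    have hso : ¬ (2 : ℤ) ∣ s := fun d => by
      obtain ⟨s', rfl⟩ := d
      have : α - β = 4 * (Z * k) := by rw [hc, hZ]; ring
      omega
    have c2s : IsCoprime s 2 := ((Int.prime_two.coprime_iff_not_dvd).2 hso).symm
    refine Int.isCoprime_iff_gcd_eq_one.2 ?_
    by_contra hne
    obtain ⟨p, hp, hpd⟩ := Nat.exists_prime_and_dvd hne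
    have hps : (p : ℤ) ∣ s := (Int.natCast_dvd_natCast.2 hpd).trans (Int.gcd_dvd_left s _)
    have hpd' : (p : ℤ) ∣ α - β := (Int.natCast_dvd_natCast.2 hpd).trans (Int.gcd_dvd_right s _)
    have hp' := Nat.prime_iff_prime_int.1 hp
    have hpsum : (p : ℤ) ∣ α + β := hs ▸ hps.mul_left 2
    have h2a : (p : ℤ) ∣ 2 * α := by rw [show 2 * α = (α + β) + (α - β) by ring]; exact dvd_add hpsum hpd'
    have h2b : (p : ℤ) ∣ 2 * β := by rw [show 2 * β = (α + β) - (α - β) by ring]; exact dvd_sub hpsum hpd'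
    have hp2 : ¬ (p : ℤ) ∣ 2 := fun d => hp'.not_isUnit (c2s.isUnit_of_dvd' hps d)
    exact hp'.not_isUnit (hcop'.isUnit_of_dvd' ((hp'.dvd_or_dvd h2a).resolve_left hp2)
      ((hp'.dvd_or_dvd h2b).resolve_left hp2))
  have hkd : k ∣ α - β := ⟨Y * 2, by rw [hc]; ring⟩
  have ck : IsCoprime k (α * β * s) := by
    refine IsCoprime.mul_right (IsCoprime.mul_right ?_ ?_) ?_
    · exact (cαd.of_isCoprime_of_dvd_right hkd).symm
    · exact (cβd.of_isCoprime_of_dvd_right hkd).symm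
    · exact (csd.of_isCoprime_of_dvd_right hkd).symm
  obtain ⟨w, hw⟩ : k ^ 2 ∣ (g : ℤ) :=
    (ck.pow_left (m := 2)).dvd_of_dvd_mul_right ⟨(2 * Y + 1) * (Y + 1), h3.symm⟩
  have hk0 : k ≠ 0 := fun e => hgz (by rw [hw, e]; ring)
  have h4 : (2 * Y + 1) * (Y + 1) = w * (α * β * s) := by
    refine mul_left_cancel₀ (pow_ne_zero 2 hk0) ?_
    rw [hw] at h3
    linear_combination h3
  have h5 : w * (α * β * (α + β)) = (2 * Y + 1) * (2 * Y + 2) := by
    rw [hs]; linear_combination -2 * h4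
  have hdiff : α - β = k * (2 * Y) := by rw [hc]; ring
  exact finish hn hX ha8 hb8 hαo hβo hgo hk0 hw h5 hdiff hY0

end Cfsg.Agent.Lib.GorensteinWalter.CoinvariantArith
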