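import Cfsg.Agent.Lib.DihedralDefect.Comb4

/-!
# The two identities on the vectors of a dihedral block

`F` are the degrees, `C` the values at the central involution and `ds` those at a rotation of
maximal order; `c j` stands for `ζ ^ j + ζ ^ (-j)`.
-/

set_option autoImplicit false

namespace Cfsg.Agent.Lib.GorensteinWalter.CoinvariantComb

open Finset Cfsg.Agent.Lib.DihedralDefect.Comb

variable {ι : Type*} [Fintype ι] [DecidableEq ι] {m : ℕ} {w : ℕ → ι → ℤ} {C : ι → ℤ}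

/-- The value at the rotation. -/
noncomputable def ds (m : ℕ) (w : ℕ → ι → ℤ) (c : ℕ → ℂ) (t : ι) : ℂ :=
  (w m t : ℂ) - ∑ j ∈ Ico 1 m, (w j t : ℂ) * c j

/-- The sum at the rotation. -/
noncomputable def sumS (m : ℕ) (w : ℕ → ι → ℤ) (C F : ι → ℤ) (c : ℕ → ℂ) : ℂ :=
  ∑ t, (C t : ℂ) ^ 2 * ds m w c t / (F t : ℂ)

/-- The sum at the central involution. -/
noncomputable def sumT (C F : ι → ℤ) : ℂ :=
  ∑ t, (C t : ℂ) ^ 2 * (C t : ℂ) / (F t : ℂ)

theorem unit_sq {x : ℤ} (hx : x * x = 1) : (x : ℂ) * x = 1 := by exact_mod_cast hx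

theorem div_signed {x f : ℤ} (hx : x * x = 1) : (x : ℂ) / f = 1 / (((x * f : ℤ)) : ℂ) := by
  push_cast
  rw [one_div, mul_inv, inv_eq_of_mul_eq_one_right (unit_sq hx), div_eq_mul_inv]

/-- The shape with distinct members outside `T`. -/
theorem generic_eval (h : Data m w C) (hinj : Set.InjOn h.out (Ico 1 m : Finset ℕ)) {F : ι → ℤ}
    (hF : ∀ t, F t ≠ 0) (hrel : ∀ j, 1 ≤ j → j ≤ m → ∑ t, F t * w j t = 0)
    (hcong : ∀ t, (4 * m : ℤ) ∣ F t + w m t + 2 * ∑ j ∈ Ico 1 m, w j t + 2 * m * C t)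
    (c : ℕ → ℂ) (hc : ∑ j ∈ Ico 1 m, c j = 0) :
    ∃ p q r s : ι, p ≠ q ∧ r ≠ s ∧ p ∈ h.T ∧ q ∈ h.T ∧ r ∈ h.T ∧ s ∈ h.T ∧
      C p = w m p ∧ C q = w m q ∧ C r = -w m r ∧ C s = -w m s ∧
      (∀ j ∈ Ico 1 m, w j r = 0 ∧ w j s = 0) ∧
      (∀ t, t = p ∨ t = q ∨ t = r ∨ t = s ∨ C t = 2 ∨ C t = -2) ∧
      w m p * F p + w m q * F q + (w m r * F r + w m s * F s) = 0 ∧
      w m p * F p + w m q * F q ≠ 0 ∧
      (4 * m : ℤ) ∣ w m p * F p - 1 ∧ (4 * m : ℤ) ∣ w m q * F q - 1 ∧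
      sumS m w C F c = 1 / ((w m p * F p : ℤ) : ℂ) + 1 / ((w m q * F q : ℤ) : ℂ) +
        (1 / ((w m r * F r : ℤ) : ℂ) + 1 / ((w m s * F s : ℤ) : ℂ)) ∧
      sumT C F = 1 / ((w m p * F p : ℤ) : ℂ) + 1 / ((w m q * F q : ℤ) : ℂ) -
        (1 / ((w m r * F r : ℤ) : ℂ) + 1 / ((w m s * F s : ℤ) : ℂ)) -
        8 / ((w m p * F p + w m q * F q : ℤ) : ℂ) := by
  have h2 := h.two_le
  have h1m : (1 : ℕ) ∈ Ico 1 m := mem_Ico.2 ⟨le_rfl, by omega⟩
  obtain ⟨k, hk⟩ : ∃ k, m = 2 * k := by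
    obtain ⟨i, hi⟩ := h.pow
    rcases i with _ | i
    · simp at hi; omega
    · exact ⟨2 ^ i, by rw [hi, pow_succ']⟩
  have hsign : ∑ j ∈ Ico 1 m, (-1 : ℤ) ^ (j + 1) = 1 := by
    subst hk
    have : ∀ i : ℕ, ∑ j ∈ Ico 1 (2 * (i + 1)), (-1 : ℤ) ^ (j + 1) = 1 := by
      intro i
      induction i with
      | zero => decide
      | succ i ih =>
        rw [show 2 * (i + 1 + 1) = 2 * (i + 1) + 1 + 1 by ring, sum_Ico_succ_top (by omega),
          sum_Ico_succ_top (by omega), ih]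
        simp [pow_add, pow_mul]
    obtain ⟨i, rfl⟩ : ∃ i, k = i + 1 := ⟨k - 1, by omega⟩
    exact this i
  obtain ⟨p, q, hpq, hP⟩ := card_eq_two.1 (h.shape le_rfl (show 1 < m by omega)).1
  have hPall : ∀ j ∈ Ico 1 m, h.P j = {p, q} := by
    intro j hj
    rcases eq_or_ne j 1 with rfl | hne
    · exact hP
    rw [← hP]
    exact h.eq_of_out_ne (mem_Ico.1 hj).1 (mem_Ico.1 hj).2 le_rfl (by omega)
      fun e => hne (hinj hj h1m e)
  have hsub : ({p, q} : Finset ι) ⊆ h.T := hP ▸ h.P_subset 1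
  obtain ⟨r, s, hrs, hR⟩ := card_eq_two.1 (show (h.T \ {p, q}).card = 2 by
    rw [card_sdiff_of_subset hsub, h.card_T, card_pair hpq])
  have hp : p ∈ h.T := hsub (by simp)
  have hq : q ∈ h.T := hsub (by simp)
  have hr' : r ∈ h.T \ {p, q} := by simp [hR]
  have hs' : s ∈ h.T \ {p, q} := by simp [hR]
  rw [mem_sdiff] at hr' hs'
  have hT : h.T = {p, q} ∪ {r, s} := by rw [← hR, union_sdiff_of_subset hsub]
  have hval : ∀ j ∈ Ico 1 m, w j p = w m p ∧ w j q = w m q ∧ w j r = 0 ∧ w j s = 0 := by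
    intro j hj
    have hv := (h.shape (mem_Ico.1 hj).1 (mem_Ico.1 hj).2).2.1
    rw [hv p hp, hv q hq, hv r hr'.1, hv s hs'.1, hPall j hj, if_pos (by simp), if_pos (by simp),
      if_neg hr'.2, if_neg hs'.2]
    simp
  have hCp : ∀ t, (∀ j ∈ Ico 1 m, w j t = w m t) → C t = w m t := by
    intro t ht
    rw [h.C_eq, sum_congr rfl fun j hj => by rw [ht j hj], ← sum_mul, hsign]
    ring
  have hCr : ∀ t, (∀ j ∈ Ico 1 m, w j t = 0) → C t = -w m t := by
    intro t ht
    rw [h.C_eq, sum_eq_zero fun j hj => by rw [ht j hj, mul_zero]]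
    ring
  have cp := hCp p fun j hj => (hval j hj).1
  have cq := hCp q fun j hj => (hval j hj).2.1
  have cr := hCr r fun j hj => (hval j hj).2.2.1
  have cs := hCr s fun j hj => (hval j hj).2.2.2
  have dp : ∀ t, (∀ j ∈ Ico 1 m, w j t = w m t) → ds m w c t = w m t := by
    intro t ht
    rw [ds, sum_congr rfl fun j hj => by rw [ht j hj], ← mul_sum, hc, mul_zero, sub_zero]
  have dr : ∀ t, (∀ j ∈ Ico 1 m, w j t = 0) → ds m w c t = w m t := by
    intro t ht
    rw [ds, sum_eq_zero fun j hj => by rw [ht j hj, Int.cast_zero, zero_mul], sub_zero]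
  -- the members outside `T`
  have hmem : ∀ j ∈ Ico 1 m, h.out j ∉ h.T ∧ (w j (h.out j) = 1 ∨ w j (h.out j) = -1) ∧
      w m (h.out j) = 0 ∧ ∀ i ∈ Ico 1 m, i ≠ j → w i (h.out j) = 0 := by
    intro j hj
    obtain ⟨o1, o2, -⟩ := h.out_spec (mem_Ico.1 hj).1 (mem_Ico.1 hj).2
    refine ⟨o1, o2, not_not.1 (mt h.mem_T.2 o1), fun i hi hne => ?_⟩
    exact (h.out_spec (mem_Ico.1 hi).1 (mem_Ico.1 hi).2).2.2 _ o1 fun e => hne (hinj hi hj e.symm)
  have huniv : (univ : Finset ι) = h.T ∪ (Ico 1 m).image h.out := by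
    ext t
    simp only [mem_univ, mem_union, mem_image, true_iff]
    by_cases ht : t ∈ h.T
    · exact Or.inl ht
    · exact Or.inr (h.exists_out ht)
  have hsum : ∀ {A : Type} [AddCommMonoid A] (f : ι → A),
      ∑ t, f t = f p + f q + (f r + f s) + ∑ j ∈ Ico 1 m, f (h.out j) := by
    intro A _ f
    rw [huniv, sum_union, hT, sum_union, sum_pair hpq, sum_pair hrs, sum_image hinj]
    · rw [← hR]; exact disjoint_sdiff
    · rw [disjoint_right]
      intro t ht
      obtain ⟨j, hj, rfl⟩ := mem_image.1 ht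
      exact (hmem j hj).1
  have hrelj : ∀ j ∈ Ico 1 m, w j (h.out j) * F (h.out j) = -(w m p * F p + w m q * F q) := by
    intro j hj
    have e := hrel j (mem_Ico.1 hj).1 (mem_Ico.1 hj).2.le
    rw [hsum (A := ℤ), sum_eq_single_of_mem j hj fun i hi hne => by
      rw [(hmem i hi).2.2.2 j hj (Ne.symm hne), mul_zero], (hval j hj).1, (hval j hj).2.1,
      (hval j hj).2.2.1, (hval j hj).2.2.2] at e
    linear_combination e
  have e0 : w m p * F p + w m q * F q + (w m r * F r + w m s * F s) = 0 := by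
    have e := hrel m (by omega) le_rfl
    rw [hsum (A := ℤ), sum_eq_zero fun i hi => by rw [(hmem i hi).2.2.1, mul_zero]] at e
    linear_combination e
  have ab0 : w m p * F p + w m q * F q ≠ 0 := by
    intro e
    have := hrelj 1 h1m
    rw [e, neg_zero, mul_eq_zero] at this
    rcases this with e' | e'
    · rcases (hmem 1 h1m).2.1 with e'' | e'' <;> rw [e''] at e' <;> omega
    · exact hF _ e'
  have hcover : ∀ t, t = p ∨ t = q ∨ t = r ∨ t = s ∨ C t = 2 ∨ C t = -2 := by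
    intro t
    by_cases ht : t ∈ h.T
    · rw [hT] at ht
      simp only [mem_union, mem_insert, mem_singleton] at ht
      tauto
    · have := (h.generic hinj).2.1 t ht
      tauto
  have hcg : ∀ t, t ∈ h.T → (∀ j ∈ Ico 1 m, w j t = w m t) → (4 * m : ℤ) ∣ w m t * F t - 1 := by
    intro t htT ht
    obtain ⟨z, hz⟩ := hcong t
    rw [sum_congr rfl ht, hCp t ht, sum_const, Nat.card_Ico, nsmul_eq_mul,
      Nat.cast_sub (by omega : 1 ≤ m), Nat.cast_one] at hz
    refine ⟨w m t * z - 1, ?_⟩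
    linear_combination w m t * hz - (4 * m - 1 : ℤ) * h.sq_T htT
  refine ⟨p, q, r, s, hpq, hrs, hp, hq, hr'.1, hs'.1, cp, cq, cr, cs,
    fun j hj => ⟨(hval j hj).2.2.1, (hval j hj).2.2.2⟩, hcover, e0, ab0,
    hcg p hp fun j hj => (hval j hj).1, hcg q hq fun j hj => (hval j hj).2.1, ?_, ?_⟩
  · rw [sumS, hsum (A := ℂ), dp p fun j hj => (hval j hj).1, dp q fun j hj => (hval j hj).2.1,
      dr r fun j hj => (hval j hj).2.2.1, dr s fun j hj => (hval j hj).2.2.2, cp, cq, cr, cs,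
      sum_congr rfl (g := fun j => 4 / ((w m p * F p + w m q * F q : ℤ) : ℂ) * c j) ?_, ← mul_sum,
      hc, mul_zero, add_zero]
    · simp only [Int.cast_neg, sq, neg_mul_neg, unit_sq (h.sq_T hp), unit_sq (h.sq_T hq),
        unit_sq (h.sq_T hr'.1), unit_sq (h.sq_T hs'.1), one_mul, div_signed (h.sq_T hp),
        div_signed (h.sq_T hq), div_signed (h.sq_T hr'.1), div_signed (h.sq_T hs'.1)]
    · intro j hj
      obtain ⟨-, o2, o3, o4⟩ := hmem j hj
      have hw1 : w j (h.out j) * w j (h.out j) = 1 := by rcases o2 with e | e <;> rw [e] <;> rfl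
      have hC2 : (C (h.out j) : ℂ) ^ 2 = 4 := by
        rcases (h.generic hinj).2.1 _ (hmem j hj).1 with e | e <;> rw [e] <;> norm_num
      rw [ds, o3, sum_eq_single_of_mem j hj fun i hi hne => by
        rw [o4 i hi hne, Int.cast_zero, zero_mul], hC2, Int.cast_zero, zero_sub, mul_neg, neg_div,
        ← mul_assoc, mul_div_right_comm, mul_div_assoc, div_signed hw1, hrelj j hj]
      push_cast
      rw [mul_one_div, div_neg]
      ring
  · have cg : ∀ j ∈ Ico 1 m, C (h.out j) = 2 * (-1) ^ (j + 1) * w j (h.out j) := by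
      intro j hj
      obtain ⟨-, -, o3, o4⟩ := hmem j hj
      rw [h.C_eq, o3, sum_eq_single_of_mem j hj fun i hi hne => by rw [o4 i hi hne, mul_zero]]
      ring
    rw [sumT, hsum (A := ℂ), cp, cq, cr, cs,
      sum_congr rfl (g := fun j => -8 / ((w m p * F p + w m q * F q : ℤ) : ℂ) *
        (((-1) ^ (j + 1) : ℤ) : ℂ)) ?_, ← mul_sum, ← Int.cast_sum, hsign, Int.cast_one, mul_one]
    · simp only [Int.cast_neg, sq, neg_mul_neg, unit_sq (h.sq_T hp), unit_sq (h.sq_T hq),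
        unit_sq (h.sq_T hr'.1), unit_sq (h.sq_T hs'.1), one_mul, neg_div, div_signed (h.sq_T hp),
        div_signed (h.sq_T hq), div_signed (h.sq_T hr'.1), div_signed (h.sq_T hs'.1)]
      ring
    · intro j hj
      have hw1 : w j (h.out j) * w j (h.out j) = 1 := by
        rcases (hmem j hj).2.1 with e | e <;> rw [e] <;> rfl
      have e1 : ((-1 : ℂ) ^ (j + 1)) ^ 2 = 1 := by rw [← pow_mul, mul_comm, pow_mul]; simp
      have e2 := unit_sq hw1
      rw [cg j hj]
      push_cast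
      rw [show (2 * (-1 : ℂ) ^ (j + 1) * (w j (h.out j) : ℂ)) ^ 2 *
          (2 * (-1 : ℂ) ^ (j + 1) * (w j (h.out j) : ℂ)) =
          8 * (-1 : ℂ) ^ (j + 1) * (w j (h.out j) : ℂ) by
        linear_combination (8 * (-1 : ℂ) ^ (j + 1) * (w j (h.out j) : ℂ) ^ 3) * e1 +
          8 * (-1 : ℂ) ^ (j + 1) * (w j (h.out j) : ℂ) * e2, mul_div_assoc, div_signed hw1,
        hrelj j hj]
      push_cast
      rw [one_div, inv_neg]
      ring

set_option maxHeartbeats 4000000 in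
/-- The shape with one member outside `T`. -/
theorem special_eval (h : Data m w C) (hinj : ¬ Set.InjOn h.out (Ico 1 m : Finset ℕ)) {F : ι → ℤ}
    (hF : ∀ t, F t ≠ 0) (hrel : ∀ j, 1 ≤ j → j ≤ m → ∑ t, F t * w j t = 0)
    (hodd : ∀ t ∈ h.T, ¬ (2 : ℤ) ∣ F t)
    (c : ℕ → ℂ) (hc : ∑ j ∈ Ico 1 m, c j = 0) (hc2 : m = 4 → c 2 = 0) :
    m = 4 ∧ ∃ (D : ℤ) (q s : ι), q ≠ s ∧ ¬ (2 : ℤ) ∣ D ∧ sumS m w C F c = 32 / (3 * (D : ℂ)) ∧
      (F q).natAbs = D.natAbs ∧ (F s).natAbs = D.natAbs ∧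
      ∀ t, (F t).natAbs = 1 → D.natAbs = 1 := by
  obtain ⟨hm4, hout⟩ := h.special hinj
  subst hm4
  refine ⟨rfl, ?_⟩
  have m1 : (1 : ℕ) ∈ Ico 1 4 := by simp
  have m2 : (2 : ℕ) ∈ Ico 1 4 := by simp
  have m3 : (3 : ℕ) ∈ Ico 1 4 := by simp
  have s1 := h.shape le_rfl (by norm_num)
  have s2 := h.shape (j := 2) (by norm_num) (by norm_num)
  have s3 := h.shape (j := 3) (by norm_num) (by norm_num)
  obtain ⟨p, q, s, t, hpq, hps, hpt, hqs, hqt, hst, hP1, hP3, hT⟩ := split_four h.card_T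
    (h.P_subset 1) (h.P_subset 3) s1.1 s3.1 ((hout 1 m1 3 m3).2 (by norm_num))
  set g := h.out 1 with hg
  have o1 := h.out_spec le_rfl (show 1 < 4 by norm_num)
  have e12 := (h.of_out_eq le_rfl (by norm_num) (by norm_num) (by norm_num)
    (by norm_num : (1 : ℕ) ≠ 2) (hout 1 m1 2 m2).1).2
  have e13 := (h.of_out_eq le_rfl (by norm_num) (by norm_num) (by norm_num)
    (by norm_num : (1 : ℕ) ≠ 3) (hout 1 m1 3 m3).1).2
  rw [← (hout 1 m1 2 m2).1] at e12
  rw [← (hout 1 m1 3 m3).1] at e13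
  have huniv : (univ : Finset ι) = {p, q, s, t, g} := by
    refine (eq_univ_of_forall fun χ => ?_).symm
    by_cases hχ : χ ∈ h.T
    · rw [hT] at hχ
      simp only [mem_insert, mem_singleton] at hχ ⊢
      tauto
    · obtain ⟨j, hj, rfl⟩ := h.exists_out hχ
      simp only [mem_insert, mem_singleton]
      exact Or.inr (Or.inr (Or.inr (Or.inr ((hout j hj 1 m1).1))))
  have hmem : ∀ χ ∈ ({p, q, s, t} : Finset ι), χ ∈ h.T := fun χ hχ => hT ▸ hχ
  have Tp := hmem p (by simp)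
  have Tq := hmem q (by simp)
  have Ts := hmem s (by simp)
  have Tt := hmem t (by simp)
  have hgne : ∀ χ ∈ h.T, χ ≠ g := fun χ hχ (e : χ = g) => o1.1 (by subst e; exact hχ)
  have hsum : ∀ {A : Type} [AddCommMonoid A] (f : ι → A),
      ∑ χ, f χ = f p + f q + f s + f t + f g := by
    intro A _ f
    rw [huniv, sum_insert (by simp [hpq, hps, hpt, hgne p Tp]),
      sum_insert (by simp [hqs, hqt, hgne q Tq]), sum_insert (by simp [hst, hgne s Ts]),
      sum_pair (hgne t Tt)]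
    simp [add_assoc]
  have g4 : w 4 g = 0 := not_not.mp (mt h.mem_T.mpr o1.1)
  have v1 : ∀ χ ∈ h.T, w 1 χ = if χ ∈ ({p, q} : Finset ι) then w 4 χ else 0 := hP1 ▸ s1.2.1
  have v3 : ∀ χ ∈ h.T, w 3 χ = if χ ∈ ({p, s} : Finset ι) then w 4 χ else 0 := hP3 ▸ s3.2.1
  have r4 := hrel 4 (by norm_num) le_rfl
  have r1 := hrel 1 le_rfl (by norm_num)
  have r2 := hrel 2 (by norm_num) (by norm_num)
  have r3 := hrel 3 (by norm_num) (by norm_num)
  have hi4 : Ico 1 4 = ({1, 2, 3} : Finset ℕ) := by decide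
  have hc' : c 1 + c 2 + c 3 = 0 := by
    rw [hi4, sum_insert (by simp), sum_pair (by norm_num)] at hc
    linear_combination hc
  have hc3 : c 3 = -c 1 := by linear_combination hc' - hc2 rfl
  have hds : ∀ χ, ds 4 w c χ = (w 4 χ : ℂ) - ((w 1 χ : ℂ) - (w 3 χ : ℂ)) * c 1 := by
    intro χ
    rw [ds, hi4, sum_insert (by simp), sum_pair (by norm_num), hc2 rfl, hc3]
    ring
  have hC : ∀ χ, C χ = -w 4 χ + 2 * (w 1 χ - w 2 χ + w 3 χ) := by
    intro χ
    rw [h.C_eq, hi4, sum_insert (by simp), sum_pair (by norm_num)]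
    ring
  have e2g : w 2 g = w 1 g := e12.symm
  have e3g : w 3 g = w 1 g := e13.symm
  have sg : w 1 g * w 1 g = 1 := by rcases o1.2.1 with e | e <;> rw [e] <;> rfl
  have h12 := (hout 1 m1 2 m2).2 (by norm_num)
  have h32 := (hout 3 m3 2 m2).2 (by norm_num)
  rw [hP1] at h12
  rw [hP3] at h32
  have v2 := s2.2.1
  simp only [hsum (A := ℤ), g4, e2g, e3g, v1 p Tp, v1 q Tq, v1 s Ts, v1 t Tt, v3 p Tp, v3 q Tq,
    v3 s Ts, v3 t Tt, mem_insert, mem_singleton, hpq, hps, hpt, hqs, hqt, hst, hpq.symm, hps.symm,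
    hpt.symm, hqs.symm, hqt.symm, hst.symm, or_false, false_or, if_true, if_false, mul_zero,
    add_zero] at r4 r1 r2 r3
  have hD0 : ¬ (2 : ℤ) ∣ w 4 q * F q := fun d => hodd q Tq (by
    have := d.mul_left (w 4 q)
    rwa [← mul_assoc, h.sq_T Tq, one_mul] at this)
  have habs : ∀ {χ} {z : ℤ}, χ ∈ h.T → w 4 χ * F χ = z → (F χ).natAbs = z.natAbs := by
    intro χ z hχ e
    rw [← e, Int.natAbs_mul]
    rcases h.wm_pm χ with e' | e' | e'
    · exact absurd e' (h.mem_T.mp hχ)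
    all_goals simp [e']
  have habsg : ∀ {z : ℤ}, w 1 g * F g = z → (F g).natAbs = z.natAbs := by
    intro z e
    rw [← e, Int.natAbs_mul]
    rcases o1.2.1 with e' | e' <;> rw [e'] <;> simp
  have hfin : ∀ {D a b b' : ℤ}, w 4 p * F p = a → w 4 s * F s = D → w 4 t * F t = b →
      w 1 g * F g = b' → w 4 q * F q = D →
      ((a.natAbs = D.natAbs ∨ a.natAbs = 3 * D.natAbs) ∧
        (b.natAbs = D.natAbs ∨ b.natAbs = 3 * D.natAbs) ∧ b'.natAbs = 2 * D.natAbs) →
      sumS 4 w C F c = 32 / (3 * (D : ℂ)) →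
      ∃ (D : ℤ) (q s : ι), q ≠ s ∧ ¬ (2 : ℤ) ∣ D ∧ sumS 4 w C F c = 32 / (3 * (D : ℂ)) ∧
        (F q).natAbs = D.natAbs ∧ (F s).natAbs = D.natAbs ∧
        ∀ t, (F t).natAbs = 1 → D.natAbs = 1 := by
    intro D a b b' hpa hsD htb hgb hqD ⟨ha, hb, hb'⟩ hA
    refine ⟨D, q, s, hqs, hqD ▸ hD0, hA, habs Tq hqD, habs Ts hsD, fun χ h1 => ?_⟩
    have hχ := mem_univ χ
    rw [huniv] at hχ
    simp only [mem_insert, mem_singleton] at hχ
    rcases hχ with rfl | rfl | rfl | rfl | rfl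
    · rw [habs Tp hpa] at h1; omega
    · rw [habs Tq hqD] at h1; exact h1
    · rw [habs Ts hsD] at h1; exact h1
    · rw [habs Tt htb] at h1; omega
    · rw [habsg hgb] at h1; omega
  have hinv : ∀ {x f : ℤ} {z : ℤ}, x * x = 1 → x * f = z → (x : ℂ) / f = 1 / (z : ℂ) :=
    fun hx e => by rw [div_signed hx, e]
  have cube : ∀ {x : ℤ}, x * x = 1 → (x : ℂ) * x * x = x := fun hx => by rw [unit_sq hx, one_mul]
  set D := w 4 q * F q with hD
  have hDc : (D : ℂ) ≠ 0 := Int.cast_ne_zero.2 fun e => hD0 (e ▸ dvd_zero 2)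
  by_cases hp2 : p ∈ h.P 2
  · have hq2 : q ∉ h.P 2 := fun hq => by
      have : ({p, q} : Finset ι) ∩ h.P 2 = {p, q} := inter_eq_left.mpr (by simp [insert_subset_iff, hp2, hq])
      rw [this, card_pair hpq] at h12; omega
    have hs2 : s ∉ h.P 2 := fun hs => by
      have : ({p, s} : Finset ι) ∩ h.P 2 = {p, s} := inter_eq_left.mpr (by simp [insert_subset_iff, hp2, hs])
      rw [this, card_pair hps] at h32; omega
    have ht2 : t ∈ h.P 2 := by
      by_contra ht
      have : h.P 2 ⊆ {p} := fun χ hχ => by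
        have := h.P_subset 2 hχ
        rw [hT] at this
        simp only [mem_insert, mem_singleton] at this ⊢
        rcases this with rfl | rfl | rfl | rfl <;> first | rfl | contradiction
      have := card_le_card this
      rw [s2.1, card_singleton] at this; omega
    simp only [v2 p Tp, v2 q Tq, v2 s Ts, v2 t Tt, hp2, hq2, hs2, ht2, if_true, if_false,
      mul_zero, add_zero] at r2
    have fs : w 4 s * F s = D := by rw [hD]; linear_combination r3 - r1
    have ft : w 4 t * F t = D := by rw [hD]; linear_combination r2 - r1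
    have fp : w 4 p * F p = -3 * D := by linear_combination r4 - fs - ft + hD
    have fg : w 1 g * F g = 2 * D := by linear_combination r1 - fp + hD
    refine hfin fp fs ft fg hD.symm
      ⟨Or.inr (by rw [Int.natAbs_mul]; rfl), Or.inl rfl, by rw [Int.natAbs_mul]; rfl⟩ ?_
    rw [sumS, hsum (A := ℂ)]
    simp only [hds, hC, g4, e2g, e3g, v1 p Tp, v1 q Tq, v1 s Ts, v1 t Tt, v3 p Tp, v3 q Tq,
      v3 s Ts, v3 t Tt, v2 p Tp, v2 q Tq, v2 s Ts, v2 t Tt, hp2, hq2, hs2, ht2, mem_insert,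
      mem_singleton, hpq, hps, hpt, hqs, hqt, hst, hpq.symm, hps.symm, hpt.symm, hqs.symm,
      hqt.symm, hst.symm, or_false, false_or, if_true, if_false, Int.cast_zero, sub_self, zero_mul]
    push_cast
    ring_nf
    simp only [pow_three, pow_two, ← mul_assoc, cube (h.sq_T Tp), cube (h.sq_T Tq),
      cube (h.sq_T Ts), cube (h.sq_T Tt)]
    have i1 := hinv (h.sq_T Tp) fp
    have i2 := hinv (h.sq_T Tq) hD.symm
    have i3 := hinv (h.sq_T Ts) fs
    have i4 := hinv (h.sq_T Tt) ft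
    push_cast at i1 i2 i3 i4
    linear_combination i1 + (1 - c 1) * i2 + (1 + c 1) * i3 + 9 * i4
  · have hq2 : q ∈ h.P 2 := by
      by_contra hq
      have : ({p, q} : Finset ι) ∩ h.P 2 = ∅ := eq_empty_of_forall_notMem fun χ hχ => by
        simp only [mem_inter, mem_insert, mem_singleton] at hχ
        rcases hχ.1 with rfl | rfl <;> exact absurd hχ.2 (by assumption)
      rw [this, card_empty] at h12; omega
    have hs2 : s ∈ h.P 2 := by
      by_contra hs
      have : ({p, s} : Finset ι) ∩ h.P 2 = ∅ := eq_empty_of_forall_notMem fun χ hχ => by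
        simp only [mem_inter, mem_insert, mem_singleton] at hχ
        rcases hχ.1 with rfl | rfl <;> exact absurd hχ.2 (by assumption)
      rw [this, card_empty] at h32; omega
    have ht2 : t ∉ h.P 2 := fun ht => by
      have : ({q, s, t} : Finset ι) ⊆ h.P 2 := by simp [insert_subset_iff, hq2, hs2, ht]
      have := card_le_card this
      rw [s2.1, card_eq_three.mpr ⟨q, s, t, hqs, hqt, hst, rfl⟩] at this; omega
    simp only [v2 p Tp, v2 q Tq, v2 s Ts, v2 t Tt, hp2, hq2, hs2, ht2, if_true, if_false,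
      mul_zero, add_zero, zero_add] at r2
    have fp : w 4 p * F p = D := by rw [hD]; linear_combination r3 - r2
    have fs : w 4 s * F s = D := by rw [hD]; linear_combination r3 - r1
    have ft : w 4 t * F t = -3 * D := by linear_combination r4 - fp - fs + hD
    have fg : w 1 g * F g = -2 * D := by linear_combination r1 - fp + hD
    refine hfin fp fs ft fg hD.symm
      ⟨Or.inl rfl, Or.inr (by rw [Int.natAbs_mul]; rfl), by rw [Int.natAbs_mul]; rfl⟩ ?_
    rw [sumS, hsum (A := ℂ)]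
    simp only [hds, hC, g4, e2g, e3g, v1 p Tp, v1 q Tq, v1 s Ts, v1 t Tt, v3 p Tp, v3 q Tq,
      v3 s Ts, v3 t Tt, v2 p Tp, v2 q Tq, v2 s Ts, v2 t Tt, hp2, hq2, hs2, ht2, mem_insert,
      mem_singleton, hpq, hps, hpt, hqs, hqt, hst, hpq.symm, hps.symm, hpt.symm, hqs.symm,
      hqt.symm, hst.symm, or_false, false_or, if_true, if_false, Int.cast_zero, sub_self, zero_mul]
    push_cast
    ring_nf
    simp only [pow_three, pow_two, ← mul_assoc, cube (h.sq_T Tp), cube (h.sq_T Tq),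
      cube (h.sq_T Ts), cube (h.sq_T Tt)]
    have i1 := hinv (h.sq_T Tp) fp
    have i2 := hinv (h.sq_T Tq) hD.symm
    have i3 := hinv (h.sq_T Ts) fs
    have i4 := hinv (h.sq_T Tt) ft
    push_cast at i1 i2 i3 i4
    linear_combination 9 * i1 + (1 - c 1) * i2 + (1 + c 1) * i3 + i4

end Cfsg.Agent.Lib.GorensteinWalter.CoinvariantComb
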