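import Cfsg.Agent.Lib.GorensteinWalter.CoinvariantPairs
import Cfsg.Agent.Lib.GorensteinWalter.CoinvariantComb
import Cfsg.Agent.Lib.DihedralBlock.Fourier
import Cfsg.Agent.Lib.Characters.Complete
import Cfsg.Agent.Lib.H80.ClassMult

/-!
# The multiplicities and the counting identity over an invariant linear character

The averaged values `d` on the rotations have Fourier coefficients `μ i ∈ ℕ`; the differences
`μ 0 - μ j` are the vectors of a dihedral block, `d` at the central involution is `C`, and the sums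
`∑ C² ds / F`, `∑ C³ / F` count the pairs of involutions with product in `σ K`, `t K`.
-/

set_option autoImplicit false
set_option linter.style.haveILetI false
set_option linter.unusedSectionVars false

namespace Cfsg.Agent.Lib.GorensteinWalter.CoinvariantSums

open Cfsg.Agent.Lib.Characters.Basic Cfsg.Agent.Lib.Characters.Complete
open Cfsg.Agent.Lib.DihedralBlock.Sections
open Cfsg.Agent.Lib.DihedralBlock.Order (kern kern_le kern_conj kern_odd card_kern_odd coset_unique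
  exists_coset invs mem_invs card_invs_mul card_pairs)
open Cfsg.Agent.Lib.DihedralBlock.Fourier (rot rot_mem rot_natCast rot_add rot_zero rot_injective
  rot_neg expn expn_natCast conj_expn sum_expn sum_fold)
open Cfsg.Agent.Lib.GorensteinWalter.CoinvariantPairs
open Cfsg.Agent.Lib.BrauerPairs.Center (Blk)
open Cfsg.Agent.Lib.BrauerPairs.Bridge (Res toSet)
open scoped ComplexConjugate

universe u

attribute [local instance] Ideal.Quotient.field Classical.propDecidable

variable {G : Type u} [Group G] [Fintype G] {N : ℕ} {σ : G} {P : Sylow 2 G}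
  {φ : ↥(kern σ N) →* ℂˣ} (hX : Ctx P N σ φ)
  (M : Ideal Cfsg.AlgInt) [M.IsMaximal] (hM : Cfsg.IsPModular 2 M)

include hX

omit [M.IsMaximal] in
theorem commute_rot_kern {y k : G} (hy : y ∈ Subgroup.zpowers σ) (hk : k ∈ kern σ N) :
    Commute y k := by
  obtain ⟨i, rfl⟩ := Subgroup.mem_zpowers_iff.1 hy
  exact (hX.cent k hk).zpow_left i

omit [M.IsMaximal] in
/-- A rotation and an element of `K` are determined by their product. -/
theorem rot_kern_unique {y y' k k' : G} (hy : y ∈ Subgroup.zpowers σ)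
    (hy' : y' ∈ Subgroup.zpowers σ) (hk : k ∈ kern σ N) (hk' : k' ∈ kern σ N)
    (h : y * k = y' * k') : y = y' ∧ k = k' := by
  have h1 : y'⁻¹ * y = k' * k⁻¹ := by
    calc y'⁻¹ * y = y'⁻¹ * (y * k) * k⁻¹ := by group
      _ = _ := by rw [h]; group
  have e : y'⁻¹ * y = 1 := coset_unique hX.rot
    (mul_mem (inv_mem (hX.rot.zpowers_le hy')) (hX.rot.zpowers_le hy)) (one_mem _)
    (by rw [inv_one, mul_one, h1]; exact mul_mem hk' (inv_mem hk))
  obtain rfl := (inv_mul_eq_one.1 e).symm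
  exact ⟨rfl, mul_left_cancel h⟩

omit [M.IsMaximal] in
theorem conj_rot_mem {p y : G} (hp : p ∈ (P : Subgroup G)) (hy : y ∈ Subgroup.zpowers σ) :
    p * y * p⁻¹ ∈ Subgroup.zpowers σ := by
  rcases hX.rot.conj_pm hp hy with h | h <;> rw [h]
  exacts [hy, inv_mem hy]

omit [M.IsMaximal] in
/-- An element conjugating rotations centralises `t`. -/
theorem mem_centralizer_of_conj {c x y : G} (hx : x ∈ Subgroup.zpowers σ) (hx1 : x ≠ 1)
    (hy : y ∈ Subgroup.zpowers σ) (h : c * x * c⁻¹ = y) :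
    c ∈ Subgroup.centralizer ({σ ^ (N / 2)} : Set G) := by
  obtain ⟨i, hi⟩ := Subgroup.mem_zpowers_iff.1 (half_mem_zpowers hX hx hx1)
  have h1 : c * σ ^ (N / 2) * c⁻¹ = y ^ i := by rw [← hi, ← h, conj_zpow]
  have h2 : y ^ i = σ ^ (N / 2) := by
    refine hX.rot.eq_half (zpow_mem hy i) ?_ ?_
    · rw [← h1]
      exact fun e => hX.rot.half_ne (conj_eq_one_iff.1 e)
    · rw [← h1]
      calc c * σ ^ (N / 2) * c⁻¹ * (c * σ ^ (N / 2) * c⁻¹) =
          c * (σ ^ (N / 2) * σ ^ (N / 2)) * c⁻¹ := by group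
        _ = 1 := by rw [hX.rot.half_sq]; group
  exact Subgroup.mem_centralizer_singleton_iff.2 (mul_inv_eq_iff_eq_mul.1 (h1.trans h2))

omit [M.IsMaximal] in
theorem exists_refl : ∃ p ∈ (P : Subgroup G), p ∉ Subgroup.zpowers σ := by
  by_contra hn
  push Not at hn
  have := Subgroup.card_le_of_le (show (P : Subgroup G) ≤ Subgroup.zpowers σ from hn)
  rw [hX.rot.card, Nat.card_zpowers, hX.rot.order] at this
  have := hX.rot.four_le
  omega

omit [M.IsMaximal] in
theorem card_refls :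
    (Finset.univ.filter fun p : G => p ∈ (P : Subgroup G) ∧ p ∉ Subgroup.zpowers σ).card = N := by
  obtain ⟨p, hp, hpz⟩ := exists_refl hX
  rw [Finset.card_eq_sum_ones, DihedralBlock.Order.sum_refl hX.rot hp hpz]
  simp

omit [M.IsMaximal] in
theorem card_rots : (Finset.univ.filter fun p : G => p ∈ Subgroup.zpowers σ).card = N := by
  rw [← Fintype.card_subtype, ← Nat.card_eq_fintype_card]
  exact (Nat.card_zpowers σ).trans hX.rot.order

omit [M.IsMaximal] in
/-- Conjugators between rotations. -/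
theorem card_conj {x y : G} (hx : x ∈ Subgroup.zpowers σ) (hx1 : x ≠ 1)
    (hy : y ∈ Subgroup.zpowers σ) :
    Nat.card {c : G // c * x * c⁻¹ = y} =
      Nat.card (kern σ N) * (N * ((if y = x then 1 else 0) + (if y = x⁻¹ then 1 else 0))) := by
  have hP : Nat.card {p : G // p ∈ (P : Subgroup G) ∧ p * x * p⁻¹ = y} =
      N * ((if y = x then 1 else 0) + (if y = x⁻¹ then 1 else 0)) := by
    rw [Nat.card_eq_fintype_card, Fintype.card_subtype,
      ← Finset.card_filter_add_card_filter_not (fun p : G => p ∈ Subgroup.zpowers σ),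
      Finset.filter_filter, Finset.filter_filter, mul_add, mul_ite, mul_ite, mul_one, mul_zero]
    congr 1
    · have e : ∀ p : G, ((p ∈ (P : Subgroup G) ∧ p * x * p⁻¹ = y) ∧ p ∈ Subgroup.zpowers σ) ↔
          (p ∈ Subgroup.zpowers σ ∧ y = x) := by
        refine fun p => ⟨fun ⟨⟨_, h⟩, hz⟩ => ⟨hz, ?_⟩, fun ⟨hz, h⟩ =>
          ⟨⟨hX.rot.zpowers_le hz, ?_⟩, hz⟩⟩
        all_goals
          obtain ⟨a, rfl⟩ := Subgroup.mem_zpowers_iff.1 hz
          obtain ⟨b, rfl⟩ := Subgroup.mem_zpowers_iff.1 hx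
        · rw [← h, ((Commute.refl σ).zpow_zpow a b).eq, mul_inv_cancel_right]
        · rw [h, ((Commute.refl σ).zpow_zpow a b).eq, mul_inv_cancel_right]
      simp only [e]
      by_cases h : y = x <;> simp [h, card_rots hX]
    · have e : ∀ p : G, ((p ∈ (P : Subgroup G) ∧ p * x * p⁻¹ = y) ∧ p ∉ Subgroup.zpowers σ) ↔
          ((p ∈ (P : Subgroup G) ∧ p ∉ Subgroup.zpowers σ) ∧ y = x⁻¹) := by
        have hc : ∀ p ∈ (P : Subgroup G), p ∉ Subgroup.zpowers σ → p * x * p⁻¹ = x⁻¹ := by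
          intro p hp hz
          obtain ⟨b, rfl⟩ := Subgroup.mem_zpowers_iff.1 hx
          rw [← conj_zpow, (hX.rot.inverts p hp hz).2, inv_zpow]
        exact fun p => ⟨fun ⟨⟨hp, h⟩, hz⟩ => ⟨⟨hp, hz⟩, by rw [← h, hc p hp hz]⟩,
          fun ⟨⟨hp, hz⟩, h⟩ => ⟨⟨hp, by rw [h, hc p hp hz]⟩, hz⟩⟩
      simp only [e]
      by_cases h : y = x⁻¹ <;> simp [h, card_refls hX]
  rw [← hP, ← Nat.card_prod]
  symm
  refine Nat.card_congr (Equiv.ofBijective (fun a => ⟨(a.1 : G) * a.2.1, ?_⟩) ⟨?_, ?_⟩)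
  · calc (a.1 : G) * a.2.1 * x * ((a.1 : G) * a.2.1)⁻¹ =
        (a.1 : G) * (a.2.1 * x * a.2.1⁻¹) * (a.1 : G)⁻¹ := by group
      _ = y := by
        rw [a.2.2.2, ← (commute_rot_kern hX hy a.1.2).eq, mul_inv_cancel_right]
  · intro a b e
    have e' : (a.1 : G) * a.2.1 = b.1 * b.2.1 := congrArg Subtype.val e
    have h2 := coset_unique hX.rot a.2.2.1 b.2.2.1 (show a.2.1 * b.2.1⁻¹ ∈ kern σ N by
      have : a.2.1 * b.2.1⁻¹ = (a.1 : G)⁻¹ * b.1 := by
        calc a.2.1 * b.2.1⁻¹ = (a.1 : G)⁻¹ * ((a.1 : G) * a.2.1) * b.2.1⁻¹ := by group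
          _ = _ := by rw [e']; group
      rw [this]
      exact mul_mem (inv_mem a.1.2) b.1.2)
    rw [h2] at e'
    exact Prod.ext (Subtype.ext (mul_right_cancel e')) (Subtype.ext h2)
  · rintro ⟨c, hc⟩
    obtain ⟨p, hp, hk⟩ := exists_coset hX.rot (mem_centralizer_of_conj hX hx hx1 hy hc)
    have hxy : p * x * p⁻¹ = y := by
      have hw := conj_rot_mem hX hp hx
      calc p * x * p⁻¹ = (c * p⁻¹) * (p * x * p⁻¹) * (c * p⁻¹)⁻¹ := by
            rw [← (commute_rot_kern hX hw hk).eq, mul_inv_cancel_right]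
        _ = c * x * c⁻¹ := by group
        _ = y := hc
    exact ⟨(⟨c * p⁻¹, hk⟩, ⟨p, hp, hxy⟩), Subtype.ext (inv_mul_cancel_right c p)⟩

omit [M.IsMaximal] in
theorem conj_fx {k : G} (hk : k ∈ kern σ N) : conj (fx φ k) = fx φ k⁻¹ := by
  have h1 : fx φ k * fx φ k⁻¹ = 1 := by rw [mul_comm, fx_inv_mul φ hk]
  have hn : ‖fx φ k‖ = 1 := by
    rw [fx_of_mem φ hk]
    refine Complex.norm_eq_one_of_pow_eq_one (n := Nat.card (kern σ N)) ?_ Nat.card_pos.ne'
    rw [← Units.val_pow_eq_pow_val, ← map_pow, pow_card_eq_one', map_one, Units.val_one]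
  rw [← inv_eq_of_mul_eq_one_right h1, Complex.inv_eq_conj hn]

/-- `|K| d` is the twisted sum over a coset. -/
theorem card_mul_d (χ : Cfsg.IrrCharacter G) (y : G) :
    (Nat.card (kern σ N) : ℂ) * d (φ := φ) M hM χ y =
      ∑ k : ↥(kern σ N), fx φ (k : G)⁻¹ * (χ : G → ℂ) (y * k) := by
  rw [d, Finset.mul_sum, ← Finset.sum_subset (Finset.subset_univ
      (Finset.univ.filter fun g : G => g ∈ kern σ N)) (fun g _ hg => by
        rw [ec_of_notMem φ M hM (fun h => hg (Finset.mem_filter.2 ⟨Finset.mem_univ _, h⟩)),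
          ZeroMemClass.coe_zero, zero_mul, mul_zero]),
    Finset.sum_subtype _ (p := fun g => g ∈ kern σ N) (fun g => by simp)]
  refine Finset.sum_congr rfl fun k _ => ?_
  rw [coe_ec, ← mul_assoc, ← mul_assoc, mul_inv_cancel₀ (Nat.cast_ne_zero.2 Nat.card_pos.ne'),
    one_mul]

/-- Column orthogonality of the averaged values. -/
theorem sum_d [Fintype (Cfsg.IrrCharacter G)] {x y : G} (hx : x ∈ Subgroup.zpowers σ)
    (hx1 : x ≠ 1) (hy : y ∈ Subgroup.zpowers σ) :
    ∑ χ : Cfsg.IrrCharacter G, d (φ := φ) M hM χ x * conj (d (φ := φ) M hM χ y) =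
      (N : ℂ) * ((if y = x then 1 else 0) + (if y = x⁻¹ then 1 else 0)) := by
  have hK : (Nat.card (kern σ N) : ℂ) ≠ 0 := Nat.cast_ne_zero.2 Nat.card_pos.ne'
  refine mul_left_cancel₀ (mul_ne_zero hK hK) ?_
  have hcol : ∀ g h : (kern σ N), ∑ χ : Cfsg.IrrCharacter G, (χ : G → ℂ) (x * g) * conj ((χ : G → ℂ) (y * h)) =
      (Nat.card {c : G // c * (x * g) * c⁻¹ = y * h} : ℂ) := by
    intro g h
    rw [sum_irr_mul_conj]
    split_ifs with hc
    · obtain ⟨c, hc⟩ := isConj_iff.1 hc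
      refine Nat.cast_inj.2 (Nat.card_congr
        { toFun := fun z => ⟨c * z.1, ?_⟩
          invFun := fun w => ⟨c⁻¹ * w.1, ?_⟩
          left_inv := fun z => Subtype.ext (inv_mul_cancel_left _ _)
          right_inv := fun w => Subtype.ext (mul_inv_cancel_left _ _) })
      · calc c * z.1 * (x * g) * (c * z.1)⁻¹ = c * (z.1 * (x * g)) * z.1⁻¹ * c⁻¹ := by group
          _ = c * ((x * g) * z.1) * z.1⁻¹ * c⁻¹ := by
            rw [Subgroup.mem_centralizer_singleton_iff.1 z.2]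
          _ = y * h := by rw [← hc]; group
      · rw [Subgroup.mem_centralizer_singleton_iff]
        calc c⁻¹ * w.1 * (x * g) = c⁻¹ * (w.1 * (x * g) * w.1⁻¹) * w.1 := by group
          _ = c⁻¹ * (c * (x * g) * c⁻¹) * w.1 := by rw [w.2, hc]
          _ = _ := by group
    · rw [eq_comm, Nat.cast_eq_zero]
      haveI : IsEmpty {c : G // c * (x * g) * c⁻¹ = y * h} :=
        ⟨fun c => hc (isConj_iff.2 ⟨c.1, c.2⟩)⟩
      exact Nat.card_of_isEmpty
  have hterm : ∀ (g : (kern σ N)) (c : G), ∑ h : (kern σ N), fx φ (g : G)⁻¹ * conj (fx φ (h : G)⁻¹) *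
      (if c * (x * g) * c⁻¹ = y * h then 1 else 0) = if c * x * c⁻¹ = y then 1 else 0 := by
    intro g c
    by_cases hc : c * x * c⁻¹ = y
    · have hcC := mem_centralizer_of_conj hX hx hx1 hy hc
      have hh : c * (g : G) * c⁻¹ ∈ (kern σ N) := kern_conj hcC g.2
      have heq : c * (x * g) * c⁻¹ = y * (c * (g : G) * c⁻¹) := by rw [← hc]; group
      rw [if_pos hc, Finset.sum_eq_single ⟨_, hh⟩]
      · rw [if_pos heq, mul_one, conj_fx hX (inv_mem hh), inv_inv]
        rw [fx_conj hX (hz_eq (σ := σ) (N := N) ▸ hcC)]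
        exact fx_inv_mul φ g.2
      · intro h _ hne
        rw [if_neg, mul_zero]
        exact fun e => hne (Subtype.ext (mul_left_cancel (e.symm.trans heq)))
      · exact fun h => absurd (Finset.mem_univ _) h
    · rw [if_neg hc]
      refine Finset.sum_eq_zero fun h _ => ?_
      rw [if_neg, mul_zero]
      intro e
      have hcC : c ∈ Subgroup.centralizer ({σ ^ (N / 2)} : Set G) := by
        obtain ⟨i, hi⟩ := Subgroup.mem_zpowers_iff.1 (half_mem_zpowers hX hx hx1)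
        set k := (Nat.card (kern σ N)) with hk
        have hpow : ∀ (z : G), z ∈ Subgroup.zpowers σ → ∀ w : (kern σ N),
            (z * (w : G)) ^ k = z ^ k := fun z hz w => by
          rw [(commute_rot_kern hX hz w.2).mul_pow, hk,
            show (w : G) ^ Nat.card (kern σ N) = 1 by
              rw [← Subgroup.coe_pow, pow_card_eq_one', Subgroup.coe_one], mul_one]
        have h1 := congrArg (fun z => z ^ k) e
        simp only [conj_pow, hpow x hx g, hpow y hy h] at h1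
        have hne : x ^ k ≠ 1 := by
          intro h0
          obtain ⟨j, hj⟩ := hX.rot.isPow hx
          have h2 : orderOf x ∣ k := orderOf_dvd_of_pow_eq_one h0
          have h3 := Nat.eq_one_of_dvd_coprimes (a := 2 ^ j) (b := k)
            ((Nat.coprime_two_left.2 (hk ▸ card_kern_odd)).pow_left j) (hj ▸ dvd_rfl) h2
          exact hx1 (orderOf_eq_one_iff.1 h3)
        exact mem_centralizer_of_conj hX (pow_mem hx k) hne (pow_mem hy k) h1
      obtain ⟨p, hp, hcp⟩ := exists_coset hX.rot hcC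
      refine hc ?_
      have hw := conj_rot_mem hX hp hx
      have hxc : c * x * c⁻¹ = p * x * p⁻¹ := by
        calc c * x * c⁻¹ = (c * p⁻¹) * (p * x * p⁻¹) * (c * p⁻¹)⁻¹ := by group
          _ = p * x * p⁻¹ := by rw [← (commute_rot_kern hX hw hcp).eq, mul_inv_cancel_right]
      have hce : c * x * c⁻¹ * (c * (g : G) * c⁻¹) = y * (h : G) := by rw [← e]; group
      exact (rot_kern_unique hX (hxc ▸ hw) hy (kern_conj hcC g.2) h.2 hce).1
  calc (Nat.card (kern σ N) : ℂ) * Nat.card (kern σ N) *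
        ∑ χ : Cfsg.IrrCharacter G, d (φ := φ) M hM χ x * conj (d (φ := φ) M hM χ y) =
      ∑ χ : Cfsg.IrrCharacter G, (∑ g : (kern σ N), fx φ (g : G)⁻¹ * (χ : G → ℂ) (x * g)) *
        conj (∑ h : (kern σ N), fx φ (h : G)⁻¹ * (χ : G → ℂ) (y * h)) := by
        rw [Finset.mul_sum]
        refine Finset.sum_congr rfl fun χ _ => ?_
        rw [← card_mul_d hX M hM, ← card_mul_d hX M hM, map_mul, map_natCast]
        ring
    _ = ∑ g : (kern σ N), ∑ h : (kern σ N), fx φ (g : G)⁻¹ * conj (fx φ (h : G)⁻¹) *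
        (Nat.card {c : G // c * (x * g) * c⁻¹ = y * h} : ℂ) := by
        simp only [map_sum, map_mul, Finset.sum_mul_sum]
        rw [Finset.sum_comm]
        refine Finset.sum_congr rfl fun g _ => ?_
        rw [Finset.sum_comm]
        refine Finset.sum_congr rfl fun h _ => ?_
        rw [← hcol, Finset.mul_sum]
        exact Finset.sum_congr rfl fun χ _ => by ring
    _ = ∑ g : (kern σ N), (Nat.card {c : G // c * x * c⁻¹ = y} : ℂ) := by
        refine Finset.sum_congr rfl fun g _ => ?_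
        simp only [Nat.card_eq_fintype_card, Fintype.card_subtype, ← Finset.sum_boole,
          Finset.mul_sum]
        rw [Finset.sum_comm]
        exact Finset.sum_congr rfl fun c _ => hterm g c
    _ = _ := by
        rw [Finset.sum_const, Finset.card_univ, ← Nat.card_eq_fintype_card, nsmul_eq_mul,
          card_conj hX hx hx1 hy]
        push_cast
        ring

/-- The averaged value at a nontrivial rotation is orthogonal to the degrees. -/
theorem sum_degree_mul_d [Fintype (Cfsg.IrrCharacter G)] {y : G} (hy : y ∈ Subgroup.zpowers σ)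
    (hy1 : y ≠ 1) :
    ∑ χ : Cfsg.IrrCharacter G, (χ : G → ℂ) 1 * d (φ := φ) M hM χ y = 0 := by
  simp only [d, Finset.mul_sum]
  rw [Finset.sum_comm]
  refine Finset.sum_eq_zero fun g _ => ?_
  by_cases hg : g ∈ kern σ N
  · rw [Finset.sum_congr rfl (g := fun χ : Cfsg.IrrCharacter G => (ec φ M hM g : ℂ) *
      ((χ : G → ℂ) 1 * (χ : G → ℂ) (y * g))) fun χ _ => by ring, ← Finset.mul_sum,
      sum_degree_mul_apply, if_neg, mul_zero]
    intro e
    exact hy1 (coset_unique hX.rot (hX.rot.zpowers_le hy) (one_mem _) (by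
      rw [inv_one, mul_one, eq_inv_of_mul_eq_one_left e]; exact inv_mem hg))
  · simp [ec_of_notMem φ M hM hg]

/-! ## Multiplicities -/

variable [NeZero N] {ζ : ℂ} (hζ : IsPrimitiveRoot ζ N)

theorem exists_mult (χ : Cfsg.IrrCharacter G) (i : ZMod N) :
    ∃ k : ℕ, ∑ x : ZMod N, d (φ := φ) M hM χ (rot σ x) * expn hζ (-(i * x)) = (N : ℂ) * k := by
  have hσ := hX.rot.order
  let ψ : Multiplicative (ZMod N) × ↥(kern σ N) →* G :=
    { toFun := fun a => rot σ a.1.toAdd * a.2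
      map_one' := by simp [rot_zero]
      map_mul' := fun a b => by
        simp only [Prod.fst_mul, Prod.snd_mul, toAdd_mul, Subgroup.coe_mul, rot_add hσ]
        exact Commute.mul_mul_mul_comm (commute_rot_kern hX (rot_mem σ _) a.2.2) _ _ }
  let lam : Multiplicative (ZMod N) × ↥(kern σ N) →* ℂ :=
    ((expn hζ).mulShift i).toMonoidHom.comp (MonoidHom.fst _ _) *
      ((Units.coeHom ℂ).comp φ).comp (MonoidHom.snd _ _)
  obtain ⟨k, hk⟩ := exists_classInner_nat (isCharacter_comp ψ (isCharacter_irr χ))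
    (Cfsg.Agent.Lib.Brauer.Elementary.isCharacter_hom lam)
  refine ⟨k, ?_⟩
  have hK : (Nat.card (kern σ N) : ℂ) ≠ 0 := Nat.cast_ne_zero.2 Nat.card_pos.ne'
  rw [Cfsg.classInner, Nat.card_prod, Nat.card_eq_fintype_card (α := Multiplicative (ZMod N)),
    Fintype.card_multiplicative, ZMod.card, Nat.cast_mul,
    inv_mul_eq_iff_eq_mul₀ (mul_ne_zero (Nat.cast_ne_zero.2 (NeZero.ne N)) hK)] at hk
  refine mul_left_cancel₀ hK ?_
  rw [show (Nat.card (kern σ N) : ℂ) * ((N : ℂ) * k) = N * Nat.card (kern σ N) * k by ring, ← hk,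
    Fintype.sum_prod_type, Finset.mul_sum]
  refine Fintype.sum_equiv Multiplicative.ofAdd _ _ fun x => ?_
  rw [← mul_assoc, card_mul_d hX M hM, Finset.sum_mul]
  refine Finset.sum_congr rfl fun g _ => ?_
  show _ = (χ : G → ℂ) (rot σ x * g) * conj (expn hζ (i * x) * (φ g : ℂ))
  rw [map_mul, conj_expn, ← fx_of_mem φ g.2, conj_fx hX g.2]
  ring

/-- The multiplicity of `λ_i ⊗ φ` on `⟨σ⟩ × K`. -/
noncomputable def mult (χ : Cfsg.IrrCharacter G) (i : ZMod N) : ℕ :=
  (exists_mult hX M hM hζ χ i).choose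

theorem mult_spec (χ : Cfsg.IrrCharacter G) (i : ZMod N) :
    ∑ x : ZMod N, d (φ := φ) M hM χ (rot σ x) * expn hζ (-(i * x)) =
      (N : ℂ) * mult hX M hM hζ χ i :=
  (exists_mult hX M hM hζ χ i).choose_spec

/-- Fourier inversion. -/
theorem d_rot (χ : Cfsg.IrrCharacter G) (x : ZMod N) :
    d (φ := φ) M hM χ (rot σ x) = ∑ i : ZMod N, (mult hX M hM hζ χ i : ℂ) * expn hζ (i * x) := by
  refine mul_left_cancel₀ (Nat.cast_ne_zero.2 (NeZero.ne N) : (N : ℂ) ≠ 0) ?_
  simp only [Finset.mul_sum, ← mul_assoc, ← mult_spec, Finset.sum_mul]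
  rw [Finset.sum_comm, Finset.sum_eq_single x]
  · simp only [mul_assoc, ← AddChar.map_add_eq_mul, neg_add_cancel, AddChar.map_zero_eq_one,
      mul_one, Finset.sum_const, Finset.card_univ, ZMod.card, nsmul_eq_mul]
  · intro y _ hy
    simp only [mul_assoc, ← AddChar.map_add_eq_mul, ← Finset.mul_sum]
    rw [Finset.sum_congr rfl (g := fun i => expn hζ ((x - y) * i)) fun i _ => by congr 1; ring,
      sum_expn, if_neg (sub_ne_zero.2 (Ne.symm hy)), mul_zero]
  · exact fun h => absurd (Finset.mem_univ x) h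

theorem rot_ne_one {x : ZMod N} (hx : x ≠ 0) : rot σ x ≠ 1 :=
  fun e => hx (rot_injective hX.rot.order (e.trans rot_zero.symm))

theorem diff_spec (χ : Cfsg.IrrCharacter G) (i k : ZMod N) :
    (N : ℂ) * ((mult hX M hM hζ χ i : ℤ) - mult hX M hM hζ χ k : ℤ) =
      ∑ x : ZMod N, d (φ := φ) M hM χ (rot σ x) * (expn hζ (-(i * x)) - expn hζ (-(k * x))) := by
  push_cast
  rw [mul_sub, ← mult_spec, ← mult_spec, ← Finset.sum_sub_distrib]
  simp only [mul_sub]

/-- The inner products of differences of multiplicities. -/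
theorem inner_diff [Fintype (Cfsg.IrrCharacter G)] (i k i' k' : ZMod N) :
    ∑ χ : Cfsg.IrrCharacter G, ((mult hX M hM hζ χ i : ℤ) - mult hX M hM hζ χ k) *
        ((mult hX M hM hζ χ i' : ℤ) - mult hX M hM hζ χ k') =
      ((if i' = i then (1 : ℤ) else 0) - (if k' = i then 1 else 0) - (if i' = k then 1 else 0) +
        (if k' = k then 1 else 0)) + ((if i' = -i then (1 : ℤ) else 0) - (if k' = -i then 1 else 0) -
        (if i' = -k then 1 else 0) + (if k' = -k then 1 else 0)) := by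
  set kr : ZMod N → ZMod N → ZMod N → ℂ := fun i k x => expn hζ (-(i * x)) - expn hζ (-(k * x))
    with hkr
  have hN : (N : ℂ) ≠ 0 := Nat.cast_ne_zero.2 (NeZero.ne N)
  apply Int.cast_injective (α := ℂ)
  refine mul_left_cancel₀ (mul_ne_zero hN hN) ?_
  have hexp : (N : ℂ) * N * ((∑ χ : Cfsg.IrrCharacter G,
        ((mult hX M hM hζ χ i : ℤ) - mult hX M hM hζ χ k) *
        ((mult hX M hM hζ χ i' : ℤ) - mult hX M hM hζ χ k') : ℤ) : ℂ) =
      ∑ x : ZMod N, ∑ y : ZMod N, kr i k x * conj (kr i' k' y) *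
        ∑ χ : Cfsg.IrrCharacter G,
          d (φ := φ) M hM χ (rot σ x) * conj (d (φ := φ) M hM χ (rot σ y)) := by
    rw [Int.cast_sum, Finset.mul_sum]
    simp only [Finset.mul_sum]
    conv_rhs => enter [2, x]; rw [Finset.sum_comm]
    rw [Finset.sum_comm]
    refine Finset.sum_congr rfl fun χ _ => ?_
    have h1 := diff_spec hX M hM hζ χ i k
    have h2 : (N : ℂ) * ((mult hX M hM hζ χ i' : ℤ) - mult hX M hM hζ χ k' : ℤ) =
        ∑ y : ZMod N, conj (d (φ := φ) M hM χ (rot σ y)) * conj (kr i' k' y) := by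
      have h := congrArg conj (diff_spec hX M hM hζ χ i' k')
      rw [map_mul, map_natCast, map_intCast, map_sum] at h
      rw [h]
      exact Finset.sum_congr rfl fun y _ => map_mul _ _ _
    rw [Int.cast_mul, mul_mul_mul_comm, h1, h2, Finset.sum_mul_sum]
    exact Finset.sum_congr rfl fun x _ => Finset.sum_congr rfl fun y _ => by simp only [hkr]; ring
  rw [hexp]
  have hrow : ∀ x : ZMod N, ∑ y : ZMod N, kr i k x * conj (kr i' k' y) *
        ∑ χ : Cfsg.IrrCharacter G,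
          d (φ := φ) M hM χ (rot σ x) * conj (d (φ := φ) M hM χ (rot σ y)) =
      (N : ℂ) * (kr i k x * (kr i' k' (-x) + kr i' k' x)) := by
    intro x
    have hc : ∀ z : ZMod N, conj (kr i' k' z) = kr i' k' (-z) := fun z => by
      simp [hkr, map_sub, conj_expn]
    by_cases hx : x = 0
    · subst hx; simp [hkr]
    have hs : ∀ y : ZMod N, kr i k x * conj (kr i' k' y) * ∑ χ : Cfsg.IrrCharacter G,
        d (φ := φ) M hM χ (rot σ x) * conj (d (φ := φ) M hM χ (rot σ y)) =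
        (if y = x then (N : ℂ) * (kr i k x * kr i' k' (-y)) else 0) +
          (if y = -x then (N : ℂ) * (kr i k x * kr i' k' (-y)) else 0) := fun y => by
      rw [sum_d hX M hM (rot_mem σ x) (rot_ne_one hX hx) (rot_mem σ y), hc, ← rot_neg hX.rot.order,
        (rot_injective hX.rot.order).eq_iff, (rot_injective hX.rot.order).eq_iff]
      split_ifs <;> ring
    simp only [hs, Finset.sum_add_distrib, Finset.sum_ite_eq', Finset.mem_univ, if_true, neg_neg]
    ring
  rw [Finset.sum_congr rfl fun x _ => hrow x]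
  simp only [← Finset.mul_sum, mul_add, Finset.sum_add_distrib, hkr, mul_sub, sub_mul,
    ← AddChar.map_add_eq_mul, Finset.sum_sub_distrib]
  have e1 : ∀ a b : ZMod N, ∑ x : ZMod N, expn hζ (-(a * x) + -(b * -x)) =
      if b = a then (N : ℂ) else 0 := fun a b => by
    rw [Finset.sum_congr rfl (g := fun x => expn hζ ((b - a) * x)) fun x _ => by congr 1; ring,
      sum_expn]
    simp only [sub_eq_zero]
  have e2 : ∀ a b : ZMod N, ∑ x : ZMod N, expn hζ (-(a * x) + -(b * x)) =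
      if b = -a then (N : ℂ) else 0 := fun a b => by
    rw [Finset.sum_congr rfl (g := fun x => expn hζ ((-a - b) * x)) fun x _ => by congr 1; ring,
      sum_expn]
    simp only [sub_eq_zero, eq_comm]
  simp only [e1, e2]
  push_cast
  simp only [mul_ite, mul_zero, mul_one, mul_add, mul_sub]
  ring

theorem mult_neg (χ : Cfsg.IrrCharacter G) (i : ZMod N) :
    mult hX M hM hζ χ (-i) = mult hX M hM hζ χ i := by
  haveI := Fintype.ofFinite (Cfsg.IrrCharacter G)
  have h := inner_diff hX M hM hζ i (-i) i (-i)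
  have h0 : ∑ χ : Cfsg.IrrCharacter G, ((mult hX M hM hζ χ i : ℤ) - mult hX M hM hζ χ (-i)) *
      ((mult hX M hM hζ χ i : ℤ) - mult hX M hM hζ χ (-i)) = 0 := by
    rw [h]
    simp only [neg_neg, if_true, eq_comm (a := -i) (b := i)]
    split_ifs <;> norm_num
  have := (Finset.sum_eq_zero_iff_of_nonneg fun χ _ => mul_self_nonneg _).1 h0 χ (Finset.mem_univ _)
  have := sub_eq_zero.1 (mul_self_eq_zero.1 this)
  exact_mod_cast this.symm

/-! ## The vectors -/

/-- The vectors of the block. -/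
noncomputable def wv (j : ℕ) (χ : Cfsg.IrrCharacter G) : ℤ :=
  (mult hX M hM hζ χ 0 : ℤ) - mult hX M hM hζ χ (j : ZMod N)

/-- The value at `t`. -/
noncomputable def Cv (χ : Cfsg.IrrCharacter G) : ℤ :=
  -wv hX M hM hζ (N / 2) χ +
    2 * ∑ j ∈ Finset.Ico 1 (N / 2), (-1) ^ (j + 1) * wv hX M hM hζ j χ

/-- The two-element sums of roots of unity. -/
noncomputable def cc (j : ℕ) : ℂ := expn hζ (j : ZMod N) + expn hζ (-(j : ZMod N))

omit [M.IsMaximal] in
theorem half_even : 2 ∣ N / 2 ∧ 2 * (N / 2) = N ∧ 2 ≤ N / 2 := by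
  have := hX.rot.four_dvd
  have := hX.rot.four_le
  omega

omit [M.IsMaximal] in
theorem expn_half : expn hζ ((N / 2 : ℕ) : ZMod N) = -1 := by
  obtain ⟨-, h2, h3⟩ := half_even hX
  rw [expn_natCast]
  refine (IsPrimitiveRoot.pow (a := N / 2) (b := 2) (by omega) hζ ?_).eq_neg_one_of_two_right
  omega

omit [M.IsMaximal] in
theorem sum_cc : ∑ j ∈ Finset.Ico 1 (N / 2), cc hζ j = 0 := by
  obtain ⟨-, h2, h3⟩ := half_even hX
  have h := sum_fold (N := N) ⟨N / 2, h2.symm⟩ (fun x : ZMod N => expn hζ x)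
  have h1 := sum_expn hζ (1 : ZMod N)
  simp only [one_mul] at h1
  rw [h1, if_neg ?_, AddChar.map_zero_eq_one, expn_half hX hζ, add_neg_cancel, zero_add] at h
  · exact h.symm
  · intro e
    haveI : Fact (1 < N) := ⟨by omega⟩
    exact one_ne_zero e

omit [M.IsMaximal] in
theorem cc_two (h4 : N / 2 = 4) : cc hζ 2 = 0 := by
  obtain ⟨-, h2, -⟩ := half_even hX
  have e : -((2 : ℕ) : ZMod N) = ((2 : ℕ) : ZMod N) + ((N / 2 : ℕ) : ZMod N) := by
    rw [neg_eq_iff_add_eq_zero, ← Nat.cast_add, ← Nat.cast_add, ZMod.natCast_eq_zero_iff, h4]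
    exact ⟨1, by omega⟩
  rw [cc, e, AddChar.map_add_eq_mul, expn_half hX hζ]
  ring

/-- The averaged values at the nontrivial rotations. -/
theorem d_fold (χ : Cfsg.IrrCharacter G) {x : ZMod N} (hx : x ≠ 0) :
    d (φ := φ) M hM χ (rot σ x) =
      -((wv hX M hM hζ (N / 2) χ : ℂ) * expn hζ (((N / 2 : ℕ) : ZMod N) * x)) -
      ∑ i ∈ Finset.Ico 1 (N / 2), (wv hX M hM hζ i χ : ℂ) *
        (expn hζ ((i : ZMod N) * x) + expn hζ (-((i : ZMod N) * x))) := by
  obtain ⟨-, h2, h3⟩ := half_even hX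
  set μ0 : ℂ := (mult hX M hM hζ χ 0 : ℂ)
  have h0 : (0 : ℂ) = ∑ i : ZMod N, μ0 * expn hζ (i * x) := by
    rw [← Finset.mul_sum, Finset.sum_congr rfl (g := fun i => expn hζ (x * i)) fun i _ => by
      rw [mul_comm], sum_expn, if_neg hx, mul_zero]
  rw [d_rot hX M hM hζ, ← sub_zero (∑ i : ZMod N, _), h0, ← Finset.sum_sub_distrib,
    sum_fold ⟨N / 2, h2.symm⟩, sub_eq_add_neg _ (Finset.sum _ _), ← Finset.sum_neg_distrib]
  congr 1
  · simp only [wv, μ0, zero_mul, AddChar.map_zero_eq_one]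
    push_cast
    ring
  · refine Finset.sum_congr rfl fun i _ => ?_
    rw [mult_neg hX M hM hζ, neg_mul]
    simp only [wv, μ0]
    push_cast
    ring

theorem d_half (χ : Cfsg.IrrCharacter G) :
    d (φ := φ) M hM χ (σ ^ (N / 2)) = (Cv hX M hM hζ χ : ℂ) := by
  obtain ⟨⟨k, hk⟩, h2, h3⟩ := half_even hX
  have hm : ((N / 2 : ℕ) : ZMod N) ≠ 0 := by
    rw [Ne, ZMod.natCast_eq_zero_iff]
    exact fun h => by have := Nat.le_of_dvd (by omega) h; omega
  have hpow : ∀ i : ℕ, expn hζ ((i : ZMod N) * ((N / 2 : ℕ) : ZMod N)) = (-1) ^ i := fun i => by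
    rw [← nsmul_eq_mul, AddChar.map_nsmul_eq_pow, expn_half hX hζ]
  rw [← rot_natCast hX.rot.order, d_fold hX M hM hζ χ hm, hpow, hk, pow_mul, neg_one_sq, one_pow,
    mul_one, Cv, ← hk]
  push_cast
  rw [sub_eq_add_neg, ← Finset.sum_neg_distrib, Finset.mul_sum]
  refine congrArg _ (Finset.sum_congr rfl fun i _ => ?_)
  rw [AddChar.map_neg_eq_inv, hpow, ← inv_pow, show ((-1 : ℂ))⁻¹ = -1 by norm_num, pow_succ]
  ring

theorem d_gen (χ : Cfsg.IrrCharacter G) :
    d (φ := φ) M hM χ σ = CoinvariantComb.ds (N / 2) (fun j χ => wv hX M hM hζ j χ) (cc hζ) χ := by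
  obtain ⟨-, h2, h3⟩ := half_even hX
  have h1 : (1 : ZMod N) ≠ 0 := by
    haveI : Fact (1 < N) := ⟨by omega⟩
    exact one_ne_zero
  have e := rot_natCast hX.rot.order 1
  rw [Nat.cast_one, pow_one] at e
  refine Eq.trans (congrArg (d (φ := φ) M hM χ) e.symm) ?_
  rw [d_fold hX M hM hζ χ h1, CoinvariantComb.ds, mul_one, expn_half hX hζ]
  simp only [mul_one, cc, mul_neg, neg_neg]

theorem d_one (χ : Cfsg.IrrCharacter G) : d (φ := φ) M hM χ 1 =
    (((N : ℤ) * mult hX M hM hζ χ 0 - wv hX M hM hζ (N / 2) χ -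
      2 * ∑ j ∈ Finset.Ico 1 (N / 2), wv hX M hM hζ j χ : ℤ) : ℂ) := by
  obtain ⟨-, h2, h3⟩ := half_even hX
  have h := d_rot hX M hM hζ χ 0
  rw [rot_zero] at h
  rw [h]
  simp only [mul_zero, AddChar.map_zero_eq_one, mul_one]
  rw [sum_fold ⟨N / 2, h2.symm⟩]
  obtain ⟨m, hm⟩ : ∃ m, N / 2 = m := ⟨_, rfl⟩
  rw [hm] at h2 h3 ⊢
  simp only [mult_neg hX M hM hζ, wv, Finset.sum_sub_distrib, Finset.sum_const, Nat.card_Ico,
    Finset.sum_add_distrib]
  push_cast
  rw [nsmul_eq_mul, Nat.cast_sub (by omega : 1 ≤ m),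
    show ((N : ℂ)) = 2 * (m : ℂ) by exact_mod_cast h2.symm]
  push_cast
  ring

/-- The sum over the nontrivial rotations is an integer. -/
theorem sum_d_rot (χ : Cfsg.IrrCharacter G) :
    ∑ l ∈ Finset.Ico 1 N, d (φ := φ) M hM χ (σ ^ l) =
      ((wv hX M hM hζ (N / 2) χ + 2 * ∑ j ∈ Finset.Ico 1 (N / 2), wv hX M hM hζ j χ : ℤ) : ℂ) := by
  have hN : 0 < N := Nat.pos_of_ne_zero (NeZero.ne N)
  have hs : ∑ x : ZMod N, d (φ := φ) M hM χ (rot σ x) = (N : ℂ) * mult hX M hM hζ χ 0 := by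
    rw [← mult_spec]
    simp [AddChar.map_zero_eq_one]
  have hr : ∑ x : ZMod N, d (φ := φ) M hM χ (rot σ x) =
      ∑ l ∈ Finset.range N, d (φ := φ) M hM χ (σ ^ l) := by
    rw [Finset.sum_congr rfl fun l hl => congrArg (d (φ := φ) M hM χ)
      (rot_natCast hX.rot.order l).symm]
    exact (Finset.sum_nbij' (fun i : ℕ => (i : ZMod N)) ZMod.val (fun i _ => Finset.mem_univ _)
      (fun x _ => Finset.mem_range.2 x.val_lt)
      (fun i hi => ZMod.val_cast_of_lt (Finset.mem_range.1 hi))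
      (fun x _ => ZMod.natCast_zmod_val x) fun i _ => rfl).symm
  rw [hr, Finset.range_eq_Ico, Finset.sum_eq_sum_Ico_succ_bot hN, pow_zero,
    d_one hX M hM hζ, zero_add] at hs
  push_cast at hs ⊢
  linear_combination hs

/-! ## The block -/

variable [CharP (Res M) 2]

/-- The block as a finite set. -/
noncomputable def bs : Finset (Cfsg.IrrCharacter G) :=
  (Set.toFinite (toSet (psi M hX))).toFinset

theorem mem_bs {χ : Cfsg.IrrCharacter G} : χ ∈ bs hX M ↔ χ ∈ toSet (psi M hX) :=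
  Set.Finite.mem_toFinset _

/-- The degree. -/
noncomputable def Fv (χ : Cfsg.IrrCharacter G) : ℤ := ((exists_degree_pos χ).choose : ℤ)

omit hX in
theorem Fv_spec (χ : Cfsg.IrrCharacter G) : (χ : G → ℂ) 1 = (Fv χ : ℂ) ∧ 0 < Fv χ := by
  obtain ⟨h1, h2⟩ := (exists_degree_pos χ).choose_spec
  exact ⟨by rw [Fv, Int.cast_natCast]; exact h2, by rw [Fv]; exact_mod_cast h1⟩

theorem wv_eq_zero {χ : Cfsg.IrrCharacter G} (hχ : χ ∉ bs hX M) (j : ℕ) :
    wv hX M hM hζ j χ = 0 := by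
  have h := diff_spec hX M hM hζ χ 0 (j : ZMod N)
  rw [Finset.sum_eq_zero fun x _ => ?_] at h
  · exact Int.cast_eq_zero.1
      ((mul_eq_zero.1 h).resolve_left (Nat.cast_ne_zero.2 (NeZero.ne N)))
  · by_cases hx : x = 0
    · simp [hx]
    · rw [d_eq_zero M hM hX (mt (mem_bs hX M).2 hχ) (rot_mem σ x) (rot_ne_one hX hx), zero_mul]

theorem Cv_eq {χ : Cfsg.IrrCharacter G} (hχ : χ ∈ bs hX M) :
    (χ : G → ℂ) (σ ^ (N / 2)) = (Cv hX M hM hζ χ : ℂ) := by
  have h := apply_rot_kern M hM hX ((mem_bs hX M).1 hχ) (pow_mem (Subgroup.mem_zpowers σ) _)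
    hX.rot.half_ne (one_mem (kern σ N))
  rwa [mul_one, fx_one, one_mul, d_half hX M hM hζ] at h

omit [M.IsMaximal] in
theorem sum_alt : ∑ j ∈ Finset.Ico 1 (N / 2), (-1 : ℤ) ^ (j + 1) = 1 := by
  obtain ⟨⟨k, hk⟩, -, h3⟩ := half_even hX
  have : ∀ i : ℕ, ∑ j ∈ Finset.Ico 1 (2 * (i + 1)), (-1 : ℤ) ^ (j + 1) = 1 := by
    intro i
    induction i with
    | zero => decide
    | succ i ih =>
      rw [show 2 * (i + 1 + 1) = 2 * (i + 1) + 1 + 1 by ring, Finset.sum_Ico_succ_top (by omega),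
        Finset.sum_Ico_succ_top (by omega), ih]
      simp [pow_add, pow_mul]
  obtain ⟨i, rfl⟩ : ∃ i, k = i + 1 := ⟨k - 1, by omega⟩
  rw [hk]
  exact this i

omit [M.IsMaximal] in
theorem cast_facts {i j : ℕ} (hi : 1 ≤ i) (hi' : i ≤ N / 2) (hj : 1 ≤ j) (hj' : j ≤ N / 2) :
    (i : ZMod N) ≠ 0 ∧ ((j : ZMod N) = i ↔ i = j) ∧
      ((j : ZMod N) = -(i : ZMod N) ↔ i = N / 2 ∧ i = j) := by
  obtain ⟨-, h2, h3⟩ := half_even hX
  refine ⟨?_, ?_, ?_⟩
  · rw [Ne, ZMod.natCast_eq_zero_iff]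
    exact fun h => by have := Nat.le_of_dvd (by omega) h; omega
  · refine ⟨fun e => ?_, fun e => by rw [e]⟩
    have := congrArg ZMod.val e
    rw [ZMod.val_cast_of_lt (by omega), ZMod.val_cast_of_lt (by omega)] at this
    exact this.symm
  · rw [eq_neg_iff_add_eq_zero, ← Nat.cast_add, ZMod.natCast_eq_zero_iff]
    constructor
    · intro h
      have : N ≤ j + i := Nat.le_of_dvd (by omega) h
      omega
    · rintro ⟨rfl, rfl⟩
      exact ⟨1, by omega⟩

include hM in
/-- The data. -/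
theorem data : DihedralDefect.Comb.Data (N / 2)
    (fun j (χ : ↥(bs hX M)) => wv hX M hM hζ j χ.1) (fun χ => Cv hX M hM hζ χ.1) := by
  haveI := Fintype.ofFinite (Cfsg.IrrCharacter G)
  obtain ⟨-, h2, h3⟩ := half_even hX
  have hinner : ∀ i j, 1 ≤ i → i ≤ N / 2 → 1 ≤ j → j ≤ N / 2 →
      ∑ χ : ↥(bs hX M), wv hX M hM hζ i χ.1 * wv hX M hM hζ j χ.1 =
        2 + if i = j then (if i = N / 2 then 2 else 1) else 0 := by
    intro i j hi hi' hj hj'
    rw [Finset.sum_coe_sort (bs hX M) fun χ => wv hX M hM hζ i χ * wv hX M hM hζ j χ,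
      Finset.sum_subset (Finset.subset_univ _) fun χ _ hχ => by
        rw [wv_eq_zero hX M hM hζ hχ, zero_mul]]
    simp only [wv]
    rw [inner_diff]
    obtain ⟨i0, hji, hjn⟩ := cast_facts hX hi hi' hj hj'
    obtain ⟨j0, -, -⟩ := cast_facts hX hj hj' hi hi'
    simp only [neg_zero, if_true, if_neg i0, if_neg j0, if_neg (Ne.symm i0), if_neg (Ne.symm j0),
      zero_eq_neg, if_congr hji rfl rfl, if_congr hjn rfl rfl]
    by_cases hij : i = j
    · subst hij
      by_cases hm : i = N / 2 <;> simp [hm]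
    · simp [hij]
  refine ⟨h3, ?_, hinner, fun χ => rfl, fun χ h => ?_, ?_⟩
  · obtain ⟨k, hk⟩ := hX.rot.isPow (Subgroup.mem_zpowers σ)
    rw [hX.rot.order] at hk
    rcases k with _ | k
    · simp at hk; omega
    · exact ⟨k, by rw [hk, pow_succ', Nat.mul_div_cancel_left _ two_pos]⟩
  · have h1 := Cv_eq hX M hM hζ χ.2
    rw [h, Int.cast_zero] at h1
    exact half_ne_zero M hM hX ((mem_bs hX M).1 χ.2) h1
  · by_contra hall
    push Not at hall
    have heven : ∀ χ : ↥(bs hX M), Even (wv hX M hM hζ (N / 2) χ.1) := fun χ => by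
      have h := hall χ
      rw [Int.not_odd_iff_even, Cv, Int.even_add, even_neg] at h
      exact h.2 (even_two_mul _)
    have hn : ∑ χ : ↥(bs hX M), wv hX M hM hζ (N / 2) χ.1 * wv hX M hM hζ (N / 2) χ.1 = 4 := by
      rw [hinner _ _ (by omega) le_rfl (by omega) le_rfl, if_pos rfl, if_pos rfl]; norm_num
    obtain ⟨e, -, he⟩ := Finset.exists_ne_zero_of_sum_ne_zero (by rw [hn]; norm_num)
    have hw : wv hX M hM hζ (N / 2) e.1 ≠ 0 := fun h => he (by rw [h, zero_mul])
    obtain ⟨r, hr⟩ := heven e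
    have hle : 4 ≤ wv hX M hM hζ (N / 2) e.1 * wv hX M hM hζ (N / 2) e.1 := by
      have h1 : 0 < r * r := mul_self_pos.2 (by omega)
      rw [hr]; nlinarith
    rw [← Finset.add_sum_erase _ _ (Finset.mem_univ e)] at hn
    have hrest : 0 ≤ ∑ χ ∈ Finset.univ.erase e, wv hX M hM hζ (N / 2) (χ : ↥(bs hX M)).1 *
        wv hX M hM hζ (N / 2) χ.1 := Finset.sum_nonneg fun χ _ => mul_self_nonneg _
    have hz := (Finset.sum_eq_zero_iff_of_nonneg fun χ _ => mul_self_nonneg _).1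
      (le_antisymm (by linarith) hrest)
    have hj : ∀ j ∈ Finset.Ico 1 (N / 2),
        2 * wv hX M hM hζ j e.1 = wv hX M hM hζ (N / 2) e.1 := by
      intro j hj
      obtain ⟨hj1, hj2⟩ := Finset.mem_Ico.1 hj
      have h := hinner (N / 2) j (by omega) le_rfl hj1 hj2.le
      rw [if_neg (by omega), add_zero, Finset.sum_eq_single e (fun χ _ hne => by
        rw [mul_self_eq_zero.1 (hz χ (Finset.mem_erase.2 ⟨hne, Finset.mem_univ _⟩)), zero_mul])
        (fun h => absurd (Finset.mem_univ e) h)] at h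
      have h4 : wv hX M hM hζ (N / 2) e.1 * wv hX M hM hζ (N / 2) e.1 = 4 := by linarith
      exact mul_left_cancel₀ hw (by linarith)
    have hC : Cv hX M hM hζ e.1 = 0 := by
      rw [Cv, Finset.mul_sum, Finset.sum_congr rfl (g := fun j : ℕ => (-1 : ℤ) ^ (j + 1) *
        wv hX M hM hζ (N / 2) e.1) fun j hj' => by rw [← hj j hj']; ring, ← Finset.sum_mul,
        sum_alt hX, one_mul, neg_add_cancel]
    have h1 := Cv_eq hX M hM hζ e.2
    rw [hC, Int.cast_zero] at h1
    exact half_ne_zero M hM hX ((mem_bs hX M).1 e.2) h1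

/-- Orthogonality to the degrees. -/
theorem rel (j : ℕ) : ∑ χ : ↥(bs hX M), Fv χ.1 * wv hX M hM hζ j χ.1 = 0 := by
  haveI := Fintype.ofFinite (Cfsg.IrrCharacter G)
  rw [Finset.sum_coe_sort (bs hX M) fun χ => Fv χ * wv hX M hM hζ j χ,
    Finset.sum_subset (Finset.subset_univ _) fun χ _ hχ => by
      rw [wv_eq_zero hX M hM hζ hχ, mul_zero]]
  apply Int.cast_injective (α := ℂ)
  refine mul_left_cancel₀ (Nat.cast_ne_zero.2 (NeZero.ne N) : (N : ℂ) ≠ 0) ?_
  rw [Int.cast_sum, Finset.mul_sum, Int.cast_zero, mul_zero,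
    Finset.sum_congr rfl (g := fun χ : Cfsg.IrrCharacter G => ∑ x : ZMod N,
      (χ : G → ℂ) 1 * (d (φ := φ) M hM χ (rot σ x) *
        (expn hζ (-((0 : ZMod N) * x)) - expn hζ (-((j : ZMod N) * x))))) fun χ _ => by
      rw [Int.cast_mul, ← (Fv_spec χ).1, mul_left_comm, wv, diff_spec hX M hM hζ, Finset.mul_sum],
    Finset.sum_comm]
  refine Finset.sum_eq_zero fun x _ => ?_
  by_cases hx : x = 0
  · simp [hx]
  · simp only [← mul_assoc, ← Finset.sum_mul]
    rw [sum_degree_mul_d hX M hM (rot_mem σ x) (rot_ne_one hX hx), zero_mul]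

/-- The congruence from the restriction to `P`. -/
theorem cong {χ : Cfsg.IrrCharacter G} (hχ : χ ∈ bs hX M) :
    (4 * (N / 2 : ℕ) : ℤ) ∣ Fv χ + wv hX M hM hζ (N / 2) χ +
      2 * ∑ j ∈ Finset.Ico 1 (N / 2), wv hX M hM hζ j χ +
      2 * (N / 2 : ℕ) * Cv hX M hM hζ χ := by
  obtain ⟨-, h2, h3⟩ := half_even hX
  have hN : 0 < N := by omega
  obtain ⟨a, ha, haz⟩ := exists_refl hX
  obtain ⟨q, hq⟩ := Cfsg.Agent.Lib.H80.ClassMult.exists_sum_subgroup χ (P : Subgroup G)
  rw [← Finset.sum_subtype (Finset.univ.filter fun p : G => p ∈ (P : Subgroup G)) (by simp)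
    (χ : G → ℂ),
    ← Finset.sum_filter_add_sum_filter_not _ (fun p : G => p ∈ Subgroup.zpowers σ),
    Finset.filter_filter, Finset.filter_filter, hX.rot.card,
    DihedralBlock.Order.sum_refl hX.rot ha haz] at hq
  have hrot : ∑ p ∈ Finset.univ.filter
      (fun p : G => p ∈ (P : Subgroup G) ∧ p ∈ Subgroup.zpowers σ),
      (χ : G → ℂ) p = ∑ l ∈ Finset.range N, (χ : G → ℂ) (σ ^ l) := by
    symm
    refine Finset.sum_bij (fun l _ => σ ^ l) ?_ ?_ ?_ (fun l _ => rfl)
    · intro l _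
      rw [Finset.mem_filter]
      exact ⟨Finset.mem_univ _, pow_mem hX.rot.mem l, pow_mem (Subgroup.mem_zpowers σ) l⟩
    · intro i hi l hl e
      exact pow_injOn_Iio_orderOf (by simpa [hX.rot.order] using hi)
        (by simpa [hX.rot.order] using hl) e
    · intro p hp
      obtain ⟨-, -, hpz⟩ := Finset.mem_filter.1 hp
      obtain ⟨i, hi⟩ := (isOfFinOrder_of_finite σ).mem_powers_iff_mem_zpowers.2 hpz
      refine ⟨i % N, Finset.mem_range.2 (Nat.mod_lt _ hN), ?_⟩
      rw [← hX.rot.order, pow_mod_orderOf]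
      exact hi
  have hrefl : ∀ i : ℕ, (χ : G → ℂ) (a * σ ^ i) = (Cv hX M hM hζ χ : ℂ) := by
    intro i
    have hz : a * σ ^ i ∉ Subgroup.zpowers σ := fun h => haz (by
      simpa using mul_mem h (inv_mem (pow_mem (Subgroup.mem_zpowers σ) i)))
    have h2 := (hX.rot.inverts _ (mul_mem ha (pow_mem hX.rot.mem i)) hz).1
    have ho : orderOf (a * σ ^ i) = 2 :=
      orderOf_eq_prime (by rw [pow_two]; exact h2) (fun e => hz (e ▸ one_mem _))
    rw [← Cv_eq hX M hM hζ hχ]
    exact (classFunction_apply_of_isConj (isClassFunction_irr χ) (hX.hone _ ho)).symm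
  have hd : ∀ l ∈ Finset.Ico 1 N, (χ : G → ℂ) (σ ^ l) = d (φ := φ) M hM χ (σ ^ l) := by
    intro l hl
    obtain ⟨h1, h2'⟩ := Finset.mem_Ico.1 hl
    have hne : σ ^ l ≠ 1 := pow_ne_one_of_lt_orderOf (by omega) (by rw [hX.rot.order]; exact h2')
    have h := apply_rot_kern M hM hX ((mem_bs hX M).1 hχ) (pow_mem (Subgroup.mem_zpowers σ) l) hne
      (one_mem (kern σ N))
    rwa [mul_one, fx_one, one_mul] at h
  rw [hrot, Finset.range_eq_Ico, Finset.sum_eq_sum_Ico_succ_bot hN, pow_zero, (Fv_spec χ).1,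
    zero_add, Finset.sum_congr rfl hd, sum_d_rot hX M hM hζ,
    Finset.sum_congr rfl (s₁ := Finset.Ico 0 N) (g := fun _ => (Cv hX M hM hζ χ : ℂ))
      fun i _ => hrefl i,
    Finset.sum_const, Nat.card_Ico, Nat.sub_zero, nsmul_eq_mul] at hq
  refine ⟨(q : ℤ), ?_⟩
  have hN' : ((4 * (N / 2 : ℕ) : ℤ)) = ((2 * N : ℕ) : ℤ) := by push_cast; omega
  have hN'' : (2 * (N / 2 : ℕ) : ℤ) = (N : ℤ) := by omega
  rw [hN', hN'']
  have : ((Fv χ + wv hX M hM hζ (N / 2) χ + 2 * ∑ j ∈ Finset.Ico 1 (N / 2), wv hX M hM hζ j χ +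
      (N : ℤ) * Cv hX M hM hζ χ : ℤ) : ℂ) = (((2 * N : ℕ) : ℤ) * (q : ℤ) : ℤ) := by
    push_cast at hq ⊢
    linear_combination hq
  exact_mod_cast this

/-! ## Counting -/

/-- The number of pairs of involutions with product in a rotation coset of `K`. -/
noncomputable def pairCount (σ : G) (N : ℕ) (P : Sylow 2 G) : ℕ :=
  ∑ p ∈ Finset.univ.filter (fun p : G => p ∈ (P : Subgroup G) ∧ p ∉ Subgroup.zpowers σ),
    (invs σ N p).card * (invs σ N p).card

omit [M.IsMaximal] in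
theorem card_invs_const {p q : G} (hp : p ∈ (P : Subgroup G)) (hpz : p ∉ Subgroup.zpowers σ)
    (hq : q ∈ (P : Subgroup G)) (hqz : q ∉ Subgroup.zpowers σ) :
    (invs σ N p).card = (invs σ N q).card := by
  have e : ∀ k : G, (k ∈ kern σ N ∧ k * p = p * k) ↔ (k ∈ kern σ N ∧ k * q = q * k) :=
    fun k => ⟨fun h => ⟨h.1, (centralizes hX hp hpz h.1 h.2 q hq).symm⟩,
      fun h => ⟨h.1, (centralizes hX hq hqz h.1 h.2 p hp).symm⟩⟩
  have h1 := card_invs_mul (hX.rot.le_centralizer_half hp) (hX.rot.inverts p hp hpz).1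
  have h2 := card_invs_mul (hX.rot.le_centralizer_half hq) (hX.rot.inverts q hq hqz).1
  rw [Nat.card_congr (Equiv.subtypeEquivRight e), ← h2] at h1
  haveI : Nonempty {k : G // k ∈ kern σ N ∧ k * q = q * k} :=
    ⟨⟨1, one_mem _, by rw [one_mul, mul_one]⟩⟩
  exact Nat.eq_of_mul_eq_mul_right Nat.card_pos h1

omit [M.IsMaximal] in
theorem pairCount_pos : 0 < pairCount σ N P := by
  obtain ⟨p, hp, hpz⟩ := exists_refl hX
  refine Finset.sum_pos (fun q hq => ?_) ⟨p, by simp [hp, hpz]⟩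
  obtain ⟨hqP, hqz⟩ : q ∈ (P : Subgroup G) ∧ q ∉ Subgroup.zpowers σ := by simpa using hq
  have : 0 < (invs σ N q).card := Finset.card_pos.2 ⟨q, mem_invs.2
    ⟨(hX.rot.inverts q hqP hqz).1, by rw [mul_inv_cancel]; exact one_mem _⟩⟩
  exact Nat.mul_pos this this

/-- The class algebra identity on a twisted coset. -/
theorem counting {g : G} (hg : g ∈ Subgroup.zpowers σ) (hg1 : g ≠ 1)
    {e0 : ℕ} (he0 : g ^ e0 = σ ^ (N / 2))
    (hrot : σ ^ (N / 2) * g⁻¹ = 1 ∨ (σ ^ (N / 2) * g⁻¹) * (σ ^ (N / 2) * g⁻¹) ≠ 1) :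
    (Nat.card G : ℂ) * ((Nat.card (kern σ N) : ℂ) *
      ∑ χ : ↥(bs hX M), (Cv hX M hM hζ χ.1 : ℂ) ^ 2 * d (φ := φ) M hM χ.1 g / (Fv χ.1 : ℂ)) =
      (Nat.card (Subgroup.centralizer ({σ ^ (N / 2)} : Set G)) : ℂ) ^ 2 *
        (pairCount σ N P : ℂ) := by
  haveI := Fintype.ofFinite (Cfsg.IrrCharacter G)
  set J := σ ^ (N / 2) with hJ
  set c := Nat.card (Subgroup.centralizer ({J} : Set G)) with hc
  set Inv := Finset.univ.filter fun i : G => orderOf i = 2 with hInv
  have hgP := hX.rot.zpowers_le hg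
  have hodd : Odd (Nat.card (kern σ N)) := card_kern_odd
  set e := e0 * Nat.card (kern σ N) with hedef
  have he : ∀ k ∈ kern σ N, (g * k) ^ e = J := by
    intro k hk
    have h1 : k ^ e = 1 := orderOf_dvd_iff_pow_eq_one.1
      ((Subgroup.orderOf_dvd_natCard _ hk).mul_left e0)
    obtain ⟨r, hr⟩ := hodd
    rw [(commute_rot_kern hX hg hk).mul_pow, h1, mul_one, hedef, pow_mul, he0, hr, pow_add,
      pow_mul, pow_one, pow_two, hJ, hX.rot.half_sq, one_pow, one_mul]
  -- the twist is trivial on products of two involutions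
  have htwist : ∀ i j k : G, i * i = 1 → j * j = 1 → k ∈ kern σ N → g * k * i * j = 1 →
      fx φ k⁻¹ = 1 := by
    intro i j k hi hj hk hprod
    have hii := inv_eq_of_mul_eq_one_right hi
    have hjj := inv_eq_of_mul_eq_one_right hj
    have hw : g * k = j * i := by
      rw [mul_assoc (g * k)] at hprod
      rw [eq_inv_of_mul_eq_one_left hprod, mul_inv_rev, hii, hjj]
    have hconj : i * (g * k) * i⁻¹ = (g * k)⁻¹ := by
      rw [hw, mul_inv_rev, hii, hjj]
      calc i * (j * i) * i = i * j * (i * i) := by group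
        _ = i * j := by rw [hi, mul_one]
    have hiC : i ∈ Subgroup.centralizer ({J} : Set G) := by
      have h1 := congrArg (fun z => z ^ e) hconj
      simp only [conj_pow, inv_pow] at h1
      rw [he _ hk, hJ, inv_eq_of_mul_eq_one_right hX.rot.half_sq] at h1
      exact Subgroup.mem_centralizer_singleton_iff.2 (mul_inv_eq_iff_eq_mul.1 h1)
    obtain ⟨p, hp, hip⟩ := exists_coset hX.rot hiC
    have hrotmem : i * g * i⁻¹ ∈ Subgroup.zpowers σ := by
      have hw' := conj_rot_mem hX hp hg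
      have : i * g * i⁻¹ = p * g * p⁻¹ := by
        calc i * g * i⁻¹ = (i * p⁻¹) * (p * g * p⁻¹) * (i * p⁻¹)⁻¹ := by group
          _ = p * g * p⁻¹ := by rw [← (commute_rot_kern hX hw' hip).eq, mul_inv_cancel_right]
      rw [this]; exact hw'
    have hkk : i * k * i⁻¹ = k⁻¹ := by
      refine (rot_kern_unique hX hrotmem (inv_mem hg) (kern_conj hiC hk) (inv_mem hk) ?_).2
      calc i * g * i⁻¹ * (i * k * i⁻¹) = i * (g * k) * i⁻¹ := by group
        _ = (g * k)⁻¹ := hconj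
        _ = g⁻¹ * k⁻¹ := by rw [(commute_rot_kern hX hg hk).eq, mul_inv_rev]
    have h2 : fx φ k⁻¹ = fx φ k := by
      rw [← hkk, fx_conj hX (hz_eq (σ := σ) (N := N) ▸ hiC)]
    have h3 : fx φ k * fx φ k = 1 := by
      nth_rw 1 [← h2]
      exact fx_inv_mul φ hk
    have h4 : fx φ k ^ Nat.card (kern σ N) = 1 := by
      rw [fx_of_mem φ hk, ← Units.val_pow_eq_pow_val, ← map_pow, pow_card_eq_one', map_one,
        Units.val_one]
    obtain ⟨r, hr⟩ := hodd
    rw [hr, pow_add, pow_mul, pow_one, pow_two, h3, one_pow, one_mul] at h4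
    rw [h2, h4]
  have hord : ∀ a : G, orderOf (a * J * a⁻¹) = 2 := fun a =>
    (MulEquiv.orderOf_eq (MulAut.conj a) J).trans hX.rot.orderOf_half
  have hfib : ∀ y ∈ Inv, (Finset.univ.filter fun a : G => a * J * a⁻¹ = y).card = c := by
    intro y hy
    obtain ⟨b, hb⟩ := isConj_iff.1 (hX.hone y (by simpa [hInv] using hy))
    rw [hc, ← Fintype.card_subtype, ← Nat.card_eq_fintype_card]
    refine Nat.card_congr
      { toFun := fun a => ⟨b⁻¹ * a.1, ?_⟩
        invFun := fun k => ⟨b * k.1, ?_⟩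
        left_inv := fun a => Subtype.ext (mul_inv_cancel_left _ _)
        right_inv := fun k => Subtype.ext (inv_mul_cancel_left _ _) }
    · rw [Subgroup.mem_centralizer_singleton_iff]
      calc b⁻¹ * a.1 * J = b⁻¹ * (a.1 * J * a.1⁻¹) * a.1 := by group
        _ = b⁻¹ * (b * J * b⁻¹) * a.1 := by rw [a.2, hb]
        _ = _ := by group
    · calc b * k.1 * J * (b * k.1)⁻¹ = b * (k.1 * J) * k.1⁻¹ * b⁻¹ := by group
        _ = b * (J * k.1) * k.1⁻¹ * b⁻¹ := by rw [Subgroup.mem_centralizer_singleton_iff.1 k.2]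
        _ = b * J * b⁻¹ := by group
        _ = y := hb
  have hfsum : ∀ F : G → ℂ, ∑ a : G, F (a * J * a⁻¹) = (c : ℂ) * ∑ i ∈ Inv, F i := by
    intro F
    rw [← Finset.sum_fiberwise_of_maps_to (s := Finset.univ) (t := Inv)
      (g := fun a : G => a * J * a⁻¹) (fun a _ => by simp [hInv, hord]), Finset.mul_sum]
    refine Finset.sum_congr rfl fun y hy => ?_
    rw [Finset.sum_congr rfl (g := fun _ => F y) fun a ha => by rw [(Finset.mem_filter.1 ha).2],
      Finset.sum_const, hfib y hy, nsmul_eq_mul]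
  have hsq : ∀ a : G, a * J * a⁻¹ * (a * J * a⁻¹) = 1 := fun a => by
    have h := pow_orderOf_eq_one (a * J * a⁻¹)
    rwa [hord a, pow_two] at h
  have hpc : pairCount σ N P =
      ∑ p ∈ Finset.univ.filter (fun p : G => p ∈ (P : Subgroup G) ∧ p ∉ Subgroup.zpowers σ),
        (invs σ N p).card * (invs σ N (p * g⁻¹)).card := by
    refine Finset.sum_congr rfl fun p hp => ?_
    obtain ⟨hpP, hpz⟩ : p ∈ (P : Subgroup G) ∧ p ∉ Subgroup.zpowers σ := by simpa using hp
    rw [card_invs_const hX hpP hpz (mul_mem hpP (inv_mem hgP))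
      (fun h => hpz (by simpa using mul_mem h hg))]
  have hcount : ∑ a : G, ∑ b : G, ∑ k : ↥(kern σ N),
      fx φ (k : G)⁻¹ *
        (if g * (k : G) * (a * J * a⁻¹) * (b * J * b⁻¹) = 1 then (1 : ℂ) else 0) =
      (c : ℂ) ^ 2 * (pairCount σ N P : ℂ) := by
    have hk : ∀ a b : G, ∑ k : ↥(kern σ N), fx φ (k : G)⁻¹ *
        (if g * (k : G) * (a * J * a⁻¹) * (b * J * b⁻¹) = 1 then (1 : ℂ) else 0) =
        if g⁻¹ * ((a * J * a⁻¹) * (b * J * b⁻¹))⁻¹ ∈ kern σ N then 1 else 0 := by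
      intro a b
      have hiff : ∀ k : G, g * k * (a * J * a⁻¹) * (b * J * b⁻¹) = 1 ↔
          k = g⁻¹ * ((a * J * a⁻¹) * (b * J * b⁻¹))⁻¹ := fun k => by
        rw [mul_assoc (g * k), mul_eq_one_iff_eq_inv, eq_inv_mul_iff_mul_eq]
      by_cases hm : g⁻¹ * ((a * J * a⁻¹) * (b * J * b⁻¹))⁻¹ ∈ kern σ N
      · rw [if_pos hm, Finset.sum_eq_single ⟨_, hm⟩]
        · rw [if_pos ((hiff _).2 rfl), mul_one]
          exact htwist _ _ _ (hsq a) (hsq b) hm ((hiff _).2 rfl)
        · intro k _ hk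
          rw [if_neg fun e => hk (Subtype.ext ((hiff _).1 e)), mul_zero]
        · exact fun h => absurd (Finset.mem_univ _) h
      · rw [if_neg hm]
        refine Finset.sum_eq_zero fun k _ => ?_
        rw [if_neg fun e => hm ((hiff _).1 e ▸ k.2), mul_zero]
    simp only [hk]
    rw [hfsum (fun i => ∑ b : G, if g⁻¹ * (i * (b * J * b⁻¹))⁻¹ ∈ kern σ N then (1 : ℂ) else 0),
      Finset.sum_congr rfl fun i _ => hfsum (fun j => if g⁻¹ * (i * j)⁻¹ ∈ kern σ N then (1 : ℂ) else 0),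
      ← Finset.mul_sum, ← Finset.sum_product', Finset.sum_boole, hpc, ← card_pairs hX.rot hg he hrot]
    ring
  have hG : (Nat.card G : ℂ) ≠ 0 := Nat.cast_ne_zero.2 Nat.card_pos.ne'
  have hone' : ∀ (χ : Cfsg.IrrCharacter G) (x : G),
      ∑ a : G, ∑ b : G, (χ : G → ℂ) (x * (a * J * a⁻¹) * (b * J * b⁻¹)) =
      (Nat.card G : ℂ) ^ 2 * (χ : G → ℂ) x * (χ : G → ℂ) J ^ 2 / (χ : G → ℂ) 1 ^ 2 := by
    intro χ x
    have h1 := apply_one_ne_zero χ
    simp only [Cfsg.Agent.Lib.H80.ClassMult.sum_apply_mul_conj, ← Finset.sum_div, ← Finset.sum_mul,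
      ← Finset.mul_sum]
    field_simp
  have hsd : ∀ x : G, (Nat.card G : ℂ) * (if x = 1 then (1 : ℂ) else 0) =
      ∑ χ : Cfsg.IrrCharacter G, (χ : G → ℂ) 1 * (χ : G → ℂ) x := fun x => by
    rw [sum_degree_mul_apply]; split_ifs <;> simp
  rw [← hcount]
  apply mul_left_cancel₀ hG
  calc (Nat.card G : ℂ) * ((Nat.card G : ℂ) * ((Nat.card (kern σ N) : ℂ) *
        ∑ χ : ↥(bs hX M), (Cv hX M hM hζ χ.1 : ℂ) ^ 2 * d (φ := φ) M hM χ.1 g / (Fv χ.1 : ℂ))) =
      ∑ χ : Cfsg.IrrCharacter G, (Nat.card G : ℂ) ^ 2 *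
        ((χ : G → ℂ) J ^ 2 / (χ : G → ℂ) 1) *
        ∑ k : ↥(kern σ N), fx φ (k : G)⁻¹ * (χ : G → ℂ) (g * k) := by
        rw [← Finset.sum_subset (Finset.subset_univ (bs hX M))
          (f := fun χ : Cfsg.IrrCharacter G => (Nat.card G : ℂ) ^ 2 *
            ((χ : G → ℂ) J ^ 2 / (χ : G → ℂ) 1) *
            ∑ k : ↥(kern σ N), fx φ (k : G)⁻¹ * (χ : G → ℂ) (g * k))
          (fun χ _ hχ => by
            rw [← card_mul_d hX M hM, d_eq_zero M hM hX (mt (mem_bs hX M).2 hχ) hg hg1,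
              mul_zero, mul_zero]),
          Finset.sum_coe_sort (bs hX M) fun χ =>
            (Cv hX M hM hζ χ : ℂ) ^ 2 * d (φ := φ) M hM χ g / (Fv χ : ℂ)]
        simp only [Finset.mul_sum]
        refine Finset.sum_congr rfl fun χ hχ => ?_
        rw [← Finset.mul_sum, ← card_mul_d hX M hM, Cv_eq hX M hM hζ hχ, (Fv_spec χ).1]
        ring
    _ = _ := by
        simp only [Finset.mul_sum, mul_left_comm (Nat.card G : ℂ), hsd]
        conv_rhs => enter [2, a]; rw [Finset.sum_comm]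
        conv_rhs => rw [Finset.sum_comm]
        conv_rhs => enter [2, k, 2, a]; rw [Finset.sum_comm]
        conv_rhs => enter [2, k]; rw [Finset.sum_comm]
        conv_rhs => rw [Finset.sum_comm]
        refine Finset.sum_congr rfl fun χ _ => ?_
        refine Finset.sum_congr rfl fun k _ => ?_
        simp only [← Finset.mul_sum, hone']
        have h1 := apply_one_ne_zero χ
        field_simp

/-- The common value of the two sums. -/
noncomputable def ratio (σ : G) (N : ℕ) (P : Sylow 2 G) : ℂ :=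
  (Nat.card (Subgroup.centralizer ({σ ^ (N / 2)} : Set G)) : ℂ) ^ 2 * (pairCount σ N P : ℂ) /
    ((Nat.card G : ℂ) * (Nat.card (kern σ N) : ℂ))

include hM in
/-- Both sums are the common value. -/
theorem sums : CoinvariantComb.sumS (N / 2) (fun j (χ : ↥(bs hX M)) => wv hX M hM hζ j χ.1)
      (fun χ => Cv hX M hM hζ χ.1) (fun χ => Fv χ.1) (cc hζ) = ratio σ N P ∧
    CoinvariantComb.sumT (fun χ : ↥(bs hX M) => Cv hX M hM hζ χ.1) (fun χ => Fv χ.1) =
      ratio σ N P ∧ ratio σ N P ≠ 0 := by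
  have hG : (Nat.card G : ℂ) ≠ 0 := Nat.cast_ne_zero.2 Nat.card_pos.ne'
  have hK : (Nat.card (kern σ N) : ℂ) ≠ 0 := Nat.cast_ne_zero.2 Nat.card_pos.ne'
  obtain ⟨-, h2, h3⟩ := half_even hX
  refine ⟨?_, ?_, ?_⟩
  · have h := counting hX M hM hζ (g := σ) (Subgroup.mem_zpowers σ)
      (fun e => by have := hX.rot.order; rw [e, orderOf_one] at this; omega) (e0 := N / 2) rfl
      (Or.inr ?_)
    · rw [ratio, eq_div_iff (mul_ne_zero hG hK), ← h, CoinvariantComb.sumS]
      simp only [d_gen hX M hM hζ, CoinvariantComb.ds]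
      ring
    · intro e
      have hc : Commute (σ ^ (N / 2)) σ⁻¹ := ((Commute.refl σ).pow_left _).inv_right
      rw [← pow_two, hc.mul_pow, pow_two, hX.rot.half_sq, one_mul, inv_pow, inv_eq_one] at e
      have h := orderOf_dvd_of_pow_eq_one e
      rw [hX.rot.order] at h
      have := Nat.le_of_dvd two_pos h
      omega
  · have h := counting hX M hM hζ (g := σ ^ (N / 2)) (pow_mem (Subgroup.mem_zpowers σ) _)
      hX.rot.half_ne (e0 := 1) (pow_one _) (Or.inl (mul_inv_cancel _))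
    rw [ratio, eq_div_iff (mul_ne_zero hG hK), ← h, CoinvariantComb.sumT]
    simp only [d_half hX M hM hζ]
    ring
  · rw [ratio]
    exact div_ne_zero (mul_ne_zero (pow_ne_zero _ (Nat.cast_ne_zero.2 Nat.card_pos.ne'))
      (Nat.cast_ne_zero.2 (pairCount_pos hX).ne')) (mul_ne_zero hG hK)

end Cfsg.Agent.Lib.GorensteinWalter.CoinvariantSums
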