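import Cfsg.Agent.Lib.GorensteinWalter.InterfaceG
import Cfsg.Agent.Lib.GorensteinWalter.CoinvariantSums
import Cfsg.Agent.Lib.GorensteinWalter.CoinvariantArith
import Cfsg.Agent.Lib.GorensteinWalter.Basic
import Cfsg.Agent.Lib.Characters.Kernel
import Cfsg.Agent.Lib.Characters.Linear

/-!
# No invariant linear character of `O(C(t))`

If the squares of the elements of `S` centralise `O = O(C(t))` and the reflections have equal fixed
points then the rotations centralise `O`.  The two counting identities of the block over an invariant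
linear character `φ`, compared with those over the trivial one, then force a trivial character in
that block, or a character of degree three on which `O` acts by scalars; both give `φ = 1`.
-/

set_option autoImplicit false
set_option linter.style.haveILetI false
set_option linter.unusedSectionVars false

universe u

namespace Cfsg.Agent.Lib.GorensteinWalter.Coinvariant

open Cfsg.Agent.Lib.Characters.Basic Cfsg.Agent.Lib.DihedralBlock.Sections
open Cfsg.Agent.Lib.DihedralBlock.Order (kern card_kern_odd)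
open Cfsg.Agent.Lib.GorensteinWalter.CoinvariantPairs
open Cfsg.Agent.Lib.GorensteinWalter.CoinvariantSums
open Cfsg.Agent.Lib.BrauerPairs.Bridge (Res charP_res)
open Cfsg.Agent.Lib.Fusion.Dihedral

attribute [local instance] Ideal.Quotient.field Classical.propDecidable

variable {G : Type u} [Group G] [Fintype G]

/-- A linear character of a non-abelian simple group is trivial. -/
theorem apply_eq_one_of_linear (hs : IsSimpleGroup G) (hna : ¬ IsMulCommutative G)
    {χ : Cfsg.IrrCharacter G} (h1 : (χ : G → ℂ) 1 = 1) (g : G) : (χ : G → ℂ) g = 1 := by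
  by_contra hg
  haveI := hs
  have hker := Cfsg.Agent.Lib.Characters.Kernel.charKer_eq_bot_of_simple (isCharacter_irr χ)
    (g := g) (by rwa [h1])
  refine hna ⟨⟨fun a b => ?_⟩⟩
  have hm := Cfsg.Agent.Lib.Characters.Linear.apply_mul_of_degree_one (isCharacter_irr χ) h1
  have hmem : a * b * (b * a)⁻¹ ∈ Cfsg.Agent.Lib.Characters.Kernel.charKer (isCharacter_irr χ) := by
    rw [Cfsg.Agent.Lib.Characters.Kernel.mem_charKer, hm, hm, mul_comm ((χ : G → ℂ) a), ← hm, ← hm,
      mul_inv_cancel]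
  rw [hker, Subgroup.mem_bot] at hmem
  exact mul_inv_eq_one.1 hmem

theorem eq_oneChar_of_linear (hs : IsSimpleGroup G) (hna : ¬ IsMulCommutative G)
    {χ : Cfsg.IrrCharacter G} (h1 : (χ : G → ℂ) 1 = 1) : χ = oneChar G :=
  Subtype.ext (funext fun g => (apply_eq_one_of_linear hs hna h1 g).trans (oneChar_apply g).symm)

variable {N : ℕ} {σ : G} {P : Sylow 2 G} {φ : ↥(kern σ N) →* ℂˣ} (hX : Ctx P N σ φ)

include hX in
/-- The context of the trivial character. -/
theorem ctx_one : Ctx P N σ (1 : ↥(kern σ N) →* ℂˣ) :=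
  ⟨hX.rot, hX.cent, hX.hone, hX.fused, fun _ _ _ _ _ => rfl⟩

variable (M : Ideal Cfsg.AlgInt) [M.IsMaximal] (hM : Cfsg.IsPModular 2 M) [CharP (Res M) 2]

theorem Fv_oneChar : Fv (oneChar G) = 1 := by
  have h := (Fv_spec (oneChar G)).1
  rw [oneChar_apply] at h
  exact_mod_cast h.symm

theorem apply_one_of_Fv {χ : Cfsg.IrrCharacter G} (h : (Fv χ).natAbs = 1) :
    (χ : G → ℂ) 1 = 1 := by
  obtain ⟨h1, h2⟩ := Fv_spec χ
  rw [h1, show Fv χ = 1 by omega]
  norm_num

theorem d_oneChar (y : G) : d (φ := φ) M hM (oneChar G) y = if φ = 1 then 1 else 0 := by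
  have hK : (Nat.card (kern σ N) : ℂ) ≠ 0 := Nat.cast_ne_zero.2 Nat.card_pos.ne'
  have e : d (φ := φ) M hM (oneChar G) y =
      (Nat.card (kern σ N) : ℂ)⁻¹ * ∑ k : ↥(kern σ N), ((φ k⁻¹ : ℂˣ) : ℂ) := by
    rw [d, Finset.mul_sum, ← Finset.sum_subset (Finset.subset_univ
        (Finset.univ.filter fun g : G => g ∈ kern σ N)) (fun g _ hg => by
          rw [ec_of_notMem φ M hM (fun h => hg (Finset.mem_filter.2 ⟨Finset.mem_univ _, h⟩)),
            ZeroMemClass.coe_zero, zero_mul]),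
      Finset.sum_subtype _ (p := fun g => g ∈ kern σ N) (fun g => by simp)]
    refine Finset.sum_congr rfl fun k _ => ?_
    rw [coe_ec, oneChar_apply, mul_one, fx_of_mem φ (inv_mem k.2)]
    rfl
  rw [e]
  split_ifs with h
  · subst h
    simp [← Nat.card_eq_fintype_card, inv_mul_cancel₀ hK]
  · obtain ⟨k0, hk0⟩ := not_forall.1 fun h' => h (MonoidHom.ext h')
    rw [MonoidHom.one_apply] at hk0
    have hS : ((φ k0⁻¹ : ℂˣ) : ℂ) * ∑ k : ↥(kern σ N), ((φ k⁻¹ : ℂˣ) : ℂ) =
        ∑ k : ↥(kern σ N), ((φ k⁻¹ : ℂˣ) : ℂ) := by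
      rw [Finset.mul_sum]
      refine Fintype.sum_equiv (Equiv.mulRight k0) _ _ fun k => ?_
      rw [Equiv.coe_mulRight, mul_inv_rev, map_mul, Units.val_mul]
    have hne : ((φ k0⁻¹ : ℂˣ) : ℂ) ≠ 1 := fun h => hk0 (by
      rw [Units.val_eq_one, map_inv, inv_eq_one] at h
      exact h)
    rw [(mul_left_eq_self₀.1 hS).resolve_left hne, mul_zero]

variable [NeZero N] {ζ : ℂ} (hζ : IsPrimitiveRoot ζ N)

include hX hM in
/-- The two possible shapes. -/
theorem shapes :
    (∃ (p q r s : Cfsg.IrrCharacter G) (a b c : ℤ), p ≠ q ∧ r ≠ s ∧ p ∈ bs hX M ∧ q ∈ bs hX M ∧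
      r ∈ bs hX M ∧ s ∈ bs hX M ∧
      a = wv hX M hM hζ (N / 2) p * Fv p ∧ b = wv hX M hM hζ (N / 2) q * Fv q ∧
      c = wv hX M hM hζ (N / 2) r * Fv r ∧ c = wv hX M hM hζ (N / 2) s * Fv s ∧
      a.natAbs = (Fv p).natAbs ∧ b.natAbs = (Fv q).natAbs ∧ c.natAbs = (Fv r).natAbs ∧
      c.natAbs = (Fv s).natAbs ∧
      Cv hX M hM hζ p = wv hX M hM hζ (N / 2) p ∧ Cv hX M hM hζ q = wv hX M hM hζ (N / 2) q ∧
      Cv hX M hM hζ r = -wv hX M hM hζ (N / 2) r ∧ Cv hX M hM hζ s = -wv hX M hM hζ (N / 2) s ∧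
      (∀ j ∈ Finset.Ico 1 (N / 2), wv hX M hM hζ j r = 0) ∧
      (∀ χ ∈ bs hX M, χ = p ∨ χ = q ∨ χ = r ∨ χ = s ∨ Cv hX M hM hζ χ = 2 ∨
        Cv hX M hM hζ χ = -2) ∧
      2 * c = -(a + b) ∧ a + b ≠ 0 ∧ a ≠ 0 ∧ b ≠ 0 ∧
      (4 * (N / 2 : ℕ) : ℤ) ∣ a - 1 ∧ (4 * (N / 2 : ℕ) : ℤ) ∣ b - 1 ∧
      ratio σ N P * ((a * b * (a + b) : ℤ) : ℂ) = (((a - b) ^ 2 : ℤ) : ℂ)) ∨
    (N / 2 = 4 ∧ ∃ (D : ℤ) (q s : Cfsg.IrrCharacter G), q ≠ s ∧ ¬ (2 : ℤ) ∣ D ∧
      ratio σ N P * (3 * (D : ℂ)) = 32 ∧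
      (Fv q).natAbs = D.natAbs ∧ (Fv s).natAbs = D.natAbs ∧
      ∀ χ ∈ bs hX M, (Fv χ).natAbs = 1 → D.natAbs = 1) := by
  have hd := data hX M hM hζ
  obtain ⟨hS, hT, hR0⟩ := sums hX M hM hζ
  have hF : ∀ χ : ↥(bs hX M), Fv χ.1 ≠ 0 := fun χ => (Fv_spec χ.1).2.ne'
  have hrel : ∀ j, 1 ≤ j → j ≤ N / 2 →
      ∑ χ : ↥(bs hX M), Fv χ.1 * wv hX M hM hζ j χ.1 = 0 := fun j _ _ => rel hX M hM hζ j
  have hcong : ∀ χ : ↥(bs hX M), (4 * (N / 2 : ℕ) : ℤ) ∣ Fv χ.1 + wv hX M hM hζ (N / 2) χ.1 +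
      2 * ∑ j ∈ Finset.Ico 1 (N / 2), wv hX M hM hζ j χ.1 +
      2 * (N / 2 : ℕ) * Cv hX M hM hζ χ.1 := fun χ => cong hX M hM hζ χ.2
  by_cases hinj : Set.InjOn hd.out (Finset.Ico 1 (N / 2) : Finset ℕ)
  · refine Or.inl ?_
    obtain ⟨p, q, r, s, hpq, hrs, hp, hq, hr, hs, hCp, hCq, hCr, hCs, hw0, hall, hsum, hne, hca, hcb,
      hSe, hTe⟩ := CoinvariantComb.generic_eval hd hinj hF hrel hcong (cc hζ) (sum_cc hX hζ)
    have hw : ∀ t ∈ hd.T, (wv hX M hM hζ (N / 2) t.1 * Fv t.1).natAbs = (Fv t.1).natAbs ∧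
        wv hX M hM hζ (N / 2) t.1 * Fv t.1 ≠ 0 := by
      intro t ht
      have h := hd.sq_T ht
      rw [Int.natAbs_mul, show (wv hX M hM hζ (N / 2) t.1).natAbs = 1 from
        Int.natAbs_eq_iff.2 (by simpa using mul_self_eq_one_iff.1 h), one_mul]
      exact ⟨rfl, mul_ne_zero (left_ne_zero_of_mul_eq_one h) (hF t)⟩
    obtain ⟨ha, ha0⟩ := hw p hp
    obtain ⟨hb, hb0⟩ := hw q hq
    obtain ⟨hc, hc0⟩ := hw r hr
    obtain ⟨he, he0⟩ := hw s hs
    rw [hS] at hSe
    rw [hT] at hTe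
    obtain ⟨a, hadef⟩ : ∃ a, a = wv hX M hM hζ (N / 2) p.1 * Fv p.1 := ⟨_, rfl⟩
    obtain ⟨b, hbdef⟩ : ∃ b, b = wv hX M hM hζ (N / 2) q.1 * Fv q.1 := ⟨_, rfl⟩
    obtain ⟨c, hcdef⟩ : ∃ c, c = wv hX M hM hζ (N / 2) r.1 * Fv r.1 := ⟨_, rfl⟩
    obtain ⟨e, hedef⟩ : ∃ e, e = wv hX M hM hζ (N / 2) s.1 * Fv s.1 := ⟨_, rfl⟩
    simp only [← hadef, ← hbdef, ← hcdef, ← hedef] at ha ha0 hb hb0 hc hc0 he he0 hsum hne
    simp only [← hadef, ← hbdef, ← hcdef, ← hedef] at hca hcb hSe hTe
    have A : (a : ℂ) ≠ 0 := Int.cast_ne_zero.2 ha0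
    have B : (b : ℂ) ≠ 0 := Int.cast_ne_zero.2 hb0
    have C' : (c : ℂ) ≠ 0 := Int.cast_ne_zero.2 hc0
    have E : (e : ℂ) ≠ 0 := Int.cast_ne_zero.2 he0
    have AB : (a : ℂ) + b ≠ 0 := by exact_mod_cast hne
    push_cast at hSe hTe
    have hce : (a + b) * (a + b) = 4 * (c * e) := by
      have h1 : (1 : ℂ) / c + 1 / e = -4 / (a + b) := by linear_combination (hTe - hSe) / 2
      field_simp at h1
      have h2 : (((c + e) * (a + b) : ℤ) : ℂ) = ((-4 * (c * e) : ℤ) : ℂ) := by
        push_cast; linear_combination h1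
      have h3 : (c + e) * (a + b) = -4 * (c * e) := by exact_mod_cast h2
      rw [show c + e = -(a + b) by linarith] at h3
      linarith
    have hce' : c = e := by
      have : (c - e) * (c - e) = 0 := by
        have h : c + e = -(a + b) := by linarith
        linear_combination hce + (c + e - (a + b)) * h
      exact sub_eq_zero.1 (mul_self_eq_zero.1 this)
    subst hce'
    refine ⟨p.1, q.1, r.1, s.1, a, b, c, fun h => hpq (Subtype.ext h), fun h => hrs (Subtype.ext h),
      p.2, q.2, r.2, s.2, hadef, hbdef, hcdef, hedef, ha, hb, hc, he, hCp, hCq, hCr, hCs,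
      fun j hj => (hw0 j hj).1, fun χ hχ => ?_, by linarith, hne, ha0, hb0, hca, hcb, ?_⟩
    · rcases hall ⟨χ, hχ⟩ with h | h | h | h | h | h
      · exact Or.inl (congrArg Subtype.val h)
      · exact Or.inr (Or.inl (congrArg Subtype.val h))
      · exact Or.inr (Or.inr (Or.inl (congrArg Subtype.val h)))
      · exact Or.inr (Or.inr (Or.inr (Or.inl (congrArg Subtype.val h))))
      · exact Or.inr (Or.inr (Or.inr (Or.inr (Or.inl h))))
      · exact Or.inr (Or.inr (Or.inr (Or.inr (Or.inr h))))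
    · have h2c : (2 : ℂ) * c = -(a + b) := by exact_mod_cast (by linarith : 2 * c = -(a + b))
      rw [hSe]
      push_cast
      field_simp
      linear_combination (2 * (a : ℂ) * b) * h2c
  · refine Or.inr ?_
    have hodd : ∀ t ∈ hd.T, ¬ (2 : ℤ) ∣ Fv t.1 := by
      intro t ht hF2
      obtain ⟨x, hx⟩ := hcong t
      obtain ⟨y, hy⟩ := hF2
      rcases mul_self_eq_one_iff.1 (hd.sq_T ht) with h | h <;>
        · rw [h, hy] at hx
          generalize ∑ j ∈ Finset.Ico 1 (N / 2), wv hX M hM hζ j t.1 = z at hx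
          have hx' : (2 : ℤ) * (y + z + (N / 2 : ℕ) * Cv hX M hM hζ t.1 - 2 * (N / 2 : ℕ) * x) =
              1 ∨ (2 : ℤ) * (y + z + (N / 2 : ℕ) * Cv hX M hM hζ t.1 - 2 * (N / 2 : ℕ) * x) = -1 := by
            first
              | exact Or.inr (by linear_combination hx)
              | exact Or.inl (by linear_combination hx)
          omega
    obtain ⟨h4, D, q, s, hqs, hD, hSe, hFq, hFs, hone⟩ := CoinvariantComb.special_eval hd hinj hF
      hrel hodd (cc hζ) (sum_cc hX hζ) (cc_two hX hζ)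
    refine ⟨h4, D, q.1, s.1, fun h => hqs (Subtype.ext h), hD, ?_, hFq, hFs,
      fun χ hχ => hone ⟨χ, hχ⟩⟩
    rw [hS] at hSe
    have : (3 : ℂ) * D ≠ 0 := mul_ne_zero three_ne_zero
      (Int.cast_ne_zero.2 fun h => hD (h ▸ dvd_zero 2))
    rw [hSe]
    exact div_mul_cancel₀ _ this

include hX in
theorem pow_eq {n : ℕ} (hN : N = 2 ^ (n - 1)) (hn : 3 ≤ n) :
    (4 * (N / 2 : ℕ) : ℤ) = 2 ^ n := by
  obtain ⟨k, rfl⟩ : ∃ k, n = k + 3 := ⟨n - 3, by omega⟩
  subst hN
  rw [show k + 3 - 1 = k + 1 + 1 by omega, pow_succ, Nat.mul_div_cancel _ two_pos]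
  push_cast
  ring

include hX hM hζ in
/-- The trivial character gives `ratio = X² / ((X + 1) (X + 2))`. -/
theorem exists_X (hs : IsSimpleGroup G) (hna : ¬ IsMulCommutative G) {n : ℕ}
    (hN : N = 2 ^ (n - 1)) (hn : 3 ≤ n) :
    ∃ X : ℤ, X ≠ 0 ∧ (2 : ℤ) ^ n ∣ X ∧
      ratio σ N P * (((X + 1) * (X + 2) : ℤ) : ℂ) = ((X ^ 2 : ℤ) : ℂ) := by
  set h1 := ctx_one hX
  have hone : oneChar G ∈ bs h1 M := by
    by_contra h
    have h0 := d_eq_zero M hM h1 (mt (mem_bs h1 M).2 h) (pow_mem (Subgroup.mem_zpowers σ) (N / 2))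
      hX.rot.half_ne
    rw [d_oneChar M hM, if_pos rfl] at h0
    exact one_ne_zero h0
  have hC1 : Cv h1 M hM hζ (oneChar G) = 1 := by
    have h := Cv_eq h1 M hM hζ hone
    rw [oneChar_apply] at h
    exact_mod_cast h.symm
  rcases shapes h1 M hM hζ with ⟨p, q, r, s, a, b, c, hpq, hrs, hp, hq, hr, hs', hadef, hbdef, hcdef,
    hedef, ha, hb, hc, he, hCp, hCq, hCr, hCs, -, hall, h2c, hab, ha0, hb0, hca, hcb, hR⟩ |
    ⟨-, D, q, s, hqs, hD, -, hFq, hFs, hD1⟩
  · rw [pow_eq hX hN hn] at hca hcb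
    -- the trivial character is one of the first two
    have key : a = 1 ∨ b = 1 := by
      rcases hall _ hone with h | h | h | h | h | h
      · left; subst h; rw [hadef, Fv_oneChar, mul_one, ← hCp, hC1]
      · right; subst h; rw [hbdef, Fv_oneChar, mul_one, ← hCq, hC1]
      · exfalso
        rw [← h, Fv_oneChar] at hc
        have hs1 := eq_oneChar_of_linear hs hna (apply_one_of_Fv (he.symm.trans hc))
        exact hrs (h.symm.trans hs1.symm)
      · exfalso
        rw [← h, Fv_oneChar] at he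
        have hr1 := eq_oneChar_of_linear hs hna (apply_one_of_Fv (hc.symm.trans he))
        exact hrs (hr1.trans h)
      · rw [hC1] at h; omega
      · rw [hC1] at h; omega
    have hmk : ∀ b : ℤ, b ≠ 0 → (2 : ℤ) ^ n ∣ b - 1 →
        ratio σ N P * ((1 * b * (1 + b) : ℤ) : ℂ) = (((1 - b) ^ 2 : ℤ) : ℂ) →
        ∃ X : ℤ, X ≠ 0 ∧ (2 : ℤ) ^ n ∣ X ∧
          ratio σ N P * (((X + 1) * (X + 2) : ℤ) : ℂ) = ((X ^ 2 : ℤ) : ℂ) := by
      intro b hb0 hcb hR
      refine ⟨b - 1, fun h => ?_, hcb, ?_⟩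
      · obtain ⟨-, -, hne⟩ := sums h1 M hM hζ
        obtain rfl : b = 1 := by omega
        norm_num at hR
        exact hne hR
      · push_cast at hR ⊢
        linear_combination hR
    rcases key with rfl | rfl
    · exact hmk b hb0 hcb hR
    · refine hmk a ha0 hca ?_
      push_cast at hR ⊢
      linear_combination hR
  · exfalso
    have h := hD1 _ hone (by rw [Fv_oneChar]; rfl)
    exact hqs ((eq_oneChar_of_linear hs hna (apply_one_of_Fv (hFq.trans h))).trans
      (eq_oneChar_of_linear hs hna (apply_one_of_Fv (hFs.trans h))).symm)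

include hX hM in
/-- A character of degree three in the block with small multiplicity is scalar on `K`. -/
theorem eq_one_of_three (hs : IsSimpleGroup G) (hna : ¬ IsMulCommutative G) (hm : N / 2 = 2)
    {r : Cfsg.IrrCharacter G} (hr : r ∈ bs hX M) (hw : wv hX M hM hζ (N / 2) r = 1)
    (hw0 : ∀ j ∈ Finset.Ico 1 (N / 2), wv hX M hM hζ j r = 0)
    (hC : Cv hX M hM hζ r = -wv hX M hM hζ (N / 2) r) (hF : Fv r = 3) : φ = 1 := by
  haveI := hs
  have hN4 : N = 4 := by
    obtain ⟨-, h2, -⟩ := half_even hX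
    omega
  have hF' : (r : G → ℂ) 1 = 3 := by rw [(Fv_spec r).1, hF]; norm_num
  -- the averaged value at one
  have h1 := d_one hX M hM hζ r
  have hsum : ∑ j ∈ Finset.Ico 1 (N / 2), wv hX M hM hζ j r = 0 := Finset.sum_eq_zero hw0
  rw [hw, hsum] at h1
  push_cast at h1
  rw [sub_zero] at h1
  obtain ⟨μ, hμ⟩ : ∃ μ, μ = mult hX M hM hζ r 0 := ⟨_, rfl⟩
  have hN4' : (N : ℂ) = 4 := by exact_mod_cast hN4
  rw [← hμ, hN4'] at h1
  have h0 := d_rot hX M hM hζ r 0
  simp only [mul_zero, AddChar.map_zero_eq_one, mul_one, DihedralBlock.Fourier.rot_zero] at h0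
  rw [h1, ← Nat.cast_sum] at h0
  have hμ1 : 1 ≤ μ := by
    by_contra h
    obtain rfl : μ = 0 := by omega
    have h' : (((∑ i : ZMod N, mult hX M hM hζ r i) + 1 : ℕ) : ℂ) = 0 := by
      push_cast at h0 ⊢
      linear_combination -h0
    exact absurd (Nat.cast_eq_zero.1 h') (by omega)
  -- the bound
  have hterm : ∀ k : ↥(kern σ N), ‖fx φ (k : G)⁻¹ * (r : G → ℂ) (1 * k)‖ ≤ (3 : ℝ) := fun k => by
    rw [norm_mul, one_mul, fx_of_mem φ (inv_mem k.2),
      Complex.norm_eq_one_of_pow_eq_one (n := Nat.card (kern σ N))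
        (by rw [← Units.val_pow_eq_pow_val, ← map_pow, pow_card_eq_one', map_one, Units.val_one])
        Nat.card_pos.ne', one_mul]
    refine (norm_apply_le (isCharacter_irr r) _).trans_eq ?_
    rw [hF']; norm_num
  have hcd := card_mul_d hX M hM r 1
  rw [h1] at hcd
  have hre : ∀ k : ↥(kern σ N), (fx φ (k : G)⁻¹ * (r : G → ℂ) (1 * k)).re ≤ 3 := fun k =>
    (Complex.re_le_norm _).trans (hterm k)
  have hK : (0 : ℝ) < Nat.card (kern σ N) := Nat.cast_pos.2 Nat.card_pos
  have hre' := congrArg Complex.re hcd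
  rw [Complex.re_sum] at hre'
  simp only [Complex.mul_re, Complex.natCast_re, Complex.natCast_im, Complex.sub_re, Complex.sub_im,
    Complex.mul_im, Complex.one_re, Complex.one_im, Complex.re_ofNat, Complex.im_ofNat,
    Nat.cast_ofNat, mul_zero, zero_mul, sub_zero, add_zero] at hre'
  have hμR : (1 : ℝ) ≤ (μ : ℝ) := by exact_mod_cast hμ1
  have hsum3 : ∑ k : ↥(kern σ N), ((3 : ℝ) - (fx φ (k : G)⁻¹ * (r : G → ℂ) (1 * k)).re) ≤ 0 := by
    simp only [Complex.mul_re]
    rw [Finset.sum_sub_distrib, ← hre', Finset.sum_const, Finset.card_univ,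
      ← Nat.card_eq_fintype_card, nsmul_eq_mul]
    nlinarith
  have hnorm : ∀ k : ↥(kern σ N), ‖(r : G → ℂ) k‖ = 3 := by
    intro k
    have h3 := (Finset.sum_eq_zero_iff_of_nonneg fun k _ => sub_nonneg.2 (hre k)).1
      (le_antisymm hsum3 (Finset.sum_nonneg fun k _ => sub_nonneg.2 (hre k))) k (Finset.mem_univ _)
    have h4 := Complex.re_le_norm (fx φ (k : G)⁻¹ * (r : G → ℂ) (1 * k))
    have h5 := le_antisymm (hterm k) (by linarith)
    rwa [norm_mul, one_mul, fx_of_mem φ (inv_mem k.2),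
      Complex.norm_eq_one_of_pow_eq_one (n := Nat.card (kern σ N))
        (by rw [← Units.val_pow_eq_pow_val, ← map_pow, pow_card_eq_one', map_one, Units.val_one])
        Nat.card_pos.ne', one_mul] at h5
  -- faithful
  have hne : (r : G → ℂ) (σ ^ (N / 2)) ≠ (r : G → ℂ) 1 := by
    rw [Cv_eq hX M hM hζ hr, hC, hw, hF']
    norm_num
  have hker := Cfsg.Agent.Lib.Characters.Kernel.charKer_eq_bot_of_simple (isCharacter_irr r) hne
  obtain ⟨m, ρ, hρ⟩ := isCharacter_irr r
  have hm3 : (Module.finrank ℂ (Fin m → ℂ) : ℝ) = 3 := by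
    have e : ((Module.finrank ℂ (Fin m → ℂ) : ℕ) : ℂ) = (3 : ℕ) := by
      rw [← Representation.char_one ρ, hρ, hF']; norm_num
    exact_mod_cast (Nat.cast_injective e)
  have hcomm : ∀ k ∈ kern σ N, ∀ g : G, g * k = k * g := by
    intro k hk g
    have hn := hnorm ⟨k, hk⟩
    rw [← hρ, ← hm3] at hn
    obtain ⟨z, hz⟩ := Cfsg.Agent.Lib.Characters.Diag.exists_smul_of_norm_char_eq ρ k hn
    have hρc : ρ (g * k) = ρ (k * g) := by
      rw [map_mul, map_mul, hz]
      ext v
      simp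
    have hmem : g * k * (k * g)⁻¹ ∈ Cfsg.Agent.Lib.Characters.Kernel.charKer (isCharacter_irr r) := by
      rw [Cfsg.Agent.Lib.Characters.Kernel.mem_charKer, ← hρ,
        ← Cfsg.Agent.Lib.Characters.Kernel.rep_eq_one_iff, map_mul, hρc, ← map_mul, mul_inv_cancel,
        map_one]
    rw [hker, Subgroup.mem_bot] at hmem
    exact mul_inv_eq_one.1 hmem
  refine MonoidHom.ext fun k => ?_
  have hk : (k : G) ∈ Subgroup.center G := Subgroup.mem_center_iff.2 fun g => hcomm k k.2 g
  rcases (inferInstance : (Subgroup.center G).Normal).eq_bot_or_eq_top with hb | ht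
  · rw [hb, Subgroup.mem_bot] at hk
    rw [show k = 1 from Subtype.ext hk, map_one, map_one]
  · exact absurd ⟨⟨fun a b => (Subgroup.mem_center_iff.1 (ht ▸ Subgroup.mem_top b) a)⟩⟩ hna

include hX hM hζ in
/-- **The invariant linear character is trivial.** -/
theorem eq_one (hs : IsSimpleGroup G) (hna : ¬ IsMulCommutative G) {n : ℕ}
    (hN : N = 2 ^ (n - 1)) (hn : 3 ≤ n) : φ = 1 := by
  by_contra hφ
  obtain ⟨X, hX0, hX2, hXR⟩ := exists_X hX M hM hζ hs hna hN hn
  obtain ⟨-, -, hne⟩ := sums hX M hM hζ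
  have hnot : ∀ χ ∈ bs hX M, (Fv χ).natAbs ≠ 1 := by
    intro χ hχ h1
    obtain rfl := eq_oneChar_of_linear hs hna (apply_one_of_Fv h1)
    have h := Cv_eq hX M hM hζ hχ
    rw [oneChar_apply, ← d_half hX M hM hζ, d_oneChar M hM, if_neg hφ] at h
    exact one_ne_zero h
  rcases shapes hX M hM hζ with ⟨p, q, r, s, a, b, c, hpq, hrs, hp, hq, hr, hs', hadef, hbdef, hcdef,
    hedef, ha, hb, hc, he, hCp, hCq, hCr, hCs, hw0, hall, h2c, hab, ha0, hb0, hca, hcb, hR⟩ |
    ⟨h4, D, q, s, hqs, hD, hR, -, -, -⟩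
  · rw [pow_eq hX hN hn] at hca hcb
    have h : (a - b) ^ 2 * ((X + 1) * (X + 2)) = X ^ 2 * (a * b * (a + b)) := by
      have : (((a - b) ^ 2 * ((X + 1) * (X + 2)) : ℤ) : ℂ) =
          ((X ^ 2 * (a * b * (a + b)) : ℤ) : ℂ) := by
        push_cast at hR hXR ⊢
        linear_combination ((a : ℂ) * b * (a + b)) * hXR - (((X : ℂ) + 1) * (X + 2)) * hR
      exact_mod_cast this
    rcases CoinvariantArith.arith hn hX0 hX2 hca hcb h with h1 | h1 | ⟨hn3, h6⟩
    · exact hnot p hp (ha.symm.trans h1)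
    · exact hnot q hq (hb.symm.trans h1)
    · subst hn3
      have hm : N / 2 = 2 := by rw [hN]; norm_num
      have hc3 : c = 3 := by omega
      have hF : Fv r = 3 := by
        have := (Fv_spec r).2
        rw [hc3] at hc
        omega
      refine hφ (eq_one_of_three hX M hM hζ hs hna hm hr ?_ hw0 hCr hF)
      rw [hc3, hF] at hcdef
      omega
  · have hn4 : n = 4 := by
      obtain ⟨-, h2, -⟩ := half_even hX
      have : (2 : ℕ) ^ (n - 1) = 2 ^ 3 := by rw [← hN]; omega
      have := Nat.pow_right_injective le_rfl this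
      omega
    subst hn4
    have h : 32 * ((X + 1) * (X + 2)) = X ^ 2 * (3 * D) := by
      have : ((32 * ((X + 1) * (X + 2)) : ℤ) : ℂ) = ((X ^ 2 * (3 * D) : ℤ) : ℂ) := by
        push_cast at hXR ⊢
        linear_combination (3 * (D : ℂ)) * hXR - (((X : ℂ) + 1) * (X + 2)) * hR
      exact_mod_cast this
    obtain ⟨Y, rfl⟩ := hX2
    have h8 : 1 + 24 * Y + 128 * Y ^ 2 = 4 * (3 * D * Y ^ 2) := by
      linarith [show 64 * (1 + 24 * Y + 128 * Y ^ 2) = 64 * (4 * (3 * D * Y ^ 2)) by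
        linear_combination h]
    omega

end Cfsg.Agent.Lib.GorensteinWalter.Coinvariant

namespace Cfsg.Agent.Lib.GorensteinWalter

open Cfsg.Agent.Lib.Fusion.Dihedral Cfsg.Agent.Lib.DihedralBlock.Sections
open Cfsg.Agent.Lib.DihedralBlock.Order (kern)

/-- Two commuting involutions generate a four-group. -/
theorem isFour_closure_pair {G : Type u} [Group G] {t p : G} (ht : orderOf t = 2)
    (hp : orderOf p = 2) (hne : p ≠ t) (hc : Commute t p) :
    IsFour (Subgroup.closure ({t, p} : Set G)) := by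
  have ht2 : t * t = 1 := by rw [← sq, ← ht, pow_orderOf_eq_one]
  have hp2 : p * p = 1 := by rw [← sq, ← hp, pow_orderOf_eq_one]
  have ht1 : t ≠ 1 := fun e => by rw [e, orderOf_one] at ht; omega
  have hp1 : p ≠ 1 := fun e => by rw [e, orderOf_one] at hp; omega
  have hpt : p * t = t * p := hc.eq.symm
  have e1 : ∀ x, t * (t * x) = x := fun x => by rw [← mul_assoc, ht2, one_mul]
  have e2 : ∀ x, p * (p * x) = x := fun x => by rw [← mul_assoc, hp2, one_mul]
  have e3 : ∀ x, p * (t * x) = t * (p * x) := fun x => by rw [← mul_assoc, hpt, mul_assoc]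
  let R : Subgroup G :=
    { carrier := {1, t, p, t * p}
      one_mem' := Or.inl rfl
      mul_mem' := by
        intro x y hx hy
        simp only [Set.mem_insert_iff, Set.mem_singleton_iff] at hx hy ⊢
        rcases hx with h | h | h | h <;> rcases hy with h' | h' | h' | h' <;> rw [h, h'] <;>
          simp [mul_assoc, e1, e2, e3, ht2, hp2, hpt]
      inv_mem' := by
        intro x hx
        simp only [Set.mem_insert_iff, Set.mem_singleton_iff] at hx ⊢
        rcases hx with h | h | h | h <;> rw [h] <;>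
          simp [mul_inv_rev, inv_eq_of_mul_eq_one_right ht2, inv_eq_of_mul_eq_one_right hp2, hpt] }
  have hR : Subgroup.closure ({t, p} : Set G) = R := by
    refine le_antisymm ((Subgroup.closure_le R).2 ?_) ?_
    · intro x hx
      rcases hx with h | h <;> rw [h]
      · exact Or.inr (Or.inl rfl)
      · exact Or.inr (Or.inr (Or.inl rfl))
    · intro x hx
      rcases hx with h | h | h | h <;> rw [h]
      · exact one_mem _
      · exact Subgroup.subset_closure (Or.inl rfl)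
      · exact Subgroup.subset_closure (Or.inr rfl)
      · exact mul_mem (Subgroup.subset_closure (Or.inl rfl)) (Subgroup.subset_closure (Or.inr rfl))
  refine ⟨?_, fun x hx => ?_⟩
  · rw [hR]
    show Nat.card ({1, t, p, t * p} : Set G) = 4
    rw [Nat.card_coe_set_eq, Set.ncard_insert_of_notMem (by
        simp only [Set.mem_insert_iff, Set.mem_singleton_iff, not_or]
        exact ⟨ht1.symm, hp1.symm, fun e => hne ((inv_eq_of_mul_eq_one_right e.symm).symm.trans
          (inv_eq_of_mul_eq_one_right ht2))⟩),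
      Set.ncard_insert_of_notMem (by
        simp only [Set.mem_insert_iff, Set.mem_singleton_iff, not_or]
        exact ⟨hne.symm, fun e => hp1 (left_eq_mul.1 e)⟩),
      Set.ncard_pair (fun e => ht1 (right_eq_mul.1 e))]
  · rw [hR] at hx
    rcases hx with h | h | h | h <;> rw [h]
    · exact one_mul _
    · exact ht2
    · exact hp2
    · calc t * p * (t * p) = t * (p * t) * p := by group
        _ = (t * t) * (p * p) := by rw [hpt]; group
        _ = 1 := by rw [ht2, hp2, one_mul]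

/-- Two commuting involutory automorphisms of a group of odd order with equal fixed points are
equal. -/
theorem apply_eq_of_fix_eq {H : Type u} [Group H] [Finite H] (hH : Odd (Nat.card H)) (α β : H →* H)
    (hα : ∀ x, α (α x) = x) (hc : ∀ x, α (β x) = β (α x)) (hβ : ∀ x, β (β x) = x)
    (hfix : ∀ x, α x = x ↔ β x = x) (y : H) : α y = β y := by
  have hodd : ∀ o : H, Odd (orderOf o) := fun o => Odd.of_dvd_nat hH (orderOf_dvd_natCard o)
  have hsq1 : ∀ o : H, o * o = 1 → o = 1 := fun o h =>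
    orderOf_eq_one_iff.1 (Nat.eq_one_of_dvd_coprimes (Nat.coprime_two_left.2 (hodd o))
      (orderOf_dvd_of_pow_eq_one (by rw [sq]; exact h)) dvd_rfl)
  have key : ∀ z, α (β z) = z⁻¹ → z = 1 := by
    intro z hz
    obtain ⟨w, hw⟩ : ∃ w, w = z⁻¹ * α z := ⟨_, rfl⟩
    obtain ⟨k, hk⟩ := hodd w
    obtain ⟨i, hi⟩ : ∃ i, i = (w ^ (k + 1))⁻¹ := ⟨_, rfl⟩
    obtain ⟨e, he⟩ : ∃ e, e = z * i⁻¹ := ⟨_, rfl⟩
    have hii : i * i = w⁻¹ := by
      rw [hi, ← mul_inv_rev, ← pow_add, show k + 1 + (k + 1) = 2 * k + 1 + 1 by omega, pow_succ,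
        ← hk, pow_orderOf_eq_one, one_mul]
    have hαw : α w = w⁻¹ := by rw [hw, map_mul, map_inv, hα, mul_inv_rev, inv_inv]
    have hαi : α i = i⁻¹ := by rw [hi, map_inv, map_pow, hαw, inv_pow]
    have hαe : α e = e := by
      have hz' : α z = z * w := by rw [hw, mul_inv_cancel_left]
      have : w * i = i⁻¹ := eq_inv_of_mul_eq_one_left (by rw [mul_assoc, hii, mul_inv_cancel])
      rw [he, map_mul, map_inv, hαi, inv_inv, hz', mul_assoc, this]
    have hτe : α (β e) = e := by rw [(hfix e).1 hαe, hαe]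
    have hzei : z = e * i := by rw [he, inv_mul_cancel_right]
    have hτi : α (β i) = e⁻¹ * i⁻¹ * e⁻¹ := by
      have h := hz
      rw [hzei, map_mul, map_mul, hτe, mul_inv_rev] at h
      calc α (β i) = e⁻¹ * (e * α (β i)) := by group
        _ = e⁻¹ * (i⁻¹ * e⁻¹) := by rw [h]
        _ = _ := by group
    have hq : e * e * i * (e * e) = i := by
      have h1 : α (α (β i)) = (α (β i))⁻¹ := by
        rw [hα]
        conv_rhs => rw [hc, hαi, map_inv, inv_inv]
      rw [hτi, map_mul, map_mul, map_inv, map_inv, hαe, hαi] at h1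
      simp only [mul_inv_rev, inv_inv] at h1
      calc e * e * i * (e * e) = e * (e * (i * e)) * e := by group
        _ = e * (e⁻¹ * i * e⁻¹) * e := by rw [h1]
        _ = i := by group
    obtain ⟨f, hf⟩ : ∃ f, f = e * e := ⟨_, rfl⟩
    rw [← hf] at hq
    have hA : i * f⁻¹ = f * i := by
      calc i * f⁻¹ = f * i * f * f⁻¹ := by rw [hq]
        _ = f * i := by group
    have hB : i * f = f⁻¹ * i := by
      calc i * f = f⁻¹ * (f * i * f) := by group
        _ = f⁻¹ * i := by rw [hq]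
    have hcomm2 : Commute (i * i) f := by
      show i * i * f = f * (i * i)
      calc i * i * f = i * (i * f) := mul_assoc _ _ _
        _ = i * f⁻¹ * i := by rw [hB, mul_assoc]
        _ = f * (i * i) := by rw [hA, mul_assoc]
    obtain ⟨l, hl⟩ := hodd i
    have hic : Commute i f := by
      have h := hcomm2.pow_left (l + 1)
      rwa [← pow_two, ← pow_mul, show 2 * (l + 1) = 2 * l + 1 + 1 by omega, pow_succ, ← hl,
        pow_orderOf_eq_one, one_mul] at h
    have he1 : e = 1 := by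
      refine hsq1 e (hf ▸ hsq1 f ?_)
      rw [← hic.eq, mul_assoc] at hq
      exact mul_eq_left.1 hq
    rw [he1, one_mul] at hzei
    have hαz : α z = z⁻¹ := by rw [hzei]; exact hαi
    have hβz : β z = z := by
      calc β z = α (α (β z)) := (hα _).symm
        _ = α z⁻¹ := by rw [hz]
        _ = z := by rw [map_inv, hαz, inv_inv]
    have h := (hfix z).2 hβz
    rw [hαz] at h
    exact hsq1 z (by nth_rw 1 [← h]; exact inv_mul_cancel z)
  have h := key (y⁻¹ * α (β y)) (by
    rw [map_mul, map_mul, map_inv, map_inv, ← hc (β y), hα, hβ, mul_inv_rev, inv_inv])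
  have hy : α (β y) = y := (inv_mul_eq_one.1 h).symm
  calc α y = α (α (β y)) := by rw [hy]
    _ = β y := hα _

/-- Under two commuting involutory actions with equal fixed points on a group of odd order the
product acts trivially. -/
theorem commute_of_fix_eq {G : Type u} [Group G] {O : Subgroup G} (hO : Odd (Nat.card O)) [Finite G]
    {a b : G} (ha2 : a * a = 1) (hb2 : b * b = 1) (han : ∀ o ∈ O, a * o * a⁻¹ ∈ O)
    (hbn : ∀ o ∈ O, b * o * b⁻¹ ∈ O) (hab : ∀ o ∈ O, Commute (a * b * (a * b)) o)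
    (hfix : ∀ o ∈ O, Commute a o ↔ Commute b o) {y : G} (hy : y ∈ O) : Commute (a * b) y := by
  let α : O →* O := ((MulAut.conj a).toMonoidHom.comp O.subtype).codRestrict O fun x => han x x.2
  let β : O →* O := ((MulAut.conj b).toMonoidHom.comp O.subtype).codRestrict O fun x => hbn x x.2
  have hai : a⁻¹ = a := inv_eq_of_mul_eq_one_right ha2
  have hbi : b⁻¹ = b := inv_eq_of_mul_eq_one_right hb2
  have hiff : ∀ (u : G) (x : G), u * x * u⁻¹ = x ↔ Commute u x := fun u x => mul_inv_eq_iff_eq_mul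
  have h : a * y * a⁻¹ = b * y * b⁻¹ := congrArg Subtype.val (apply_eq_of_fix_eq hO α β
    (fun x => Subtype.ext (by
      show a * (a * x * a⁻¹) * a⁻¹ = x
      calc a * (a * x * a⁻¹) * a⁻¹ = a * a * x * (a * a)⁻¹ := by group
        _ = x := by rw [ha2]; group))
    (fun x => Subtype.ext (by
      show a * (b * x * b⁻¹) * a⁻¹ = b * (a * x * a⁻¹) * b⁻¹
      have h := (hab x x.2).eq
      calc a * (b * x * b⁻¹) * a⁻¹ = b⁻¹⁻¹ * a⁻¹⁻¹ * (a⁻¹ * b⁻¹ * (a * b) * x) * b⁻¹ * a⁻¹ := by group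
        _ = b⁻¹⁻¹ * a⁻¹⁻¹ * (x * (a⁻¹ * b⁻¹ * (a * b))) * b⁻¹ * a⁻¹ := by
          rw [show a⁻¹ * b⁻¹ * (a * b) = a * b * (a * b) by rw [hai, hbi], h]
        _ = _ := by group))
    (fun x => Subtype.ext (by
      show b * (b * x * b⁻¹) * b⁻¹ = x
      calc b * (b * x * b⁻¹) * b⁻¹ = b * b * x * (b * b)⁻¹ := by group
        _ = x := by rw [hb2]; group))
    (fun x => by
      rw [Subtype.ext_iff, Subtype.ext_iff]
      show a * x * a⁻¹ = x ↔ b * x * b⁻¹ = x
      rw [hiff, hiff]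
      exact hfix x x.2)
    ⟨y, hy⟩)
  show a * b * y = y * (a * b)
  calc a * b * y = a * (b * y * b⁻¹) * b := by group
    _ = a * (a * y * a⁻¹) * b := by rw [h]
    _ = (a * a) * y * (a⁻¹ * b) := by group
    _ = y * (a * b) := by rw [ha2, one_mul, hai]

/-- **No invariant linear character of `O(C(t))`.** -/
theorem propCoinvariant (hRot : PropRotation.{u}) : PropCoinvariant.{u} := by
  intro G _ _ hG hK S t a b n hrefl hcl hn hcard hfix _ _ φ hφ
  haveI := Fintype.ofFinite G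
  obtain ⟨m, hm, ⟨e⟩⟩ := hG.dihedral S
  have hm' : 2 * m = 2 ^ n := by
    rw [← hcard, Nat.card_congr e.toEquiv, DihedralGroup.nat_card]
  obtain ⟨j, rfl⟩ : ∃ j, n = j + 3 := ⟨n - 3, by omega⟩
  obtain rfl : m = 2 ^ (j + 2) := by
    rw [pow_succ'] at hm'
    omega
  have h4 : 4 ≤ 2 ^ (j + 2) := by
    rw [pow_add]; have : 1 ≤ 2 ^ j := Nat.one_le_two_pow; omega
  obtain ⟨N, hNdef⟩ : ∃ N, N = 2 ^ (j + 2) := ⟨_, rfl⟩
  haveI : NeZero N := ⟨by omega⟩
  have hord : ∀ {x : G}, orderOf x = 2 → x * x = 1 := fun {x} h => by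
    rw [← sq, ← h, pow_orderOf_eq_one]
  have ha2 := hord hrefl.u_two
  have hb2 := hord hrefl.v_two
  -- the order of `ab`
  set Z := Subgroup.zpowers (a * b) with hZ
  have hdec : ∀ g ∈ (S : Subgroup G), g ∈ Z ∨ g * a ∈ Z := by
    intro g hg
    rw [← hcl] at hg
    have hb' : b * a ∈ Z := by
      have : b * a = (a * b)⁻¹ := by
        rw [mul_inv_rev, inv_eq_of_mul_eq_one_right ha2, inv_eq_of_mul_eq_one_right hb2]
      rw [this]
      exact inv_mem (Subgroup.mem_zpowers _)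
    have haZ : ∀ z ∈ Z, a * z * a ∈ Z := by
      intro z hz
      obtain ⟨i, rfl⟩ := Subgroup.mem_zpowers_iff.1 hz
      have hai : a⁻¹ = a := inv_eq_of_mul_eq_one_right ha2
      have h1 : a * (a * b) ^ i * a⁻¹ = (a * (a * b) * a⁻¹) ^ i := (conj_zpow).symm
      rw [hai] at h1
      rw [h1, ← mul_assoc, ha2, one_mul]
      exact zpow_mem hb' i
    induction hg using Subgroup.closure_induction with
    | mem x hx =>
      rcases hx with rfl | rfl
      · right; rw [ha2]; exact one_mem _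
      · right; exact hb'
    | one => left; exact one_mem _
    | mul x y _ _ hx hy =>
      have hyy : ∀ {y : G}, y * a ∈ Z → a * y ∈ Z := fun {y} h => by
        have := haZ _ h
        rwa [mul_assoc, mul_assoc y, ha2, mul_one] at this
      rcases hx with hx | hx <;> rcases hy with hy | hy
      · left; exact mul_mem hx hy
      · right; rw [mul_assoc]; exact mul_mem hx hy
      · right
        have := mul_mem hx (haZ _ hy)
        rwa [show x * a * (a * y * a) = x * (a * a) * y * a by group, ha2, mul_one] at this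
      · left
        have := mul_mem hx (hyy hy)
        rwa [show x * a * (a * y) = x * (a * a) * y by group, ha2, mul_one] at this
    | inv x _ hx =>
      rcases hx with hx | hx
      · left; exact inv_mem hx
      · right
        have := haZ _ (inv_mem hx)
        rwa [mul_inv_rev, inv_eq_of_mul_eq_one_right ha2,
          show a * (a * x⁻¹) * a = (a * a) * x⁻¹ * a by group, ha2, one_mul] at this
  have hle : Nat.card (S : Subgroup G) ≤ 2 * Nat.card Z := by
    let f : Bool × Z → G := fun x => if x.1 then (x.2 : G) else (x.2 : G) * a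
    have hsub : ((S : Subgroup G) : Set G) ⊆ Set.range f := by
      intro g hg
      rcases hdec g hg with h | h
      · exact ⟨(true, ⟨g, h⟩), rfl⟩
      · refine ⟨(false, ⟨g * a, h⟩), ?_⟩
        show g * a * a = g
        rw [mul_assoc, ha2, mul_one]
    calc Nat.card (S : Subgroup G) = ((S : Subgroup G) : Set G).ncard := (Nat.card_coe_set_eq _)
      _ ≤ (Set.range f).ncard := Set.ncard_le_ncard hsub (Set.toFinite _)
      _ ≤ Nat.card (Bool × Z) := by
        rw [← Nat.card_coe_set_eq]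
        exact Finite.card_range_le f
      _ = 2 * Nat.card Z := by rw [Nat.card_prod, Nat.card_eq_fintype_card (α := Bool)]; rfl
  have haS := hrefl.u_mem
  have hbS := hrefl.v_mem
  have hσo : orderOf (a * b) = N := by
    have hdvd : orderOf (a * b) ∣ 2 * N := by
      rw [hNdef, hm', ← hcard]
      exact Subgroup.orderOf_dvd_natCard _ (mul_mem haS hbS)
    rw [hcard, hZ, Nat.card_zpowers, ← hm', ← hNdef] at hle
    have hne : orderOf (a * b) ≠ 2 * N := by
      intro h
      have hgen : ∀ g : (S : Subgroup G), g ∈ Subgroup.zpowers (⟨a * b, mul_mem haS hbS⟩ : (S : Subgroup G)) := by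
        intro g
        have : Subgroup.zpowers (⟨a * b, mul_mem haS hbS⟩ : (S : Subgroup G)) = ⊤ :=
          Subgroup.eq_top_of_card_eq _ (by
            rw [Nat.card_zpowers, Subgroup.orderOf_mk, h, hcard, hNdef, hm'])
        exact this ▸ Subgroup.mem_top g
      haveI : IsCyclic (S : Subgroup G) := ⟨⟨_, hgen⟩⟩
      haveI : IsCyclic (DihedralGroup (2 ^ (j + 2))) := isCyclic_of_surjective e e.surjective
      exact DihedralGroup.not_isCyclic (n := 2 ^ (j + 2)) (by omega) inferInstance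
    obtain ⟨c, hc⟩ := hdvd
    rcases c with _ | _ | _ | c
    · omega
    · omega
    · omega
    · have : 3 * orderOf (a * b) ≤ orderOf (a * b) * (c + 1 + 1 + 1) := by
        rw [mul_comm 3]; exact Nat.mul_le_mul_left _ (by omega)
      omega
  subst hNdef
  set σ := a * b with hσ
  have hR : Rot S (2 ^ (j + 2)) σ := rot_of_equiv e h4 ⟨2 ^ j, by ring⟩ (mul_mem haS hbS) hσo
  have ht : t = σ ^ (2 ^ (j + 2) / 2) := by
    refine hR.eq_half ?_ (fun h => by have := hrefl.t_two; rw [h, orderOf_one] at this; omega)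
      (hord hrefl.t_two)
    refine hR.centralizer_le hrefl.t_mem (Subgroup.mem_zpowers σ) (fun h => ?_)
      (hrefl.central _ hR.mem).symm
    have := Nat.le_of_dvd two_pos (orderOf_dvd_of_pow_eq_one (x := σ) (n := 2) (by rw [sq]; exact h))
    rw [hσo] at this
    omega
  subst ht
  obtain ⟨M, hM⟩ := Cfsg.Agent.Lib.Blocks.exists_isPModular 2 Nat.prime_two
  haveI := hM.2.1
  haveI := Cfsg.Agent.Lib.BrauerPairs.Bridge.charP_res hM
  have hnorm : ∀ s ∈ (S : Subgroup G), ∀ o ∈ coreC (σ ^ (2 ^ (j + 2) / 2)),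
      s * o * s⁻¹ ∈ coreC (σ ^ (2 ^ (j + 2) / 2)) := fun s hs o ho =>
    Cfsg.Agent.Lib.DihedralBlock.Order.kern_conj (hR.le_centralizer_half hs) ho
  have hrot := hRot G hG hK S _ (by rw [hcard, ← hm']; omega) hrefl.t_mem hrefl.t_two hrefl.central
  have hcent : ∀ k ∈ coreC (σ ^ (2 ^ (j + 2) / 2)), Commute σ k := fun k hk =>
    commute_of_fix_eq (coreC_odd _) ha2 hb2
      (hnorm a haS) (hnorm b hbS)
      (fun o ho => (Subgroup.mem_centralizer_singleton_iff.1
        (hrot σ (mul_mem haS hbS) ho)).symm)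
      (fun o ho => by
        have h1 : ∀ u : G, Commute u o ↔ o ∈ coreFix (σ ^ (2 ^ (j + 2) / 2)) u := fun u =>
          ⟨fun h => ⟨ho, Subgroup.mem_centralizer_singleton_iff.2 h.eq.symm⟩,
            fun h => (Subgroup.mem_centralizer_singleton_iff.1 h.2).symm⟩
        rw [h1 a, h1 b, hfix])
      hk
  have hX : CoinvariantPairs.Ctx S (2 ^ (j + 2)) σ φ := by
    refine ⟨hR, hcent, fun i hi => hG.isConj hrefl.t_two hi, fun p hp hpz => ?_,
      fun c hc x y hxy => ?_⟩
    · have hp2 := (hR.inverts p hp hpz).1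
      have hp1 : p ≠ 1 := fun h => hpz (h ▸ one_mem _)
      have hne : p ≠ σ ^ (2 ^ (j + 2) / 2) :=
        fun h => hpz (h ▸ pow_mem (Subgroup.mem_zpowers σ) _)
      have hV := isFour_closure_pair hrefl.t_two
        (orderOf_eq_prime (by rw [sq]; exact hp2) hp1) hne (hrefl.central p hp).symm
      obtain ⟨g, -, hgn, hg⟩ := (hG.fusedIn_top hV).2.2 p (Subgroup.subset_closure (Or.inr rfl)) hp1
        (σ ^ (2 ^ (j + 2) / 2)) (Subgroup.subset_closure (Or.inl rfl)) hR.half_ne
      exact ⟨g, hgn, hg⟩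
    · obtain ⟨q, hq, hk⟩ := Cfsg.Agent.Lib.DihedralBlock.Order.exists_coset hR hc
      have hqx := Cfsg.Agent.Lib.DihedralBlock.Order.kern_conj (hR.le_centralizer_half hq) x.2
      have hy : y = ⟨c * q⁻¹, hk⟩ * ⟨q * x * q⁻¹, hqx⟩ * ⟨c * q⁻¹, hk⟩⁻¹ := by
        refine Subtype.ext (hxy.trans ?_)
        show c * (x : G) * c⁻¹ = c * q⁻¹ * (q * x * q⁻¹) * (c * q⁻¹)⁻¹
        group
      rw [hy]
      refine ((map_mul φ _ _).trans ?_).trans (hφ q hq x ⟨q * x * q⁻¹, hqx⟩ rfl)
      refine Eq.trans (congrArg₂ (· * ·) (map_mul φ _ _) (map_inv φ _)) ?_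
      exact mul_inv_cancel_comm _ _
  exact Coinvariant.eq_one hX M hM (Complex.isPrimitiveRoot_exp _ (by omega)) hG.simple
    hG.nonabelian (n := j + 3) (by rw [show j + 3 - 1 = j + 2 by omega]) (by omega)

end Cfsg.Agent.Lib.GorensteinWalter
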