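import Cfsg.Agent.Lib.GorensteinWalter.ComparableB2

/-!
# Section C: `PropComparable`

In case both reflections move `O_p(O)` the conjugates of `Y = Q ∩ C(u)` meet trivially modulo the centre, and
the torus of `v` divides their number.
-/

set_option autoImplicit false
set_option linter.unusedSectionVars false
set_option linter.style.haveILetI false

namespace Cfsg.Agent.Lib.GorensteinWalter

open Cfsg.Agent.Lib.Fusion.Dihedral

universe u

variable {G : Type u} [Group G] [Finite G]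

/-- Factorisation: an invariant Sylow subgroup bounds the order. -/
theorem factorization_le_of_invariant {s : G} {A B : Subgroup G} {q : ℕ} [Fact q.Prime]
    (hA : Odd (Nat.card A)) (hs : s * s = 1) (hn : s ∈ Subgroup.normalizer (A : Set G))
    (h : ∀ R : Subgroup G, IsPGroup q R → R ≤ A → s ∈ Subgroup.normalizer (R : Set G) → R ≤ B) :
    (Nat.card A).factorization q ≤ (Nat.card B).factorization q := by
  haveI : Fact (Nat.Prime 2) := ⟨Nat.prime_two⟩
  have h2 : IsPGroup 2 (Subgroup.zpowers s) := isPGroup_zpowers (k := 1) (by rw [pow_one, sq, hs])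
  obtain ⟨k, hk⟩ := h2.exists_card_eq
  have hcop : (Nat.card (Subgroup.zpowers s)).Coprime (Nat.card A) := by
    rw [hk]; exact (Nat.coprime_two_left.2 hA).pow_left k
  obtain ⟨R, hR⟩ := Coprime.exists_invariant_sylow (Subgroup.zpowers_le.2 hn) hcop
    (Or.inl (Coprime.isSolvable_zpowers s)) q
  have h1 := Subgroup.card_dvd_of_le
    (h _ (R.2.map _) (Subgroup.map_subtype_le _) (hR (Subgroup.mem_zpowers s)))
  rw [Coprime.card_sylow_map R] at h1
  exact ((Fact.out : q.Prime).pow_dvd_iff_le_factorization Nat.card_pos.ne').1 h1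

namespace Pair

variable {S : Sylow 2 G} {t u v : G} (P : Pair S t u v)
include P

/-- Case B with `Q ∩ C(u) ≠ 1` is impossible. -/
theorem caseB_false {p : ℕ} [Fact p.Prime]
    (hu : ¬ fitP p (coreC t) ⊓ Subgroup.centralizer ({u} : Set G) ≤ Subgroup.centralizer ({v} : Set G))
    (hv : ¬ fitP p (coreC t) ⊓ Subgroup.centralizer ({v} : Set G) ≤ Subgroup.centralizer ({u} : Set G))
    (hY : fitY p (coreC t) u ≠ ⊥) : False := by
  classical
  set O := coreC t with hO
  set F := fitP p O with hF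
  set Q := fitQ p O with hQ
  set Z := fitZ p O with hZ
  set Y := fitY p O u with hYdef
  set W := fitW p O u with hW
  have hQF : Q ≤ F := fitQ_le
  have hYF : Y ≤ F := inf_le_left.trans hQF
  have hFO : F ≤ O := fitP_le p
  have hnu : u ∈ Subgroup.normalizer (F : Set G) := normalizer_le_normalizer_fitP p P.u_normalizes
  have hnv : v ∈ Subgroup.normalizer (F : Set G) := normalizer_le_normalizer_fitP p P.symm.u_normalizes
  have hYle : Y ≤ coreFix t u := inf_le_inf_right _ (hQF.trans hFO)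
  have hYu : ∀ y ∈ Y, y * u = u * y := fun y hy => Subgroup.mem_centralizer_singleton_iff.1 hy.2
  have hYinv : ∀ y ∈ Y, v * y * v⁻¹ = y⁻¹ := fun y hy => P.inverted_of_fixed hu hv (hYF hy) (hYu y hy)
  have hvY : v ∈ Subgroup.normalizer (Y : Set G) := Subgroup.mem_normalizer_fintype fun y hy => by
    rw [SetLike.mem_coe, hYinv y hy]; exact inv_mem hy
  have huY : u ∈ Subgroup.normalizer (Y : Set G) := mem_normalizer_of_commute fun y hy => (hYu y hy).symm
  obtain ⟨x₀, hx₀, hx₀1⟩ := Y.bot_or_exists_ne_one.resolve_left hY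
  have hmov : ¬ Y ≤ Subgroup.centralizer ({v} : Set G) := fun h => hx₀1
    (eq_one_of_fixed_inverted (P.odd_of_mem (hFO (hYF hx₀))) (hYinv x₀ hx₀)
      (Subgroup.mem_centralizer_singleton_iff.1 (h hx₀)))
  obtain ⟨T, T', hT0, hcop, h2T, hT', hN⟩ :=
    P.counting hY hYle hvY hmov (P.fused_fix hu ((fitP_isPGroup p).to_le hYF) hY hYle)
  set A := O ⊓ Subgroup.normalizer (Y : Set G) with hA
  set A₀ := O ⊓ Subgroup.normalizer (W : Set G) with hA₀
  -- the centraliser of `Y` in `O_p(O)`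
  set N := F ⊓ Subgroup.centralizer (Y : Set G) with hNdef
  have hNA : N ≤ A := le_inf (inf_le_left.trans hFO) (inf_le_right.trans (Subgroup.centralizer_le_normalizer _))
  have hAN : A ≤ Subgroup.normalizer (N : Set G) := fun g hg => Subgroup.mem_normalizer_fintype fun z hz =>
    Subgroup.mem_inf.2 ⟨conj_mem_of_mem_normalizer (le_normalizer_fitP p hg.1) hz.1,
      conj_mem_of_mem_normalizer (normalizer_le_normalizer_centralizer _ hg.2) hz.2⟩
  have huN : u ∈ Subgroup.normalizer (N : Set G) := Subgroup.mem_normalizer_fintype fun z hz =>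
    Subgroup.mem_inf.2 ⟨conj_mem_of_mem_normalizer hnu hz.1,
      conj_mem_of_mem_normalizer (normalizer_le_normalizer_centralizer _ huY) hz.2⟩
  have hFne : F ≠ ⊥ := fun e => hY (le_bot_iff.1 (e ▸ hYF))
  have hNdvd := hN p N ((fitP_isPGroup p).to_le inf_le_left) hNA hAN huN (P.noConf_of_fitP hFne)
  have hZN : Z ≤ N := le_inf fitZ_le fun z hz => Subgroup.mem_centralizer_iff.2 fun y hy =>
    (fitZ_comm hz (hYF hy)).symm
  have hpT : p ∣ T := by
    refine dvd_of_card_dvd ((fitP_isPGroup p).to_le inf_le_left) inf_le_left (fun e => ?_) hNdvd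
    refine P.fitZ_ne_bot hu hv ((Subgroup.eq_bot_iff_forall _).2 fun z hz => P.fitZ_fixed hu hv hz ?_)
    exact Subgroup.mem_centralizer_singleton_iff.1 ((e.ge.trans inf_le_right) (hZN hz))
  have hcT : Nat.card Z ≤ T := by
    set Nu := N ⊓ Subgroup.centralizer ({u} : Set G) with hNu
    have hle : Nat.card Z * Nat.card Nu ≤ Nat.card N := by
      let f : Z × Nu → N := fun x => ⟨(x.1 : G) * x.2, mul_mem (hZN x.1.2) x.2.2.1⟩
      have hf : Function.Injective f := by
        rintro ⟨z, n⟩ ⟨z', n'⟩ e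
        have e1 : (z : G) * n = z' * n' := congrArg Subtype.val e
        have e2 : (z' : G)⁻¹ * z = n' * (n : G)⁻¹ := by
          calc (z' : G)⁻¹ * z = (z' : G)⁻¹ * ((z : G) * n) * (n : G)⁻¹ := by group
            _ = _ := by rw [e1]; group
        have hn' : (n' : G) * (n : G)⁻¹ ∈ Subgroup.centralizer ({u} : Set G) := mul_mem n'.2.2 (inv_mem n.2.2)
        have h1 := P.fitZ_fixed hu hv (mul_mem (inv_mem z'.2) z.2)
          (Subgroup.mem_centralizer_singleton_iff.1 (e2.symm ▸ hn'))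
        have h2 : (z : G) = z' := (inv_mul_eq_one.1 h1).symm
        exact Prod.ext (Subtype.ext h2) (Subtype.ext (mul_left_cancel (h2 ▸ e1)))
      have := Nat.card_le_card_of_injective f hf
      rwa [Nat.card_prod] at this
    exact Nat.le_of_mul_le_mul_right (hle.trans (Nat.le_of_dvd (Nat.mul_pos hT0 Nat.card_pos) hNdvd))
      Nat.card_pos
  -- `T'` divides the index of `A₀`
  have hnorm : u ∈ Subgroup.normalizer (A₀ : Set G) := by
    have huW : u ∈ Subgroup.normalizer (W : Set G) := Subgroup.mem_normalizer_fintype fun w hw => by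
      obtain ⟨y, hy, z, hz, rfl⟩ := mem_fitW.1 hw
      rw [SetLike.mem_coe, mem_fitW]
      exact ⟨_, conj_mem_of_mem_normalizer huY hy, _,
        conj_mem_of_mem_normalizer (normalizer_le_normalizer_fitZ hnu) hz, by group⟩
    exact Subgroup.mem_normalizer_fintype fun g hg => Subgroup.mem_inf.2 ⟨P.conj_mem hg.1,
      mul_mem (mul_mem huW hg.2) (inv_mem huW)⟩
  have hnormv : v ∈ Subgroup.normalizer (A : Set G) := Subgroup.mem_normalizer_fintype fun g hg =>
    Subgroup.mem_inf.2 ⟨P.symm.conj_mem hg.1, mul_mem (mul_mem hvY hg.2) (inv_mem hvY)⟩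
  have hother : ∀ q : ℕ, q.Prime → q ∣ T' → q ≠ p ∧ fitP q O = ⊥ := by
    intro q hq hqT
    haveI := Fact.mk hq
    have hqT' : ¬ q ∣ T := fun h => hq.not_dvd_one (hcop ▸ Nat.dvd_gcd h hqT)
    have hqp : q ≠ p := fun e => hqT' (e ▸ hpT)
    refine ⟨hqp, ?_⟩
    by_contra hne
    have hbot : fitP q O ⊓ Subgroup.centralizer ({u} : Set G) = ⊥ := (Subgroup.eq_bot_iff_forall _).2
      fun f hf => P.eq_one_of_fixed_other hu hv hqp hf.1 (Subgroup.mem_centralizer_singleton_iff.1 hf.2)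
    refine hqT' (dvd_of_card_dvd (fitP_isPGroup q) inf_le_left (fun e => hne (e.symm.trans hbot))
      (hN q _ (fitP_isPGroup q) (le_inf (fitP_le q) fun f hf => mem_normalizer_of_commute fun y hy =>
        fitP_commute hqp hf (hYF hy)) (inf_le_left.trans (le_normalizer_fitP q))
        (normalizer_le_normalizer_fitP q P.u_normalizes) (P.noConf_of_fitP hne)))
  set N₀ := A₀.relIndex O with hN₀
  have hN₀pos : 0 < N₀ := Nat.pos_of_ne_zero Subgroup.index_ne_zero_of_finite
  have hAodd : Odd (Nat.card A) := P.odd.of_dvd_nat (Subgroup.card_dvd_of_le inf_le_left)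
  have hA₀odd : Odd (Nat.card A₀) := P.odd.of_dvd_nat (Subgroup.card_dvd_of_le inf_le_left)
  have hT'N : T' ∣ N₀ := by
    rw [← Nat.factorization_le_iff_dvd (by omega) hN₀pos.ne']
    intro q
    by_cases hqT : q.Prime ∧ q ∣ T'
    swap
    · rw [Finsupp.notMem_support_iff.1 fun h => hqT
        (by rwa [Nat.support_factorization, Nat.mem_primeFactors, ← and_assoc,
          and_iff_left (by omega : T' ≠ 0)] at h)]
      exact zero_le
    obtain ⟨hq, hqT⟩ := hqT
    haveI := Fact.mk hq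
    obtain ⟨hqp, hFq⟩ := hother q hq hqT
    have h1 : (Nat.card A₀).factorization q ≤ (Nat.card A).factorization q := by
      refine factorization_le_of_invariant hA₀odd P.uu hnorm fun R hR hRA huR r hr =>
        Subgroup.mem_inf.2 ⟨(hRA hr).1, ?_⟩
      have hRO : Odd (Nat.card R) := hA₀odd.of_dvd_nat (Subgroup.card_dvd_of_le hRA)
      obtain ⟨c, hc, hcu, l, hl, hlu, rfl⟩ := exists_fixed_mul_inverted hRO P.uu
        (fun y hy => conj_mem_of_mem_normalizer huR hy) hr
      obtain ⟨k, hk⟩ := hR ⟨l, hl⟩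
      refine mul_mem (Subgroup.mem_normalizer_fintype fun y hy => ?_)
        (P.mem_normalizer_fitY_of_inverted hu hv hqp (hRA hl).1 (congrArg Subtype.val hk) hlu (hRA hl).2)
      refine P.fitY_fixed hu hv (conj_mem_of_mem_normalizer (hRA hc).2 (Subgroup.mem_sup_left hy)) ?_
      have hc' : c ∈ Subgroup.centralizer ({u} : Set G) := Subgroup.mem_centralizer_singleton_iff.2 hcu.symm
      have hy' : y ∈ Subgroup.centralizer ({u} : Set G) := hy.2
      exact Subgroup.mem_centralizer_singleton_iff.1 (mul_mem (mul_mem hc' hy') (inv_mem hc'))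
    have h2 : (Nat.card A).factorization q ≤
        (Nat.card ↥(A ⊓ Subgroup.centralizer ({v} : Set G))).factorization q := by
      refine factorization_le_of_invariant hAodd P.vv hnormv fun R hR hRA hvR r hr =>
        Subgroup.mem_inf.2 ⟨hRA hr, Subgroup.mem_centralizer_singleton_iff.2 ?_⟩
      by_contra hne
      obtain ⟨l, hl, hl1, hlv⟩ := exists_inverted P.vv
        (fun y hy => conj_mem_of_mem_normalizer hvR hy) hr (fun e => hne e.symm)
      obtain ⟨k, hk⟩ := hR ⟨l, hl⟩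
      exact hl1 (P.eq_one_of_inverted hu hv hqp hFq hY (hRA hl).1 (congrArg Subtype.val hk) hlv (hRA hl).2)
    have h3 : T' * Nat.card ↥(A ⊓ Subgroup.centralizer ({v} : Set G)) ∣ Nat.card A₀ * N₀ := by
      have h4 := Subgroup.relIndex_mul_relIndex ⊥ A₀ O bot_le inf_le_left
      rw [Subgroup.relIndex_bot_left, Subgroup.relIndex_bot_left] at h4
      rw [h4]
      exact hT'
    have h5 := (Nat.factorization_le_iff_dvd (Nat.mul_pos (by omega) Nat.card_pos).ne'
      (Nat.mul_pos Nat.card_pos hN₀pos).ne').2 h3 q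
    rw [Nat.factorization_mul (by omega) Nat.card_pos.ne', Nat.factorization_mul Nat.card_pos.ne' hN₀pos.ne',
      Finsupp.add_apply, Finsupp.add_apply] at h5
    omega
  -- the count
  have hbc : Nat.card ↥(Q ⊓ Subgroup.centralizer ({v} : Set G)) ≤ Nat.card Z := by
    let f : ↥(Q ⊓ Subgroup.centralizer ({v} : Set G)) → Z := fun y =>
      ⟨x₀ * y * x₀⁻¹ * (y : G)⁻¹, fitQ_comm_mem hx₀.1 (hQF y.2.1)⟩
    refine Nat.card_le_card_of_injective f fun a b e => ?_
    have e1 : x₀ * (a : G) * x₀⁻¹ * (a : G)⁻¹ = x₀ * b * x₀⁻¹ * (b : G)⁻¹ := congrArg Subtype.val e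
    have h1 : x₀ * ((b : G)⁻¹ * a) = (b : G)⁻¹ * a * x₀ := by
      calc x₀ * ((b : G)⁻¹ * a) =
            ((x₀ * b * x₀⁻¹ * (b : G)⁻¹) * b)⁻¹ * ((x₀ * a * x₀⁻¹ * (a : G)⁻¹) * a) * x₀ := by group
        _ = (b : G)⁻¹ * a * x₀ := by rw [e1]; group
    have hb : (b : G)⁻¹ * a ∈ Subgroup.centralizer ({v} : Set G) := mul_mem (inv_mem b.2.2) a.2.2
    have h2 := P.eq_one_of_commute hu hv (hYF hx₀) (hYu x₀ hx₀) hx₀1 (hQF (mul_mem (inv_mem b.2.1) a.2.1))
      (Subgroup.mem_centralizer_singleton_iff.1 hb) h1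
    exact Subtype.ext (inv_mul_eq_one.1 h2).symm
  have hspread : ∀ o ∈ O, ∀ x ∈ Y, x ≠ 1 → o * x * o⁻¹ ∈ W → o ∈ A₀ := by
    intro o ho x hx hx1 hox
    have hoF : o ∈ Subgroup.normalizer (F : Set G) := le_normalizer_fitP p ho
    obtain ⟨y, hy, z, hz, hoy⟩ := mem_fitW.1 hox
    have hy1 : y ≠ 1 := fun e => hx1 (by
      rw [e, one_mul] at hoy
      have h1 : o⁻¹ * (o * x * o⁻¹) * o ∈ Z :=
        (Subgroup.mem_normalizer_iff''.1 (normalizer_le_normalizer_fitZ hoF) _).1 (hoy ▸ hz)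
      rw [show o⁻¹ * (o * x * o⁻¹) * o = x by group] at h1
      exact P.fitZ_fixed hu hv h1 (hYu x hx))
    refine Subgroup.mem_inf.2 ⟨ho, Subgroup.mem_normalizer_fintype fun w hw => ?_⟩
    have hwQ : o * w * o⁻¹ ∈ Q := conj_mem_of_mem_normalizer (normalizer_le_normalizer_fitQ hoF) (fitW_le hw)
    refine P.centralizer_fitQ hu hv hy hy1 hwQ ?_
    have h1 : Commute (o * x * o⁻¹) (o * w * o⁻¹) :=
      Commute.map (P.fitW_comm hu hv (Subgroup.mem_sup_left hx) hw) (MulAut.conj o).toMonoidHom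
    have h2 : Commute z (o * w * o⁻¹) := fitZ_comm hz (hQF hwQ)
    have h3 := h1.mul_left h2.inv_left
    rwa [hoy, mul_inv_cancel_right] at h3
  haveI : (Z.subgroupOf Q).Normal := Subgroup.normal_subgroupOf_of_le_normalizer
    ((hQF.trans Subgroup.le_normalizer).trans normalizer_le_normalizer_fitZ)
  let π : Q →* Q ⧸ Z.subgroupOf Q := QuotientGroup.mk' _
  let f : G → G → Q ⧸ Z.subgroupOf Q := fun g x => if h : g * x * g⁻¹ ∈ Q then π ⟨_, h⟩ else 1
  have hmem : ∀ g ∈ O, ∀ x ∈ Y, g * x * g⁻¹ ∈ Q := fun g hg x hx =>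
    conj_mem_of_mem_normalizer (normalizer_le_normalizer_fitQ (le_normalizer_fitP p hg)) hx.1
  have hcount : N₀ * (Nat.card Y - 1) + 1 ≤ Nat.card (Q ⧸ Z.subgroupOf Q) := by
    refine spread_count (1 : Q ⧸ Z.subgroupOf Q) f (fun g hg x hx hx1 => ?_)
      (fun g hg g' hg' x hx x' hx' hx1 _ h => ?_) (fun g hg x hx x' hx' _ _ h => ?_)
    · simp only [f, dif_pos (hmem g hg x hx)]
      intro e
      have h1 : g * x * g⁻¹ ∈ Z := Subgroup.mem_subgroupOf.1 ((QuotientGroup.eq_one_iff _).1 e)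
      have h2 := (Subgroup.mem_normalizer_iff''.1 (normalizer_le_normalizer_fitZ (le_normalizer_fitP p hg)) _).1 h1
      rw [show g⁻¹ * (g * x * g⁻¹) * g = x by group] at h2
      exact hx1 (P.fitZ_fixed hu hv h2 (hYu x hx))
    · simp only [f, dif_pos (hmem g hg x hx), dif_pos (hmem g' hg' x' hx')] at h
      have h1 : (g' * x' * g'⁻¹)⁻¹ * (g * x * g⁻¹) ∈ Z :=
        Subgroup.mem_subgroupOf.1 (QuotientGroup.eq.1 h.symm)
      refine hspread _ (mul_mem (inv_mem hg') hg) x hx hx1 ?_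
      have h2 := (Subgroup.mem_normalizer_iff''.1
        (normalizer_le_normalizer_fitZ (le_normalizer_fitP p hg')) _).1 h1
      refine mem_fitW.2 ⟨x', hx', _, h2, ?_⟩
      group
    · simp only [f, dif_pos (hmem g hg x hx), dif_pos (hmem g hg x' hx')] at h
      have h1 : (g * x * g⁻¹)⁻¹ * (g * x' * g⁻¹) ∈ Z := Subgroup.mem_subgroupOf.1 (QuotientGroup.eq.1 h)
      have h2 := (Subgroup.mem_normalizer_iff''.1
        (normalizer_le_normalizer_fitZ (le_normalizer_fitP p hg)) _).1 h1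
      rw [show g⁻¹ * ((g * x * g⁻¹)⁻¹ * (g * x' * g⁻¹)) * g = x⁻¹ * x' by group] at h2
      exact inv_mul_eq_one.1 (P.fitZ_fixed hu hv h2 (hYu _ (mul_mem (inv_mem hx) hx')))
  have hab : Nat.card (Q ⧸ Z.subgroupOf Q) ≤
      Nat.card Y * Nat.card ↥(Q ⊓ Subgroup.centralizer ({v} : Set G)) := by
    rw [← Nat.card_prod]
    refine Nat.card_le_card_of_surjective
      (fun x : Y × ↥(Q ⊓ Subgroup.centralizer ({v} : Set G)) => π ⟨(x.1 : G) * x.2, mul_mem x.1.2.1 x.2.2.1⟩)
      fun q => ?_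
    obtain ⟨q, rfl⟩ := QuotientGroup.mk'_surjective _ q
    obtain ⟨a, ha, hau, b, hb, hbv, z, hz, hq⟩ := P.fitQ_factor hu hv q.2
    refine ⟨(⟨a, ha, Subgroup.mem_centralizer_singleton_iff.2 hau⟩,
      ⟨b, hb, Subgroup.mem_centralizer_singleton_iff.2 hbv⟩), ?_⟩
    refine QuotientGroup.eq.2 (Subgroup.mem_subgroupOf.2 ?_)
    show (a * b)⁻¹ * (q : G) ∈ Z
    rw [hq, inv_mul_cancel_left]
    exact hz
  have ha3 : 3 ≤ Nat.card Y := by
    obtain ⟨k, hk⟩ := P.odd.of_dvd_nat (Subgroup.card_dvd_of_le (show Y ≤ O from hYF.trans hFO))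
    have : Nat.card Y ≠ 1 := fun e => hY (Subgroup.card_eq_one.1 e)
    omega
  have hc3 : 3 ≤ Nat.card Z := by
    obtain ⟨k, hk⟩ := P.odd.of_dvd_nat (Subgroup.card_dvd_of_le (show Z ≤ O from fitZ_le.trans hFO))
    have : Nat.card Z ≠ 1 := fun e => P.fitZ_ne_bot hu hv (Subgroup.card_eq_one.1 e)
    omega
  exact count_false ha3 Nat.card_pos hbc hc3 hcT h2T (Nat.le_of_dvd hN₀pos hT'N) (hcount.trans hab)

/-- Both cases are impossible. -/
theorem false_of_moved {p : ℕ} [Fact p.Prime]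
    (hp : ¬ fitP p (coreC t) ⊓ Subgroup.centralizer ({u} : Set G) ≤ Subgroup.centralizer ({v} : Set G)) :
    False := by
  by_cases hA : ∀ s, s.Prime →
      fitP s (coreC t) ⊓ Subgroup.centralizer ({v} : Set G) ≤ Subgroup.centralizer ({u} : Set G)
  · exact P.caseA_false hp hA
  push Not at hA
  obtain ⟨s, hs, hv⟩ := hA
  haveI := Fact.mk hs
  obtain rfl := P.moved_prime_eq hp hv
  by_cases hY : fitY p (coreC t) u = ⊥
  · by_cases hY' : fitY p (coreC t) v = ⊥
    · -- then the second centre is the centre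
      have hne : fitZ p (coreC t) ≠ fitP p (coreC t) := fun e => hp fun x hx => by
        have h1 : x = 1 :=
          P.fitZ_fixed hp hv (e.ge hx.1) (Subgroup.mem_centralizer_singleton_iff.1 hx.2)
        rw [h1]; exact one_mem _
      obtain ⟨q, hq, hqZ⟩ := exists_fitQ_not_fitZ hne
      obtain ⟨a, ha, hau, b, hb, hbv, z, hz, rfl⟩ := P.fitQ_factor hp hv hq
      have ha1 : a ∈ (⊥ : Subgroup G) := hY ▸ ⟨ha, Subgroup.mem_centralizer_singleton_iff.2 hau⟩
      have hb1 : b ∈ (⊥ : Subgroup G) := hY' ▸ ⟨hb, Subgroup.mem_centralizer_singleton_iff.2 hbv⟩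
      rw [Subgroup.mem_bot] at ha1 hb1
      rw [ha1, hb1, one_mul, one_mul] at hqZ
      exact hqZ hz
    · exact P.symm.caseB_false hv hp hY'
  · exact P.caseB_false hp hv hY

end Pair

/-- Two reflections acting on `O(C(t))` as a four-group have comparable fixed points. -/
theorem propComparable (hNC : PropNoConf.{u}) : PropComparable.{u} := by
  intro G _ _ hG hnk S t u v hR hcomm
  by_contra hcon
  push Not at hcon
  have P : Pair S t u v := ⟨hG, hnk, hR, hcomm, hNC, hcon.1, hcon.2⟩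
  obtain ⟨p, hp, h | h⟩ := P.exists_moved_prime <;> haveI := Fact.mk hp
  · exact P.false_of_moved h
  · exact P.symm.false_of_moved h

end Cfsg.Agent.Lib.GorensteinWalter
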