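import Cfsg.Agent.Lib.GorensteinWalter.Wiring
import Cfsg.Agent.Lib.Cores.MinNormal

/-!
# Proper subgroups of a minimal counterexample
-/

set_option autoImplicit false
set_option linter.unusedSectionVars false
set_option linter.style.haveILetI false

namespace Cfsg.Agent.Lib.GorensteinWalter

open Cfsg.Agent.Lib.Fusion.Dihedral

universe u

/-- A subgroup without a fused four-group has a normal 2-complement. -/
theorem propUnfused : PropUnfused.{u} := by
  intro G _ _ hG H hno x hx hodd
  refine ⟨⟨x, hx⟩, (hG.dihedral.sylowCD.subgroup H).odd_mem_oddCore ?_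
    (by rwa [Subgroup.orderOf_mk]), rfl⟩
  intro V hV n hn hnodd
  by_contra hne
  apply hno (V.map H.subtype)
  refine ⟨⟨by rw [Subgroup.card_map_of_injective H.subtype_injective]; exact hV.1, ?_⟩,
    Subgroup.map_subtype_le _, ?_⟩
  · rintro _ ⟨a, ha, rfl⟩
    rw [← map_mul, hV.2 a ha, map_one]
  · rintro _ ⟨a, ha, rfl⟩ ha1 _ ⟨b, hb, rfl⟩ hb1
    obtain ⟨g, -, hg, hgab⟩ := exists_conj_of_odd hV hn hnodd hne ha
      (fun e => ha1 (by rw [e, map_one])) hb (fun e => hb1 (by rw [e, map_one]))
    exact ⟨g, g.2, Subgroup.le_normalizer_map H.subtype ⟨g, hg, rfl⟩, congrArg H.subtype hgab⟩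

theorem IsFour.not_isCyclic {X : Type u} [Group X] {V : Subgroup X} (hV : IsFour V) : ¬ IsCyclic V := by
  rw [not_isCyclic_iff_exponent_eq_prime Nat.prime_two (by rw [hV.1]; rfl)]
  exact (isFour_iff.1 hV).exponent_two

/-- Two involutions of a four-group cannot both invert without their product centralising. -/
theorem exists_centralizing_of_three {Y : Type u} [Group Y] [Finite Y] {V K : Subgroup Y}
    (hV : IsFour V) (hK : Nat.card K = 3) (hn : V ≤ Subgroup.normalizer (K : Set Y)) :
    ∃ v ∈ V, v ≠ 1 ∧ K ≤ Subgroup.centralizer ({v} : Set Y) := by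
  classical
  haveI : Fact (Nat.Prime 3) := ⟨Nat.prime_three⟩
  haveI : IsCyclic K := isCyclic_of_prime_card hK
  obtain ⟨k, hk⟩ := IsCyclic.exists_ofOrder_eq_natCard (α := K)
  rw [hK] at hk
  have hk3 : (k : Y) ^ 3 = 1 := by
    rw [← Subgroup.orderOf_coe] at hk
    rw [← hk, pow_orderOf_eq_one]
  have hkK : ∀ y ∈ K, y = 1 ∨ y = (k : Y) ∨ y = (k : Y)⁻¹ := by
    intro y hy
    obtain ⟨i, hi⟩ : (⟨y, hy⟩ : K) ∈ Subgroup.zpowers k := by
      rw [Subgroup.eq_top_of_card_eq (Subgroup.zpowers k) (by rw [Nat.card_zpowers, hk, hK])]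
      trivial
    have hy' : (k : Y) ^ i = y := congrArg Subtype.val hi
    rw [← hy', zpow_eq_zpow_emod' i hk3]
    have h1 := Int.emod_nonneg i (show ((3 : ℕ) : ℤ) ≠ 0 by norm_num)
    have h2 := Int.emod_lt_of_pos i (show (0 : ℤ) < ((3 : ℕ) : ℤ) by norm_num)
    push_cast at h1 h2 ⊢
    rcases (show i % 3 = 0 ∨ i % 3 = 1 ∨ i % 3 = 2 by omega) with e | e | e
    · exact Or.inl (by rw [e, zpow_zero])
    · exact Or.inr (Or.inl (by rw [e, zpow_one]))
    · refine Or.inr (Or.inr (eq_inv_of_mul_eq_one_left ?_))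
      rw [e, ← zpow_add_one, show (2 : ℤ) + 1 = ((3 : ℕ) : ℤ) by norm_num, zpow_natCast, hk3]
  have hconj : ∀ v ∈ V, v * k * v⁻¹ = (k : Y) ∨ v * k * v⁻¹ = (k : Y)⁻¹ := by
    intro v hv
    rcases hkK _ ((Subgroup.mem_normalizer_iff.1 (hn hv) k).1 k.2) with h | h | h
    · exfalso
      have h1 : (k : Y) = 1 := conj_eq_one_iff.1 h
      rw [← Subgroup.orderOf_coe, h1, orderOf_one] at hk
      omega
    · exact Or.inl h
    · exact Or.inr h
  have hcent : ∀ v : Y, v * k * v⁻¹ = (k : Y) → K ≤ Subgroup.centralizer ({v} : Set Y) := by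
    intro v hv y hy
    have hc : Commute v (k : Y) := mul_inv_eq_iff_eq_mul.1 hv
    rw [Subgroup.mem_centralizer_singleton_iff]
    rcases hkK y hy with rfl | rfl | rfl
    · rw [one_mul, mul_one]
    · exact hc.eq.symm
    · exact hc.inv_right.eq.symm
  haveI : Nontrivial V := Finite.one_lt_card_iff_nontrivial.1 (by rw [hV.1]; norm_num)
  obtain ⟨a, ha⟩ := exists_ne (1 : V)
  obtain ⟨b, hb1, hba⟩ : ∃ b : V, b ≠ 1 ∧ b ≠ a := by
    by_contra hno
    push Not at hno
    have hs : Function.Surjective (fun i : Bool => if i then a else (1 : V)) := fun x => by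
      by_cases hx : x = 1
      · exact ⟨false, hx.symm⟩
      · exact ⟨true, (hno x hx).symm⟩
    have := Nat.card_le_card_of_surjective _ hs
    rw [hV.1, Nat.card_eq_fintype_card, Fintype.card_bool] at this
    omega
  rcases hconj a a.2 with hca | hca
  · exact ⟨a, a.2, fun e => ha (Subtype.ext e), hcent _ hca⟩
  rcases hconj b b.2 with hcb | hcb
  · exact ⟨b, b.2, fun e => hb1 (Subtype.ext e), hcent _ hcb⟩
  refine ⟨(a : Y) * b, mul_mem a.2 b.2, fun e => hba ?_, hcent _ ?_⟩
  · exact Subtype.ext ((inv_eq_of_mul_eq_one_right e).symm.trans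
      (inv_eq_of_mul_eq_one_right (hV.2 a a.2)))
  · calc (a : Y) * (b : Y) * (k : Y) * ((a : Y) * (b : Y))⁻¹
        = (a : Y) * ((b : Y) * (k : Y) * (b : Y)⁻¹) * (a : Y)⁻¹ := by group
      _ = ((a : Y) * (k : Y) * (a : Y)⁻¹)⁻¹ := by rw [hcb, conj_inv]
      _ = k := by rw [hca, inv_inv]

/-- The four-group case inside a core-free group with cyclic or dihedral Sylow 2-subgroups. -/
theorem exists_centralizing_coreFree (hMF : PropModelFour.{u}) {Y : Type u} [Group Y] [Finite Y]
    (hY : SylowCD Y) (hO : Cfsg.oddCore Y = ⊥)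
    (hknown : ∀ (N : Subgroup Y), IsSimpleGroup N → ¬ IsMulCommutative N → IsKnownD N)
    {V K : Subgroup Y} (hV : IsFour V) (hK : Odd (Nat.card K))
    (hn : V ≤ Subgroup.normalizer (K : Set Y)) :
    ∃ v ∈ V, v ≠ 1 ∧ K ≤ Subgroup.centralizer ({v} : Set Y) := by
  classical
  haveI : Fact (Nat.Prime 2) := ⟨Nat.prime_two⟩
  haveI : Nontrivial V := Finite.one_lt_card_iff_nontrivial.1 (by rw [hV.1]; norm_num)
  obtain ⟨v₀, hv₀⟩ := exists_ne (1 : V)
  by_cases hK1 : K = ⊥
  · exact ⟨v₀, v₀.2, fun e => hv₀ (Subtype.ext e), by rw [hK1]; exact bot_le⟩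
  haveI : Nontrivial Y := ⟨⟨(v₀ : Y), 1, fun e => hv₀ (Subtype.ext e)⟩⟩
  obtain ⟨N, hN, hNne, hmin⟩ := Cores.MinNormal.exists_minimal (G := Y)
  haveI := hN
  have hNeven : ¬ Odd (Nat.card N) := fun ho => hNne (le_bot_iff.1 (hO ▸ Cores.le_oddCore ho))
  by_cases hNs : ⁅N, N⁆ = ⊥
  · -- an elementary abelian socle
    have hNc : ∀ a ∈ N, ∀ b ∈ N, a * b = b * a := fun a ha b hb =>
      (Subgroup.mem_centralizer_iff.1 (Subgroup.commutator_eq_bot_iff_le_centralizer.1 hNs hb) a ha)
    let E : Subgroup Y :=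
      { carrier := {a | a ∈ N ∧ a * a = 1}
        one_mem' := ⟨one_mem N, one_mul 1⟩
        mul_mem' := fun {a b} ha hb => ⟨mul_mem ha.1 hb.1, by
          rw [(show Commute b a from hNc b hb.1 a ha.1).mul_mul_mul_comm, ha.2, hb.2, one_mul]⟩
        inv_mem' := fun {a} ha => ⟨inv_mem ha.1, by rw [← mul_inv_rev, ha.2, inv_one]⟩ }
    haveI hEn : E.Normal := ⟨fun a ha g => ⟨hN.conj_mem a ha.1 g, by
      rw [conj_mul, ha.2, mul_one, mul_inv_cancel]⟩⟩
    have hEN : E = N := by
      rcases hmin E hEn (fun a ha => ha.1) with h | h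
      · exfalso
        obtain ⟨t, ht⟩ := exists_prime_orderOf_dvd_card' (G := N) 2
          (even_iff_two_dvd.1 (Nat.not_odd_iff_even.1 hNeven))
        have hmem : (t : Y) ∈ E := ⟨t.2, by
          have := pow_orderOf_eq_one (t : Y)
          rwa [Subgroup.orderOf_coe, ht, sq] at this⟩
        rw [h, Subgroup.mem_bot] at hmem
        rw [← Subgroup.orderOf_coe, hmem, orderOf_one] at ht
        omega
      · exact h
    have hsq : ∀ a ∈ N, a * a = 1 := fun a ha => (hEN.symm ▸ ha : a ∈ E).2
    have hNp : IsPGroup 2 N := fun a => ⟨1, Subtype.ext (by simpa [pow_one, sq] using hsq a a.2)⟩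
    obtain ⟨j, hj⟩ := IsPGroup.iff_card.1 hNp
    have hle := hY.card_le_four hsq
    rw [hj] at hle
    -- some four-group of `Y` is fused
    obtain ⟨U, hU, n, hnU, hnodd, hnne⟩ : ∃ U : Subgroup Y, IsFour U ∧
        ∃ n ∈ Subgroup.normalizer (U : Set Y), Odd (orderOf n) ∧ ¬ ∀ x ∈ U, n * x = x * n := by
      by_contra hno
      apply hK1
      rw [eq_bot_iff]
      intro k hk
      rw [← hO]
      refine hY.odd_mem_oddCore (fun U hU n hn ho => ?_) ?_
      · by_contra hne
        exact hno ⟨U, hU, n, hn, ho, hne⟩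
      · exact Odd.of_dvd_nat hK (Subgroup.orderOf_dvd_natCard K hk)
    rcases j with _ | _ | _ | j
    · exact absurd (by rw [hj]; norm_num) hNeven
    · exfalso
      -- a central involution
      obtain ⟨z, hz, hz1⟩ : ∃ z ∈ N, z ≠ 1 := by
        by_contra hno
        push Not at hno
        exact hNne (Subgroup.eq_bot_iff_forall N |>.2 hno)
      have hNel : ∀ a ∈ N, a = 1 ∨ a = z := fun a ha => by
        by_contra hc
        push Not at hc
        have hinj : Function.Injective (fun i : Fin 3 =>
            (![⟨1, one_mem N⟩, ⟨z, hz⟩, ⟨a, ha⟩] i : N)) := by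
          intro i i' h
          fin_cases i <;> fin_cases i' <;> simp [Subtype.ext_iff] at h ⊢ <;> first
            | exact absurd h hz1 | exact absurd h.symm hz1 | exact absurd h hc.1
            | exact absurd h.symm hc.1 | exact absurd h hc.2 | exact absurd h.symm hc.2
        have := Nat.card_le_card_of_injective _ hinj
        rw [Nat.card_eq_fintype_card, Fintype.card_fin, hj] at this
        omega
      have hcen : ∀ g : Y, g * z * g⁻¹ = z := fun g =>
        (hNel _ (hN.conj_mem z hz g)).resolve_left fun h => hz1 (conj_eq_one_iff.1 h)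
      have hzU : z ∈ U := by
        have hsqs : ∀ x ∈ U ⊔ N, x * x = 1 := by
          intro x hx
          rw [← SetLike.mem_coe, Subgroup.mul_normal] at hx
          obtain ⟨u, hu, a, ha, rfl⟩ := hx
          dsimp only
          rcases hNel a ha with h | h
          · rw [h, mul_one]; exact hU.2 u hu
          · rw [h]
            have hc : u * z = z * u := mul_inv_eq_iff_eq_mul.1 (hcen u)
            rw [(show Commute z u from hc.symm).mul_mul_mul_comm, hU.2 u hu, hsq z hz, one_mul]
        have := Subgroup.eq_of_le_of_card_ge (le_sup_left : U ≤ U ⊔ N)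
          (by rw [hU.1]; exact hY.card_le_four hsqs)
        rw [this]
        exact (le_sup_right : N ≤ U ⊔ N) hz
      obtain ⟨u, hu, hu1, huz⟩ : ∃ u ∈ U, u ≠ 1 ∧ u ≠ z := by
        by_contra hno
        push Not at hno
        have hs : Function.Surjective (fun i : Bool => if i then (⟨z, hzU⟩ : U) else 1) := fun x => by
          by_cases hx : (x : Y) = 1
          · exact ⟨false, Subtype.ext hx.symm⟩
          · exact ⟨true, Subtype.ext (hno x x.2 hx).symm⟩
        have := Nat.card_le_card_of_surjective _ hs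
        rw [hU.1, Nat.card_eq_fintype_card, Fintype.card_bool] at this
        omega
      obtain ⟨g, -, -, hg⟩ := exists_conj_of_odd hU hnU hnodd hnne hzU hz1 hu hu1
      exact huz (hg.symm.trans (hcen g))
    · -- a normal four-group
      have hN4 : IsFour N := ⟨hj, hsq⟩
      set C := Subgroup.centralizer (N : Set Y) with hC
      haveI : C.Normal := Subgroup.normal_centralizer
      have hNC : N ≤ C := fun a ha => Subgroup.mem_centralizer_iff.2 fun b hb => hNc b hb a ha
      obtain ⟨T⟩ : Nonempty (Sylow 2 C) := inferInstance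
      have hNT : N.subgroupOf C ≤ (T : Subgroup C) :=
        (Cores.le_pCore (hNp.of_equiv (Subgroup.subgroupOfEquivOfLe hNC).symm)).trans (Cores.pCore_le_sylow T)
      have hTc : Subgroup.normalizer ((T : Subgroup C) : Set C) ≤
          Subgroup.centralizer ((T : Subgroup C) : Set C) := by
        intro c _
        rw [Subgroup.mem_centralizer_iff]
        intro t ht
        refine Subtype.ext ?_
        have htN : (t : Y) ∈ N := hY.mem_four hN4 (C := (T : Subgroup C).map C.subtype) (T.2.map _)
          (fun a ha => ⟨⟨a, hNC ha⟩, hNT (Subgroup.mem_subgroupOf.2 ha), rfl⟩)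
          (Subgroup.map_subtype_le _) ⟨t, ht, rfl⟩
        exact Subgroup.mem_centralizer_iff.1 c.2 t htN
      have hCN : C = N := by
        refine le_antisymm ?_ hNC
        intro c hc
        set L := (MonoidHom.transferSylow T hTc).ker
        have hcomp := MonoidHom.ker_transferSylow_isComplement' T hTc
        have hLodd : Odd (Nat.card L) := by
          rw [← hcomp.index_eq_card, ← Nat.not_even_iff_odd, even_iff_two_dvd]
          exact T.not_dvd_index
        have hL : L = ⊥ := by
          haveI := Cores.normal_map_subtype C (Cfsg.oddCore C)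
          have h1 : (Cfsg.oddCore C).map C.subtype ≤ Cfsg.oddCore Y := Cores.le_oddCore (by
            rw [Subgroup.card_map_of_injective C.subtype_injective]; exact Cores.oddCore_odd)
          rw [hO, le_bot_iff, Subgroup.map_eq_bot_iff_of_injective _ C.subtype_injective] at h1
          exact le_bot_iff.1 (h1 ▸ Cores.le_oddCore hLodd)
        have hTtop : (T : Subgroup C) = ⊤ := by
          rw [← Subgroup.isComplement'_bot_left]; rw [← hL]; exact hcomp
        exact hY.mem_four hN4 (C := C) (fun a => by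
            obtain ⟨k, hk⟩ := T.2 ⟨a, hTtop ▸ Subgroup.mem_top a⟩
            exact ⟨k, congrArg Subtype.val hk⟩) hNC le_rfl hc
      -- the odd subgroup has order three
      have hker : ∀ k ∈ K, (⟨k, by rw [Subgroup.normalizer_eq_top_iff.2 hN]; trivial⟩ :
          Subgroup.normalizer (N : Set Y)) ∈ (autPerm N).ker → k = 1 := by
        intro k hk hkk
        rw [ker_autPerm, Subgroup.mem_subgroupOf] at hkk
        have hkN : k ∈ N := hCN ▸ hkk
        rw [← orderOf_eq_one_iff]
        refine Nat.eq_one_of_dvd_coprimes (Nat.coprime_two_left.2 hK)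
          (orderOf_dvd_of_pow_eq_one (by rw [sq]; exact hsq k hkN)) (Subgroup.orderOf_dvd_natCard K hk)
      let ψ : K →* Equiv.Perm {x : Y // x ∈ N ∧ x ≠ 1} :=
        (autPerm N).comp (Subgroup.inclusion (by
          rw [Subgroup.normalizer_eq_top_iff.2 hN]; exact le_top))
      have hψ : Function.Injective ψ := by
        rw [injective_iff_map_eq_one]
        intro k hk
        exact Subtype.ext (hker k k.2 hk)
      have h6 : Nat.card K ∣ 6 := by
        refine (Subgroup.card_dvd_of_injective ψ hψ).trans ?_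
        rw [Nat.card_perm, card_nontriv hN4]
        rfl
      have hK3 : Nat.card K = 3 := by
        have h1 : Nat.card K ≠ 1 := fun h => hK1 (Subgroup.card_eq_one.1 h)
        have := Nat.le_of_dvd (by norm_num) h6
        rw [Nat.odd_iff] at hK
        interval_cases hc : Nat.card K <;> omega
      exact exists_centralizing_of_three hV hK3 hn
    · exfalso
      have hle' : 2 ^ (j + 3) ≤ 4 := hle
      have : 8 ≤ 2 ^ (j + 3) := by
        calc 8 = 2 ^ 3 := rfl
          _ ≤ 2 ^ (j + 3) := Nat.pow_le_pow_right two_pos (by omega)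
      omega
  · -- a simple socle
    have hNN : ⁅N, N⁆ = N := (hmin _ inferInstance (Subgroup.commutator_le_right N N)).resolve_left hNs
    haveI : Group.IsPerfect N := ⟨Subgroup.map_injective N.subtype_injective (by
      rw [Subgroup.map_subtype_commutator, hNN, ← MonoidHom.range_eq_map, Subgroup.range_subtype])⟩
    haveI : Nontrivial N := (Subgroup.nontrivial_iff_ne_bot N).2 hNne
    have hON : Cfsg.oddCore N = ⊥ := by
      haveI := Cores.normal_map_subtype N (Cfsg.oddCore N)
      have h1 : (Cfsg.oddCore N).map N.subtype ≤ Cfsg.oddCore Y := Cores.le_oddCore (by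
        rw [Subgroup.card_map_of_injective N.subtype_injective]; exact Cores.oddCore_odd)
      rw [hO, le_bot_iff, Subgroup.map_eq_bot_iff_of_injective _ N.subtype_injective] at h1
      exact h1
    obtain ⟨hsimp, hnaN, hdN⟩ := (hY.subgroup N).simple_of_perfect hON
    haveI := hsimp
    have hCN : Subgroup.centralizer (N : Set Y) = ⊥ := by
      set C := Subgroup.centralizer (N : Set Y)
      haveI : C.Normal := Subgroup.normal_centralizer
      have hCi : C ⊓ N = ⊥ := by
        rcases hmin (C ⊓ N) inferInstance inf_le_right with h | h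
        · exact h
        · exfalso
          refine hnaN ⟨⟨fun a b => Subtype.ext ?_⟩⟩
          exact Subgroup.mem_centralizer_iff.1 ((h.ge b.2).1) a a.2
      by_contra hne
      have hCe : ¬ Odd (Nat.card C) := fun ho => hne (le_bot_iff.1 (hO ▸ Cores.le_oddCore ho))
      obtain ⟨z, hz⟩ := exists_prime_orderOf_dvd_card' (G := C) 2
        (even_iff_two_dvd.1 (Nat.not_odd_iff_even.1 hCe))
      rw [← Subgroup.orderOf_coe] at hz
      obtain ⟨S⟩ : Nonempty (Sylow 2 N) := inferInstance
      obtain ⟨m, hm, ⟨e⟩⟩ := hdN S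
      obtain ⟨R, -, hR, -, -⟩ := (Coords.ofEquiv e).exists_four_of_le hm 0
      set W := R.map N.subtype
      have hWN : W ≤ N := Subgroup.map_subtype_le _
      have hWsq : ∀ x ∈ W, x * x = 1 := by
        rintro _ ⟨a, ha, rfl⟩
        rw [← map_mul, hR.2 a ha, map_one]
      have hsqs : ∀ x ∈ W ⊔ Subgroup.zpowers (z : Y), x * x = 1 := by
        intro x hx
        have hle : Subgroup.zpowers (z : Y) ≤ Subgroup.normalizer (W : Set Y) := by
          refine le_trans ?_ (Subgroup.centralizer_le_normalizer _)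
          rw [Subgroup.zpowers_le]
          exact Subgroup.centralizer_le hWN z.2
        rw [← SetLike.mem_coe, Subgroup.coe_mul_of_right_le_normalizer_left _ _ hle] at hx
        obtain ⟨w, hw, b, hb, rfl⟩ := hx
        have hcm : Commute b w := by
          obtain ⟨i, rfl⟩ := Subgroup.mem_zpowers_iff.1 hb
          exact (Commute.zpow_left (Subgroup.mem_centralizer_iff.1 z.2 w (hWN hw) : _).symm i)
        rw [hcm.mul_mul_mul_comm, hWsq w hw, one_mul]
        obtain ⟨i, rfl⟩ := Subgroup.mem_zpowers_iff.1 hb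
        rw [← (Commute.refl (z : Y)).mul_zpow, show (z : Y) * z = 1 by
          rw [← sq, ← hz, pow_orderOf_eq_one], one_zpow]
      have hW4 : Nat.card W = 4 := by rw [Subgroup.card_map_of_injective N.subtype_injective]; exact hR.1
      have heq := Subgroup.eq_of_le_of_card_ge (le_sup_left : W ≤ W ⊔ Subgroup.zpowers (z : Y))
        (by rw [hW4]; exact hY.card_le_four hsqs)
      have hzN : (z : Y) ∈ C ⊓ N := ⟨z.2, hWN (by
        rw [heq]; exact (le_sup_right : _ ≤ W ⊔ Subgroup.zpowers (z : Y)) (Subgroup.mem_zpowers _))⟩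
      rw [hCi, Subgroup.mem_bot] at hzN
      rw [hzN, orderOf_one] at hz
      omega
    have hdY : HasDihedralSylow Y := by
      obtain ⟨S, hS⟩ := hV.isPGroup.exists_le_sylow
      intro T
      rcases hY T with hc | hd
      · exfalso
        haveI := hc
        haveI : IsCyclic (S : Subgroup Y) :=
          isCyclic_of_injective (Sylow.equiv S T).toMonoidHom (MulEquiv.injective _)
        exact IsFour.not_isCyclic hV (Subgroup.isCyclic_of_le hS)
      · exact hd
    exact hMF Y N (hknown N hsimp hnaN) hCN hdY V K hV hK hn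

/-- A four-group invariant odd subgroup of a proper subgroup. -/
theorem propFourOdd (hMF : PropModelFour.{u}) : PropFourOdd.{u} := by
  intro G _ _ hG H hH V K hV hVH hKH hK hn
  classical
  haveI : Fact (Nat.Prime 2) := ⟨Nat.prime_two⟩
  haveI : (Cfsg.oddCore H).Normal := by unfold Cfsg.oddCore; infer_instance
  let f : H →* H ⧸ Cfsg.oddCore H := QuotientGroup.mk' _
  have hf : Function.Surjective f := QuotientGroup.mk'_surjective _
  set V' := V.subgroupOf H
  set K' := K.subgroupOf H
  have hinj : Function.Injective (f.comp V'.subtype) := by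
    rw [injective_iff_map_eq_one]
    intro a ha
    have hmem : (a : H) ∈ Cfsg.oddCore H := (QuotientGroup.eq_one_iff _).1 ha
    refine Subtype.ext (orderOf_eq_one_iff.1 (Nat.eq_one_of_dvd_coprimes
      (Nat.coprime_two_left.2 Cores.oddCore_odd) (orderOf_dvd_of_pow_eq_one ?_)
      (Subgroup.orderOf_dvd_natCard _ hmem)))
    exact Subtype.ext (by
      show ((a : H) : G) ^ 2 = 1
      rw [sq]; exact hV.2 _ (Subgroup.mem_subgroupOf.1 a.2))
  have hV4 : IsFour (V'.map f) := by
    refine ⟨?_, ?_⟩
    · rw [show V'.map f = (f.comp V'.subtype).range by rw [MonoidHom.range_comp, Subgroup.range_subtype],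
        ← Nat.card_congr (MonoidHom.ofInjective hinj).toEquiv,
        Nat.card_congr (Subgroup.subgroupOfEquivOfLe hVH).toEquiv, hV.1]
    · rintro _ ⟨a, ha, rfl⟩
      rw [← map_mul, show a * a = 1 from Subtype.ext (hV.2 _ (Subgroup.mem_subgroupOf.1 ha)), map_one]
  have hKodd : Odd (Nat.card (K'.map f)) := by
    refine Odd.of_dvd_nat hK ?_
    rw [← Nat.card_congr (Subgroup.subgroupOfEquivOfLe hKH).toEquiv]
    exact Subgroup.card_map_dvd _ _
  have hnorm : V'.map f ≤ Subgroup.normalizer ((K'.map f : Subgroup _) : Set _) := by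
    refine le_trans (Subgroup.map_mono fun a ha => ?_) (Subgroup.le_normalizer_map f)
    refine Subgroup.mem_normalizer_iff.2 fun k => ?_
    exact Subgroup.mem_normalizer_iff.1 (hn (Subgroup.mem_subgroupOf.1 ha)) k
  obtain ⟨w, hw, hw1, hwc⟩ := exists_centralizing_coreFree hMF
    ((hG.dihedral.sylowCD.subgroup H).of_surjective f hf) (Cores.pPrimeCore_quotient_pPrimeCore 2)
    (fun N hNs hNna => by
      haveI := hNs
      let M : Subgroup G := (N.comap f).map H.subtype
      let φ : M →* N := (f.subgroupComap N).comp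
        ((N.comap f).equivMapOfInjective H.subtype H.subtype_injective).symm.toMonoidHom
      have hφ : Function.Surjective φ :=
        (MonoidHom.subgroupComap_surjective_of_surjective f N hf).comp (MulEquiv.surjective _)
      let e := QuotientGroup.quotientKerEquivOfSurjective φ hφ
      refine (hG.proper M (fun h => hH (top_le_iff.1 (h ▸ Subgroup.map_subtype_le _))) φ.ker
        (e.isSimpleGroup_congr.2 hNs) (fun h => hNna ⟨⟨fun a b => ?_⟩⟩)).congr e
      obtain ⟨a, rfl⟩ := e.surjective a
      obtain ⟨b, rfl⟩ := e.surjective b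
      rw [← map_mul, ← map_mul, h.is_comm.comm a b])
    hV4 hKodd hnorm
  obtain ⟨v, hv, rfl⟩ := hw
  refine ⟨v, Subgroup.mem_subgroupOf.1 hv, fun e => hw1 ?_, fun k hk => ?_⟩
  · rw [show v = 1 from Subtype.ext e, map_one]
  · refine ⟨⟨k, hKH hk⟩ * v * ⟨k, hKH hk⟩⁻¹ * v⁻¹, ?_, rfl⟩
    rw [SetLike.mem_coe, ← QuotientGroup.eq_one_iff]
    have := Subgroup.mem_centralizer_singleton_iff.1
      (hwc ⟨⟨k, hKH hk⟩, Subgroup.mem_subgroupOf.2 hk, rfl⟩)
    show f _ = 1
    rw [map_mul, map_mul, map_mul, this, map_inv, map_inv, mul_inv_cancel_right, mul_inv_cancel]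

end Cfsg.Agent.Lib.GorensteinWalter
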