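import Cfsg.Agent.Lib.GorensteinWalter.Basic
import Cfsg.Agent.Lib.GorensteinWalter.Structure
import Cfsg.Agent.S0508
import Cfsg.Agent.Lib.DicksonId.MaxCommon

/-!
# The case of trivial four-group cores

If every four-group through the central involution `t` of a Sylow 2-subgroup `S` has trivial core and
`t` centralises every `S`-invariant subgroup of odd order, then the hypotheses of the
Brauer–Suzuki–Wall recognition (S0508) hold.
-/

set_option autoImplicit false
set_option linter.unusedSectionVars false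
set_option linter.style.haveILetI false

namespace Cfsg.Agent.Lib.GorensteinWalter

open Cfsg.Agent.Lib.Fusion.Dihedral

universe u

variable {G : Type u} [Group G] [Finite G]

/-- The four-group spanned by two commuting involutions. -/
theorem exists_isFour {a b : G} (ha : a * a = 1) (hb : b * b = 1) (hab : a * b = b * a) (ha1 : a ≠ 1)
    (hb1 : b ≠ 1) (hne : a ≠ b) :
    ∃ V : Subgroup G, IsFour V ∧ a ∈ V ∧ b ∈ V ∧ ∀ H : Subgroup G, a ∈ H → b ∈ H → V ≤ H := by
  classical
  have hab2 : a * b * (a * b) = 1 := by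
    rw [(show Commute b a from hab.symm).mul_mul_mul_comm, ha, hb, one_mul]
  let V : Subgroup G :=
    { carrier := {g | g = 1 ∨ g = a ∨ g = b ∨ g = a * b}
      one_mem' := Or.inl rfl
      mul_mem' := by
        have p1 : a * (a * b) = b := by rw [← mul_assoc, ha, one_mul]
        have p2 : b * (a * b) = a := by rw [← mul_assoc, ← hab, mul_assoc, hb, mul_one]
        have p3 : a * b * a = b := by rw [hab, mul_assoc, ha, mul_one]
        have p4 : a * b * b = a := by rw [mul_assoc, hb, mul_one]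
        rintro g k (rfl | rfl | rfl | rfl) (rfl | rfl | rfl | rfl) <;>
          simp [ha, hb, ← hab, p1, p2, p3, p4, hab2]
      inv_mem' := by
        rintro g (rfl | rfl | rfl | rfl)
        · exact Or.inl inv_one
        · exact Or.inr (Or.inl (inv_eq_of_mul_eq_one_right ha))
        · exact Or.inr (Or.inr (Or.inl (inv_eq_of_mul_eq_one_right hb)))
        · exact Or.inr (Or.inr (Or.inr (inv_eq_of_mul_eq_one_right hab2))) }
  have haV : a ∈ V := Or.inr (Or.inl rfl)
  have hbV : b ∈ V := Or.inr (Or.inr (Or.inl rfl))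
  refine ⟨V, ⟨?_, ?_⟩, haV, hbV, ?_⟩
  · have hset : (V : Set G) = {1, a, b, a * b} := by
      ext g
      show (g = 1 ∨ g = a ∨ g = b ∨ g = a * b) ↔ _
      simp
    rw [show Nat.card V = (V : Set G).ncard from (Nat.card_coe_set_eq _), hset,
      Set.ncard_insert_of_notMem, Set.ncard_insert_of_notMem, Set.ncard_pair]
    · exact fun e => ha1 (mul_eq_right.1 e.symm)
    · simp only [Set.mem_insert_iff, Set.mem_singleton_iff, not_or]
      exact ⟨hne, fun e => hb1 (mul_eq_left.1 e.symm)⟩
    · simp only [Set.mem_insert_iff, Set.mem_singleton_iff, not_or]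
      refine ⟨ha1.symm, hb1.symm, fun e => hne ?_⟩
      calc a = a * (b * b) := by rw [hb, mul_one]
        _ = b := by rw [← mul_assoc, ← e, one_mul]
  · rintro g (rfl | rfl | rfl | rfl)
    exacts [one_mul 1, ha, hb, hab2]
  · rintro H haH hbH g (rfl | rfl | rfl | rfl)
    exacts [one_mem H, haH, hbH, mul_mem haH hbH]

/-- An involution normalising an odd subgroup without fixing any of its elements inverts it. -/
theorem inverts_of_fixed_bot {O : Subgroup G} (hO : Odd (Nat.card O)) {s : G} (hs : s * s = 1)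
    (hn : ∀ y ∈ O, s * y * s⁻¹ ∈ O) (hfix : ∀ y ∈ O, s * y = y * s → y = 1) :
    ∀ y ∈ O, s * y * s⁻¹ = y⁻¹ := by
  have hsi : s⁻¹ = s := inv_eq_of_mul_eq_one_right hs
  let f : O → O := fun x => x⁻¹ * ⟨s * x * s⁻¹, hn x x.2⟩
  have hf : Function.Injective f := by
    intro x y h
    have h1 : (x : G)⁻¹ * (s * x * s⁻¹) = (y : G)⁻¹ * (s * y * s⁻¹) := congrArg Subtype.val h
    have h2 := hfix ((y : G) * (x : G)⁻¹) (mul_mem y.2 (inv_mem x.2)) (by
      calc s * ((y : G) * (x : G)⁻¹)
          = (s * y * s⁻¹) * ((x : G)⁻¹ * (s * x * s⁻¹))⁻¹ * (x : G)⁻¹ * s := by group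
        _ = (s * y * s⁻¹) * ((y : G)⁻¹ * (s * y * s⁻¹))⁻¹ * (x : G)⁻¹ * s := by rw [h1]
        _ = (y : G) * (x : G)⁻¹ * s := by group)
    exact Subtype.ext (mul_inv_eq_one.1 h2).symm
  have hsurj := hf.bijective_of_finite.surjective
  intro y hy
  obtain ⟨x, hx⟩ := hsurj ⟨y, hy⟩
  have h1 : (x : G)⁻¹ * (s * x * s⁻¹) = y := congrArg Subtype.val hx
  rw [← h1, hsi]
  calc s * ((x : G)⁻¹ * (s * x * s)) * s = s * (x : G)⁻¹ * s * x * (s * s) := by group
    _ = _ := by rw [hs, mul_one, _root_.mul_inv_rev, _root_.mul_inv_rev, hsi, _root_.mul_inv_rev, hsi, inv_inv]; group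

/-- A simple non-abelian group is not `PSL(2,3)`. -/
theorem Hyp.three_lt_card (hG : Hyp G) {F : Type} [Field F] [Fintype F] (hF : Odd (Fintype.card F))
    (e : G ≃* Matrix.ProjectiveSpecialLinearGroup (Fin 2) F) : 3 < Fintype.card F := by
  classical
  by_contra hle
  haveI := hG.simple
  have h2 := Fintype.one_lt_card (α := F)
  have hq : Fintype.card F = 3 := by
    obtain ⟨r, hr⟩ := hF
    omega
  haveI : Fact (Nat.Prime 3) := ⟨Nat.prime_three⟩
  haveI : CharP F 3 := charP_of_card_eq_prime hq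
  have hmul := DicksonId.card_PSL_mul (F := F) (p := 3)
  rw [hq, show Nat.gcd 2 (3 - 1) = 2 from rfl, ← Nat.card_congr e.toEquiv] at hmul
  obtain ⟨S⟩ : Nonempty (Sylow 2 G) := inferInstance
  haveI : Fact (Nat.Prime 2) := ⟨Nat.prime_two⟩
  have h12 : Nat.card G = 12 := by omega
  have hS : Nat.card (S : Subgroup G) = 4 := by
    rw [Sylow.card_eq_multiplicity, h12, show (12 : ℕ).factorization 2 = 2 from ?_]
    · rfl
    rw [Nat.factorization_def _ Nat.prime_two, show 12 = 2 ^ 2 * 3 from rfl,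
      padicValNat.mul (by norm_num) (by norm_num), padicValNat.prime_pow,
      padicValNat.eq_zero_of_not_dvd (by norm_num)]
  have hidx : (S : Subgroup G).index = 3 := by
    have := (S : Subgroup G).card_mul_index
    rw [hS, h12] at this
    omega
  have hcore : (S : Subgroup G).normalCore = ⊥ :=
    ((S : Subgroup G).normalCore_normal.eq_bot_or_eq_top).resolve_right fun h => by
      have h1 : (⊤ : Subgroup G) ≤ (S : Subgroup G) := h ▸ (S : Subgroup G).normalCore_le
      rw [top_le_iff.1 h1, Subgroup.index_top] at hidx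
      omega
  have hinj : Function.Injective (MulAction.toPermHom G (G ⧸ (S : Subgroup G))) := by
    rw [← MonoidHom.ker_eq_bot_iff, ← Subgroup.normalCore_eq_ker, hcore]
  have := Nat.card_le_card_of_injective _ hinj
  rw [Nat.card_perm, ← Subgroup.index_eq_card, hidx, h12] at this
  norm_num [Nat.factorial] at this

/-- Trivial four-group cores lead to `PSL(2,q)`; `hL` is only needed for the subgroups normalising a
nontrivial subgroup of `O(C(t))`. -/
theorem known_of_trivial_cores' (hG : Hyp G) (S : Sylow 2 G) (n : ℕ) (hn : 2 ≤ n)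
    (hS : Nonempty ((S : Subgroup G) ≃* DihedralGroup n)) (t : G) (ht : orderOf t = 2)
    (htS : t ∈ (S : Subgroup G)) (htZ : ∀ s ∈ (S : Subgroup G), s * t = t * s)
    (hL : ∀ K : Subgroup G, Odd (Nat.card K) → (S : Subgroup G) ≤ Subgroup.normalizer (K : Set G) →
      ∀ Y : Subgroup G, Y ≤ coreC t → Y ≠ ⊥ → K ≤ Subgroup.normalizer (Y : Set G) →
        K ≤ Subgroup.centralizer ({t} : Set G))
    (hd : ∀ V : Subgroup G, IsFour V → t ∈ V → V ≤ (S : Subgroup G) → coreV V = ⊥) : IsKnownD G := by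
  classical
  haveI := hG.simple
  haveI : Fact (Nat.Prime 2) := ⟨Nat.prime_two⟩
  set C := Subgroup.centralizer ({t} : Set G) with hC
  set O := coreC t with hOdef
  have hOodd : Odd (Nat.card O) := coreC_odd t
  have hSC : (S : Subgroup G) ≤ C := fun s hs => Subgroup.mem_centralizer_singleton_iff.2 (htZ s hs)
  have htt : t * t = 1 := by rw [← sq, ← ht, pow_orderOf_eq_one]
  have ht1 : t ≠ 1 := fun e => by rw [e, orderOf_one] at ht; omega
  have htO : ∀ y ∈ O, t * y = y * t := fun y hy =>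
    (Subgroup.mem_centralizer_singleton_iff.1 (coreC_le t hy)).symm
  have hSn : ∀ s ∈ (S : Subgroup G), ∀ y ∈ O, s * y * s⁻¹ ∈ O := fun s hs y hy =>
    (Subgroup.mem_normalizer_iff.1 (centralizer_le_normalizer_coreC t (hSC hs)) y).1 hy
  -- involutions other than `t` act without fixed points
  have hfix : ∀ s ∈ (S : Subgroup G), s * s = 1 → s ≠ 1 → s ≠ t → ∀ y ∈ O, s * y = y * s → y = 1 := by
    intro s hs hss hs1 hst y hy hc
    obtain ⟨V, hV, htV, hsV, hle⟩ := exists_isFour htt hss (htZ s hs).symm ht1 hs1 hst.symm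
    have hy' : y ∈ coreV V := by
      rw [← hG.coreC_inf_eq hV htV ht1 hsV hs1 hst.symm]
      exact ⟨hy, Subgroup.mem_centralizer_singleton_iff.2 hc.symm⟩
    rw [hd V hV htV (hle _ htS hs), Subgroup.mem_bot] at hy'
    exact hy'
  -- every element of `S` centralises or inverts `O`
  let P : G → Prop := fun x => (∀ y ∈ O, x * y * x⁻¹ = y) ∨ ∀ y ∈ O, x * y * x⁻¹ = y⁻¹
  have hPinv : ∀ s ∈ (S : Subgroup G), s * s = 1 → P s := by
    intro s hs hss
    by_cases hs1 : s = 1
    · left; intro y _; rw [hs1]; group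
    by_cases hst : s = t
    · left; intro y hy; rw [hst, htO y hy, mul_inv_cancel_right]
    · exact Or.inr (inverts_of_fixed_bot hOodd hss (hSn s hs) (hfix s hs hss hs1 hst))
  have hPmul : ∀ x z, P x → P z → P (x * z) := by
    intro x z hx hz
    have e : ∀ y, x * z * y * (x * z)⁻¹ = x * (z * y * z⁻¹) * x⁻¹ := fun y => by group
    rcases hx with hx | hx <;> rcases hz with hz | hz
    · left; intro y hy; rw [e, hz y hy, hx y hy]
    · right; intro y hy; rw [e, hz y hy, hx _ (inv_mem hy)]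
    · right; intro y hy; rw [e, hz y hy, hx y hy]
    · left; intro y hy; rw [e, hz y hy, hx _ (inv_mem hy), inv_inv]
  obtain ⟨e⟩ := hS
  haveI : NeZero n := ⟨by omega⟩
  have hinvS : ∀ i : ZMod n, ((e.symm (DihedralGroup.sr i) : (S : Subgroup G)) : G) *
      (e.symm (DihedralGroup.sr i) : (S : Subgroup G)) = 1 := fun i => by
    rw [← Subgroup.coe_mul, ← map_mul, DihedralGroup.sr_mul_self, map_one, Subgroup.coe_one]
  have hP : ∀ x ∈ (S : Subgroup G), P x := by
    intro x hx
    rcases hex : e ⟨x, hx⟩ with i | i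
    · have : x = ((e.symm (DihedralGroup.sr 0) : (S : Subgroup G)) : G) *
          (e.symm (DihedralGroup.sr i) : (S : Subgroup G)) := by
        rw [← Subgroup.coe_mul, ← map_mul, DihedralGroup.sr_mul_sr, sub_zero, ← hex, e.symm_apply_apply]
      rw [this]
      exact hPmul _ _ (hPinv _ (Subtype.prop _) (hinvS 0)) (hPinv _ (Subtype.prop _) (hinvS i))
    · have : x = ((e.symm (DihedralGroup.sr i) : (S : Subgroup G)) : G) := by
        rw [← hex, e.symm_apply_apply]
      rw [this]
      exact hPinv _ (Subtype.prop _) (hinvS i)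
  set R := (S : Subgroup G) ⊓ Subgroup.centralizer (O : Set G) with hR
  have hmemR : ∀ x ∈ (S : Subgroup G), (∀ y ∈ O, x * y * x⁻¹ = y) → x ∈ R := fun x hx h =>
    ⟨hx, Subgroup.mem_centralizer_iff.2 fun y hy => (mul_inv_eq_iff_eq_mul.1 (h y hy)).symm⟩
  have hb : ∀ s ∈ (S : Subgroup G), s ∉ Subgroup.centralizer (O : Set G) → ∀ y ∈ O, s * y * s⁻¹ = y⁻¹ :=
    fun s hs hns => (hP s hs).resolve_left fun h => hns (hmemR s hs h).2
  have ha : O ≠ ⊥ → IsCyclic R ∧ R.relIndex (S : Subgroup G) = 2 := by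
    intro hO1
    obtain ⟨y₀, hy₀, hy₀1⟩ := O.bot_or_exists_ne_one.resolve_left hO1
    have huniq : ∀ x ∈ R, x * x = 1 → x ≠ 1 → x = t := by
      intro x hx hxx hx1
      by_contra hxt
      exact hy₀1 (hfix x hx.1 hxx hx1 hxt y₀ hy₀ (Subgroup.mem_centralizer_iff.1 hx.2 y₀ hy₀).symm)
    refine ⟨?_, ?_⟩
    · have hcd : CycDih R := CycDih.of_injective (Or.inr ⟨n, hn, ⟨e⟩⟩)
        (Subgroup.inclusion inf_le_left) (Subgroup.inclusion_injective _)
      refine hcd.resolve_right ?_
      rintro ⟨m, hm, ⟨f⟩⟩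
      haveI : Fact (1 < m) := ⟨by omega⟩
      have key : ∀ i : ZMod m, f.symm (DihedralGroup.sr i) = ⟨t, htS,
          Subgroup.mem_centralizer_iff.2 fun y hy => (htO y hy).symm⟩ := by
        intro i
        refine Subtype.ext (huniq _ (Subtype.prop _) ?_ fun h1 => ?_)
        · rw [← Subgroup.coe_mul, ← map_mul, DihedralGroup.sr_mul_self, map_one, Subgroup.coe_one]
        · have h2 : f.symm (DihedralGroup.sr i) = 1 := Subtype.ext h1
          rw [MulEquiv.map_eq_one_iff, DihedralGroup.one_def] at h2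
          cases h2
      exact zero_ne_one (α := ZMod m) (DihedralGroup.sr.inj (f.symm.injective ((key 0).trans (key 1).symm)))
    · -- some element inverts
      obtain ⟨s, hs, hss, hs1, hst⟩ : ∃ s ∈ (S : Subgroup G), s * s = 1 ∧ s ≠ 1 ∧ s ≠ t := by
        haveI : Fact (1 < n) := ⟨by omega⟩
        by_cases h0 : ((e.symm (DihedralGroup.sr 0) : (S : Subgroup G)) : G) = t
        · refine ⟨_, (e.symm (DihedralGroup.sr 1)).2, hinvS 1, fun h1 => ?_, fun h1 => ?_⟩
          · have h2 : e.symm (DihedralGroup.sr 1) = 1 := Subtype.ext h1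
            rw [MulEquiv.map_eq_one_iff, DihedralGroup.one_def] at h2
            cases h2
          · exact zero_ne_one (α := ZMod n)
              (DihedralGroup.sr.inj (e.symm.injective (Subtype.ext (h0.trans h1.symm))))
        · refine ⟨_, (e.symm (DihedralGroup.sr 0)).2, hinvS 0, fun h1 => ?_, h0⟩
          have h2 : e.symm (DihedralGroup.sr 0) = 1 := Subtype.ext h1
          rw [MulEquiv.map_eq_one_iff, DihedralGroup.one_def] at h2
          cases h2
      have hsinv := inverts_of_fixed_bot hOodd hss (hSn s hs) (hfix s hs hss hs1 hst)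
      have hy2 : y₀⁻¹ ≠ y₀ := fun h => hy₀1 (orderOf_eq_one_iff.1 (Nat.eq_one_of_dvd_coprimes
        (Nat.coprime_two_right.2 (orderOf_odd_of_mem hOodd hy₀)) dvd_rfl
        (orderOf_dvd_of_pow_eq_one (by rw [sq]; nth_rewrite 1 [← h]; exact inv_mul_cancel y₀))))
      rw [Subgroup.relIndex, Subgroup.index_eq_two_iff]
      refine ⟨⟨s, hs⟩, fun b => ?_⟩
      have hbs : ∀ y ∈ O, ((b : G) * s) * y * ((b : G) * s)⁻¹ = (b : G) * y⁻¹ * (b : G)⁻¹ := fun y hy => by
        rw [← hsinv y hy]; group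
      simp only [Subgroup.mem_subgroupOf, Subgroup.coe_mul]
      rcases hP (b : G) b.2 with hb' | hb'
      · refine Or.inr ⟨hmemR _ b.2 hb', fun h => hy2 ?_⟩
        have h1 := mul_inv_eq_iff_eq_mul.2 ((Subgroup.mem_centralizer_iff.1 h.2 y₀ hy₀).symm)
        rw [hbs y₀ hy₀, hb' _ (inv_mem hy₀)] at h1
        exact h1
      · refine Or.inl ⟨hmemR _ (mul_mem b.2 hs) fun y hy => ?_, fun h => hy2 ?_⟩
        · rw [hbs y hy, hb' _ (inv_mem hy), inv_inv]
        · rw [← hb' y₀ hy₀]
          exact mul_inv_eq_iff_eq_mul.2 (Subgroup.mem_centralizer_iff.1 h.2 y₀ hy₀).symm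
  have hc : ∀ Y : Subgroup G, Y ≤ O → Y ≠ ⊥ → Subgroup.normalizer (Y : Set G) ≤ C := by
    intro Y hY hY1
    set M := Subgroup.normalizer (Y : Set G) with hM
    have hYodd : Odd (Nat.card Y) := hOodd.of_dvd_nat (Subgroup.card_dvd_of_le hY)
    have hSM : (S : Subgroup G) ≤ M := fun s hs => Subgroup.mem_normalizer_fintype fun y hy => by
      rcases hP s hs with h | h
      · rw [h y (hY hy)]; exact hy
      · rw [h y (hY hy)]; exact inv_mem hy
    have hMfused : ∀ V : Subgroup G, ¬ FusedIn V M := by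
      intro V hV
      obtain ⟨T, hT⟩ := ((hV.1.isPGroup).comap_subtype (K := M)).exists_le_sylow
      obtain ⟨k, hk⟩ := MulAction.exists_smul_eq M T (S.subtype hSM)
      have hVS : ∀ w ∈ V, (k : G) * w * (k : G)⁻¹ ∈ (S : Subgroup G) := fun w hw => by
        have h1 : k * ⟨w, hV.2.1 hw⟩ * k⁻¹ ∈ ((S.subtype hSM : Sylow 2 M) : Subgroup M) := by
          rw [← hk]
          exact Subgroup.smul_mem_pointwise_smul _ (MulAut.conj k) (T : Subgroup M)
            (hT (show (w : G) ∈ V from hw))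
        exact h1
      set W := V.map (MulAut.conj (k : G)).toMonoidHom with hW
      have hW4 : IsFour W := hV.1.map _
      have hWS : W ≤ (S : Subgroup G) := by
        rintro _ ⟨w, hw, rfl⟩
        exact hVS w hw
      have htW : t ∈ W := hG.cd.mem_four_of_central hW4 hWS htt htZ
      have hWf : FusedIn W M := by
        refine ⟨hW4, hWS.trans hSM, ?_⟩
        rintro _ ⟨v, hv, rfl⟩ hv1 _ ⟨w, hw, rfl⟩ hw1
        obtain ⟨g, hgM, hgN, hgv⟩ := hV.2.2 v hv (fun h => hv1 (by rw [h, map_one])) w hw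
          (fun h => hw1 (by rw [h, map_one]))
        refine ⟨(k : G) * g * (k : G)⁻¹, mul_mem (mul_mem k.2 hgM) (inv_mem k.2), ?_, ?_⟩
        · rw [hW, ← MulAut.conj_apply]
          exact Subgroup.le_normalizer_map _ ⟨g, hgN, rfl⟩
        · rw [← hgv]
          simp only [MulEquiv.coe_toMonoidHom, MulAut.conj_apply]
          group
      have hle := centralizes_of_fused hWf le_rfl htW ht1 (hY.trans (coreC_le t))
      exact hY1 (le_bot_iff.1 ((hG.le_coreV hW4 hle hYodd).trans (hd W hW4 htW hWS).le))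
    set N := (Cfsg.oddCore M).map M.subtype with hN
    have hNodd : Odd (Nat.card N) := by
      rw [Subgroup.card_map_of_injective M.subtype_injective]; exact Cores.oddCore_odd
    have hNC : N ≤ C := hL N hNodd (hSM.trans (by
      haveI : (Cfsg.oddCore M).Normal := by unfold Cfsg.oddCore; infer_instance
      intro m hm
      exact Subgroup.le_normalizer_map M.subtype
        ⟨⟨m, hm⟩, by rw [Subgroup.normalizer_eq_top]; trivial, rfl⟩)) Y hY hY1 (Subgroup.map_subtype_le _)
    -- `M` is generated by `S` and its elements of odd order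
    have hodd : ∀ x ∈ M, Odd (orderOf x) → x ∈ C := fun x hx hxo =>
      hNC (propUnfused G hG M hMfused x hx hxo)
    have htop : (S.subtype hSM : Subgroup M) ≤ C.subgroupOf M := fun x hx => hSC hx
    have : C.subgroupOf M = ⊤ := by
      by_contra hne
      obtain ⟨p, hp, hpd⟩ := Nat.exists_prime_and_dvd (mt Subgroup.index_eq_one.1 hne)
      haveI := Fact.mk hp
      by_cases hp2 : p = 2
      · subst hp2
        exact (S.subtype hSM).not_dvd_index (hpd.trans (Subgroup.index_dvd_of_le htop))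
      obtain ⟨Q⟩ : Nonempty (Sylow p M) := inferInstance
      have hQN : (Q : Subgroup M) ≤ C.subgroupOf M := fun x hx => hodd x x.2 (by
        obtain ⟨j, hj⟩ := Q.2 ⟨x, hx⟩
        have h1 : x ^ p ^ j = 1 := congrArg Subtype.val hj
        rw [Subgroup.orderOf_coe]
        exact Odd.of_dvd_nat ((hp.odd_of_ne_two hp2).pow) (orderOf_dvd_of_pow_eq_one h1))
      exact Q.not_dvd_index (hpd.trans (Subgroup.index_dvd_of_le hQN))
    intro x hx
    exact (this.ge (Subgroup.mem_top ⟨x, hx⟩) : _)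
  obtain ⟨F, iF, iF', hFodd, ⟨f⟩⟩ := Cfsg.Agent.S0508.result S n hn ⟨e⟩ t ht htS htZ O rfl ha hb hc
  exact Or.inl ⟨F, iF, iF', hFodd, hG.three_lt_card hFodd f, ⟨f⟩⟩

/-- Trivial four-group cores lead to `PSL(2,q)`. -/
theorem known_of_trivial_cores (hG : Hyp G) (S : Sylow 2 G) (n : ℕ) (hn : 2 ≤ n)
    (hS : Nonempty ((S : Subgroup G) ≃* DihedralGroup n)) (t : G) (ht : orderOf t = 2)
    (htS : t ∈ (S : Subgroup G)) (htZ : ∀ s ∈ (S : Subgroup G), s * t = t * s)
    (hL : ∀ K : Subgroup G, Odd (Nat.card K) → (S : Subgroup G) ≤ Subgroup.normalizer (K : Set G) →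
      K ≤ Subgroup.centralizer ({t} : Set G))
    (hd : ∀ V : Subgroup G, IsFour V → t ∈ V → V ≤ (S : Subgroup G) → coreV V = ⊥) : IsKnownD G :=
  known_of_trivial_cores' hG S n hn hS t ht htS htZ (fun K h1 h2 _ _ _ _ => hL K h1 h2) hd

end Cfsg.Agent.Lib.GorensteinWalter
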