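import Cfsg.Agent.Lib.GorensteinWalter.ConfCover
import Cfsg.Agent.Lib.GorensteinWalter.TrivialCores

/-!
# Section F, steps F3–F5

In the setting of a configuration at `N = N(Z(J(T)))` every involution `t` of `N` satisfies
`C(t) = O_{r'}(O(C(t))) C_N(t)` and the involutions of `N` form one class.
-/

set_option autoImplicit false
set_option linter.unusedSectionVars false
set_option linter.style.haveILetI false

namespace Cfsg.Agent.Lib.GorensteinWalter

open Cfsg.Agent.Lib.Fusion.Dihedral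

universe u

variable {G : Type u} [Group G] [Finite G]

/-! ## Tools -/

theorem IsFour.cases' {V : Subgroup G} (hV : IsFour V) {a b x : G} (ha : a ∈ V) (hb : b ∈ V) (hx : x ∈ V)
    (ha1 : a ≠ 1) (hb1 : b ≠ 1) (hab : a ≠ b) : x = 1 ∨ x = a ∨ x = b ∨ x = a * b := by
  classical
  have h1 : a * b ≠ a := fun e => hb1 (mul_eq_left.1 e)
  have h2 : a * b ≠ b := fun e => ha1 (mul_eq_right.1 e)
  have h3 : a * b ≠ 1 := fun e => hab (by
    calc a = a * (b * b) := by rw [hV.2 b hb, mul_one]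
      _ = b := by rw [← mul_assoc, e, one_mul])
  by_contra hcon
  simp only [not_or] at hcon
  have hsub : ((({1, a, b, a * b, x} : Finset G)) : Set G) ⊆ (V : Set G) := by
    intro y hy
    simp only [Finset.coe_insert, Finset.coe_singleton, Set.mem_insert_iff, Set.mem_singleton_iff] at hy
    rcases hy with rfl | rfl | rfl | rfl | rfl
    exacts [one_mem V, ha, hb, mul_mem ha hb, hx]
  have hle := Set.ncard_le_ncard hsub (Set.toFinite _)
  rw [Set.ncard_coe_finset, ← Nat.card_coe_set_eq, show Nat.card ((V : Set G)) = 4 from hV.1] at hle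
  have hcard : ({1, a, b, a * b, x} : Finset G).card = 5 := by
    simp [ha1.symm, hb1.symm, h3.symm, Ne.symm hcon.1, hab, h1.symm, Ne.symm hcon.2.1, h2.symm,
      Ne.symm hcon.2.2.1, Ne.symm hcon.2.2.2]
  omega

theorem exists_other {V : Subgroup G} (hV : IsFour V) (t : G) : ∃ a ∈ V, a ≠ 1 ∧ a ≠ t := by
  by_contra h
  simp only [not_exists, not_and, ne_eq, not_not] at h
  have hsub : (V : Set G) ⊆ {1, t} := fun x hx => by
    by_cases hx1 : x = 1
    · exact Or.inl hx1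
    · exact Or.inr (h x hx hx1)
  have hle := Set.ncard_le_ncard hsub (Set.toFinite _)
  rw [← Nat.card_coe_set_eq, show Nat.card ((V : Set G)) = 4 from hV.1] at hle
  have h2 := Set.ncard_insert_le (1 : G) {t}
  rw [Set.ncard_singleton] at h2
  omega

theorem isFour_map_conj {V : Subgroup G} (hV : IsFour V) (g : G) :
    IsFour (V.map (MulAut.conj g).toMonoidHom) := by
  refine ⟨by rw [Subgroup.card_map_of_injective (MulAut.conj g).injective]; exact hV.1, ?_⟩
  rintro _ ⟨a, ha, rfl⟩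
  rw [← map_mul, hV.2 a ha, map_one]

theorem mem_normalizer_zpowers {a x : G} (h : a * x * a⁻¹ ∈ Subgroup.zpowers x) :
    a ∈ Subgroup.normalizer (Subgroup.zpowers x : Set G) :=
  Subgroup.mem_normalizer_fintype fun y hy => by
    obtain ⟨i, rfl⟩ := hy
    rw [SetLike.mem_coe, ← conj_zpow]
    exact zpow_mem h i

theorem centralizer_le_normalizer_zpowers (x : G) :
    Subgroup.centralizer ({x} : Set G) ≤ Subgroup.normalizer (Subgroup.zpowers x : Set G) := fun a ha =>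
  mem_normalizer_zpowers (by
    rw [Subgroup.mem_centralizer_singleton_iff.1 ha, mul_inv_cancel_right]
    exact Subgroup.mem_zpowers x)

theorem exists_conj_le_sylow_of_le {p : ℕ} [Fact p.Prime] (S : Sylow p G) {H : Subgroup G}
    (hS : (S : Subgroup G) ≤ H) {W : Subgroup G} (hW : IsPGroup p W) (hWH : W ≤ H) :
    ∃ h ∈ H, ∀ w ∈ W, h * w * h⁻¹ ∈ (S : Subgroup G) := by
  obtain ⟨Q, hQ⟩ := (hW.comap_subtype (K := H)).exists_le_sylow
  obtain ⟨k, hk⟩ := MulAction.exists_smul_eq H Q (S.subtype hS)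
  refine ⟨k, k.2, fun w hw => ?_⟩
  have h1 : k * ⟨w, hWH hw⟩ * k⁻¹ ∈ ((S.subtype hS : Sylow p H) : Subgroup H) := by
    rw [← hk]
    exact Subgroup.smul_mem_pointwise_smul _ (MulAut.conj k) (Q : Subgroup H)
      (hQ (show (w : G) ∈ W from hw))
  exact h1

/-- An element of odd order inverted by `t` is the product of `t` and a conjugate of `t`. -/
theorem exists_sqrt {t h : G} (hodd : Odd (orderOf h)) (hinv : t * h * t⁻¹ = h⁻¹) :
    ∃ k ∈ Subgroup.zpowers h, k * k = h ∧ t * k * t⁻¹ = k⁻¹ := by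
  obtain ⟨m, hm⟩ := hodd
  refine ⟨h ^ (m + 1), Subgroup.npow_mem_zpowers h _, ?_, ?_⟩
  · rw [← pow_add, show m + 1 + (m + 1) = orderOf h + 1 by omega, pow_succ, pow_orderOf_eq_one, one_mul]
  · rw [← conj_pow, hinv, inv_pow]

/-- A four-group meets each normalised subgroup of even order. -/
theorem exists_four_mem_of_even (hG : Hyp G) {V K : Subgroup G} (hV : IsFour V)
    (hn : V ≤ Subgroup.normalizer (K : Set G)) (hev : ¬ Odd (Nat.card K)) :
    ∃ u ∈ V, u ≠ 1 ∧ u ∈ K := by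
  classical
  haveI : Fact (Nat.Prime 2) := ⟨Nat.prime_two⟩
  rw [Nat.not_odd_iff_even, even_iff_two_dvd] at hev
  obtain ⟨c, hc⟩ := exists_prime_orderOf_dvd_card' 2 hev
  set M := K ⊔ V with hM
  have hKM : K ≤ M := le_sup_left
  have hVM : V ≤ M := le_sup_right
  haveI hKn : (K.subgroupOf M).Normal :=
    Subgroup.normal_subgroupOf_of_le_normalizer (sup_le Subgroup.le_normalizer hn)
  obtain ⟨P, hP⟩ := (hV.isPGroup.comap_subtype (K := M)).exists_le_sylow
  set c' : M := ⟨c, hKM c.2⟩ with hc'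
  have hc2 : orderOf c' = 2 := by
    rw [← Subgroup.orderOf_coe, hc']
    simpa using hc
  obtain ⟨P', hP'⟩ := (IsPGroup.of_card (n := 1) (by rw [Nat.card_zpowers, hc2, pow_one]) :
    IsPGroup 2 (Subgroup.zpowers c')).exists_le_sylow
  obtain ⟨g, hg⟩ := MulAction.exists_smul_eq M P' P
  have hcP : g * c' * g⁻¹ ∈ (P : Subgroup M) := by
    rw [← hg]
    exact Subgroup.smul_mem_pointwise_smul _ (MulAut.conj g) (P' : Subgroup M) (hP' (Subgroup.mem_zpowers _))
  set KP := (K.subgroupOf M).subgroupOf (P : Subgroup M) with hKP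
  have hKPne : KP ≠ ⊥ := by
    intro h
    have h1 : (⟨_, hcP⟩ : (P : Subgroup M)) ∈ KP :=
      hKn.conj_mem c' (Subgroup.mem_subgroupOf.2 c.2) g
    rw [h, Subgroup.mem_bot] at h1
    have h2 : g * c' * g⁻¹ = 1 := congrArg Subtype.val h1
    rw [conj_eq_one_iff] at h2
    rw [h2, orderOf_one] at hc2
    omega
  set Z := KP ⊓ Subgroup.center (P : Subgroup M) with hZ
  haveI : Nontrivial Z := (Subgroup.nontrivial_iff_ne_bot _).2 (PGroups.normal_inf_center_ne_bot P.2 KP hKPne)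
  obtain ⟨k, hk⟩ := IsPGroup.iff_card.1 (P.2.to_subgroup Z)
  have hk0 : k ≠ 0 := fun e => by
    rw [e, pow_zero] at hk
    exact absurd hk (ne_of_gt (Finite.one_lt_card_iff_nontrivial.2 inferInstance))
  obtain ⟨z, hz⟩ := exists_prime_orderOf_dvd_card' (G := Z) 2 (hk ▸ dvd_pow_self 2 hk0)
  set u : G := (((z : (P : Subgroup M)) : M) : G) with hu
  have huo : orderOf u = 2 := by
    rw [hu, Subgroup.orderOf_coe, Subgroup.orderOf_coe, Subgroup.orderOf_coe, hz]
  refine ⟨u, hG.cd.mem_of_commute hV (by rw [← sq, ← huo, pow_orderOf_eq_one]) fun v hv => ?_,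
    fun e => ?_, ?_⟩
  · exact congrArg (fun w : (P : Subgroup M) => ((w : M) : G))
      (Subgroup.mem_center_iff.1 (Subgroup.mem_inf.1 z.2).2
        ⟨⟨v, hVM hv⟩, hP (show (v : G) ∈ V from hv)⟩)
  · rw [e, orderOf_one] at huo; omega
  · exact Subgroup.mem_subgroupOf.1 (Subgroup.mem_subgroupOf.1 (Subgroup.mem_inf.1 z.2).1)

/-- If a fused involution `u` centralises the fixed points of another one on `Q`, it centralises `Q`. -/
theorem centralizes_of_inf_le {W H Q : Subgroup G} (hW : FusedIn W H)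
    (hn : H ≤ Subgroup.normalizer (Q : Set G)) (hQ : Odd (Nat.card Q)) {u w : G} (hu : u ∈ W) (hu1 : u ≠ 1)
    (hw : w ∈ W) (hw1 : w ≠ 1) (huw : u ≠ w)
    (hle : Q ⊓ Subgroup.centralizer ({w} : Set G) ≤ Subgroup.centralizer ({u} : Set G)) :
    Q ≤ Subgroup.centralizer ({u} : Set G) := by
  have hcard : ∀ a ∈ W, a ≠ 1 → ∀ b ∈ W, b ≠ 1 →
      Nat.card (Q ⊓ Subgroup.centralizer ({a} : Set G) : Subgroup G) ≤
        Nat.card (Q ⊓ Subgroup.centralizer ({b} : Set G) : Subgroup G) := by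
    intro a ha ha1 b hb hb1
    obtain ⟨g, hgH, -, rfl⟩ := hW.2.2 a ha ha1 b hb hb1
    rw [← Subgroup.card_map_of_injective (K := Q ⊓ Subgroup.centralizer ({a} : Set G))
      (f := (MulAut.conj g).toMonoidHom) (MulAut.conj g).injective]
    refine Nat.le_of_dvd Nat.card_pos (Subgroup.card_dvd_of_le ?_)
    rintro _ ⟨q, hq, rfl⟩
    have hq' := Subgroup.mem_inf.1 hq
    refine Subgroup.mem_inf.2 ⟨conj_mem_of_mem_normalizer (hn hgH) hq'.1,
      Subgroup.mem_centralizer_singleton_iff.2 ?_⟩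
    simp only [MulEquiv.coe_toMonoidHom, MulAut.conj_apply]
    calc g * q * g⁻¹ * (g * a * g⁻¹) = g * (q * a) * g⁻¹ := by group
      _ = g * a * g⁻¹ * (g * q * g⁻¹) := by rw [Subgroup.mem_centralizer_singleton_iff.1 hq'.2]; group
  have heq := Subgroup.eq_of_le_of_card_ge (le_inf inf_le_left hle) (hcard u hu hu1 w hw hw1)
  refine le_of_four hW.1 hQ (hW.2.1.trans hn) fun x hx hx1 => ?_
  have hle' : Q ⊓ Subgroup.centralizer ({u} : Set G) ≤ Q ⊓ Subgroup.centralizer ({x} : Set G) := fun q hq => by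
    have hqw : q ∈ Q ⊓ Subgroup.centralizer ({w} : Set G) := heq.symm ▸ hq
    refine Subgroup.mem_inf.2 ⟨(Subgroup.mem_inf.1 hq).1, ?_⟩
    have h1 : W ≤ Subgroup.centralizer ({q} : Set G) := hW.1.eq_of_mem hu hw hu1 hw1 huw
      (Subgroup.mem_centralizer_singleton_iff.2
        (Subgroup.mem_centralizer_singleton_iff.1 (Subgroup.mem_inf.1 hq).2).symm)
      (Subgroup.mem_centralizer_singleton_iff.2
        (Subgroup.mem_centralizer_singleton_iff.1 (Subgroup.mem_inf.1 hqw).2).symm)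
    exact Subgroup.mem_centralizer_singleton_iff.2 (Subgroup.mem_centralizer_singleton_iff.1 (h1 hx)).symm
  rw [← Subgroup.eq_of_le_of_card_ge hle' (hcard x hx hx1 u hu hu1)]
  exact inf_le_right

/-- Conjugation carries `O_{r'}(O(C(v)))` to that of the conjugate. -/
theorem coreR_conj (hG : Hyp G) (r : ℕ) {v : G} (hv : orderOf v = 2) (g : G) {x : G}
    (hx : x ∈ coreR r v) : g * x * g⁻¹ ∈ coreR r (g * v * g⁻¹) := by
  obtain ⟨a, ha, rfl⟩ := hx
  have hv' : orderOf (g * v * g⁻¹) = 2 := by rw [← MulAut.conj_apply, MulEquiv.orderOf_eq, hv]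
  have hback : ∀ y : coreC (g * v * g⁻¹), g⁻¹ * y * g ∈ coreC v := fun y => by
    have h1 := hG.coreC_conj hv' g⁻¹ y.2
    rwa [inv_inv, show g⁻¹ * (g * v * g⁻¹) * g = v by group] at h1
  let φ : coreC v ≃* coreC (g * v * g⁻¹) :=
    { toFun := fun y => ⟨g * y * g⁻¹, hG.coreC_conj hv g y.2⟩
      invFun := fun y => ⟨g⁻¹ * y * g, hback y⟩
      left_inv := fun y => Subtype.ext (by simp [mul_assoc])
      right_inv := fun y => Subtype.ext (by simp [mul_assoc])
      map_mul' := fun y z => Subtype.ext (by simp [mul_assoc]) }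
  refine ⟨φ a, ?_, rfl⟩
  rw [← Cores.map_pPrimeCore_equiv φ]
  exact ⟨a, ha, rfl⟩

variable {r : ℕ} [Fact r.Prime] (T : Sylow r G)

/-- `C(t) = O_{r'}(O(C(t))) C_N(t)`. -/
def Covers (t : G) : Prop :=
  ∀ g : G, g * t = t * g → ∃ w ∈ coreR r t, w⁻¹ * g ∈ zjNorm (T : Subgroup G)

theorem Covers.conj (hG : Hyp G) {v n : G} (hv : orderOf v = 2) (hn : n ∈ zjNorm (T : Subgroup G))
    (h : Covers T v) : Covers T (n * v * n⁻¹) := by
  intro g hg
  obtain ⟨w, hw, hwg⟩ := h (n⁻¹ * g * n) (by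
    calc n⁻¹ * g * n * v = n⁻¹ * (g * (n * v * n⁻¹)) * n := by group
      _ = v * (n⁻¹ * g * n) := by rw [hg]; group)
  refine ⟨n * w * n⁻¹, coreR_conj hG r hv n hw, ?_⟩
  rw [show (n * w * n⁻¹)⁻¹ * g = n * (w⁻¹ * (n⁻¹ * g * n)) * n⁻¹ by group]
  exact mul_mem (mul_mem hn hwg) (inv_mem hn)

/-- Coprime factorisation of the centraliser in `N` of a 2-subgroup of `N₀`. -/
theorem conf_centralizer_factor_two (hG : Hyp G) {V : Subgroup G} (hV : Conf r V (zjNorm (T : Subgroup G)))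
    {X : Subgroup G} (hX : IsPGroup 2 X) (hXN : X ≤ confN0 r (T : Subgroup G)) {g : G}
    (hg : g ∈ zjNorm (T : Subgroup G)) (hgX : g ∈ Subgroup.centralizer (X : Set G)) :
    ∃ y ∈ confY r (T : Subgroup G), y ∈ Subgroup.centralizer (X : Set G) ∧
      y⁻¹ * g ∈ confN0 r (T : Subgroup G) ∧ y⁻¹ * g ∈ Subgroup.centralizer (X : Set G) := by
  haveI : Fact (Nat.Prime 2) := ⟨Nat.prime_two⟩
  set Y := confY r (T : Subgroup G) with hY
  set N₀ := confN0 r (T : Subgroup G) with hN₀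
  obtain ⟨y, hy, hn⟩ := conf_factor T hg
  have hXY : X ≤ Subgroup.normalizer (Y : Set G) := fun x hx => le_normalizer_confY _ (hXN hx).1
  have hU : ∀ x ∈ X, y⁻¹ * x * y * x⁻¹ ∈ Y ⊓ N₀ := fun x hx => by
    refine Subgroup.mem_inf.2 ⟨?_, ?_⟩
    · rw [show y⁻¹ * x * y * x⁻¹ = y⁻¹ * (x * y * x⁻¹) by group]
      exact mul_mem (inv_mem hy) (conj_mem_of_mem_normalizer (hXY hx) hy)
    · have h1 : y⁻¹ * x * y * x⁻¹ = (y⁻¹ * g) * x * (y⁻¹ * g)⁻¹ * x⁻¹ := by
        have h2 := commute_of_mem_centralizer hgX hx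
        calc y⁻¹ * x * y * x⁻¹ = y⁻¹ * (x * g) * g⁻¹ * y * x⁻¹ := by group
          _ = _ := by rw [← h2]; group
      rw [h1]
      exact mul_mem (mul_mem (mul_mem hn (hXN hx)) (inv_mem hn)) (inv_mem (hXN hx))
  obtain ⟨a, ha, hya⟩ := exists_fixed_mul hX
    ((confY_odd hG hV).of_dvd_nat (Subgroup.card_dvd_of_le inf_le_left)).not_two_dvd_nat
    (fun x hx => Subgroup.mem_normalizer_fintype fun u hu => Subgroup.mem_inf.2
      ⟨conj_mem_of_mem_normalizer (hXY hx) (Subgroup.mem_inf.1 hu).1,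
        mul_mem (mul_mem (hXN hx) (Subgroup.mem_inf.1 hu).2) (inv_mem (hXN hx))⟩) hU
  have ha' := Subgroup.mem_inf.1 ha
  refine ⟨y * a, mul_mem hy ha'.1, hya, ?_, mul_mem (inv_mem hya) hgX⟩
  rw [_root_.mul_inv_rev, mul_assoc]
  exact mul_mem (inv_mem ha'.2) hn

/-! ## F3 -/

/-- The element `e`. -/
theorem exists_central_eigen (hG : Hyp G) (hr : r ≠ 2) {V : Subgroup G}
    (hV : Conf r V (zjNorm (T : Subgroup G))) (hVN₀ : FusedIn V (confN0 r (T : Subgroup G))) {t : G}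
    (ht : t ∈ V) (ht1 : t ≠ 1) :
    ∃ (R : Subgroup G) (e : G), IsPGroup r R ∧ R ≤ confN0 r (T : Subgroup G) ∧
      R ≤ Subgroup.centralizer ({t} : Set G) ∧
      Nat.card R = r ^ (Nat.card (coreC t ⊓ confN0 r (T : Subgroup G) : Subgroup G)).factorization r ∧
      e ∈ R ∧ (∀ x ∈ R, x * e = e * x) ∧ e ∈ confQ r (T : Subgroup G) ∧
      (∀ q ∈ confQ r (T : Subgroup G), q * e = e * q) ∧ e ≠ 1 ∧ e ^ r = 1 ∧
      V ≤ Subgroup.normalizer (Subgroup.zpowers e : Set G) := by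
  classical
  set Q := confQ r (T : Subgroup G) with hQ
  set N₀ := confN0 r (T : Subgroup G) with hN₀
  have hto : orderOf t = 2 := hVN₀.1.orderOf_eq ht ht1
  have hVt : V ≤ Subgroup.centralizer ({t} : Set G) := fun v hv =>
    Subgroup.mem_centralizer_singleton_iff.2 (hVN₀.1.comm hv ht)
  have hQr : IsPGroup r Q := T.2.to_le (confQ_le _)
  -- `Ω₁(Z(Q))`
  let Z : Subgroup G :=
    { carrier := {x | x ∈ Q ∧ (∀ q ∈ Q, q * x = x * q) ∧ x ^ r = 1}
      one_mem' := ⟨one_mem _, fun q _ => by rw [mul_one, one_mul], one_pow r⟩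
      mul_mem' := fun {x y} hx hy => ⟨mul_mem hx.1 hy.1,
        fun q hq => ((show Commute q x from hx.2.1 q hq).mul_right (show Commute q y from hy.2.1 q hq)).eq,
        by rw [(show Commute x y from hy.2.1 x hx.1).mul_pow, hx.2.2, hy.2.2, one_mul]⟩
      inv_mem' := fun {x} hx => ⟨inv_mem hx.1,
        fun q hq => (show Commute q x from hx.2.1 q hq).inv_right.eq, by rw [inv_pow, hx.2.2, inv_one]⟩ }
  have hNZ : N₀ ≤ Subgroup.normalizer (Z : Set G) := fun g hg => Subgroup.mem_normalizer_fintype fun x hx => by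
    have hgQ := confN0_le_normalizer (r := r) _ hg
    refine ⟨conj_mem_of_mem_normalizer hgQ hx.1, fun q hq => ?_, by rw [conj_pow, hx.2.2]; group⟩
    calc q * (g * x * g⁻¹) = g * (g⁻¹ * q * g * x) * g⁻¹ := by group
      _ = g * x * g⁻¹ * q := by rw [hx.2.1 _ ((Subgroup.mem_normalizer_iff''.1 hgQ q).1 hq)]; group
  have hZQ : Z ≤ Q := fun x hx => hx.1
  have hZodd : Odd (Nat.card Z) := odd_card_of_pgroup hr (hQr.to_le hZQ)
  have hZne : Z ≠ ⊥ := by
    haveI : Nontrivial Q := (Subgroup.nontrivial_iff_ne_bot Q).2 (confQ_ne_bot hV)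
    haveI := hQr.center_nontrivial
    obtain ⟨k, hk⟩ := IsPGroup.iff_card.1 (hQr.to_subgroup (Subgroup.center Q))
    have hk0 : k ≠ 0 := fun e => by
      rw [e, pow_zero] at hk
      exact absurd hk (ne_of_gt (Finite.one_lt_card_iff_nontrivial.2 inferInstance))
    obtain ⟨z, hz⟩ := exists_prime_orderOf_dvd_card' (G := Subgroup.center Q) r (hk ▸ dvd_pow_self r hk0)
    have hzo : orderOf ((z : Q) : G) = r := by rw [Subgroup.orderOf_coe, Subgroup.orderOf_coe, hz]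
    intro h
    have hzZ : ((z : Q) : G) ∈ Z := ⟨(z : Q).2,
      fun q hq => congrArg Subtype.val (Subgroup.mem_center_iff.1 z.2 ⟨q, hq⟩),
      by conv_lhs => rw [← hzo]; exact pow_orderOf_eq_one _⟩
    rw [h, Subgroup.mem_bot] at hzZ
    rw [hzZ, orderOf_one] at hzo
    exact (Fact.out : r.Prime).ne_one hzo.symm
  set Z₁ := Z ⊓ Subgroup.centralizer ({t} : Set G) with hZ₁
  have hZ₁ne : Z₁ ≠ ⊥ := by
    intro h
    refine hZne (le_bot_iff.1 (le_of_four hVN₀.1 hZodd (hVN₀.2.1.trans hNZ) fun v hv hv1 x hx => ?_))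
    obtain ⟨g, hg, -, hgv⟩ := hVN₀.2.2 v hv hv1 t ht ht1
    have hx' := Subgroup.mem_inf.1 hx
    have h1 : g * x * g⁻¹ ∈ Z₁ := Subgroup.mem_inf.2 ⟨conj_mem_of_mem_normalizer (hNZ hg) hx'.1,
      Subgroup.mem_centralizer_singleton_iff.2 (by
        rw [← hgv]
        calc g * x * g⁻¹ * (g * v * g⁻¹) = g * (x * v) * g⁻¹ := by group
          _ = g * v * g⁻¹ * (g * x * g⁻¹) := by
            rw [Subgroup.mem_centralizer_singleton_iff.1 hx'.2]; group)⟩
    rw [h, Subgroup.mem_bot, conj_eq_one_iff] at h1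
    exact Subgroup.mem_bot.2 h1
  -- the invariant Sylow subgroup
  set O := coreC t ⊓ N₀ with hO
  have hOodd : Odd (Nat.card O) := (coreC_odd t).of_dvd_nat (Subgroup.card_dvd_of_le inf_le_left)
  have hVO : V ≤ Subgroup.normalizer (O : Set G) := fun v hv =>
    Subgroup.mem_normalizer_fintype fun x hx => Subgroup.mem_inf.2
      ⟨conj_mem_of_mem_normalizer (centralizer_le_normalizer_coreC t (hVt hv)) (Subgroup.mem_inf.1 hx).1,
        mul_mem (mul_mem (hVN₀.2.1 hv) (Subgroup.mem_inf.1 hx).2) (inv_mem (hVN₀.2.1 hv))⟩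
  obtain ⟨P, hPV⟩ := Coprime.exists_invariant_sylow hVO
    (by rw [hVN₀.1.1]; exact (Nat.coprime_two_left.2 hOodd).pow_left 2)
    (Or.inr (Cfsg.Agent.S0205.result hOodd)) r
  set R := (P : Subgroup O).map O.subtype with hR
  have hRO : R ≤ O := Subgroup.map_subtype_le _
  have hRr : IsPGroup r R := P.2.map _
  have hRcard : Nat.card R = r ^ (Nat.card O).factorization r := Coprime.card_sylow_map P
  have hRt : R ≤ Subgroup.centralizer ({t} : Set G) := fun x hx => coreC_le t (Subgroup.mem_inf.1 (hRO hx)).1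
  have hRN₀ : R ≤ N₀ := hRO.trans inf_le_right
  have hZ₁O : Z₁ ≤ O := fun x hx => Subgroup.mem_inf.2
    ⟨hG.mem_coreC hto (Subgroup.mem_inf.1 hx).2 (orderOf_odd_of_mem hZodd (Subgroup.mem_inf.1 hx).1),
      confQ_le_confN0 _ (hZQ (Subgroup.mem_inf.1 hx).1)⟩
  have hRZ₁ : R ≤ Subgroup.normalizer (Z₁ : Set G) := fun g hg => Subgroup.mem_normalizer_fintype fun x hx =>
    Subgroup.mem_inf.2 ⟨conj_mem_of_mem_normalizer (hNZ (hRN₀ hg)) (Subgroup.mem_inf.1 hx).1,
      mul_mem (mul_mem (hRt hg) (Subgroup.mem_inf.1 hx).2) (inv_mem (hRt hg))⟩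
  have hZ₁R : Z₁ ≤ R := by
    have h1 : R = R ⊔ Z₁ := Subgroup.eq_of_le_of_card_ge le_sup_left (hRcard ▸
      pgroup_card_le (hRr.to_sup_of_normal_right' ((hQr.to_le hZQ).to_le inf_le_left) hRZ₁)
        (sup_le hRO hZ₁O))
    exact h1 ▸ le_sup_right
  -- fixed points of `R` on `Z₁`
  obtain ⟨z, hz, hz1, hzc⟩ : ∃ z ∈ Z₁, z ≠ 1 ∧ ∀ x ∈ R, x * z = z * x := by
    haveI : (Z₁.subgroupOf R).Normal := Subgroup.normal_subgroupOf_of_le_normalizer hRZ₁
    have hne : Z₁.subgroupOf R ≠ ⊥ := fun h => hZ₁ne (by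
      rw [Subgroup.subgroupOf_eq_bot] at h
      exact h.eq_bot_of_le hZ₁R)
    obtain ⟨z, hz, hz1⟩ := (Subgroup.bot_or_exists_ne_one _).resolve_left
      (PGroups.normal_inf_center_ne_bot hRr _ hne)
    exact ⟨z, Subgroup.mem_subgroupOf.1 (Subgroup.mem_inf.1 hz).1, fun e => hz1 (Subtype.ext e),
      fun x hx => congrArg Subtype.val (Subgroup.mem_center_iff.1 (Subgroup.mem_inf.1 hz).2 ⟨x, hx⟩)⟩
  obtain ⟨a, haV, ha1, hat⟩ := exists_other hVN₀.1 t
  have haa : a⁻¹ = a := inv_eq_of_mul_eq_one_right (hVN₀.1.2 a haV)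
  have haz : a * z * a⁻¹ ∈ Z₁ ∧ ∀ x ∈ R, x * (a * z * a⁻¹) = a * z * a⁻¹ * x := by
    refine ⟨Subgroup.mem_inf.2 ⟨conj_mem_of_mem_normalizer (hNZ (hVN₀.2.1 haV)) (Subgroup.mem_inf.1 hz).1,
      mul_mem (mul_mem (hVt haV) (Subgroup.mem_inf.1 hz).2) (inv_mem (hVt haV))⟩, fun x hx => ?_⟩
    calc x * (a * z * a⁻¹) = a * (a⁻¹ * x * a * z) * a⁻¹ := by group
      _ = a * z * a⁻¹ * x := by
        rw [hzc _ ((Subgroup.mem_normalizer_iff''.1 (hPV haV) x).1 hx)]; group
  obtain ⟨e, he, he1, hec, hea⟩ : ∃ e ∈ Z₁, e ≠ 1 ∧ (∀ x ∈ R, x * e = e * x) ∧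
      (a * e * a⁻¹ = e ∨ a * e * a⁻¹ = e⁻¹) := by
    by_cases hinv : a * z * a⁻¹ = z⁻¹
    · exact ⟨z, hz, hz1, hzc, Or.inr hinv⟩
    · refine ⟨z * (a * z * a⁻¹), mul_mem hz haz.1, fun h => hinv (eq_inv_of_mul_eq_one_right h),
        fun x hx => ((show Commute x z from hzc x hx).mul_right
          (show Commute x (a * z * a⁻¹) from haz.2 x hx)).eq, Or.inl ?_⟩
      have hcom : z * (a * z * a⁻¹) = a * z * a⁻¹ * z :=
        (Subgroup.mem_inf.1 haz.1).1.2.1 z (Subgroup.mem_inf.1 hz).1.1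
      calc a * (z * (a * z * a⁻¹)) * a⁻¹ = a * z * (a * z * (a⁻¹ * a⁻¹)) := by group
        _ = a * z * (a⁻¹ * z) := by
          rw [show a⁻¹ * a⁻¹ = 1 by rw [haa, hVN₀.1.2 a haV], mul_one, haa]
        _ = a * z * a⁻¹ * z := by group
        _ = _ := hcom.symm
  have he' := Subgroup.mem_inf.1 he
  refine ⟨R, e, hRr, hRN₀, hRt, hRcard, hZ₁R he, hec, he'.1.1, he'.1.2.1, he1, he'.1.2.2,
    hVN₀.1.eq_of_mem ht haV ht1 ha1 (Ne.symm hat) (mem_normalizer_zpowers ?_) (mem_normalizer_zpowers ?_)⟩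
  · rw [← Subgroup.mem_centralizer_singleton_iff.1 he'.2, mul_inv_cancel_right]
    exact Subgroup.mem_zpowers e
  · rcases hea with h | h
    · rw [h]; exact Subgroup.mem_zpowers e
    · rw [h]; exact inv_mem (Subgroup.mem_zpowers e)

/-- `e` is good: only odd elements of `C(e)` act trivially on `Θ(e) / θ(e)`. -/
theorem odd_coverKer (hFO : PropFourOdd.{u}) (hG : Hyp G) (hr : r ≠ 2) {V : Subgroup G}
    (hV : Conf r V (zjNorm (T : Subgroup G))) (hVN₀ : FusedIn V (confN0 r (T : Subgroup G))) {e : G}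
    (he1 : e ≠ 1) (her : e ^ r = 1) (heQ : ∀ q ∈ confQ r (T : Subgroup G), q * e = e * q)
    (hVe : V ≤ Subgroup.normalizer (Subgroup.zpowers e : Set G)) :
    Odd (Nat.card (coverKer r e)) := by
  classical
  by_contra hev
  set Q := confQ r (T : Subgroup G) with hQ
  set H := Subgroup.normalizer (Subgroup.zpowers e : Set G) with hH
  have hzr : IsPGroup r (Subgroup.zpowers e) := isPGroup_zpowers (k := 1) (by rw [pow_one]; exact her)
  have hHtop : H ≠ ⊤ := hG.normalizer_ne_top (by rwa [Ne, Subgroup.zpowers_eq_bot])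
    (hG.ne_top_of_odd (odd_card_of_pgroup hr hzr))
  have hQr : IsPGroup r Q := T.2.to_le (confQ_le _)
  have hQodd := odd_card_of_pgroup hr hQr
  have hQe : Q ≤ Subgroup.centralizer ({e} : Set G) := fun q hq =>
    Subgroup.mem_centralizer_singleton_iff.2 (heQ q hq)
  have hCH : Subgroup.centralizer ({e} : Set G) ≤ H := centralizer_le_normalizer_zpowers e
  have hVQ : V ≤ Subgroup.normalizer (Q : Set G) := hVN₀.2.1.trans (confN0_le_normalizer _)
  obtain ⟨u, huV, hu1, huK⟩ := exists_four_mem_of_even hG hVN₀.1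
    (hVe.trans (normalizer_zpowers_le_normalizer_coverKer r e)) hev
  have huu : u⁻¹ = u := inv_eq_of_mul_eq_one_right (hVN₀.1.2 u huV)
  have huo : orderOf u = 2 := hVN₀.1.orderOf_eq huV hu1
  have hsq : ∀ x : G, Odd (orderOf x) → x * x = 1 → x = 1 := fun x hx h =>
    orderOf_eq_one_iff.1 (Nat.eq_one_of_dvd_coprimes (Nat.coprime_two_right.2 hx) dvd_rfl
      (orderOf_dvd_of_pow_eq_one (by rw [sq, h])))
  -- `u` centralises the `u`-invariant `r`-subgroups of `O(C(e))`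
  have hfix : ∀ x ∈ Q, x ∈ coreC e → u * x = x * u := by
    intro x hxQ hxC
    have hKn := normalizer_zpowers_le_normalizer_coverKer r e
    set y := x⁻¹ * u * x * u⁻¹ with hy
    have hyK : y ∈ coverKer r e := by
      refine mul_mem ?_ (inv_mem huK)
      have h1 := conj_mem_of_mem_normalizer (hKn (inv_mem (hCH (hQe hxQ)))) huK
      rwa [inv_inv] at h1
    have hyQ : y ∈ Q := by
      rw [hy, show x⁻¹ * u * x * u⁻¹ = x⁻¹ * (u * x * u⁻¹) by group]
      exact mul_mem (inv_mem hxQ) (conj_mem_of_mem_normalizer (hVQ huV) hxQ)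
    have hyC : y ∈ coreC e := by
      rw [hy, show x⁻¹ * u * x * u⁻¹ = x⁻¹ * (u * x * u⁻¹) by group]
      exact mul_mem (inv_mem hxC)
        (conj_mem_of_mem_normalizer (centralizer_le_normalizer_coreC e (coverKer_le r e huK)) hxC)
    have h1 := huK.2 y (mem_coreRP_of_mem_coverKer hyK hyC)
    have h2 : u * y * u⁻¹ * y⁻¹ = (y * y)⁻¹ := by
      have h3 : u * y * u⁻¹ = y⁻¹ := by
        rw [hy]
        calc u * (x⁻¹ * u * x * u⁻¹) * u⁻¹ = u * x⁻¹ * u * x * (u * u)⁻¹ := by group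
          _ = u * x⁻¹ * u⁻¹ * x := by rw [hVN₀.1.2 u huV, inv_one, mul_one, huu]
          _ = _ := by group
      rw [h3]
      exact (_root_.mul_inv_rev y y).symm
    rw [h2] at h1
    obtain ⟨j, hj⟩ := hQr ⟨_, inv_mem (mul_mem hyQ hyQ)⟩
    have h4 := inv_eq_one.1 (eq_one_of_pow_of_not_dvd (not_dvd_card_coreR r e) h1 (congrArg Subtype.val hj))
    have h5 := hsq y (orderOf_odd_of_mem hQodd hyQ) h4
    rw [hy, mul_inv_eq_one, mul_assoc, inv_mul_eq_iff_eq_mul] at h5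
    exact h5
  -- an involution of `V` centralises `Q` modulo `O(H)`
  obtain ⟨v, hvV, hv1, hcom⟩ := hFO G hG H hHtop V Q hVN₀.1 hVe (hQe.trans hCH) hQodd hVQ
  have hvv : v⁻¹ = v := inv_eq_of_mul_eq_one_right (hVN₀.1.2 v hvV)
  have hcC : ∀ q ∈ Q, q * v * q⁻¹ * v⁻¹ ∈ Q ∧ q * v * q⁻¹ * v⁻¹ ∈ coreC e := by
    intro q hq
    have hcQ : q * v * q⁻¹ * v⁻¹ ∈ Q := by
      rw [show q * v * q⁻¹ * v⁻¹ = q * (v * q⁻¹ * v⁻¹) by group]
      exact mul_mem hq (conj_mem_of_mem_normalizer (hVQ hvV) (inv_mem hq))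
    refine ⟨hcQ, le_coreOf (K := coreOf H ⊓ Subgroup.centralizer ({e} : Set G)) inf_le_right
      (fun g hg => Subgroup.mem_normalizer_fintype fun z hz => Subgroup.mem_inf.2
        ⟨conj_mem_of_mem_normalizer (le_normalizer_coreOf H (hCH hg)) (Subgroup.mem_inf.1 hz).1,
          mul_mem (mul_mem hg (Subgroup.mem_inf.1 hz).2) (inv_mem hg)⟩)
      ((coreOf_odd H).of_dvd_nat (Subgroup.card_dvd_of_le inf_le_left))
      (Subgroup.mem_inf.2 ⟨hcom q hq, hQe hcQ⟩)⟩
  by_cases huv : u = v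
  · refine confQ_not_centralized hG hV huo fun q hq => Subgroup.mem_centralizer_singleton_iff.2 ?_
    subst huv
    set c := q * u * q⁻¹ * u⁻¹ with hc
    have h1 := hfix c (hcC q hq).1 (hcC q hq).2
    have h2 : u * c * u⁻¹ = c⁻¹ := by
      rw [hc]
      simp only [_root_.mul_inv_rev, inv_inv, huu, mul_assoc, hVN₀.1.2 u huV, mul_one]
    rw [h1, mul_inv_cancel_right] at h2
    have h3 := hsq c (orderOf_odd_of_mem hQodd (hcC q hq).1) (mul_eq_one_iff_eq_inv.2 h2)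
    rw [hc, mul_inv_eq_one, mul_inv_eq_iff_eq_mul] at h3
    exact h3
  · set w := u * v with hw
    have hwV : w ∈ V := mul_mem huV hvV
    have hw1 : w ≠ 1 := fun e => huv ((mul_eq_one_iff_eq_inv.1 e).trans hvv)
    have huw : u ≠ w := fun e => hv1 (mul_eq_left.1 e.symm)
    refine confQ_not_centralized hG hV huo (centralizes_of_inf_le hVN₀ (confN0_le_normalizer _) hQodd huV hu1
      hwV hw1 huw fun q hq => Subgroup.mem_centralizer_singleton_iff.2 ?_)
    have hq' := Subgroup.mem_inf.1 hq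
    have hqw : q * (u * v) = u * v * q := Subgroup.mem_centralizer_singleton_iff.1 hq'.2
    have hvu : v * u = u * v := hVN₀.1.comm hvV huV
    have hconj : v * q⁻¹ * v⁻¹ = u * q⁻¹ * u⁻¹ := by
      have h1 : u * v * q⁻¹ = q⁻¹ * (u * v) :=
        ((show Commute q (u * v) from hqw).inv_left).eq.symm
      calc v * q⁻¹ * v⁻¹ = u⁻¹ * (u * v * q⁻¹) * v⁻¹ := by group
        _ = u⁻¹ * q⁻¹ * u := by rw [h1]; group
        _ = _ := by rw [huu]
    set c := q * v * q⁻¹ * v⁻¹ with hc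
    have hcu : c = q * u * q⁻¹ * u⁻¹ := by
      rw [hc, show q * v * q⁻¹ * v⁻¹ = q * (v * q⁻¹ * v⁻¹) by group, hconj]
      group
    have h1 := hfix c (hcC q hq'.1).1 (hcC q hq'.1).2
    have h2 : u * c * u⁻¹ = c⁻¹ := by
      rw [hcu]
      simp only [_root_.mul_inv_rev, inv_inv, huu, mul_assoc, hVN₀.1.2 u huV, mul_one]
    rw [h1, mul_inv_cancel_right] at h2
    have h3 := hsq c (orderOf_odd_of_mem hQodd (hcC q hq'.1).1) (mul_eq_one_iff_eq_inv.2 h2)
    rw [hcu, mul_inv_eq_one, mul_inv_eq_iff_eq_mul] at h3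
    exact h3

/-- Strong fusion inside `C(t)`: the normaliser of `X` is covered by `θ(e)` and `N`. -/
theorem exists_cover_normalizer (hG : Hyp G) (hr : r ≠ 2) {e : G}
    (hfac : ∀ c : G, c * e = e * c → ∃ w ∈ coreR r e, w⁻¹ * c ∈ zjNorm (T : Subgroup G))
    {X : Subgroup G} (hX : IsPGroup r X) (hXN : X ≤ zjNorm (T : Subgroup G)) (heX : e ∈ X)
    (hec : ∀ x ∈ X, x * e = e * x) {t : G} (ht : t ∈ zjNorm (T : Subgroup G)) (ht2 : orderOf t = 2)
    (hXt : X ≤ Subgroup.centralizer ({t} : Set G)) {g : G} (hgt : g * t = t * g)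
    (hgX : g ∈ Subgroup.normalizer (X : Set G)) :
    ∃ w ∈ coreR r e, w ∈ Subgroup.centralizer (X : Set G) ∧ w * t = t * w ∧
      w⁻¹ * g ∈ zjNorm (T : Subgroup G) := by
  set N := zjNorm (T : Subgroup G) with hN
  obtain ⟨n, hn, c, hc, hgc⟩ := fusion_control hG hr T hX hXN g⁻¹
    fun x hx => hXN (conj_mem_of_mem_normalizer (inv_mem hgX) hx)
  obtain ⟨w, hw, hwX, hwN, -⟩ := centralizer_split T hfac hX hXN heX hec (inv_mem hc)
  set m := w⁻¹ * c⁻¹ * n⁻¹ with hm
  have hmN : m ∈ N := mul_mem hwN (inv_mem hn)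
  have hgm : g = w * m := by
    rw [hm, ← mul_assoc, ← mul_assoc, mul_inv_cancel, one_mul, ← _root_.mul_inv_rev, ← hgc, inv_inv]
  have hwN' : w⁻¹ * t * w ∈ N := by
    have h1 : w⁻¹ * t * w = m * t * m⁻¹ := by
      calc w⁻¹ * t * w = w⁻¹ * (t * g) * g⁻¹ * w := by group
        _ = _ := by rw [← hgt, hgm]; group
    rw [h1]
    exact mul_mem (mul_mem hmN ht) (inv_mem hmN)
  have htt : t * t = 1 := by rw [← sq, ← ht2, pow_orderOf_eq_one]
  have hti : t⁻¹ = t := inv_eq_of_mul_eq_one_right htt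
  set h := t * w⁻¹ * t * w with hh
  have htX : t ∈ Subgroup.centralizer (X : Set G) := Subgroup.mem_centralizer_iff.2 fun x hx =>
    Subgroup.mem_centralizer_singleton_iff.1 (hXt hx)
  have hte : t ∈ Subgroup.centralizer ({e} : Set G) :=
    Subgroup.mem_centralizer_singleton_iff.2 (commute_of_mem_centralizer htX heX)
  have hhθ : h ∈ coreR r e := by
    rw [hh]
    nth_rewrite 2 [← hti]
    exact mul_mem (conj_mem_of_mem_normalizer (centralizer_le_normalizer_coreR r e hte) (inv_mem hw)) hw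
  have hhX : h ∈ Subgroup.centralizer (X : Set G) := mul_mem (mul_mem (mul_mem htX (inv_mem hwX)) htX) hwX
  have hhN : h ∈ N := by
    rw [hh, show t * w⁻¹ * t * w = t * (w⁻¹ * t * w) by group]
    exact mul_mem ht hwN'
  have hhinv : t * h * t⁻¹ = h⁻¹ := by
    rw [hh]
    calc t * (t * w⁻¹ * t * w) * t⁻¹ = (t * t) * w⁻¹ * t * w * t⁻¹ := by group
      _ = w⁻¹ * t⁻¹ * w * t⁻¹ := by rw [htt, one_mul]; nth_rewrite 1 [← hti]; rfl
      _ = _ := by group
  obtain ⟨k, hk, hkk, hkt⟩ := exists_sqrt (orderOf_odd_of_mem (coreR_odd r e) hhθ) hhinv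
  have hk' : Subgroup.zpowers h ≤ coreR r e ⊓ (N ⊓ Subgroup.centralizer (X : Set G)) :=
    Subgroup.zpowers_le.2 (Subgroup.mem_inf.2 ⟨hhθ, Subgroup.mem_inf.2 ⟨hhN, hhX⟩⟩)
  obtain ⟨hkθ, hkNX⟩ := Subgroup.mem_inf.1 (hk' hk)
  obtain ⟨hkN, hkX⟩ := Subgroup.mem_inf.1 hkNX
  refine ⟨w * k⁻¹, mul_mem hw (inv_mem hkθ), mul_mem hwX (inv_mem hkX), ?_, ?_⟩
  · have h1 : w⁻¹ * t * w = k⁻¹ * t * k := by
      calc w⁻¹ * t * w = t⁻¹ * h := by rw [hh]; group
        _ = (t⁻¹ * k * t) * t⁻¹ * k := by rw [← hkk]; group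
        _ = k⁻¹ * t * k := by rw [hti]; rw [show t * k * t = t * k * t⁻¹ by rw [hti], hkt]
    calc w * k⁻¹ * t = w * (k⁻¹ * t * k) * k⁻¹ := by group
      _ = t * (w * k⁻¹) := by rw [← h1]; group
  · rw [hgm, show (w * k⁻¹)⁻¹ * (w * m) = k * m by group]
    exact mul_mem hkN hmN

/-! ## F4 -/

/-- `C(t) = O_{r'}(O(C(t))) C_N(t)` for the involutions of a four-group fused in `N₀`. -/
theorem covers_of_fused (hFO : PropFourOdd.{u}) (hG : Hyp G) (hr : r ≠ 2) {V : Subgroup G}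
    (hV : Conf r V (zjNorm (T : Subgroup G))) (hVN₀ : FusedIn V (confN0 r (T : Subgroup G))) {t : G}
    (ht : t ∈ V) (ht1 : t ≠ 1) : Covers T t := by
  classical
  haveI : Fact (Nat.Prime 2) := ⟨Nat.prime_two⟩
  set N := zjNorm (T : Subgroup G) with hN
  set N₀ := confN0 r (T : Subgroup G) with hN₀
  have hto : orderOf t = 2 := hVN₀.1.orderOf_eq ht ht1
  have htN₀ : t ∈ N₀ := hVN₀.2.1 ht
  have htN : t ∈ N := confN0_le _ htN₀
  obtain ⟨R, e, hRr, hRN₀, hRt, hRcard, heR, hRe, heQ, hQe, he1, her, hVe⟩ :=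
    exists_central_eigen T hG hr hV hVN₀ ht ht1
  have hRN : R ≤ N := hRN₀.trans (confN0_le _)
  have hfac : ∀ c : G, c * e = e * c → ∃ w ∈ coreR r e, w⁻¹ * c ∈ N := fun c hc =>
    centralizer_cover T hG hr (hRN heR) (k := 1) (by rw [pow_one]; exact her)
      (odd_coverKer T hFO hG hr hV hVN₀ he1 her hQe hVe) hc
  -- `R` is a Sylow `r`-subgroup of `C(t)`
  have hmax : ∀ P : Subgroup G, IsPGroup r P → R ≤ P → P ≤ Subgroup.centralizer ({t} : Set G) →
      R = P := by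
    intro P hP hRP hPt
    by_contra hne
    have hlt : R < P := lt_of_le_of_ne hRP hne
    haveI := hP.isNilpotent
    have hlt' : R.subgroupOf P < ⊤ := lt_top_iff_ne_top.2 fun h =>
      hlt.not_ge (Subgroup.subgroupOf_eq_top.1 h)
    obtain ⟨y, hyN, hyR⟩ := SetLike.exists_of_lt (Group.normalizerCondition_of_isNilpotent _ hlt')
    have hyn : (y : G) ∈ Subgroup.normalizer (R : Set G) := Subgroup.mem_normalizer_fintype fun x hx =>
      Subgroup.mem_subgroupOf.1
        ((Subgroup.mem_normalizer_iff.1 hyN ⟨x, hRP hx⟩).1 (Subgroup.mem_subgroupOf.2 hx))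
    set W := R ⊔ Subgroup.zpowers (y : G) with hW
    have hWP : W ≤ P := sup_le hRP (Subgroup.zpowers_le.2 y.2)
    have hWr : IsPGroup r W := hP.to_le hWP
    set H := Subgroup.centralizer ({t} : Set G) ⊓ Subgroup.normalizer (R : Set G) with hH
    obtain ⟨h, hh, hWN⟩ := exists_conj_le_of_factor (H := H) (L := N)
      (Y := coreR r e ⊓ (Subgroup.centralizer (R : Set G) ⊓ Subgroup.centralizer ({t} : Set G))) hWr
      (le_inf (hWP.trans hPt) (sup_le Subgroup.le_normalizer (Subgroup.zpowers_le.2 hyn)))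
      (fun x hx => Subgroup.mem_inf.2 ⟨(Subgroup.mem_inf.1 (Subgroup.mem_inf.1 hx).2).2,
        Subgroup.centralizer_le_normalizer _ (Subgroup.mem_inf.1 (Subgroup.mem_inf.1 hx).2).1⟩)
      (fun h => not_dvd_card_coreR r e (h.trans (Subgroup.card_dvd_of_le inf_le_left)))
      (fun g hg => by
        obtain ⟨w, hw, hwR, hwt, hwg⟩ := exists_cover_normalizer T hG hr hfac hRr hRN heR hRe htN hto hRt
          (Subgroup.mem_centralizer_singleton_iff.1 (Subgroup.mem_inf.1 hg).1) (Subgroup.mem_inf.1 hg).2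
        exact ⟨w, Subgroup.mem_inf.2 ⟨hw, Subgroup.mem_inf.2 ⟨hwR,
          Subgroup.mem_centralizer_singleton_iff.2 hwt⟩⟩, hwg⟩)
    set W₁ := W.map (MulAut.conj h).toMonoidHom with hW₁
    have hW₁le : W₁ ≤ N ⊓ Subgroup.centralizer ({t} : Set G) := by
      rintro _ ⟨x, hx, rfl⟩
      exact Subgroup.mem_inf.2 ⟨hWN x hx, mul_mem (mul_mem (Subgroup.mem_inf.1 hh).1 (hPt (hWP hx)))
        (inv_mem (Subgroup.mem_inf.1 hh).1)⟩
    have htC : ∀ g : G, g ∈ Subgroup.centralizer ({t} : Set G) →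
        g ∈ Subgroup.centralizer (Subgroup.zpowers t : Set G) := fun g hg =>
      Subgroup.mem_centralizer_iff.2 fun x hx => by
        obtain ⟨i, rfl⟩ := hx
        exact ((show Commute g t from Subgroup.mem_centralizer_singleton_iff.1 hg).zpow_right i).eq.symm
    obtain ⟨k, hk, hWN₀⟩ := exists_conj_le_of_factor (H := N ⊓ Subgroup.centralizer ({t} : Set G))
      (L := N₀) (Y := confY r (T : Subgroup G) ⊓ Subgroup.centralizer ({t} : Set G)) (hWr.map _) hW₁le
      (inf_le_inf_right _ (confY_le _))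
      (fun h => not_dvd_card_confY (T : Subgroup G) (h.trans (Subgroup.card_dvd_of_le inf_le_left)))
      (fun g hg => by
        obtain ⟨y', hy', hy't, hy'g, -⟩ := conf_centralizer_factor_two T hG hV (X := Subgroup.zpowers t)
          (IsPGroup.of_card (n := 1) (by rw [Nat.card_zpowers, hto, pow_one]))
          (Subgroup.zpowers_le.2 htN₀) (Subgroup.mem_inf.1 hg).1 (htC g (Subgroup.mem_inf.1 hg).2)
        exact ⟨y', Subgroup.mem_inf.2 ⟨hy', Subgroup.mem_centralizer_singleton_iff.2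
          (commute_of_mem_centralizer hy't (Subgroup.mem_zpowers t))⟩, hy'g⟩)
    set W₂ := W₁.map (MulAut.conj k).toMonoidHom with hW₂
    have hW₂r : IsPGroup r W₂ := (hWr.map _).map _
    have hW₂le : W₂ ≤ coreC t ⊓ N₀ := by
      rintro _ ⟨x, hx, rfl⟩
      refine Subgroup.mem_inf.2 ⟨hG.mem_coreC hto ?_ (orderOf_odd_of_mem (odd_card_of_pgroup hr hW₂r)
        ⟨x, hx, rfl⟩), hWN₀ x hx⟩
      exact mul_mem (mul_mem (Subgroup.mem_inf.1 hk).2 (Subgroup.mem_inf.1 (hW₁le hx)).2)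
        (inv_mem (Subgroup.mem_inf.1 hk).2)
    have hcard : Nat.card W ≤ Nat.card R := by
      have h1 := hRcard ▸ pgroup_card_le hW₂r hW₂le
      rwa [hW₂, Subgroup.card_map_of_injective (MulAut.conj k).injective, hW₁,
        Subgroup.card_map_of_injective (MulAut.conj h).injective] at h1
    exact hyR (Subgroup.mem_subgroupOf.2 ((Subgroup.eq_of_le_of_card_ge le_sup_left hcard).ge
      ((le_sup_right : Subgroup.zpowers (y : G) ≤ W) (Subgroup.mem_zpowers _))))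
  have hRC : R ≤ coreC t := fun x hx => hG.mem_coreC hto (hRt hx)
    (orderOf_odd_of_mem (odd_card_of_pgroup hr hRr) hx)
  obtain ⟨S, hS⟩ := (hRr.comap_subtype (K := coreC t)).exists_le_sylow
  have hRS : R = (S : Subgroup ↥(coreC t)).map (coreC t).subtype := hmax _ (S.2.map _)
    (fun x hx => ⟨⟨x, hRC hx⟩, hS (show (x : G) ∈ R from hx), rfl⟩)
    ((Subgroup.map_subtype_le _).trans (coreC_le t))
  -- a Sylow subgroup of `O_{r'r}(O(C(t)))`
  set Θ := coreRP r t with hΘ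
  set U := coreR r t with hU
  set R₀ := R ⊓ Θ with hR₀
  have hR₀card : Nat.card R₀ = r ^ (Nat.card Θ).factorization r := by
    refine le_antisymm (pgroup_card_le (hRr.to_le inf_le_left) inf_le_right) ?_
    obtain ⟨P⟩ : Nonempty (Sylow r Θ) := inferInstance
    obtain ⟨S', hS'⟩ := ((P.2.map Θ.subtype).comap_subtype (K := coreC t)).exists_le_sylow
    obtain ⟨g, hg⟩ := MulAction.exists_smul_eq (coreC t) S' S
    rw [← Coprime.card_sylow_map P, ← Subgroup.card_map_of_injective (K := (P : Subgroup Θ).map Θ.subtype)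
      (f := (MulAut.conj (g : G)).toMonoidHom) (MulAut.conj (g : G)).injective]
    refine Nat.le_of_dvd Nat.card_pos (Subgroup.card_dvd_of_le ?_)
    rintro _ ⟨x, hx, rfl⟩
    refine Subgroup.mem_inf.2 ⟨?_, conj_mem_of_mem_normalizer
      (centralizer_le_normalizer_coreRP r t (coreC_le t g.2)) (Subgroup.map_subtype_le _ hx)⟩
    rw [hRS]
    refine ⟨g * ⟨x, coreRP_le r t (Subgroup.map_subtype_le _ hx)⟩ * g⁻¹, ?_, rfl⟩
    rw [← hg]
    exact Subgroup.smul_mem_pointwise_smul _ (MulAut.conj g) (S' : Subgroup ↥(coreC t))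
      (hS' (show (x : G) ∈ _ from hx))
  have hfacΘ : ∀ x ∈ Θ, ∃ w ∈ U, w⁻¹ * x ∈ R₀ := fun x hx =>
    exists_factor_pPrimePCore inf_le_right hR₀card hx
  -- what centralises `R₀` centralises `Θ / U`
  have hconstr : ∀ c ∈ coreC t, c ∈ Subgroup.centralizer (R₀ : Set G) → c ∈ Θ := by
    intro c hc hcR
    refine mem_pPrimePCore_of_centralizes (isSolvable_coreC t) hc fun x hx => ?_
    obtain ⟨w, hw, hwx⟩ := hfacΘ x hx
    set z := w⁻¹ * x with hz
    have hxz : x = w * z := by rw [hz, mul_inv_cancel_left]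
    have h1 : c * z * c⁻¹ = z := mul_inv_eq_iff_eq_mul.2 (commute_of_mem_centralizer hcR hwx)
    have h2 : c * x * c⁻¹ * x⁻¹ = c * w * c⁻¹ * w⁻¹ := by
      calc c * x * c⁻¹ * x⁻¹ = c * w * c⁻¹ * (c * z * c⁻¹) * z⁻¹ * w⁻¹ := by rw [hxz]; group
        _ = _ := by rw [h1]; group
    rw [h2]
    exact mul_mem (conj_mem_of_mem_normalizer (centralizer_le_normalizer_coreR r t (coreC_le t hc)) hw)
      (inv_mem hw)
  have heR₀ : e ∈ R₀ := Subgroup.mem_inf.2 ⟨heR, hconstr e (hRC heR)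
    (Subgroup.mem_centralizer_iff.2 fun x hx => hRe x (Subgroup.mem_inf.1 hx).1)⟩
  intro g hg
  have hgC : g ∈ Subgroup.centralizer ({t} : Set G) := Subgroup.mem_centralizer_singleton_iff.2 hg
  obtain ⟨h, hh, hconj⟩ := exists_conj_le_of_factor (H := Θ) (L := R₀) (Y := U)
    ((hRr.to_le inf_le_left : IsPGroup r R₀).map (MulAut.conj g).toMonoidHom) (by
      rintro _ ⟨x, hx, rfl⟩
      exact conj_mem_of_mem_normalizer (centralizer_le_normalizer_coreRP r t hgC) (Subgroup.mem_inf.1 hx).2)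
    (coreR_le_coreRP r t) (not_dvd_card_coreR r t) hfacΘ
  have hhC : h ∈ Subgroup.centralizer ({t} : Set G) := coreC_le t (coreRP_le r t hh)
  obtain ⟨w, hw, hwR, hwt, hwg⟩ := exists_cover_normalizer T hG hr hfac (hRr.to_le inf_le_left)
    (inf_le_left.trans hRN) heR₀ (fun x hx => hRe x (Subgroup.mem_inf.1 hx).1) htN hto
    (inf_le_left.trans hRt) (g := h * g)
    (Subgroup.mem_centralizer_singleton_iff.1 (mul_mem hhC hgC))
    (Subgroup.mem_normalizer_fintype fun x hx => by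
      have h1 := hconj _ ⟨x, hx, rfl⟩
      rw [SetLike.mem_coe]
      convert h1 using 1
      simp only [MulEquiv.coe_toMonoidHom, MulAut.conj_apply]
      group)
  have hwU : w ∈ U := by
    refine mem_pPrimeCore_of_not_dvd (hconstr w (hG.mem_coreC hto
      (Subgroup.mem_centralizer_singleton_iff.2 hwt) (orderOf_odd_of_mem (coreR_odd r e) hw)) hwR) ?_
    exact fun h' => not_dvd_card_coreR r e (h'.trans (Subgroup.orderOf_dvd_natCard _ hw))
  obtain ⟨u, hu, huh⟩ := hfacΘ _ (inv_mem hh)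
  set z := u⁻¹ * h⁻¹ with hz
  have hcz : w * z = z * w := commute_of_mem_centralizer hwR huh
  refine ⟨u * w, mul_mem hu hwU, ?_⟩
  have h1 : (u * w)⁻¹ * g = z * (w⁻¹ * (h * g)) := by
    have h2 : z * w⁻¹ = w⁻¹ * z := ((show Commute w z from hcz).inv_left).eq.symm
    rw [← mul_assoc z w⁻¹ (h * g), h2, hz]
    group
  rw [h1]
  exact mul_mem (hRN (Subgroup.mem_inf.1 huh).1) hwg

/-! ## F5 -/

/-- An involution centralising an `r`-subgroup `X` of `N` is `C(X)`-conjugate to an `N`-conjugate of `t`. -/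
theorem exists_conj_involution (hG : Hyp G) (hr : r ≠ 2) {t : G} (ht : orderOf t = 2) (hcov : Covers T t) {X : Subgroup G} (hX : IsPGroup r X)
    (hXN : X ≤ zjNorm (T : Subgroup G)) {z : G} (hz : orderOf z = 2)
    (hzX : z ∈ Subgroup.centralizer (X : Set G)) :
    ∃ c ∈ Subgroup.centralizer (X : Set G), ∃ n ∈ zjNorm (T : Subgroup G), c * z * c⁻¹ = n * t * n⁻¹ := by
  obtain ⟨g, hg⟩ := isConj_iff.1 (hG.isConj hz ht)
  obtain ⟨k, hk, hkX⟩ := exists_conj_le_of_factor (p := r) (H := Subgroup.centralizer ({t} : Set G))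
    (L := zjNorm (T : Subgroup G)) (Y := coreR r t) (W := X.map (MulAut.conj g).toMonoidHom) (hX.map _) (by
      rintro _ ⟨x, hx, rfl⟩
      rw [Subgroup.mem_centralizer_singleton_iff, ← hg]
      have h1 := commute_of_mem_centralizer hzX hx
      simp only [MulEquiv.coe_toMonoidHom, MulAut.conj_apply]
      calc g * x * g⁻¹ * (g * z * g⁻¹) = g * (x * z) * g⁻¹ := by group
        _ = g * z * g⁻¹ * (g * x * g⁻¹) := by rw [← h1]; group)
    (coreR_le r t) (not_dvd_card_coreR r t)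
    (fun h hh => hcov h (Subgroup.mem_centralizer_singleton_iff.1 hh))
  obtain ⟨n, hn, c, hc, hkg⟩ := fusion_control hG hr T hX hXN (k * g) fun x hx => by
    have h1 := hkX _ ⟨x, hx, rfl⟩
    convert h1 using 1
    simp only [MulEquiv.coe_toMonoidHom, MulAut.conj_apply]
    group
  refine ⟨c, hc, n⁻¹, inv_mem hn, ?_⟩
  have hkt : k * t = t * k := Subgroup.mem_centralizer_singleton_iff.1 hk
  have h2 : n * (c * z * c⁻¹) * n⁻¹ = t := by
    rw [show n * (c * z * c⁻¹) * n⁻¹ = (n * c) * z * (n * c)⁻¹ by group, ← hkg,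
      show k * g * z * (k * g)⁻¹ = k * (g * z * g⁻¹) * k⁻¹ by group, hg, hkt, mul_inv_cancel_right]
  calc c * z * c⁻¹ = n⁻¹ * (n * (c * z * c⁻¹) * n⁻¹) * n := by group
    _ = _ := by rw [h2, inv_inv]

/-- The decomposition `O_{r'r}(N) = Y Q` is respected by centralising elements of `N₀`. -/
theorem commute_of_confM_factor {v y q : G} (hv : v ∈ confN0 r (T : Subgroup G))
    (hy : y ∈ confY r (T : Subgroup G)) (hq : q ∈ confQ r (T : Subgroup G))
    (hc : y * q * v = v * (y * q)) : y * v = v * y ∧ q * v = v * q := by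
  have h1 : (v * y * v⁻¹)⁻¹ * y = v * q * v⁻¹ * q⁻¹ := by
    rw [inv_mul_eq_iff_eq_mul]
    calc y = y * q * v * v⁻¹ * q⁻¹ := by group
      _ = _ := by rw [hc]; group
  have h2 : v * q * v⁻¹ * q⁻¹ ∈ confY r (T : Subgroup G) :=
    h1 ▸ mul_mem (inv_mem (conj_mem_of_mem_normalizer (le_normalizer_confY _ hv.1) hy)) hy
  obtain ⟨k, hk⟩ := T.2 ⟨v * q * v⁻¹ * q⁻¹,
    confQ_le _ (mul_mem (conj_mem_of_mem_normalizer hv.2 hq) (inv_mem hq))⟩
  have h3 := eq_one_of_pow_of_not_dvd (not_dvd_card_confY _) h2 (congrArg Subtype.val hk)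
  have h4 : q * v = v * q := by
    rw [mul_inv_eq_one, mul_inv_eq_iff_eq_mul] at h3
    exact h3.symm
  refine ⟨?_, h4⟩
  rw [h3, inv_mul_eq_one, mul_inv_eq_iff_eq_mul] at h1
  exact h1.symm

/-- An involution not `N`-conjugate to the central involution `t`: `t` centralises its fixed points on `Q`. -/
theorem inf_centralizer_le (hG : Hyp G) (hr : r ≠ 2) (S : Sylow 2 G)
    (hS : (S : Subgroup G) ≤ confN0 r (T : Subgroup G)) {t : G} (htS : t ∈ (S : Subgroup G))
    (ht : orderOf t = 2) (htc : ∀ s ∈ (S : Subgroup G), s * t = t * s) (hcov : Covers T t) {b : G}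
    (hbS : b ∈ (S : Subgroup G)) (hb : orderOf b = 2)
    (hbt : ∀ n ∈ zjNorm (T : Subgroup G), n * t * n⁻¹ ≠ b)
    (htb : ∀ n ∈ zjNorm (T : Subgroup G), n * t * n⁻¹ ≠ t * b) :
    confQ r (T : Subgroup G) ⊓ Subgroup.centralizer ({b} : Set G) ≤ Subgroup.centralizer ({t} : Set G) := by
  classical
  haveI : Fact (Nat.Prime 2) := ⟨Nat.prime_two⟩
  set N := zjNorm (T : Subgroup G) with hN
  set N₀ := confN0 r (T : Subgroup G) with hN₀
  set Q := confQ r (T : Subgroup G) with hQ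
  set X := Q ⊓ Subgroup.centralizer ({b} : Set G) with hX
  have hSN : (S : Subgroup G) ≤ N := hS.trans (confN0_le _)
  have hne1 : ∀ {x : G}, orderOf x = 2 → x ≠ 1 := fun {x} hx e => by rw [e, orderOf_one] at hx; omega
  have hsq : ∀ {x : G}, orderOf x = 2 → x * x = 1 := fun {x} hx => by rw [← sq, ← hx, pow_orderOf_eq_one]
  have htb' : t ≠ b := fun e => hbt 1 (one_mem _) (by rw [← e]; group)
  have hXr : IsPGroup r X := T.2.to_le (inf_le_left.trans (confQ_le _))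
  have hXN : X ≤ N := fun x hx => (confQ_le_confN0 _ (Subgroup.mem_inf.1 hx).1).1
  have hbX : b ∈ Subgroup.centralizer (X : Set G) := Subgroup.mem_centralizer_iff.2 fun x hx =>
    Subgroup.mem_centralizer_singleton_iff.1 (Subgroup.mem_inf.1 hx).2
  obtain ⟨c, hc, n₁, hn₁, hct⟩ := exists_conj_involution T hG hr ht hcov hXr hXN hb hbX
  set C := N ⊓ Subgroup.centralizer (X : Set G) with hC
  have hbC : b ∈ C := Subgroup.mem_inf.2 ⟨hSN hbS, hbX⟩
  have ht'C : c * b * c⁻¹ ∈ C := Subgroup.mem_inf.2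
    ⟨hct ▸ mul_mem (mul_mem hn₁ (hSN htS)) (inv_mem hn₁), mul_mem (mul_mem hc hbX) (inv_mem hc)⟩
  have hco : orderOf (⟨_, ht'C⟩ : C) = 2 := by
    rw [Subgroup.orderOf_mk, ← MulAut.conj_apply, MulEquiv.orderOf_eq, hb]
  have hbo : orderOf (⟨b, hbC⟩ : C) = 2 := by rw [Subgroup.orderOf_mk, hb]
  obtain ⟨P₁, hP₁⟩ := (IsPGroup.of_card (n := 1) (by rw [Nat.card_zpowers, hbo, pow_one]) :
    IsPGroup 2 (Subgroup.zpowers (⟨b, hbC⟩ : C))).exists_le_sylow
  obtain ⟨P₂, hP₂⟩ := (IsPGroup.of_card (n := 1) (by rw [Nat.card_zpowers, hco, pow_one]) :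
    IsPGroup 2 (Subgroup.zpowers (⟨_, ht'C⟩ : C))).exists_le_sylow
  obtain ⟨k, hk⟩ := MulAction.exists_smul_eq C P₂ P₁
  set P := (P₁ : Subgroup C).map C.subtype with hP
  have hbP : b ∈ P := ⟨⟨b, hbC⟩, hP₁ (Subgroup.mem_zpowers _), rfl⟩
  set t'' := (k : G) * (c * b * c⁻¹) * (k : G)⁻¹ with ht''
  have ht''P : t'' ∈ P := ⟨k * ⟨_, ht'C⟩ * k⁻¹, by
    rw [← hk]
    exact Subgroup.smul_mem_pointwise_smul _ (MulAut.conj k) (P₂ : Subgroup C)
      (hP₂ (Subgroup.mem_zpowers _)), rfl⟩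
  have ht''o : orderOf t'' = 2 := by
    rw [ht'', ← MulAut.conj_apply, MulEquiv.orderOf_eq, ← MulAut.conj_apply, MulEquiv.orderOf_eq, hb]
  have ht''b : t'' ≠ b := fun e => hbt ((k : G) * n₁) (mul_mem (Subgroup.mem_inf.1 k.2).1 hn₁) (by
    rw [← e, ht'', hct]; group)
  -- a four-group of `P` through `b`
  obtain ⟨F, hF, hbF, hFP⟩ : ∃ F : Subgroup G, IsFour F ∧ b ∈ F ∧ F ≤ P := by
    obtain ⟨z₀, hz₀P, hz₀o, hz₀c⟩ := exists_central_involution (P₁.2.map C.subtype)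
      (fun e => hne1 hb (by rw [← Subgroup.mem_bot, ← e]; exact hbP))
    by_cases hz₀b : z₀ = b
    · obtain ⟨F, hF, hbF, -, hle⟩ := exists_isFour (hsq hb) (hsq ht''o)
        (by rw [← hz₀b]; exact (hz₀c t'' ht''P).symm) (hne1 hb) (hne1 ht''o) (Ne.symm ht''b)
      exact ⟨F, hF, hbF, hle P hbP ht''P⟩
    · obtain ⟨F, hF, hbF, -, hle⟩ := exists_isFour (hsq hb) (hsq hz₀o) (hz₀c b hbP) (hne1 hb) (hne1 hz₀o)
        (Ne.symm hz₀b)
      exact ⟨F, hF, hbF, hle P hbP hz₀P⟩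
  have hPC : P ≤ C := Subgroup.map_subtype_le _
  -- four-groups of `C_N(b)` through `b` are its Sylow 2-subgroups
  set M := N ⊓ Subgroup.centralizer ({b} : Set G) with hM
  have hfour : ∀ F' P' : Subgroup G, IsFour F' → b ∈ F' → F' ≤ P' → IsPGroup 2 P' → P' ≤ M →
      ∃ n ∈ N, n⁻¹ * t * n ∈ F' ∧ P' = F' := by
    intro F' P' hF' hbF' hFP' hP' hP'M
    obtain ⟨n, hn, hnP⟩ := exists_conj_le_sylow_of_le S hSN hP' (hP'M.trans inf_le_left)
    set F₁ := F'.map (MulAut.conj n).toMonoidHom with hF₁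
    have hF₁S : F₁ ≤ (S : Subgroup G) := by
      rintro _ ⟨x, hx, rfl⟩
      exact hnP x (hFP' hx)
    have hF₁four : IsFour F₁ := isFour_map_conj hF' n
    have htF₁ : t ∈ F₁ := hG.cd.mem_four_of_central hF₁four hF₁S (hsq ht) htc
    have hmem : n⁻¹ * t * n ∈ F' := by
      obtain ⟨x, hx, hxt⟩ := htF₁
      rw [← hxt]
      simp only [MulEquiv.coe_toMonoidHom, MulAut.conj_apply]
      rwa [show n⁻¹ * (n * x * n⁻¹) * n = x by group]
    refine ⟨n, hn, hmem, le_antisymm (fun x hx => ?_) hFP'⟩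
    have hbn : n * b * n⁻¹ ∈ F₁ := ⟨b, hbF', rfl⟩
    have hbn1 : t ≠ n * b * n⁻¹ := fun e => hbt n⁻¹ (inv_mem hn) (by rw [e]; group)
    have hcen : F₁ ≤ Subgroup.centralizer ({n * x * n⁻¹} : Set G) := hF₁four.eq_of_mem htF₁ hbn (hne1 ht)
      (fun e => hne1 hb (conj_eq_one_iff.1 e)) hbn1
      (Subgroup.mem_centralizer_singleton_iff.2 (htc _ (hnP x hx)).symm)
      (Subgroup.mem_centralizer_singleton_iff.2 (by
        calc n * b * n⁻¹ * (n * x * n⁻¹) = n * (b * x) * n⁻¹ := by group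
          _ = n * x * n⁻¹ * (n * b * n⁻¹) := by
            rw [← Subgroup.mem_centralizer_singleton_iff.1 (Subgroup.mem_inf.1 (hP'M hx)).2]; group))
    have hxF₁ : n * x * n⁻¹ ∈ F₁ := hG.cd.mem_four hF₁four
      (C := (S : Subgroup G) ⊓ Subgroup.centralizer (F₁ : Set G)) (S.2.to_le inf_le_left)
      (le_inf hF₁S hF₁four.le_centralizer_self) inf_le_right
      (Subgroup.mem_inf.2 ⟨hnP x hx, Subgroup.mem_centralizer_iff.2 fun y hy =>
        (Subgroup.mem_centralizer_singleton_iff.1 (hcen hy))⟩)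
    obtain ⟨y, hy, hyx⟩ := hxF₁
    exact (MulAut.conj n).injective hyx ▸ hy
  have hFM : F ≤ M := fun x hx => Subgroup.mem_inf.2 ⟨(Subgroup.mem_inf.1 (hPC (hFP hx))).1,
    Subgroup.mem_centralizer_singleton_iff.2 (hF.comm hx hbF)⟩
  obtain ⟨n₂, hn₂, hzF, -⟩ := hfour F F hF hbF le_rfl hF.isPGroup hFM
  set z := n₂⁻¹ * t * n₂ with hz
  have hzX : z ∈ Subgroup.centralizer (X : Set G) := (Subgroup.mem_inf.1 (hPC (hFP hzF))).2
  obtain ⟨V', hV', htV', hbV', hV'le⟩ := exists_isFour (hsq ht) (hsq hb) (htc b hbS).symm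
    (hne1 ht) (hne1 hb) htb'
  have hV'M : V' ≤ M := fun x hx => Subgroup.mem_inf.2 ⟨hSN (hV'le _ htS hbS hx),
    Subgroup.mem_centralizer_singleton_iff.2 (hV'.comm hx hbV')⟩
  obtain ⟨Q₁, hQ₁⟩ := (hF.isPGroup.comap_subtype (K := M)).exists_le_sylow
  obtain ⟨Q₂, hQ₂⟩ := (hV'.isPGroup.comap_subtype (K := M)).exists_le_sylow
  obtain ⟨h, hh⟩ := MulAction.exists_smul_eq M Q₁ Q₂
  have hzV' : (h : G) * z * (h : G)⁻¹ ∈ V' := by
    have h1 : h * ⟨z, hFM hzF⟩ * h⁻¹ ∈ (Q₂ : Subgroup M) := by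
      rw [← hh]
      exact Subgroup.smul_mem_pointwise_smul _ (MulAut.conj h) (Q₁ : Subgroup M)
        (hQ₁ (show (z : G) ∈ F from hzF))
    obtain ⟨-, -, -, heq⟩ := hfour V' ((Q₂ : Subgroup M).map M.subtype) hV' hbV'
      (fun x hx => ⟨⟨x, hV'M hx⟩, hQ₂ (show (x : G) ∈ V' from hx), rfl⟩) (Q₂.2.map _)
      (Subgroup.map_subtype_le _)
    rw [← heq]
    exact ⟨_, h1, rfl⟩
  have hzt : (h : G) * z * (h : G)⁻¹ = t := by
    have hmemN : (h : G) * n₂⁻¹ ∈ N := mul_mem (Subgroup.mem_inf.1 h.2).1 (inv_mem hn₂)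
    have hconj : (h : G) * z * (h : G)⁻¹ = (h : G) * n₂⁻¹ * t * ((h : G) * n₂⁻¹)⁻¹ := by rw [hz]; group
    rcases IsFour.cases' hV' htV' hbV' hzV' (hne1 ht) (hne1 hb) htb' with e | e | e | e
    · exact absurd e (fun e => hne1 ht (by
        rw [hconj, conj_eq_one_iff] at e; exact e))
    · exact e
    · exact absurd (hconj.symm.trans e) (hbt _ hmemN)
    · exact absurd (hconj.symm.trans e) (htb _ hmemN)
  -- `X` moves into `C(t)`
  set L := confM r (T : Subgroup G) ⊓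
    (Subgroup.centralizer ({t} : Set G) ⊓ Subgroup.centralizer ({b} : Set G)) with hL
  obtain ⟨hhN, hhb⟩ := Subgroup.mem_inf.1 h.2
  have hXL : X.map (MulAut.conj (h : G)).toMonoidHom ≤ L := by
    rintro _ ⟨x, hx, rfl⟩
    refine Subgroup.mem_inf.2 ⟨conj_mem_of_mem_normalizer (le_normalizer_confM _ hhN)
      (Subgroup.mem_inf.1 (Subgroup.mem_inf.1 hx).1).2, Subgroup.mem_inf.2
      ⟨Subgroup.mem_centralizer_singleton_iff.2 ?_,
        mul_mem (mul_mem hhb (Subgroup.mem_inf.1 hx).2) (inv_mem hhb)⟩⟩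
    simp only [MulEquiv.coe_toMonoidHom, MulAut.conj_apply]
    rw [← hzt]
    calc (h : G) * x * (h : G)⁻¹ * ((h : G) * z * (h : G)⁻¹) = (h : G) * (x * z) * (h : G)⁻¹ := by group
      _ = (h : G) * z * (h : G)⁻¹ * ((h : G) * x * (h : G)⁻¹) := by
        rw [← commute_of_mem_centralizer hzX hx]; group
  have hfac : ∀ x ∈ L, ∃ y ∈ confY r (T : Subgroup G) ⊓ L, y⁻¹ * x ∈ X ⊓ Subgroup.centralizer {t} := by
    intro x hx
    obtain ⟨y, hy, q, hq, rfl⟩ := confM_factor T (Subgroup.mem_inf.1 hx).1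
    have hx' := Subgroup.mem_inf.1 (Subgroup.mem_inf.1 hx).2
    obtain ⟨hyt, hqt⟩ := commute_of_confM_factor T (hS htS) hy hq
      (Subgroup.mem_centralizer_singleton_iff.1 hx'.1)
    obtain ⟨hyb, hqb⟩ := commute_of_confM_factor T (hS hbS) hy hq
      (Subgroup.mem_centralizer_singleton_iff.1 hx'.2)
    refine ⟨y, Subgroup.mem_inf.2 ⟨hy, Subgroup.mem_inf.2 ⟨confY_le_confM _ hy, Subgroup.mem_inf.2
      ⟨Subgroup.mem_centralizer_singleton_iff.2 hyt, Subgroup.mem_centralizer_singleton_iff.2 hyb⟩⟩⟩, ?_⟩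
    rw [inv_mul_cancel_left]
    exact Subgroup.mem_inf.2 ⟨Subgroup.mem_inf.2 ⟨hq, Subgroup.mem_centralizer_singleton_iff.2 hqb⟩,
      Subgroup.mem_centralizer_singleton_iff.2 hqt⟩
  obtain ⟨g, -, hgX⟩ := exists_conj_le_of_factor (H := L) (L := X ⊓ Subgroup.centralizer {t})
    (Y := confY r (T : Subgroup G) ⊓ L) (hXr.map _) hXL inf_le_right
    (fun h => not_dvd_card_confY (T : Subgroup G) (h.trans (Subgroup.card_dvd_of_le inf_le_left))) hfac
  have hcard : Nat.card X ≤ Nat.card (X ⊓ Subgroup.centralizer {t} : Subgroup G) := by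
    rw [← Subgroup.card_map_of_injective (K := X) (f := (MulAut.conj (g * h)).toMonoidHom)
      (MulAut.conj (g * h)).injective]
    refine Nat.le_of_dvd Nat.card_pos (Subgroup.card_dvd_of_le ?_)
    rintro _ ⟨x, hx, rfl⟩
    have h1 := hgX _ ⟨x, hx, rfl⟩
    convert h1 using 1
    simp only [MulEquiv.coe_toMonoidHom, MulAut.conj_apply]
    group
  exact (Subgroup.eq_of_le_of_card_ge inf_le_left hcard).ge.trans inf_le_right

/-- F3–F5. -/
theorem propConfBase (hFO : PropFourOdd.{u}) : PropConfBase.{u} := by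
  intro G _ _ hG r _ hr T V hV
  classical
  haveI : Fact (Nat.Prime 2) := ⟨Nat.prime_two⟩
  obtain ⟨W, hW, hWN₀, -⟩ := exists_conf_fused_confN0 hG hV
  set N := zjNorm (T : Subgroup G) with hN
  set N₀ := confN0 r (T : Subgroup G) with hN₀
  have hWN : W ≤ N := hWN₀.2.1.trans (confN0_le _)
  obtain ⟨S₀, hS₀⟩ := hWN₀.1.isPGroup.exists_le_sylow
  obtain ⟨z, -, hzo, hzc⟩ := exists_central_involution S₀.2
    (fun e => hWN₀.1.ne_bot (le_bot_iff.1 (e ▸ hS₀)))
  have hz2 : z * z = 1 := by rw [← sq, ← hzo, pow_orderOf_eq_one]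
  have hzW : z ∈ W := hG.cd.mem_four_of_central hWN₀.1 hS₀ hz2 hzc
  have hz1 : z ≠ 1 := fun e => by rw [e, orderOf_one] at hzo; omega
  have hzN : z ∈ N := hWN hzW
  have hcovz : Covers T z := covers_of_fused T hFO hG hr hW hWN₀ hzW hz1
  obtain ⟨h, hh, hhS⟩ := exists_conj_le_of_factor (p := 2) (H := Subgroup.centralizer ({z} : Set G)) (L := N)
    (Y := coreR r z) S₀.2 (fun s hs => Subgroup.mem_centralizer_singleton_iff.2 (hzc s hs))
    (coreR_le r z) (coreR_odd r z).not_two_dvd_nat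
    (fun g hg => hcovz g (Subgroup.mem_centralizer_singleton_iff.1 hg))
  obtain ⟨y, hy, hyS⟩ := exists_conj_le_of_factor (p := 2) (H := N) (L := N₀) (Y := confY r (T : Subgroup G))
    (W := (S₀ : Subgroup G).map (MulAut.conj h).toMonoidHom) (S₀.2.map _)
    (by rintro _ ⟨s, hs, rfl⟩; exact hhS s hs) (confY_le _) (confY_odd hG hV).not_two_dvd_nat
    (fun g hg => conf_factor T hg)
  set S : Sylow 2 G := (y * h) • S₀ with hSdef
  have hSmem : ∀ x ∈ (S : Subgroup G), ∃ s ∈ (S₀ : Subgroup G), x = y * h * s * (y * h)⁻¹ := by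
    intro x hx
    obtain ⟨s, hs, rfl⟩ := hx
    exact ⟨s, hs, rfl⟩
  have hS : (S : Subgroup G) ≤ N₀ := fun x hx => by
    obtain ⟨s, hs, rfl⟩ := hSmem x hx
    have h1 := hyS _ ⟨s, hs, rfl⟩
    convert h1 using 1
    simp only [MulEquiv.coe_toMonoidHom, MulAut.conj_apply]
    group
  have hSN : (S : Subgroup G) ≤ N := hS.trans (confN0_le _)
  set t := y * z * y⁻¹ with ht
  have hto : orderOf t = 2 := by rw [ht, ← MulAut.conj_apply, MulEquiv.orderOf_eq, hzo]
  have hhz : h * z * h⁻¹ = z := by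
    rw [Subgroup.mem_centralizer_singleton_iff.1 hh, mul_inv_cancel_right]
  have hteq : t = y * h * z * (y * h)⁻¹ := by
    rw [ht]
    conv_lhs => rw [← hhz]
    group
  have htS : t ∈ (S : Subgroup G) := by
    rw [hteq]
    exact Subgroup.smul_mem_pointwise_smul _ (MulAut.conj (y * h)) (S₀ : Subgroup G) (hS₀ hzW)
  have htc : ∀ s ∈ (S : Subgroup G), s * t = t * s := fun x hx => by
    obtain ⟨s, hs, rfl⟩ := hSmem x hx
    rw [hteq]
    calc y * h * s * (y * h)⁻¹ * (y * h * z * (y * h)⁻¹) = y * h * (s * z) * (y * h)⁻¹ := by group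
      _ = _ := by rw [hzc s hs]; group
  have hcov : Covers T t := hcovz.conj T hG hzo hy
  have htt : t * t = 1 := by rw [← sq, ← hto, pow_orderOf_eq_one]
  -- every involution of `N` is conjugate to `t`
  have hall : ∀ b₀ ∈ N, orderOf b₀ = 2 → ∃ n ∈ N, n * t * n⁻¹ = b₀ := by
    intro b₀ hb₀ hb₀o
    obtain ⟨g, hg, hgb⟩ := exists_conj_le_sylow_of_le S hSN
      (IsPGroup.of_card (n := 1) (by rw [Nat.card_zpowers, hb₀o, pow_one]) :
        IsPGroup 2 (Subgroup.zpowers b₀)) (Subgroup.zpowers_le.2 hb₀)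
    set b := g * b₀ * g⁻¹ with hb
    have hbS : b ∈ (S : Subgroup G) := hgb b₀ (Subgroup.mem_zpowers _)
    suffices h' : ∃ n ∈ N, n * t * n⁻¹ = b by
      obtain ⟨n, hn, hnb⟩ := h'
      exact ⟨g⁻¹ * n, mul_mem (inv_mem hg) hn, by
        calc g⁻¹ * n * t * (g⁻¹ * n)⁻¹ = g⁻¹ * (n * t * n⁻¹) * g := by group
          _ = b₀ := by rw [hnb, hb]; group⟩
    by_contra hno
    have hbt : ∀ n ∈ N, n * t * n⁻¹ ≠ b := fun n hn e => hno ⟨n, hn, e⟩
    have hbo : orderOf b = 2 := by rw [hb, ← MulAut.conj_apply, MulEquiv.orderOf_eq, hb₀o]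
    have hbb : b * b = 1 := by rw [← sq, ← hbo, pow_orderOf_eq_one]
    have ht1 : t ≠ 1 := fun e => by rw [e, orderOf_one] at hto; omega
    have hb1 : b ≠ 1 := fun e => by rw [e, orderOf_one] at hbo; omega
    have htb' : t ≠ b := fun e => hbt 1 (one_mem _) (by rw [← e]; group)
    obtain ⟨V', hV', htV', hbV', hV'le⟩ := exists_isFour htt hbb (htc b hbS).symm ht1 hb1 htb'
    have hV'S : V' ≤ (S : Subgroup G) := hV'le _ htS hbS
    have hcen : ∀ x ∈ (S : Subgroup G), x ∈ Subgroup.centralizer (V' : Set G) → x ∈ V' := fun x hx hxc =>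
      hG.cd.mem_four hV' (C := (S : Subgroup G) ⊓ Subgroup.centralizer (V' : Set G)) (S.2.to_le inf_le_left)
        (le_inf hV'S hV'.le_centralizer_self) inf_le_right (Subgroup.mem_inf.2 ⟨hx, hxc⟩)
    by_cases hSV : (S : Subgroup G) ≤ V'
    · -- a four-group Sylow subgroup is a fused one
      obtain ⟨n, hn, hnW⟩ := exists_conj_le_sylow_of_le S hSN hWN₀.1.isPGroup hWN
      have hcard : Nat.card V' ≤ Nat.card (W.map (MulAut.conj n).toMonoidHom) := by
        rw [hV'.1, (isFour_map_conj hWN₀.1 n).1]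
      have heq := Subgroup.eq_of_le_of_card_ge (K := V')
        (by rintro _ ⟨w, hw, rfl⟩; exact hSV (hnW w hw)) hcard
      obtain ⟨v, hv, hvt⟩ := heq.ge htV'
      obtain ⟨w, hw, hwb⟩ := heq.ge hbV'
      simp only [MulEquiv.coe_toMonoidHom, MulAut.conj_apply] at hvt hwb
      have hv1 : v ≠ 1 := fun e => ht1 (by rw [← hvt, e]; group)
      have hw1 : w ≠ 1 := fun e => hb1 (by rw [← hwb, e]; group)
      obtain ⟨k, hk, -, hkv⟩ := hWN₀.2.2 v hv hv1 w hw hw1
      exact hbt (n * k * n⁻¹) (mul_mem (mul_mem hn (confN0_le _ hk)) (inv_mem hn)) (by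
        rw [← hvt, ← hwb, ← hkv]; group)
    · haveI := S.2.isNilpotent
      have hlt : V'.subgroupOf (S : Subgroup G) < ⊤ := lt_top_iff_ne_top.2 fun h' =>
        hSV (Subgroup.subgroupOf_eq_top.1 h')
      obtain ⟨x, hxN, hxV⟩ := SetLike.exists_of_lt (Group.normalizerCondition_of_isNilpotent _ hlt)
      have hxV' : (x : G) ∉ V' := fun h' => hxV (Subgroup.mem_subgroupOf.2 h')
      have hxb : (x : G) * b * (x : G)⁻¹ ∈ V' := Subgroup.mem_subgroupOf.1
        ((Subgroup.mem_normalizer_iff.1 hxN ⟨b, hV'S hbV'⟩).1 (Subgroup.mem_subgroupOf.2 hbV'))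
      have hxtb : (x : G) * b * (x : G)⁻¹ = t * b := by
        rcases IsFour.cases' hV' htV' hbV' hxb ht1 hb1 htb' with e | e | e | e
        · exact absurd (conj_eq_one_iff.1 e) hb1
        · refine absurd ?_ (hbt (x : G)⁻¹ (inv_mem (hSN x.2)))
          rw [← e]; group
        · refine absurd (hcen x x.2 (Subgroup.mem_centralizer_iff.2 fun w hw => ?_)) hxV'
          have h1 : V' ≤ Subgroup.centralizer ({(x : G)} : Set G) := hV'.eq_of_mem htV' hbV' ht1 hb1 htb'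
            (Subgroup.mem_centralizer_singleton_iff.2 (htc x x.2).symm)
            (Subgroup.mem_centralizer_singleton_iff.2 (mul_inv_eq_iff_eq_mul.1 e).symm)
          exact Subgroup.mem_centralizer_singleton_iff.1 (h1 hw)
        · exact e
      have htb : ∀ n ∈ N, n * t * n⁻¹ ≠ t * b := fun n hn e =>
        hbt ((x : G)⁻¹ * n) (mul_mem (inv_mem (hSN x.2)) hn) (by
          calc (x : G)⁻¹ * n * t * ((x : G)⁻¹ * n)⁻¹ = (x : G)⁻¹ * (n * t * n⁻¹) * x := by group
            _ = b := by rw [e, ← hxtb]; group)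
      have htbS : t * b ∈ (S : Subgroup G) := mul_mem htS hbS
      have htbo : orderOf (t * b) = 2 := hV'.orderOf_eq (mul_mem htV' hbV') (fun e => htb' (by
        calc t = t * (b * b) := by rw [hbb, mul_one]
          _ = b := by rw [← mul_assoc, e, one_mul]))
      refine confQ_not_centralized hG hV hto (le_of_four hV'
        (odd_card_of_pgroup hr (T.2.to_le (confQ_le _)))
        ((hV'S.trans hS).trans (confN0_le_normalizer _)) fun v hv hv1 => ?_)
      rcases IsFour.cases' hV' htV' hbV' hv ht1 hb1 htb' with e | e | e | e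
      · exact absurd e hv1
      · rw [e]; exact inf_le_right
      · rw [e]; exact inf_centralizer_le T hG hr S hS htS hto htc hcov hbS hbo hbt htb
      · rw [e]
        exact inf_centralizer_le T hG hr S hS htS hto htc hcov htbS htbo htb
          (fun n hn e' => hbt n hn (by rw [e', ← mul_assoc, htt, one_mul]))
  refine ⟨fun s hs hso g hg => ?_, fun s hs hso s' hs' hso' => ?_⟩
  · obtain ⟨n, hn, rfl⟩ := hall s hs hso
    exact hcov.conj T hG hto hn g hg
  · obtain ⟨n, hn, rfl⟩ := hall s hs hso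
    obtain ⟨n', hn', rfl⟩ := hall s' hs' hso'
    exact ⟨n' * n⁻¹, mul_mem hn' (inv_mem hn), by group⟩

end Cfsg.Agent.Lib.GorensteinWalter
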