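import Cfsg.Agent.Lib.GorensteinWalter.ModelAux
import Cfsg.Agent.Lib.Alternating.Aut
import Cfsg.Agent.Lib.Coprime.Generation

/-!
# Section M, the model `A₇`

The image of `X` in `Aut A₇ = S₇` is `A₇`, as `S₇` contains an elementary abelian group of order
eight.  In `A₇` the odd part of the centraliser of an involution is the group of order three on
its three fixed points, and two such groups with different supports generate a group of even order.
-/

set_option autoImplicit false

universe u

namespace Cfsg.Agent.Lib.GorensteinWalter.Model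

open Cfsg.Agent.Lib.Fusion.Dihedral Subgroup

local notation "S7" => Equiv.Perm (Fin 7)

theorem mem_fix_comm {p q : S7} (h : p * q = q * p) {x : Fin 7} (hx : p x = x) :
    p (q x) = q x := by
  have := congrArg (fun r : S7 => r x) h
  simp only [Equiv.Perm.mul_apply, hx] at this
  exact this

theorem card_support_invol {v : S7} (hv : v * v = 1) (hv1 : v ≠ 1) (hs : Equiv.Perm.sign v = 1) :
    v.support.card = 4 := by
  have h2 : orderOf v = 2 := orderOf_eq_prime (by rw [pow_two, hv]) hv1
  obtain ⟨n, hn⟩ := Equiv.Perm.cycleType_prime_order (σ := v) (h2 ▸ Nat.prime_two)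
  rw [h2] at hn
  have h7 := Equiv.Perm.sum_cycleType_le v
  have hsg := Equiv.Perm.sign_of_cycleType v
  rw [hn, Multiset.sum_replicate, Multiset.card_replicate, smul_eq_mul] at hsg
  rw [hn, Multiset.sum_replicate, smul_eq_mul, Fintype.card_fin] at h7
  rw [← Equiv.Perm.sum_cycleType v, hn, Multiset.sum_replicate, smul_eq_mul]
  have hn' : n ≤ 2 := by omega
  interval_cases n
  · exact absurd (hs ▸ hsg) (by decide)
  · rfl
  · exact absurd (hs ▸ hsg) (by decide)

/-- An odd order permutation commuting with a double transposition fixes its moved points. -/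
theorem fix_moved {v k : S7} (hv : v * v = 1) (hv4 : v.support.card = 4) (hk : Odd (orderOf k))
    (hc : v * k = k * v) {x : Fin 7} (hx : v x ≠ x) : k x = x := by
  classical
  have hinv : ∀ y, y ∈ v.support ↔ k y ∈ v.support := by
    intro y
    simp only [Equiv.Perm.mem_support, ne_eq, not_iff_not]
    refine ⟨fun h => mem_fix_comm hc h, fun h => k.injective ?_⟩
    rw [← Equiv.Perm.mul_apply, ← hc, Equiv.Perm.mul_apply, h]
  set k' : Equiv.Perm {y // y ∈ v.support} := k.subtypePerm (fun y => (hinv y).symm) with hk'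
  have hcard : Fintype.card {y // y ∈ v.support} = 4 := by rw [Fintype.card_coe, hv4]
  have hd1 : orderOf k' ∣ orderOf k := by
    refine orderOf_dvd_of_pow_eq_one ?_
    ext y
    simp [hk', Equiv.Perm.subtypePerm_pow, pow_orderOf_eq_one]
  have hd2 : orderOf k' ∣ 24 := by
    have h := orderOf_dvd_natCard k'
    rw [Nat.card_perm, Nat.card_eq_fintype_card, hcard] at h
    exact h
  have h3 : k' ^ 3 = 1 := by
    refine orderOf_dvd_iff_pow_eq_one.1 ?_
    have hco : Nat.Coprime (orderOf k') 8 :=
      Nat.Coprime.pow_right 3 (Nat.coprime_two_right.2 (hk.of_dvd_nat hd1))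
    exact hco.dvd_of_dvd_mul_left (hd2 : orderOf k' ∣ 8 * 3)
  haveI : Fact (Nat.Prime 3) := ⟨Nat.prime_three⟩
  obtain ⟨a, ha⟩ := Equiv.Perm.exists_fixed_point_of_prime (p := 3) (n := 1)
    (by rw [hcard]; decide) (σ := k') (by rw [pow_one, h3])
  have hva : v (a : Fin 7) ∈ v.support := Equiv.Perm.apply_mem_support.2 a.2
  have hb : k' ⟨v a, hva⟩ = ⟨v a, hva⟩ := by
    apply Subtype.ext
    simp only [hk', Equiv.Perm.subtypePerm_apply]
    exact mem_fix_comm hc.symm (congrArg Subtype.val ha)
  have hne : (⟨v a, hva⟩ : {y // y ∈ v.support}) ≠ a := fun h =>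
    (Equiv.Perm.mem_support.1 a.2) (congrArg Subtype.val h)
  have hsup : k'.support.card ≤ 2 := by
    have hsub : k'.support ⊆ ({⟨v a, hva⟩, a} : Finset {y // y ∈ v.support})ᶜ := by
      intro y hy
      rw [Finset.mem_compl, Finset.mem_insert, Finset.mem_singleton]
      rintro (rfl | rfl)
      · exact Equiv.Perm.mem_support.1 hy hb
      · exact Equiv.Perm.mem_support.1 hy ha
    have := Finset.card_le_card hsub
    rw [Finset.card_compl, hcard, Finset.card_pair hne] at this
    exact this
  have h1 : k' = 1 := by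
    rcases Nat.lt_or_ge k'.support.card 2 with h | h
    · exact Equiv.Perm.card_support_le_one.1 (by omega)
    · obtain ⟨p, q, hpq, he⟩ := Equiv.Perm.card_support_eq_two.1 (le_antisymm hsup h)
      rw [he] at h3 ⊢
      rwa [pow_succ, pow_two, Equiv.swap_mul_self, one_mul] at h3
  have := congrArg (fun p : Equiv.Perm {y // y ∈ v.support} =>
    ((p ⟨x, Equiv.Perm.mem_support.2 hx⟩ : {y // y ∈ v.support}) : Fin 7)) h1
  simpa [hk'] using this

/-- A nontrivial odd order element commuting with a double transposition is a three-cycle on its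
fixed points. -/
theorem three_cycle {v k : S7} (hv : v * v = 1) (hv4 : v.support.card = 4) (hk : Odd (orderOf k))
    (hk1 : k ≠ 1) (hc : v * k = k * v) :
    k.support = v.supportᶜ ∧ k.support.card = 3 ∧ ∀ y, k (k (k y)) = y := by
  classical
  have hsub : k.support ⊆ v.supportᶜ := by
    intro y hy
    rw [Finset.mem_compl]
    exact fun h => Equiv.Perm.mem_support.1 hy (fix_moved hv hv4 hk hc (Equiv.Perm.mem_support.1 h))
  have hc3 : (v.supportᶜ : Finset (Fin 7)).card = 3 := by
    rw [Finset.card_compl, hv4, Fintype.card_fin]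
  have hle : k.support.card ≤ 3 := hc3 ▸ Finset.card_le_card hsub
  have hne2 : k.support.card ≠ 2 := by
    intro h2
    have h : orderOf k = 2 := (Equiv.Perm.card_support_eq_two.1 h2).orderOf
    rw [h] at hk
    exact absurd hk (by decide)
  have hne0 : ¬ k.support.card ≤ 1 := fun h => hk1 (Equiv.Perm.card_support_le_one.1 h)
  have h3 : k.support.card = 3 := by omega
  refine ⟨Finset.eq_of_subset_of_card_le hsub (by omega), h3, fun y => ?_⟩
  have ho : orderOf k = 3 := (card_support_eq_three_iff.1 h3).orderOf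
  have := congrArg (fun p : S7 => p y) (ho ▸ pow_orderOf_eq_one k : k ^ 3 = 1)
  simpa [pow_succ, Equiv.Perm.mul_apply] using this

/-- Odd order elements centralising two commuting double transpositions: in a group of odd order
both lie in one group of order three. -/
theorem alt_pair {v w k l : S7} (hv : v * v = 1) (hw : w * w = 1) (hv4 : v.support.card = 4)
    (hw4 : w.support.card = 4) (hvw : v * w = w * v) (hk : Odd (orderOf k)) (hl : Odd (orderOf l))
    (hW : Odd (orderOf (k * l * k * l⁻¹))) (hk1 : k ≠ 1) (hl1 : l ≠ 1) (hck : v * k = k * v)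
    (hcl : w * l = l * w) : l = k ∨ l = k * k := by
  classical
  obtain ⟨sk, ck, k3⟩ := three_cycle hv hv4 hk hk1 hck
  obtain ⟨sl, cl, l3⟩ := three_cycle hw hw4 hl hl1 hcl
  have mem_k : ∀ y, k y ≠ y ↔ v y = y := fun y => by
    rw [← Equiv.Perm.mem_support, sk, Finset.mem_compl, Equiv.Perm.notMem_support]
  have mem_l : ∀ y, l y ≠ y ↔ w y = y := fun y => by
    rw [← Equiv.Perm.mem_support, sl, Finset.mem_compl, Equiv.Perm.notMem_support]
  -- `w` fixes some fixed point `a` of `v`
  obtain ⟨a, hak, haw⟩ : ∃ a, k a ≠ a ∧ w a = a := by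
    by_contra h
    push Not at h
    have hinv : ∀ y, y ∈ k.support ↔ w y ∈ k.support := by
      intro y
      rw [Equiv.Perm.mem_support, Equiv.Perm.mem_support, mem_k, mem_k]
      refine ⟨fun hy => mem_fix_comm hvw hy, fun hy => w.injective ?_⟩
      rw [← Equiv.Perm.mul_apply, ← hvw, Equiv.Perm.mul_apply, hy]
    haveI : Fact (Nat.Prime 2) := ⟨Nat.prime_two⟩
    obtain ⟨z, hz⟩ := Equiv.Perm.exists_fixed_point_of_prime (p := 2) (n := 1)
      (α := {y // y ∈ k.support}) (by rw [Fintype.card_coe, ck]; decide)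
      (σ := w.subtypePerm (fun y => (hinv y).symm))
      (by ext y; simp [pow_succ, ← Equiv.Perm.mul_apply, hw])
    exact h z (Equiv.Perm.mem_support.1 z.2) (congrArg Subtype.val hz)
  obtain ⟨b, hb⟩ : ∃ b, b = k a := ⟨_, rfl⟩
  obtain ⟨c, hc⟩ : ∃ c, c = k b := ⟨_, rfl⟩
  have kc : k c = a := by rw [hc, hb, k3]
  have hab : a ≠ b := fun h => hak (hb.symm.trans h.symm)
  have hbc : b ≠ c := fun h => hab (k.injective (by rw [← hb, ← hc, h]))
  have hca : c ≠ a := fun h => hbc (k.injective (by rw [kc, ← hc, h]))
  have hT : k.support = {a, b, c} := by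
    refine (Finset.eq_of_subset_of_card_le ?_ (le_of_eq ?_)).symm
    · intro y hy
      simp only [Finset.mem_insert, Finset.mem_singleton] at hy
      rw [Equiv.Perm.mem_support]
      rcases hy with rfl | rfl | rfl
      · exact hak
      · rw [← hc]; exact hbc.symm
      · rw [kc]; exact hca.symm
    · rw [ck, Finset.card_eq_three.2 ⟨a, b, c, hab, hca.symm, hbc, rfl⟩]
  have hTmem : ∀ y, k y ≠ y → y = a ∨ y = b ∨ y = c := by
    intro y hy
    have := Equiv.Perm.mem_support.2 hy
    simpa [hT] using this
  by_cases hsame : w b = b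
  · -- same fixed points
    have hwc : w c = c := by
      by_contra h
      have hck' : k c ≠ c := by rw [kc]; exact hca.symm
      have hwck : k (w c) ≠ w c := (mem_k _).2 (mem_fix_comm hvw ((mem_k c).1 hck'))
      rcases hTmem _ hwck with h1 | h1 | h1
      · exact hca (w.injective (h1.trans haw.symm))
      · exact hbc (w.injective (h1.trans hsame.symm)).symm
      · exact h h1
    have hsupp : l.support = {a, b, c} := by
      refine (Finset.eq_of_subset_of_card_le ?_ (le_of_eq ?_)).symm
      · intro y hy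
        simp only [Finset.mem_insert, Finset.mem_singleton] at hy
        rw [Equiv.Perm.mem_support, mem_l]
        rcases hy with rfl | rfl | rfl <;> assumption
      · rw [cl, Finset.card_eq_three.2 ⟨a, b, c, hab, hca.symm, hbc, rfl⟩]
    have hlmem : ∀ y, l y ≠ y → l y = a ∨ l y = b ∨ l y = c := by
      intro y hy
      have := Equiv.Perm.apply_mem_support.2 (Equiv.Perm.mem_support.2 hy)
      simpa [hsupp] using this
    have hla := (mem_l a).2 haw
    have hlb := (mem_l b).2 hsame
    have hlc := (mem_l c).2 hwc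
    have hfix : ∀ y, y ≠ a → y ≠ b → y ≠ c → k y = y ∧ l y = y := by
      intro y n1 n2 n3
      constructor
      · by_contra h; rcases hTmem y h with h1 | h1 | h1 <;> contradiction
      · by_contra h
        have := Equiv.Perm.mem_support.2 h
        simp [hsupp, n1, n2, n3] at this
    rcases (hlmem a hla) with h | h | h
    · exact absurd h hla
    · left
      have h2 : l b = c := by
        rcases hlmem b hlb with h' | h' | h'
        · rcases hlmem c hlc with g | g | g
          · exact absurd (l.injective (g.trans h'.symm)) hbc.symm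
          · exact absurd (l.injective (g.trans h.symm)) hca
          · exact absurd g hlc
        · exact absurd h' hlb
        · exact h'
      have h3 : l c = a := by rw [← h2, ← h, l3]
      ext y
      by_cases n1 : y = a
      · rw [n1, h, hb]
      by_cases n2 : y = b
      · rw [n2, h2, hc]
      by_cases n3 : y = c
      · rw [n3, h3, kc]
      rw [(hfix y n1 n2 n3).1, (hfix y n1 n2 n3).2]
    · right
      have h2 : l c = b := by
        rcases hlmem c hlc with h' | h' | h'
        · rcases hlmem b hlb with g | g | g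
          · exact absurd (l.injective (g.trans h'.symm)) hbc
          · exact absurd g hlb
          · exact absurd (l.injective (g.trans h.symm)) hab.symm
        · exact h'
        · exact absurd h' hlc
      have h3 : l b = a := by rw [← h2, ← h, l3]
      ext y
      rw [Equiv.Perm.mul_apply]
      by_cases n1 : y = a
      · rw [n1, h, ← hb, ← hc]
      by_cases n2 : y = b
      · rw [n2, h3, ← hc, kc]
      by_cases n3 : y = c
      · rw [n3, h2, kc, ← hb]
      rw [(hfix y n1 n2 n3).1, (hfix y n1 n2 n3).1, (hfix y n1 n2 n3).2]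
  · have hwc : w c ≠ c := by
      intro h
      have hbk : k b ≠ b := by rw [← hc]; exact hbc.symm
      have hwbk : k (w b) ≠ w b := (mem_k _).2 (mem_fix_comm hvw ((mem_k b).1 hbk))
      rcases hTmem _ hwbk with h1 | h1 | h1
      · exact hab (w.injective (haw.trans h1.symm))
      · exact hsame h1
      · exact hbc (w.injective (h1.trans h.symm))
    exfalso
    obtain ⟨d, hd⟩ : ∃ d, d = l a := ⟨_, rfl⟩
    obtain ⟨e, he⟩ : ∃ e, e = l d := ⟨_, rfl⟩
    have le' : l e = a := by rw [he, hd, l3]
    have hla : l a ≠ a := (mem_l a).2 haw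
    have hea : e ≠ a := fun h => hla (by rw [h] at le'; exact le')
    have hwe : w e = e := by
      rw [← mem_l, le']; exact hea.symm
    have hke : k e = e := by
      by_contra hke
      rcases hTmem e hke with h | h | h
      · exact hea h
      · exact hsame (h ▸ hwe)
      · exact hwc (h ▸ hwe)
    have hlb : l b = b := by
      by_contra h; exact hsame ((mem_l b).1 h)
    have hlc : l c = c := by
      by_contra h; exact hwc ((mem_l c).1 h)
    set W := k * l * k * l⁻¹ with hWdef
    have e1 : l⁻¹ a = e := by rw [Equiv.Perm.inv_eq_iff_eq, le']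
    have e2 : l⁻¹ b = b := by rw [Equiv.Perm.inv_eq_iff_eq, hlb]
    have hWa : W a = b := by
      simp only [hWdef, Equiv.Perm.mul_apply, e1, hke, le', ← hb]
    have hWb : W b = a := by
      simp only [hWdef, Equiv.Perm.mul_apply, e2, ← hc, hlc, kc]
    have hfix : (W ^ 2) a = a := by rw [pow_two, Equiv.Perm.mul_apply, hWa, hWb]
    obtain ⟨j, hj⟩ := hW
    have hW' : W = (W ^ 2) ^ (j + 1) := by
      rw [← pow_mul, show 2 * (j + 1) = orderOf W + 1 by omega, pow_succ, pow_orderOf_eq_one, one_mul]
    apply hab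
    calc a = ((W ^ 2) ^ (j + 1)) a := (Equiv.Perm.pow_apply_eq_self_of_apply_eq_self hfix _).symm
      _ = b := by rw [← hW', hWa]

variable {X : Type u} [Group X] [Finite X]

theorem model_alt (L : Subgroup X) [L.Normal] (e : L ≃* alternatingGroup (Fin 7))
    (hc : Subgroup.centralizer (L : Set X) = ⊥) (hD : HasDihedralSylow X) (V K : Subgroup X)
    (hV : IsFour V) (hK : Odd (Nat.card K)) (hVK : V ≤ normalizer (K : Set X)) :
    ∃ v ∈ V, v ≠ 1 ∧ K ≤ Subgroup.centralizer ({v} : Set X) := by
  classical
  have h4 : 4 ≤ Fintype.card (Fin 7) := by decide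
  have h6 : Fintype.card (Fin 7) ≠ 6 := by decide
  let π : X →* S7 := (Alternating.autEquiv h4 h6).symm.toMonoidHom.comp (autHom L e)
  have hπ : Function.Injective π :=
    (Alternating.autEquiv h4 h6).symm.injective.comp (autHom_injective L e hc)
  have hπL : ∀ a : alternatingGroup (Fin 7), π (e.symm a : X) = (a : S7) := by
    intro a
    show (Alternating.autEquiv h4 h6).symm (autHom L e (e.symm a : X)) = _
    rw [autHom_of_mem, MulEquiv.apply_symm_apply, MulEquiv.symm_apply_eq]
    refine MulEquiv.ext fun b => Subtype.ext ?_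
    change ((a * b * a⁻¹ : alternatingGroup (Fin 7)) : S7) = (MulAut.conjNormal (a : S7) b : S7)
    rw [MulAut.conjNormal_apply]
    simp
  have hsign : ∀ x, Equiv.Perm.sign (π x) = 1 := by
    intro x
    by_contra hx
    have hodd : Equiv.Perm.sign (π x) = -1 := (Int.units_eq_one_or _).resolve_left hx
    have hsurj : ∀ p : S7, ∃ y, π y = p := by
      intro p
      by_cases hp : Equiv.Perm.sign p = 1
      · exact ⟨_, hπL ⟨p, Equiv.Perm.mem_alternatingGroup.2 hp⟩⟩
      · have hp' : Equiv.Perm.sign p = -1 := (Int.units_eq_one_or _).resolve_left hp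
        refine ⟨(e.symm ⟨p * (π x)⁻¹, Equiv.Perm.mem_alternatingGroup.2 ?_⟩ : X) * x, ?_⟩
        · rw [map_mul, map_inv, hp', hodd]; decide
        · rw [map_mul, hπL]; exact inv_mul_cancel_right p (π x)
    obtain ⟨w, hw⟩ := hsurj (Equiv.swap 0 1)
    obtain ⟨a, ha⟩ := hsurj (Equiv.swap 2 3)
    obtain ⟨b, hb⟩ := hsurj (Equiv.swap 4 5)
    refine no_eight hD (w := w) (a := a) (b := b) (hπ ?_) (hπ ?_) (hπ ?_) (hπ ?_) (hπ ?_) (hπ ?_)
      (fun h => ?_) (fun h => ?_) (fun h => ?_) (fun h => ?_) (fun h => ?_) (fun h => ?_)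
      (fun h => ?_)
    all_goals first
      | (rw [map_mul, hw, map_one]; decide)
      | (rw [map_mul, ha, map_one]; decide)
      | (rw [map_mul, hb, map_one]; decide)
      | (simp only [map_mul, hw, ha, hb]; decide)
      | (replace h := congrArg π h; simp only [map_mul, map_one, hw, ha, hb] at h; revert h; decide)
  have hV2 : ¬ 2 ∣ Nat.card K := hK.not_two_dvd_nat
  have : IsKleinFour V := isFour_iff.1 hV
  haveI : IsMulCommutative V := ⟨⟨fun a b => Subtype.ext (hV.comm a.2 b.2)⟩⟩
  have hgen := Coprime.iSup_centralizer_eq (A := V) (K := K) IsKleinFour.not_isCyclic hVK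
    (by rw [hV.1]; exact Nat.Coprime.pow_left 2 (Nat.coprime_two_left.2 hK))
  have oddK : ∀ g ∈ K, Odd (orderOf (π g)) := by
    intro g hg
    rw [orderOf_injective π hπ]
    exact hK.of_dvd_nat (Subgroup.orderOf_mk g hg ▸ orderOf_dvd_natCard _)
  have invol : ∀ v ∈ V, v ≠ 1 → π v * π v = 1 ∧ (π v).support.card = 4 := by
    intro v hv hv1
    have h : π v * π v = 1 := by rw [← map_mul, hV.2 v hv, map_one]
    exact ⟨h, card_support_invol h (fun h1 => hv1 (hπ (h1.trans (map_one π).symm))) (hsign v)⟩
  by_cases hall : ∀ v ∈ V, v ≠ 1 → K ⊓ centralizer ({v} : Set X) = ⊥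
  · obtain ⟨v, hv, hv1⟩ := V.bot_or_exists_ne_one.resolve_left (by
      intro h; have := hV.1; rw [h, Subgroup.card_bot] at this; omega)
    refine ⟨v, hv, hv1, ?_⟩
    rw [← hgen]
    exact iSup₂_le fun u hu => (hall u hu.1 hu.2).le.trans bot_le
  push Not at hall
  obtain ⟨v, hv, hv1, hne⟩ := hall
  obtain ⟨k, ⟨hk, hkv⟩, hk1⟩ := (K ⊓ centralizer ({v} : Set X)).bot_or_exists_ne_one.resolve_left hne
  refine ⟨v, hv, hv1, ?_⟩
  rw [← hgen]
  refine iSup₂_le fun w hw l hl => ?_
  obtain ⟨hl, hlw⟩ := hl
  by_cases hwv : w = v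
  · exact hwv ▸ hlw
  by_cases hl1 : l = 1
  · exact hl1 ▸ one_mem _
  have hck : v * k = k * v := (mem_centralizer_singleton_iff.1 hkv).symm
  have hcl : w * l = l * w := (mem_centralizer_singleton_iff.1 hlw).symm
  rcases alt_pair (invol v hv hv1).1 (invol w hw.1 hw.2).1 (invol v hv hv1).2 (invol w hw.1 hw.2).2
    (by rw [← map_mul, ← map_mul, hV.comm hv hw.1]) (oddK k hk) (oddK l hl)
    (by rw [← map_mul, ← map_mul, ← map_inv, ← map_mul]
        exact oddK _ (mul_mem (mul_mem (mul_mem hk hl) hk) (inv_mem hl)))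
    (fun h => hk1 (hπ (h.trans (map_one π).symm))) (fun h => hl1 (hπ (h.trans (map_one π).symm)))
    (by rw [← map_mul, ← map_mul, hck]) (by rw [← map_mul, ← map_mul, hcl]) with h | h
  · exact hπ h ▸ hkv
  · rw [← map_mul] at h
    exact hπ h ▸ mul_mem hkv hkv

end Cfsg.Agent.Lib.GorensteinWalter.Model
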