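import Cfsg.Agent.Lib.GorensteinWalter.ModelPSL
import Cfsg.Agent.Lib.GorensteinWalter.ModelAlt

/-!
# Section M: the models
-/

set_option autoImplicit false

universe u

namespace Cfsg.Agent.Lib.GorensteinWalter

/-- The known models satisfy the four-group condition. -/
theorem propModelFour : PropModelFour.{u} := by
  intro X _ _ L _ hL hc hD V K hV hK hVK
  rcases hL with ⟨F, _, _, hF, _, ⟨e⟩⟩ | ⟨⟨e⟩⟩
  · exact Model.model_psl L hF e hc hD V K hV hK hVK
  · exact Model.model_alt L e hc hD V K hV hK hVK

end Cfsg.Agent.Lib.GorensteinWalter
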