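import Cfsg.Agent.Lib.GorensteinWalter.ConfSmall
import Cfsg.Agent.Lib.GorensteinWalter.ConfBase
import Cfsg.Agent.Lib.GorensteinWalter.Model
import Cfsg.Agent.Lib.BenderSuzuki.Main
import Cfsg.Agent.Lib.BenderOne.Final

/-!
# Gorenstein–Walter, section F: the assembly, closed

Owner: helper2.
-/

set_option autoImplicit false

namespace Cfsg.Agent.Lib.GorensteinWalter

universe u

/-- F1–F8: a configuration makes the prime small, given part I. -/
theorem propNoConf_of_partOne (hP : BenderConsumers23.PropPartOne.{u}) : PropNoConf.{u} :=
  propNoConf (propFourOdd propModelFour) (propConfBase (propFourOdd propModelFour)) hP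
    BenderSuzuki.propMain.{u, u}

/-- F6–F8, given part I. -/
theorem propConfSmall_of_partOne (hP : BenderConsumers23.PropPartOne.{u}) : PropConfSmall.{u} :=
  propConfSmall (propFourOdd propModelFour) (propConfBase (propFourOdd propModelFour)) hP
    BenderSuzuki.propMain.{u, u}

/-- Section F. -/
theorem propNoConfFinal : PropNoConf.{u} := propNoConf_of_partOne BenderOne.propPartOneFinal

/-- F6–F8. -/
theorem propConfSmallFinal : PropConfSmall.{u} := propConfSmall_of_partOne BenderOne.propPartOneFinal

end Cfsg.Agent.Lib.GorensteinWalter
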