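import Cfsg.Agent.Lib.GorensteinWalter.InterfaceG

/-!
# Gorenstein–Walter, section C: the arithmetic of equal fixed points

Modulo `q = 2 ^ n * T + ε` the two last factors are `1 - εsN` and `(2 - εsN) / 2`; so `q` would
divide `N`, `N ∓ 1` or `N ∓ 2`, all too small.
-/

set_option autoImplicit false

universe u

namespace Cfsg.Agent.Lib.GorensteinWalter.EqualArithAux

/-- A multiple of `q` close to a small multiple of `p` is not small. -/
theorem not_dvd_sub {p T N q : ℕ} {ε σ : ℤ} {n : ℕ} (hn : 3 ≤ n) (hp : p.Prime) (hpo : Odd p)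
    (hpT : p ∣ T) (hTo : Odd T) (hε : ε = 1 ∨ ε = -1) (hq : (q : ℤ) = 2 ^ n * (T : ℤ) + ε)
    (hσ : σ = 1 ∨ σ = -1 ∨ σ = 2 ∨ σ = -2) (hN : Odd N) (hne : (N : ℤ) ≠ σ)
    (hNb : N ≤ p + 1 ∨ p ∣ N ∧ N ≤ p * p) : ¬ (q : ℤ) ∣ (N : ℤ) - σ := by
  rintro ⟨j, hj⟩
  have hT : p ≤ T := Nat.le_of_dvd hTo.pos hpT
  have hp2 := hp.two_le
  have hp3 : 3 ≤ p := by
    rcases hpo with ⟨k, rfl⟩
    omega
  have hqb : 8 * (p : ℤ) - 1 ≤ q := by
    have h8 : (8 : ℤ) ≤ 2 ^ n := by
      calc (8 : ℤ) = 2 ^ 3 := by norm_num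
        _ ≤ 2 ^ n := pow_le_pow_right₀ (by norm_num) hn
    have hT' : (p : ℤ) ≤ T := by exact_mod_cast hT
    rcases hε with rfl | rfl <;> nlinarith
  have hj0 : j ≠ 0 := by
    rintro rfl
    rw [mul_zero, sub_eq_zero] at hj
    exact hne hj
  have hp3' : (3 : ℤ) ≤ p := by exact_mod_cast hp3
  have habs : (q : ℤ) * |j| ≤ N + 2 := by
    rw [← abs_of_nonneg (Int.natCast_nonneg q), ← abs_mul, ← hj]
    refine abs_le.2 ⟨?_, ?_⟩ <;> rcases hσ with rfl | rfl | rfl | rfl <;> omega
  have hj1 : 1 ≤ |j| := Int.one_le_abs hj0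
  rcases hNb with h | ⟨hpN, h⟩
  · have h' : (N : ℤ) ≤ p + 1 := by exact_mod_cast h
    nlinarith
  · have h' : (N : ℤ) ≤ p * p := by exact_mod_cast h
    -- modulo `p`, `q ≡ ε`
    have hmod : (p : ℤ) ∣ ε * j + σ := by
      have h1 : (p : ℤ) ∣ N := by exact_mod_cast hpN
      have h2 : (p : ℤ) ∣ (q : ℤ) - ε := by
        rw [hq, add_sub_cancel_right]
        exact Dvd.dvd.mul_left (by exact_mod_cast hpT) _
      have h3 : ε * j + σ = (N : ℤ) - ((q : ℤ) - ε) * j := by linear_combination -hj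
      rw [h3]
      exact dvd_sub h1 (h2.mul_right j)
    have hlow : (p : ℤ) - 2 ≤ |j| ∧ (σ = 1 ∨ σ = -1 → (p : ℤ) - 1 ≤ |j|) := by
      have hz : ε * j + σ ≠ 0 := by
        intro hz
        -- parity
        have hqo : Odd (q : ℤ) := by
          rw [hq]
          rcases hε with rfl | rfl
          · exact (Even.mul_right (Int.even_pow.2 ⟨even_two, by omega⟩) _).add_odd odd_one
          · exact (Even.mul_right (Int.even_pow.2 ⟨even_two, by omega⟩) _).add_odd (by norm_num)
        have hNo : Odd (N : ℤ) := by exact_mod_cast hN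
        have hpar : Even (j + σ) := by
          rcases hε with rfl | rfl
          · rw [one_mul] at hz
            rw [hz]
            exact Even.zero
          · have : j = σ := by linarith
            rw [this]
            exact Even.add_self σ
        have he : Even ((q : ℤ) * j + σ) := by
          obtain ⟨k, hk⟩ := hqo
          rw [hk]
          rw [show (2 * k + 1) * j + σ = 2 * (k * j) + (j + σ) by ring]
          exact (even_two_mul _).add hpar
        rw [← hj, sub_add_cancel] at he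
        exact Int.not_even_iff_odd.2 hNo he
      have hle := Int.le_of_dvd (abs_pos.2 hz) ((dvd_abs _ _).2 hmod)
      have ht : |ε * j + σ| ≤ |j| + |σ| := by
        refine (abs_add_le _ _).trans_eq ?_
        rw [abs_mul]
        rcases hε with rfl | rfl <;> simp
      refine ⟨?_, fun hs => ?_⟩
      · rcases hσ with rfl | rfl | rfl | rfl <;> norm_num at ht <;> linarith
      · rcases hs with rfl | rfl <;> norm_num at ht <;> linarith
    rcases le_or_gt 5 p with h5 | h5
    · have h5' : (5 : ℤ) ≤ p := by exact_mod_cast h5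
      nlinarith [hlow.1]
    · have hpv : p = 3 := by
        rcases hpo with ⟨k, rfl⟩
        omega
      subst hpv
      push_cast at *
      nlinarith

end Cfsg.Agent.Lib.GorensteinWalter.EqualArithAux

namespace Cfsg.Agent.Lib.GorensteinWalter

open EqualArithAux

/-- The arithmetic of equal fixed points. -/
theorem propEqualArith : PropEqualArith := by
  intro n T N p q ε s hn hε hs hp hpo hTo hNo hpT hN1 hNb hq hpp hco hdvd
  obtain ⟨m, rfl⟩ : ∃ m, n = m + 1 := ⟨n - 1, by omega⟩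
  rw [Nat.add_sub_cancel] at hdvd
  set x : ℤ := 2 ^ (m + 1) * (T : ℤ) * N * s + 1 with hx
  set y : ℤ := 2 ^ m * (T : ℤ) * N * s + 1 with hy
  have hss : s * s = 1 := by rcases hs with rfl | rfl <;> norm_num
  have hee : ε * ε = 1 := by rcases hε with rfl | rfl <;> norm_num
  have hxy : IsCoprime x y := ⟨-1, 2, by rw [hx, hy]; ring⟩
  have hNx : IsCoprime (N : ℤ) x := ⟨-(2 ^ (m + 1) * (T : ℤ) * s), 1, by rw [hx]; ring⟩
  have hNy : IsCoprime (N : ℤ) y := ⟨-(2 ^ m * (T : ℤ) * s), 1, by rw [hy]; ring⟩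
  obtain ⟨r, e, hr, he, hre⟩ := hpp
  have hrp : Prime (r : ℤ) := Nat.prime_iff_prime_int.1 hr.nat_prime
  have hsplit : ∀ A B : ℤ, IsCoprime A B → (q : ℤ) ∣ A * B → (q : ℤ) ∣ A ∨ (q : ℤ) ∣ B := by
    intro A B hAB h
    rw [← hre, Nat.cast_pow] at h ⊢
    by_cases hA : (r : ℤ) ∣ A
    · refine Or.inl (IsCoprime.dvd_of_dvd_mul_right (IsCoprime.pow_left ?_) h)
      refine (Prime.coprime_iff_not_dvd hrp).2 fun hB => hrp.not_isUnit ?_
      exact hAB.isUnit_of_dvd' hA hB
    · exact Or.inr (IsCoprime.dvd_of_dvd_mul_left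
        (IsCoprime.pow_left ((Prime.coprime_iff_not_dvd hrp).2 hA)) h)
  have hN1' : (1 : ℤ) < N := by exact_mod_cast hN1
  rcases hsplit _ _ (hNy.mul_left hxy) hdvd with h | h
  · rcases hsplit _ _ hNx h with hA | hB
    · -- `q ∣ N`
      have hA' : q ∣ N := by exact_mod_cast hA
      have hqN := Nat.le_of_dvd (by omega) hA'
      have hT : p ≤ T := Nat.le_of_dvd hTo.pos hpT
      have h8 : 8 * p ≤ q + 1 := by
        have : (8 : ℤ) ≤ 2 ^ (m + 1) := by
          calc (8 : ℤ) = 2 ^ 3 := by norm_num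
            _ ≤ 2 ^ (m + 1) := pow_le_pow_right₀ (by norm_num) hn
        have hT' : (p : ℤ) ≤ T := by exact_mod_cast hT
        have : (8 * p : ℤ) ≤ q + 1 := by rcases hε with rfl | rfl <;> nlinarith
        exact_mod_cast this
      have hp2 := hp.two_le
      rcases hNb with hb | ⟨hpN, hb⟩
      · omega
      · have hqp : Nat.Coprime q p := Nat.Coprime.coprime_dvd_right hpT hco
        have := Nat.le_of_dvd (by omega) (hqp.mul_dvd_of_dvd_of_dvd hA' hpN)
        nlinarith
    · -- `q ∣ x`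
      have h1 : (q : ℤ) ∣ (N : ℤ) - ε * s := by
        have h2 : (q : ℤ) ∣ x - (N : ℤ) * s * q :=
          dvd_sub hB (dvd_mul_left (q : ℤ) ((N : ℤ) * s))
        have h3 : x - (N : ℤ) * s * q = -(s * ε) * ((N : ℤ) - ε * s) := by
          rw [hx, hq]
          rcases hε with rfl | rfl <;> rcases hs with rfl | rfl <;> ring
        rw [h3] at h2
        refine (IsUnit.dvd_mul_left ?_).1 h2
        rcases hε with rfl | rfl <;> rcases hs with rfl | rfl <;> norm_num
      refine not_dvd_sub hn hp hpo hpT hTo hε hq ?_ hNo ?_ hNb h1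
      · rcases hε with rfl | rfl <;> rcases hs with rfl | rfl <;> norm_num
      · rcases hε with rfl | rfl <;> rcases hs with rfl | rfl <;> norm_num <;> omega
  · -- `q ∣ y`
    have h1 : (q : ℤ) ∣ (N : ℤ) - 2 * (ε * s) := by
      have h2 : (q : ℤ) ∣ 2 * y - (N : ℤ) * s * q :=
        dvd_sub (h.mul_left 2) (dvd_mul_left (q : ℤ) ((N : ℤ) * s))
      have h3 : 2 * y - (N : ℤ) * s * q = -(s * ε) * ((N : ℤ) - 2 * (ε * s)) := by
        rw [hy, hq]
        rcases hε with rfl | rfl <;> rcases hs with rfl | rfl <;> ring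
      rw [h3] at h2
      refine (IsUnit.dvd_mul_left ?_).1 h2
      rcases hε with rfl | rfl <;> rcases hs with rfl | rfl <;> norm_num
    refine not_dvd_sub hn hp hpo hpT hTo hε hq ?_ hNo ?_ hNb h1
    · rcases hε with rfl | rfl <;> rcases hs with rfl | rfl <;> norm_num
    · obtain ⟨k, hk⟩ := hNo
      rcases hε with rfl | rfl <;> rcases hs with rfl | rfl <;> norm_num <;> omega

end Cfsg.Agent.Lib.GorensteinWalter
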