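import Cfsg.Agent.Lib.GorensteinWalter.EqualSylow
import Cfsg.Agent.Lib.GorensteinWalter.EqualArith

/-!
# Equal nontrivial fixed points are impossible

With `w = |O : E|` the shape gives `w = T N`, the Sylow count gives `h = 1`, and then `q = 2ⁿ T ± 1` would divide
`N (2ⁿ K + 1) (2ⁿ⁻¹ K + 1)` with `K = ± T N`.
-/

set_option autoImplicit false
set_option linter.unusedSectionVars false
set_option linter.style.haveILetI false

namespace Cfsg.Agent.Lib.GorensteinWalter

open Cfsg.Agent.Lib.Fusion.Dihedral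

universe u

variable {G : Type u} [Group G] [Finite G]

/-- A number `k` with square `1` modulo `l` and as small as the shape allows is `1`. -/
theorem eq_one_of_sq {l k N : ℕ} (hl : l.Prime) (hl2 : l ≠ 2) (hlk : ¬ l ∣ k) (hkN : k ∣ N) (hN : Odd N)
    (hNb : N ≤ l + 1 ∨ l ∣ N ∧ N ≤ l * l) (hsq : k * k ≡ 1 [MOD l]) : k = 1 := by
  have hle : k ≤ l + 1 := by
    rcases hNb with hb | ⟨hlN, hb⟩
    · exact (Nat.le_of_dvd hN.pos hkN).trans hb
    · have h1 := Nat.le_of_dvd hN.pos (((hl.coprime_iff_not_dvd).2 hlk).mul_dvd_of_dvd_of_dvd hlN hkN)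
      exact (Nat.le_of_mul_le_mul_left (h1.trans hb) hl.pos).trans (Nat.le_succ l)
  obtain ⟨i, rfl⟩ := hN.of_dvd_nat hkN
  have h1 := (Nat.modEq_iff_dvd' (Nat.one_le_iff_ne_zero.2 (by simp))).1 hsq.symm
  rw [show (2 * i + 1) * (2 * i + 1) - 1 = 2 * (2 * (i * (i + 1))) from Nat.sub_eq_of_eq_add (by ring)] at h1
  have h2 : l ∣ i * (i + 1) := by
    have hc : l.Coprime 2 := (Nat.coprime_primes hl Nat.prime_two).2 hl2
    exact hc.dvd_of_dvd_mul_left (hc.dvd_of_dvd_mul_left h1)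
  have hl3 : 3 ≤ l := by have := hl.two_le; omega
  rcases hl.dvd_mul.1 h2 with h3 | h3
  · rcases Nat.eq_zero_or_pos i with h4 | h4
    · omega
    · have := Nat.le_of_dvd h4 h3
      omega
  · have := Nat.le_of_dvd (Nat.succ_pos i) h3
    omega

namespace EqualSetting

variable {S : Sylow 2 G} {t a b : G} {n : ℕ} (h : EqualSetting S t a b n)
include h

/-- A minimal block exists. -/
theorem exists_block (hNo : PropNoConf.{u}) (hCo : PropCoinvariant.{u}) (hFC : PropFusedCentralizer.{u})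
    (hE : coreFix t a ≠ ⊥) : ∃ (l : ℕ) (Q : Subgroup G), EqualBlock S t a b n l Q := by
  classical
  set L := invGen t a with hL
  have hLodd : Odd (Nat.card L) := (coreC_odd t).of_dvd_nat (Subgroup.card_dvd_of_le h.invGen_le)
  have haN : a ∈ Subgroup.normalizer (L : Set G) :=
    Subgroup.mem_normalizer_fintype (show ∀ x ∈ (L : Set G), a * x * a⁻¹ ∈ L from fun _ hx => h.invGen_conj hx)
  set σ := L.normalizerMonoidHom ⟨a, haN⟩ with hσ
  have hσv : ∀ x : L, ((σ x : L) : G) = a * x * a⁻¹ := fun x => rfl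
  have hgen : Subgroup.closure {x : L | σ x = x⁻¹} = ⊤ := by
    rw [eq_top_iff]
    rintro ⟨y, hy⟩ -
    induction hy using Subgroup.closure_induction with
    | mem y hy => exact Subgroup.subset_closure (Subtype.ext (by rw [hσv]; exact hy.2))
    | one => exact one_mem _
    | mul x y hx' hy' hx hy => exact mul_mem hx hy
    | inv x hx' hx => exact inv_mem hx
  -- some core is neither fixed nor inverted
  obtain ⟨l, hl, hnf, hni⟩ : ∃ l : ℕ, l.Prime ∧ ¬ (∀ x ∈ Cfsg.pCore l L, σ x = x) ∧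
      ¬ ∀ x ∈ Cfsg.pCore l L, σ x = x⁻¹ := by
    by_contra hno
    push Not at hno
    obtain ⟨hall, -⟩ := inverts_of_cores hLodd σ hgen fun r hr => by
      by_cases hf : ∀ x ∈ Cfsg.pCore r L, σ x = x
      · exact Or.inl hf
      · push Not at hf
        exact Or.inr (hno r hr hf)
    obtain ⟨y, hy, hy1⟩ := (L ⊓ Subgroup.centralizer ({a} : Set G)).bot_or_exists_ne_one.resolve_left
      (h.invGen_meets hNo hCo hE)
    have h1 := congrArg Subtype.val (hall ⟨y, hy.1⟩)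
    rw [hσv] at h1
    change a * y * a⁻¹ = y⁻¹ at h1
    rw [← Subgroup.mem_centralizer_singleton_iff.1 hy.2, mul_inv_cancel_right] at h1
    exact hy1 (eq_one_of_eq_inv (orderOf_odd_of_mem hLodd hy.1) h1)
  haveI := Fact.mk hl
  set P := genCore l t a with hP
  have hPO : P ≤ coreC t := h.genCore_le l
  have hPodd : Odd (Nat.card P) := (coreC_odd t).of_dvd_nat (Subgroup.card_dvd_of_le hPO)
  have hPa : ∀ y ∈ P, a * y * a⁻¹ ∈ P := fun y hy => h.genCore_conj l hy
  have hmeet : P ⊓ Subgroup.centralizer ({a} : Set G) ≠ ⊥ := by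
    intro hb
    have hinv := inverts_of_fixed_bot hPodd h.aa hPa fun y hy hya => by
      have h1 : y ∈ P ⊓ Subgroup.centralizer ({a} : Set G) :=
        Subgroup.mem_inf.2 ⟨hy, Subgroup.mem_centralizer_singleton_iff.2 hya.symm⟩
      rwa [hb, Subgroup.mem_bot] at h1
    exact hni fun x hx => Subtype.ext (by rw [hσv]; exact hinv x ⟨x, hx, rfl⟩)
  have hl2 : l ≠ 2 := by
    intro e
    subst e
    refine hmeet (le_bot_iff.1 (inf_le_left.trans (le_of_eq ?_)))
    obtain ⟨k, hk⟩ := (h.genCore_pgroup 2).exists_card_eq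
    refine Subgroup.card_eq_one.1 ?_
    rw [hP, hk]
    rcases k with _ | k
    · rfl
    · exact absurd (hk ▸ dvd_pow_self 2 (Nat.succ_ne_zero k)) (hP ▸ hPodd).not_two_dvd_nat
  have hex : (Nat.card (coreFix t a)).factorization l < (Nat.card (coreC t)).factorization l := by
    by_contra hle
    refine hnf fun x hx => Subtype.ext ?_
    have h1 := fixed_invariant (coreC_odd t) h.refl.u_two (fun y hy => h.a_mem hy) (not_lt.1 hle)
      (h.genCore_pgroup l) hPO hPa (show (x : G) ∈ P from ⟨x, hx, rfl⟩)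
    rw [hσv, ← Subgroup.mem_centralizer_singleton_iff.1 h1, mul_inv_cancel_right]
  obtain ⟨Q, ⟨hQP, hQn, hQa, hQm⟩, hmin⟩ := exists_minimal_of_wellFoundedLT
    (fun K : Subgroup G => K ≤ P ∧ coreC t ≤ Subgroup.normalizer (K : Set G) ∧
      (∀ y ∈ K, a * y * a⁻¹ ∈ K) ∧ K ⊓ Subgroup.centralizer ({a} : Set G) ≠ ⊥)
    ⟨P, le_rfl, h.genCore_normal l, hPa, hmeet⟩
  exact ⟨l, Q, h, hl, hl2, hex, hQP, hQn, hQa, hQm,
    fun K hKQ h1 h2 h3 => le_antisymm hKQ (hmin ⟨hKQ.trans hQP, h1, h2, h3⟩ hKQ), hNo, hFC⟩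

end EqualSetting

namespace EqualBlock

variable {S : Sylow 2 G} {t a b : G} {n l : ℕ} {Q : Subgroup G} (h : EqualBlock S t a b n l Q)
include h

theorem false (hDich : PropDichotomy.{u}) (hInv : PropInvariant.{u}) (hMC : PropModelCyclic.{u})
    (hMS : PropModelSplit.{u}) (hMO : PropModelOne.{u}) : False := by
  classical
  haveI := Fact.mk h.prime
  set O := coreC t with hO
  set L := invGen t a with hL
  set Y := Q ⊓ Subgroup.centralizer ({a} : Set G) with hY
  set H := Subgroup.centralizer (Y : Set G) with hH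
  obtain ⟨⟨z, hz, hz1, hzi, hzY⟩, hshape⟩ := h.shape hMC
  set N := (L ⊓ Subgroup.normalizer (Y : Set G)).relIndex L with hN
  obtain ⟨hN1, hNodd, hNb⟩ := hshape N hN
  have hl := h.localAt (Y := Y) le_rfl h.meets
  have hzH : z ∈ O ⊓ H := Subgroup.mem_inf.2
    ⟨h.le_core hz, Subgroup.mem_centralizer_iff.2 fun y hy => (hzY y hy).symm⟩
  obtain ⟨T, q, ε, hε, hq, hqT, hc, hqe, hX⟩ := hl.model hMC hMS hMO hzH hz1 hzi
  -- `T` counts the inverted elements of `N_{L₀}(Y)`
  set Ny := L ⊓ Subgroup.normalizer (Y : Set G) with hNy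
  have hEY : coreFix t a ≤ Subgroup.normalizer (Y : Set G) := fun c hc => Subgroup.mem_normalizer_fintype
    fun y hy => Subgroup.mem_inf.2 ⟨conj_mem_of_mem_normalizer (h.normal hc.1) hy.1,
      Subgroup.mem_centralizer_singleton_iff.2
        ((((show Commute c a from Subgroup.mem_centralizer_singleton_iff.1 hc.2).mul_left
          (show Commute y a from Subgroup.mem_centralizer_singleton_iff.1 hy.2)).mul_left
          (show Commute c a from Subgroup.mem_centralizer_singleton_iff.1 hc.2).inv_left).eq)⟩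
  have haH : a ∈ H := hl.coreBase.sylow_le h.base.refl.u_mem
  have haY : ∀ y ∈ (Y : Set G), a * y * a⁻¹ ∈ Y := fun y hy => by
    rw [← Subgroup.mem_centralizer_singleton_iff.1 (hy : y ∈ Y).2, mul_inv_cancel_right]
    exact hy
  have haNy : ∀ y ∈ Ny, a * y * a⁻¹ ∈ Ny := fun y hy =>
    Subgroup.mem_inf.2 ⟨h.base.invGen_conj hy.1, mul_mem (mul_mem (Subgroup.mem_normalizer_fintype haY) hy.2)
      (inv_mem (Subgroup.mem_normalizer_fintype haY))⟩
  have hOH : ∀ y ∈ O ⊓ H, a * y * a⁻¹ ∈ O ⊓ H := fun y hy =>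
    Subgroup.mem_inf.2 ⟨h.base.a_mem hy.1, mul_mem (mul_mem haH hy.2) (inv_mem haH)⟩
  have hLodd : Odd (Nat.card L) := (coreC_odd t).of_dvd_nat (Subgroup.card_dvd_of_le h.base.invGen_le)
  have hKodd : Odd (Nat.card ↥(O ⊓ H)) := (coreC_odd t).of_dvd_nat (Subgroup.card_dvd_of_le inf_le_left)
  have hEH : (O ⊓ H) ⊓ Subgroup.centralizer ({a} : Set G) = coreFix t a ⊓ H := inf_right_comm _ _ _
  have hcard := card_fixed_mul_inverted hKodd h.base.aa hOH
  rw [hEH] at hcard
  have hI : Nat.card {y : G // y ∈ O ⊓ H ∧ a * y * a⁻¹ = y⁻¹} = T := by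
    have h1 : Nat.card ↥(O ⊓ H) = T * Nat.card ↥(coreFix t a ⊓ H) := hc
    rw [h1, mul_comm T] at hcard
    exact (Nat.eq_of_mul_eq_mul_left Nat.card_pos hcard).symm
  have hNyodd : Odd (Nat.card Ny) := hLodd.of_dvd_nat (Subgroup.card_dvd_of_le inf_le_left)
  have hNycard : Nat.card Ny = Nat.card ↥(L ⊓ Subgroup.centralizer ({a} : Set G)) * T := by
    rw [card_fixed_mul_inverted hNyodd h.base.aa haNy, ← hI]
    congr 1
    · rw [show Ny ⊓ Subgroup.centralizer ({a} : Set G) = L ⊓ Subgroup.centralizer ({a} : Set G) from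
        le_antisymm (inf_le_inf_right _ inf_le_left) fun c hc => Subgroup.mem_inf.2
          ⟨Subgroup.mem_inf.2 ⟨hc.1, hEY (Subgroup.mem_inf.2 ⟨h.base.invGen_le hc.1, hc.2⟩)⟩, hc.2⟩]
    · refine Nat.card_congr (Equiv.subtypeEquivRight fun y => ⟨fun ⟨hy, hyi⟩ => ⟨?_, hyi⟩,
        fun ⟨hy, hyi⟩ => ⟨?_, hyi⟩⟩)
      · refine Subgroup.mem_inf.2 ⟨h.base.invGen_le hy.1, Subgroup.mem_centralizer_iff.2 fun u hu => ?_⟩
        exact (commute_of_uniform (orderOf_odd_of_mem hNyodd hy) hyi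
          (fun v hv => conj_mem_of_mem_normalizer hy.2 hv)
          (Or.inl fun v hv => (Subgroup.mem_centralizer_singleton_iff.1 hv.2).symm) u hu).symm
      · exact Subgroup.mem_inf.2 ⟨Subgroup.subset_closure ⟨hy.1, hyi⟩,
          Subgroup.centralizer_le_normalizer _ hy.2⟩
  set d := Nat.card (coreFix t a) with hd
  obtain ⟨w, hw⟩ : d ∣ Nat.card O := Subgroup.card_dvd_of_le inf_le_left
  have hwTN : w = T * N := by
    have h1 := h.base.card_invGen
    rw [← hL, ← hO, ← hd, hw] at h1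
    have h2 : Nat.card Ny * N = Nat.card L := by
      rw [hN, ← Subgroup.relIndex_bot_left Ny, Subgroup.relIndex_mul_relIndex _ _ _ bot_le inf_le_left,
        Subgroup.relIndex_bot_left]
    rw [← h2, hNycard] at h1
    refine Nat.eq_of_mul_eq_mul_left (Nat.card_pos (α := ↥(L ⊓ Subgroup.centralizer ({a} : Set G))))
      (Nat.eq_of_mul_eq_mul_left (Nat.card_pos (α := coreFix t a)) ?_)
    linear_combination h1
  have hTK : T ∣ Nat.card ↥(O ⊓ H) := ⟨_, hc⟩
  have hT0 : T ≠ 0 := (hKodd.of_dvd_nat hTK).pos.ne'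
  -- `l ∣ T`
  have hlT : l ∣ T := by
    by_contra hlT
    have hv : (Nat.card ↥(O ⊓ H)).factorization l ≤
        (Nat.card ↥((O ⊓ H) ⊓ Subgroup.centralizer ({a} : Set G))).factorization l := by
      rw [hEH, show Nat.card ↥(O ⊓ H) = T * Nat.card ↥(coreFix t a ⊓ H) from hc,
        Nat.factorization_mul hT0 Nat.card_pos.ne', Finsupp.add_apply,
        Nat.factorization_eq_zero_of_not_dvd hlT, zero_add]
    have h1 := fixed_invariant hKodd h.base.refl.u_two hOH hv
      (P := Q ⊓ H) (h.pgroup.to_le inf_le_left) (inf_le_inf_right _ h.le_core)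
      (fun y hy => Subgroup.mem_inf.2 ⟨h.invariant y hy.1, mul_mem (mul_mem haH hy.2) (inv_mem haH)⟩)
      (Subgroup.mem_inf.2 ⟨hz, hzH.2⟩)
    rw [← Subgroup.mem_centralizer_singleton_iff.1 h1, mul_inv_cancel_right] at hzi
    exact hz1 (eq_one_of_eq_inv (orderOf_odd_of_mem h.odd hz) hzi)
  -- the parameter
  obtain ⟨K, k, hKk, hsmall, hg⟩ := h.base.numbers h.noConf hDich (w := w) hw
  rw [hwTN] at hKk hg
  have hkT : k.Coprime T := Nat.coprime_of_dvd fun r hr hrk hrT => by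
    haveI := Fact.mk hr
    exact hl.not_dvd hMC (hsmall r hr hrk).1 (hsmall r hr hrk).2 (hrT.trans hTK)
  obtain ⟨N', hN'⟩ : k ∣ N := hkT.dvd_of_dvd_mul_left ⟨K.natAbs, by rw [← hKk, mul_comm]⟩
  have hk0 : k ≠ 0 := by
    rintro rfl
    rw [zero_mul] at hN'
    omega
  have hKabs : K.natAbs = T * N' := Nat.eq_of_mul_eq_mul_right (Nat.pos_of_ne_zero hk0)
    (by rw [hKk, hN']; ring)
  have hlK : (l : ℤ) ∣ K := Int.natCast_dvd.2 (hKabs ▸ hlT.mul_right _)
  -- the Sylow count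
  have hidx := h.centralizer_index hDich hInv hMC hz hz1 hzi
  set C := Subgroup.centralizer ({t} : Set G) with hC
  have hCcard : Nat.card C = 2 ^ n * (d * (T * N)) := by
    rw [hC, card_centralizer_eq h.base.hyp S h.base.refl.t_two h.base.refl.t_mem h.base.refl.central,
      h.base.card, ← hO, hw, hwTN]
  have hindex : (C.index : ℤ) = (k : ℤ) ^ 2 * (2 ^ n * K + 1) * (2 ^ (n - 1) * K + 1) := by
    have h1 : (Nat.card C : ℤ) * C.index = Nat.card G := by exact_mod_cast C.card_mul_index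
    rw [hCcard, hg] at h1
    push_cast at h1
    have h0 : (2 : ℤ) ^ n * ((d : ℤ) * ((T : ℤ) * N)) ≠ 0 := by
      have : 2 ^ n * (d * (T * N)) ≠ 0 := hCcard ▸ Nat.card_pos.ne'
      exact_mod_cast this
    refine mul_left_cancel₀ h0 ?_
    linear_combination h1
  have hk1 : k = 1 := by
    refine eq_one_of_sq h.prime h.ne_two ?_ ⟨N', hN'⟩ hNodd hNb ?_
    · intro hd'
      exact h.base.not_dvd_of_small (hsmall l h.prime hd').2 h.dvd_fix
    · rw [← Int.natCast_modEq_iff] at hidx ⊢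
      rw [hindex] at hidx
      refine Int.ModEq.trans ?_ hidx
      rw [Int.modEq_iff_dvd]
      push_cast
      obtain ⟨j, hj⟩ := hlK
      exact ⟨(k : ℤ) ^ 2 * (2 ^ n * j + 2 ^ (n - 1) * j + 2 ^ n * 2 ^ (n - 1) * j * (l * j)), by
        rw [hj]; ring⟩
  subst hk1
  rw [mul_one] at hKk
  rw [Nat.cast_one, one_pow, mul_one] at hg
  -- `q` divides the three factors
  set X : ℤ := 2 ^ n * K + 1 with hXdef
  set M : ℤ := 2 ^ (n - 1) * K + 1 with hMdef
  have hEnH : coreFix t a ≤ Subgroup.normalizer (H : Set G) :=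
    hEY.trans (normalizer_le_normalizer_centralizer Y)
  obtain ⟨r, hr⟩ := Subgroup.card_subgroup_dvd_card (coreFix t a ⊔ H)
  have hsup := card_sup_mul_card_inf hEnH
  rw [inf_comm, ← hd] at hsup
  have hCH : 2 ^ n * Nat.card ↥(O ⊓ H) ∣ Nat.card ↥(C ⊓ H) := by
    refine ((Nat.coprime_two_left.2 hKodd).pow_left n).mul_dvd_of_dvd_of_dvd ?_
      (Subgroup.card_dvd_of_le (inf_le_inf_right _ (coreC_le t)))
    rw [← h.base.card]
    exact Subgroup.card_dvd_of_le (le_inf
      (fun s hs => Subgroup.mem_centralizer_singleton_iff.2 (h.base.refl.central s hs)) hl.coreBase.sylow_le)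
  obtain ⟨c, hc'⟩ := hCH
  rw [show Nat.card ↥(O ⊓ H) = T * Nat.card ↥(coreFix t a ⊓ H) from hc] at hc'
  have hqdvd : (q : ℤ) ∣ 2 * ((N : ℤ) * X * M) := by
    set e := Nat.card ↥(coreFix t a ⊓ H)
    have hr' : (Nat.card ↥(coreFix t a ⊔ H) : ℤ) * r = Nat.card G := by exact_mod_cast hr.symm
    have hsup' : (Nat.card ↥(coreFix t a ⊔ H) : ℤ) * e = (Nat.card H : ℤ) * d := by exact_mod_cast hsup
    have hc'' : (Nat.card ↥(C ⊓ H) : ℤ) = 2 ^ n * ((T : ℤ) * e) * c := by exact_mod_cast hc'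
    refine ⟨((q : ℤ) + ε) * c * r, ?_⟩
    have h0 : (2 : ℤ) ^ n * ((T : ℤ) * d * e) ≠ 0 := by
      have h1 : 2 ^ n * (T * d * e) ≠ 0 := mul_ne_zero (pow_ne_zero _ two_ne_zero)
        (mul_ne_zero (mul_ne_zero hT0 Nat.card_pos.ne') Nat.card_pos.ne')
      exact_mod_cast h1
    refine mul_left_cancel₀ h0 ?_
    rw [hg] at hr'
    rw [hc''] at hX
    push_cast at hr'
    linear_combination (-2 * (e : ℤ)) * hr' + (2 * (r : ℤ)) * hsup' + ((r : ℤ) * d) * hX
  have hq2 : IsCoprime (q : ℤ) 2 := by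
    rw [hqe]
    obtain ⟨j, hj⟩ : ∃ j : ℤ, (2 : ℤ) ^ n * T = 2 * j :=
      (dvd_pow_self 2 (by have := h.base.three_le; omega)).mul_right _
    rw [hj]
    rcases hε with rfl | rfl
    · exact ⟨1, -j, by ring⟩
    · exact ⟨-1, j, by ring⟩
  have hdiv := hq2.dvd_of_dvd_mul_left hqdvd
  obtain ⟨s, hs, hKs⟩ : ∃ s : ℤ, (s = 1 ∨ s = -1) ∧ K = (T : ℤ) * N * s := by
    rcases Int.natAbs_eq K with e | e
    · exact ⟨1, Or.inl rfl, by rw [e, hKk, mul_one, Nat.cast_mul]⟩
    · exact ⟨-1, Or.inr rfl, by rw [e, hKk, Nat.cast_mul, mul_neg_one]⟩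
  refine propEqualArith n T N l q ε s h.base.three_le hε hs h.prime (h.prime.odd_of_ne_two h.ne_two)
    (hKodd.of_dvd_nat hTK) hNodd hlT hN1 hNb hqe hq hqT ?_
  rw [hXdef, hMdef, hKs] at hdiv
  simpa [mul_assoc] using hdiv

end EqualBlock

/-- Equal nontrivial fixed points are impossible. -/
theorem propEqual (hNo : PropNoConf.{u}) (hDich : PropDichotomy.{u}) (hInv : PropInvariant.{u})
    (hRot : PropRotation.{u}) (hFC : PropFusedCentralizer.{u}) (hCo : PropCoinvariant.{u})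
    (hMS : PropModelSplit.{u}) (hMO : PropModelOne.{u}) (hMC : PropModelCyclic.{u})
    (hSE : ∀ (G : Type u) [Group G] [Finite G], Hyp G → ∀ H : Subgroup G,
      Cfsg.IsStronglyEmbedded H → IsKnownD G) : PropEqual.{u} := by
  intro G _ _ hG S t a b hR hcl h8 heq hE
  by_contra hnk
  haveI : Fact (Nat.Prime 2) := ⟨Nat.prime_two⟩
  obtain ⟨n, hn⟩ : ∃ n, Nat.card (S : Subgroup G) = 2 ^ n := ⟨_, S.card_eq_multiplicity⟩
  have h3 : 3 ≤ n := (Nat.pow_le_pow_iff_right Nat.one_lt_two).1 (show 2 ^ 3 ≤ 2 ^ n by omega)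
  have h : EqualSetting S t a b n := ⟨hG, hnk, hR, hcl, h3, hn, heq, fun H hH => hnk (hSE G hG H hH),
    hRot G hG hnk S t h8 hR.t_mem hR.t_two hR.central⟩
  obtain ⟨l, Q, hB⟩ := h.exists_block hNo hCo hFC hE
  exact hB.false hDich hInv hMC hMS hMO

end Cfsg.Agent.Lib.GorensteinWalter
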