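import Cfsg.Agent.Lib.GorensteinWalter.FusedCentralizer

/-!
# Section C: `PropFusedCentralizer`

The case in which `a` centralises the Sylow `p`-subgroup `R` of `O(C(t))`.
-/

set_option autoImplicit false
set_option linter.unusedSectionVars false
set_option linter.style.haveILetI false

namespace Cfsg.Agent.Lib.GorensteinWalter

open Cfsg.Agent.Lib.Fusion.Dihedral

universe u

variable {G : Type u} [Group G] [Finite G]

/-- The odd elements of an involution centraliser lie in its core. -/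
theorem SylowCD.odd_mem_coreC {X : Type u} [Group X] [Finite X] (h : SylowCD X) {z x : X} (hz : orderOf z = 2)
    (hx : x * z = z * x) (hodd : Odd (orderOf x)) : x ∈ coreC z := by
  set C := Subgroup.centralizer ({z} : Set X) with hC
  have hxC : x ∈ C := Subgroup.mem_centralizer_singleton_iff.2 hx
  have hzC : z ∈ C := Subgroup.mem_centralizer_singleton_iff.2 rfl
  refine ⟨⟨x, hxC⟩, (h.subgroup C).odd_mem_oddCore ?_ (by rwa [Subgroup.orderOf_mk]), rfl⟩
  intro W hW g hg hgodd
  by_contra hne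
  have hzW : (⟨z, hzC⟩ : C) ∈ W := (h.subgroup C).mem_of_commute hW
    (Subtype.ext (show z * z = 1 by rw [← sq, ← hz, pow_orderOf_eq_one]))
    (fun v _ => Subtype.ext (Subgroup.mem_centralizer_singleton_iff.1 v.2))
  have hz1 : (⟨z, hzC⟩ : C) ≠ 1 := fun e => by
    rw [show z = 1 from congrArg Subtype.val e, orderOf_one] at hz
    omega
  obtain ⟨w, hw, hw1, hwz⟩ : ∃ w ∈ W, w ≠ 1 ∧ w ≠ ⟨z, hzC⟩ := by
    by_contra hno
    push Not at hno
    have hs : Function.Surjective (fun i : Bool => if i then (⟨_, hzW⟩ : W) else 1) := fun y => by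
      by_cases hy : (y : C) = 1
      · exact ⟨false, Subtype.ext hy.symm⟩
      · exact ⟨true, Subtype.ext (hno y y.2 hy).symm⟩
    have := Nat.card_le_card_of_surjective _ hs
    rw [hW.1, Nat.card_eq_fintype_card, Fintype.card_bool] at this
    omega
  obtain ⟨k, -, -, hk⟩ := exists_conj_of_odd hW hg hgodd hne hzW hz1 hw hw1
  refine hwz (hk.symm.trans (Subtype.ext ?_))
  show (k : X) * z * (k : X)⁻¹ = z
  rw [Subgroup.mem_centralizer_singleton_iff.1 k.2, mul_inv_cancel_right]

/-- The simple sections of a quotient of a proper subgroup are known. -/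
theorem known_sections_quotient (hG : Hyp G) {H : Subgroup G} (hH : H ≠ ⊤) (M : Subgroup H) [M.Normal]
    (L : Subgroup (H ⧸ M)) (N : Subgroup L) [N.Normal] (hs : IsSimpleGroup (L ⧸ N))
    (hna : ¬ IsMulCommutative (L ⧸ N)) : IsKnownD (L ⧸ N) := by
  let f : H →* H ⧸ M := QuotientGroup.mk' M
  let P : Subgroup G := (L.comap f).map H.subtype
  let φ : P →* L ⧸ N := (QuotientGroup.mk' N).comp ((f.subgroupComap L).comp
    ((L.comap f).equivMapOfInjective H.subtype H.subtype_injective).symm.toMonoidHom)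
  have hφ : Function.Surjective φ := (QuotientGroup.mk'_surjective N).comp
    ((MonoidHom.subgroupComap_surjective_of_surjective f L (QuotientGroup.mk'_surjective M)).comp
      (MulEquiv.surjective _))
  let e := QuotientGroup.quotientKerEquivOfSurjective φ hφ
  refine (hG.proper P (fun h => hH (top_le_iff.1 (h ▸ Subgroup.map_subtype_le _))) φ.ker
    (e.isSimpleGroup_congr.2 hs) (fun h => hna ⟨⟨fun a b => ?_⟩⟩)).congr e
  obtain ⟨a, rfl⟩ := e.surjective a
  obtain ⟨b, rfl⟩ := e.surjective b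
  rw [← map_mul, ← map_mul, h.is_comm.comm a b]

/-- The case of a reflection `b` moving `R ≤ C(a)` without inverting it: `p = 3`. -/
theorem prime_eq_three (hG : Hyp G) (hMS : PropModelSplit.{u}) (hMO : PropModelOne.{u}) {p : ℕ}
    [Fact p.Prime] (hp : p ≠ 2) (hNC : ∀ V H : Subgroup G, ¬ Conf p V H) (S : Sylow 2 G)
    (hS : Nat.card (S : Subgroup G) = 8) {t a b : G} (htS : t ∈ (S : Subgroup G)) (haS : a ∈ (S : Subgroup G))
    (hbS : b ∈ (S : Subgroup G)) (ht : orderOf t = 2) (ha : orderOf a = 2) (hb : orderOf b = 2)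
    (htZ : ∀ s ∈ (S : Subgroup G), s * t = t * s) (hat : a ≠ t) (hbt : b ≠ t)
    (hbab : b * a * b⁻¹ = t * a)
    (hcl : ∀ H : Subgroup G, a ∈ H → b ∈ H → (S : Subgroup G) ≤ H) {R : Subgroup G} (hRp : IsPGroup p R)
    (hR : R ≤ coreC t) (hRcard : Nat.card R = p ^ (Nat.card (coreC t)).factorization p)
    (hRb : ∀ y ∈ R, b * y * b⁻¹ ∈ R) (hRa : R ≤ Subgroup.centralizer ({a} : Set G))
    (hE : R ⊓ Subgroup.centralizer ({b} : Set G) ≠ ⊥)
    (hmov : ¬ R ≤ Subgroup.centralizer ({b} : Set G)) : p = 3 := by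
  classical
  haveI : Fact (Nat.Prime 2) := ⟨Nat.prime_two⟩
  have sq1 : ∀ x : G, orderOf x = 2 → x * x = 1 := fun x hx => by rw [← sq, ← hx, pow_orderOf_eq_one]
  have ne1 : ∀ x : G, orderOf x = 2 → x ≠ 1 := fun x hx e => by rw [e, orderOf_one] at hx; omega
  have htc : t = b * a * b⁻¹ * a⁻¹ := by rw [hbab, mul_inv_cancel_right]
  obtain ⟨Vb, hVb, htVb, hbVb, hVble⟩ := exists_isFour (sq1 t ht) (sq1 b hb) (htZ b hbS).symm (ne1 t ht)
    (ne1 b hb) hbt.symm
  have hVbR : Vb ≤ Subgroup.normalizer (R : Set G) := hVble _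
    (Subgroup.mem_normalizer_fintype fun y hy => by
      rw [SetLike.mem_coe, ← Subgroup.mem_centralizer_singleton_iff.1 (coreC_le t (hR hy)), mul_inv_cancel_right]
      exact hy)
    (Subgroup.mem_normalizer_fintype hRb)
  set E := R ⊓ Subgroup.centralizer ({b} : Set G) with hEdef
  set H := Subgroup.normalizer (E : Set G) with hH
  have hEodd : Odd (Nat.card E) := odd_card_of_pgroup hp (hRp.to_le inf_le_left)
  have hHtop : H ≠ ⊤ := hG.normalizer_ne_top hE (hG.ne_top_of_odd hEodd)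
  have hfb : FusedIn Vb H := (fused_of_moved hG hp hNC hVb htVb hbVb (ne1 t ht) (ne1 b hb) hbt.symm hRp hR
    hRcard hVbR hE hmov).mono (Subgroup.centralizer_le_normalizer _)
  have hSH : (S : Subgroup G) ≤ H := (hcl (Subgroup.centralizer (E : Set G))
    (Subgroup.mem_centralizer_iff.2 fun e he => Subgroup.mem_centralizer_singleton_iff.1 (hRa he.1))
    (Subgroup.mem_centralizer_iff.2 fun e he => Subgroup.mem_centralizer_singleton_iff.1 he.2)).trans
    (Subgroup.centralizer_le_normalizer _)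
  haveI : Group.IsNilpotent R := hRp.isNilpotent
  have hlt : E.subgroupOf R < ⊤ := lt_top_iff_ne_top.2 fun h =>
    hmov ((Subgroup.subgroupOf_eq_top.1 h).trans inf_le_right)
  obtain ⟨z, hzN, hzE⟩ := SetLike.exists_of_lt (Group.normalizerCondition_of_isNilpotent _ hlt)
  have hzH : (z : G) ∈ H := Subgroup.mem_normalizer_fintype fun w hw => Subgroup.mem_subgroupOf.1
    ((Subgroup.mem_normalizer_iff.1 hzN ⟨w, hw.1⟩).1 (Subgroup.mem_subgroupOf.2 hw))
  obtain ⟨y, hy, hy1, hyb⟩ := exists_inverted (K := R ⊓ H) (sq1 b hb)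
    (fun w hw => Subgroup.mem_inf.2 ⟨hRb w hw.1,
      mul_mem (mul_mem (hSH hbS) hw.2) (inv_mem (hSH hbS))⟩)
    (Subgroup.mem_inf.2 ⟨z.2, hzH⟩)
    (fun e => hzE (Subgroup.mem_subgroupOf.2 ⟨z.2, Subgroup.mem_centralizer_singleton_iff.2 e.symm⟩))
  have hyodd : Odd (orderOf y) := orderOf_odd_of_mem (odd_card_of_pgroup hp hRp) hy.1
  have hyt : y * t = t * y := Subgroup.mem_centralizer_singleton_iff.1 (coreC_le t (hR hy.1))
  have hycore : y ∉ coreOf H := not_mem_coreOf_of_inverted hNC hHtop hfb htVb hbVb (ne1 t ht) (ne1 b hb)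
    hbt.symm (hRp.to_le (Subgroup.zpowers_le.2 hy.1)) hyodd hy1 hyt.symm hyb
  -- the quotient
  haveI : (Cfsg.oddCore H).Normal := by unfold Cfsg.oddCore; infer_instance
  let f : H →* H ⧸ Cfsg.oddCore H := QuotientGroup.mk' _
  have hfs : Function.Surjective f := QuotientGroup.mk'_surjective _
  have himg : ∀ w : H, (w : G) ∈ (S : Subgroup G) → f w = 1 → w = 1 := fun w hw h => by
    obtain ⟨k, hk⟩ := S.2 ⟨_, hw⟩
    exact Subtype.ext (orderOf_eq_one_iff.1 (Nat.eq_one_of_dvd_coprimes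
      ((Nat.coprime_two_left.2 (orderOf_odd_of_mem (coreOf_odd H)
        (⟨w, (QuotientGroup.eq_one_iff w).1 h, rfl⟩ : (w : G) ∈ coreOf H))).pow_left k)
      (orderOf_dvd_of_pow_eq_one (congrArg Subtype.val hk)) dvd_rfl))
  set t' : H := ⟨t, hSH htS⟩ with ht'
  set a' : H := ⟨a, hSH haS⟩ with ha'
  set b' : H := ⟨b, hSH hbS⟩ with hb'
  set y' : H := ⟨y, hy.2⟩ with hy'
  have hord : ∀ w : H, (w : G) ∈ (S : Subgroup G) → orderOf (w : G) = 2 → orderOf (f w) = 2 := fun w hw hw2 =>
    orderOf_eq_prime (by rw [← map_pow, show w ^ 2 = 1 from Subtype.ext (by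
      simpa [sq] using sq1 _ hw2), map_one]) fun h => ne1 _ hw2 (congrArg Subtype.val (himg w hw h))
  have fne : ∀ w w' : H, (w : G) ∈ (S : Subgroup G) → (w' : G) ∈ (S : Subgroup G) → f w = f w' → w = w' :=
    fun w w' hw hw' h => mul_inv_eq_one.1 (himg (w * w'⁻¹) (mul_mem hw (inv_mem hw'))
      (by rw [map_mul, map_inv, h, mul_inv_cancel]))
  have hVbS : Vb ≤ (S : Subgroup G) := hVble _ htS hbS
  have hVbH : Vb ≤ H := hfb.2.1
  have hinj : ∀ K : Subgroup G, K ≤ (S : Subgroup G) → K ≤ H →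
      Nat.card ((K.subgroupOf H).map f) = Nat.card K := fun K hKS hKH => by
    rw [show (K.subgroupOf H).map f = (f.comp (K.subgroupOf H).subtype).range by
        rw [MonoidHom.range_comp, Subgroup.range_subtype],
      ← Nat.card_congr (MonoidHom.ofInjective (f := f.comp (K.subgroupOf H).subtype) (fun u v huv =>
        Subtype.ext (fne u v (hKS (Subgroup.mem_subgroupOf.1 u.2)) (hKS (Subgroup.mem_subgroupOf.1 v.2))
          huv))).toEquiv,
      Nat.card_congr (Subgroup.subgroupOfEquivOfLe hKH).toEquiv]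
  have hdX : HasDihedralSylow (H ⧸ Cfsg.oddCore H) := by
    have hcd := (hG.cd.subgroup H).of_surjective f hfs
    have hW4 : IsFour ((Vb.subgroupOf H).map f) := ⟨(hinj Vb hVbS hVbH).trans hVb.1, by
      rintro _ ⟨u, hu, rfl⟩
      rw [← map_mul, show u * u = 1 from Subtype.ext (hVb.2 _ hu), map_one]⟩
    obtain ⟨T, hT⟩ := hW4.isPGroup.exists_le_sylow
    intro T'
    rcases hcd T' with hc | hd
    · exfalso
      haveI := hc
      haveI : IsCyclic (T : Subgroup (H ⧸ Cfsg.oddCore H)) :=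
        isCyclic_of_injective (Sylow.equiv T T').toMonoidHom (MulEquiv.injective _)
      exact not_isCyclic_of_four hW4 (Subgroup.isCyclic_of_le hT)
    · exact hd
  have hcomm : ∀ w : H, (w : G) * t = t * w → f w * f t' = f t' * f w := fun w hw => by
    rw [← map_mul, ← map_mul, show w * t' = t' * w from Subtype.ext hw]
  have hft : orderOf (f t') = 2 := hord t' htS ht
  have hfa : orderOf (f a') = 2 := hord a' haS ha
  have hfb' : orderOf (f b') = 2 := hord b' hbS hb
  have hfbt : f b' * f t' = f t' * f b' := hcomm b' (htZ b hbS)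
  have hfat : f a' * f t' = f t' * f a' := hcomm a' (htZ a haS)
  have hfya : f y' * f a' = f a' * f y' := by
    rw [← map_mul, ← map_mul, show y' * a' = a' * y' from
      Subtype.ext (Subgroup.mem_centralizer_singleton_iff.1 (hRa hy.1))]
  have hfyb : f y' * f b' = f b' * f y' → False := fun h => by
    have h1 : f b' * f y' * (f b')⁻¹ = (f y')⁻¹ := by
      rw [← map_inv, ← map_mul, ← map_mul, ← map_inv, show b' * y' * b'⁻¹ = y'⁻¹ from Subtype.ext hyb]
    rw [← h, mul_inv_cancel_right] at h1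
    have h2 := eq_one_of_eq_inv (Odd.of_dvd_nat hyodd ((orderOf_map_dvd f y').trans
      (by rw [hy', Subgroup.orderOf_mk]))) h1
    exact hycore ⟨y', (QuotientGroup.eq_one_iff y').1 h2, rfl⟩
  have htcl : f t' ∈ Subgroup.closure ({f a', f b'} : Set (H ⧸ Cfsg.oddCore H)) := by
    rw [show t' = b' * a' * b'⁻¹ * a'⁻¹ from Subtype.ext htc, map_mul, map_mul, map_mul, map_inv, map_inv]
    exact mul_mem (mul_mem (mul_mem (Subgroup.subset_closure (Set.mem_insert_of_mem _ rfl))
      (Subgroup.subset_closure (Set.mem_insert _ _)))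
      (inv_mem (Subgroup.subset_closure (Set.mem_insert_of_mem _ rfl))))
      (inv_mem (Subgroup.subset_closure (Set.mem_insert _ _)))
  set S' := ((S : Subgroup G).subgroupOf H).map f with hS'
  have hS'p : IsPGroup 2 S' := (S.2.comap_subtype).map f
  have hclS : Subgroup.closure ({f a', f b'} : Set (H ⧸ Cfsg.oddCore H)) ≤ S' := by
    rw [Subgroup.closure_le]
    rintro w (rfl | rfl)
    · exact ⟨a', haS, rfl⟩
    · exact ⟨b', hbS, rfl⟩
  have hfusb : FusedIn (fourOf (f t') (f b')) ⊤ := by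
    have hW4 : IsFour ((Vb.subgroupOf H).map f) := ⟨(hinj Vb hVbS hVbH).trans hVb.1, by
      rintro _ ⟨u, hu, rfl⟩
      rw [← map_mul, show u * u = 1 from Subtype.ext (hVb.2 _ hu), map_one]⟩
    rw [fourOf_eq hW4 ⟨t', htVb, rfl⟩ ⟨b', hbVb, rfl⟩ (fun e => by rw [e, orderOf_one] at hft; omega)
      (fun e => by rw [e, orderOf_one] at hfb'; omega)
      (fun e => hbt.symm (congrArg Subtype.val (fne t' b' htS hbS e)))]
    refine ⟨hW4, le_top, ?_⟩
    rintro _ ⟨v, hv, rfl⟩ hv1 _ ⟨w, hw, rfl⟩ hw1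
    obtain ⟨g, hg, hgN, hgv⟩ := hfb.2.2 v hv (fun e => hv1 (by rw [show v = 1 from Subtype.ext e, map_one]))
      w hw (fun e => hw1 (by rw [show w = 1 from Subtype.ext e, map_one]))
    refine ⟨f ⟨g, hg⟩, trivial, Subgroup.le_normalizer_map f ⟨⟨g, hg⟩, ?_, rfl⟩, ?_⟩
    · exact Subgroup.mem_normalizer_fintype fun u hu =>
        Subgroup.mem_subgroupOf.2 (conj_mem_of_mem_normalizer hgN (Subgroup.mem_subgroupOf.1 hu))
    · rw [← map_inv, ← map_mul, ← map_mul]
      exact congrArg f (Subtype.ext hgv)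
  by_cases hfusa : FusedIn (fourOf (f t') (f a')) ⊤
  · -- both four-groups fused
    have hS'card : Nat.card S' = 2 ^ 3 := (hinj _ le_rfl hSH).trans hS
    have hfac : (Nat.card (H ⧸ Cfsg.oddCore H)).factorization 2 = 3 := by
      refine le_antisymm ?_ ((Nat.prime_two.pow_dvd_iff_le_factorization Nat.card_pos.ne').1
        (hS'card ▸ Subgroup.card_subgroup_dvd_card S'))
      have h1 := (Nat.factorization_le_iff_dvd Nat.card_pos.ne' Nat.card_pos.ne').2
        ((Subgroup.card_quotient_dvd_card (Cfsg.oddCore H)).trans (Subgroup.card_subgroup_dvd_card H)) 2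
      refine h1.trans (le_of_eq (Nat.pow_right_injective (le_refl 2) ?_))
      show 2 ^ (Nat.card G).factorization 2 = 2 ^ 3
      rw [← S.card_eq_multiplicity]
      exact hS
    let T : Sylow 2 (H ⧸ Cfsg.oddCore H) := Sylow.ofCard S' (by rw [hS'card, hfac])
    have hT : (T : Subgroup (H ⧸ Cfsg.oddCore H)) = S' := Sylow.coe_ofCard _ _
    have hmem : ∀ w : H, (w : G) ∈ (S : Subgroup G) → f w ∈ (T : Subgroup (H ⧸ Cfsg.oddCore H)) :=
      fun w hw => hT.symm ▸ ⟨w, hw, rfl⟩
    have hcentral : ∀ s ∈ (T : Subgroup (H ⧸ Cfsg.oddCore H)), s * f t' = f t' * s := by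
      rw [hT]
      rintro _ ⟨s, hs, rfl⟩
      exact hcomm s (htZ _ hs)
    have hgen : Subgroup.closure ({f a', f b'} : Set (H ⧸ Cfsg.oddCore H)) =
        (T : Subgroup (H ⧸ Cfsg.oddCore H)) := by
      refine le_antisymm (hT.symm ▸ hclS) ?_
      rw [hT]
      rintro _ ⟨s, hs, rfl⟩
      have h1 := hcl (((Subgroup.closure ({f a', f b'} : Set (H ⧸ Cfsg.oddCore H))).comap f).map H.subtype)
        ⟨a', Subgroup.subset_closure (Set.mem_insert _ _), rfl⟩
        ⟨b', Subgroup.subset_closure (Set.mem_insert_of_mem _ rfl), rfl⟩ hs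
      obtain ⟨s₀, hs₀, hss⟩ := h1
      rwa [show s₀ = s from Subtype.ext hss] at hs₀
    have hnon : fourOf (f t') (f a') ≠ fourOf (f t') (f b') := by
      intro e
      have h1 : f b' * f a' = f a' * f b' := by
        have hW : IsMulCommutative (fourOf (f t') (f a')) := ⟨⟨fun u v => Subtype.ext
          (hfusa.1.comm u.2 v.2)⟩⟩
        exact congrArg Subtype.val (hW.is_comm.comm ⟨f b', e ▸ Subgroup.subset_closure
          (Set.mem_insert_of_mem _ rfl)⟩ ⟨f a', Subgroup.subset_closure (Set.mem_insert_of_mem _ rfl)⟩)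
      rw [← map_mul, ← map_mul] at h1
      have h2 : b * a = a * b := congrArg Subtype.val
        (fne (b' * a') (a' * b') (mul_mem hbS haS) (mul_mem haS hbS) h1)
      rw [h2, mul_inv_cancel_right] at hbab
      exact ne1 t ht (mul_eq_right.1 hbab.symm)
    have hRefl : Refl T (f t') (f a') (f b') :=
      ⟨hmem t' htS, hmem a' haS, hmem b' hbS, hft, hfa, hfb', hcentral,
        fun e => hat (congrArg Subtype.val (fne a' t' haS htS e)),
        fun e => hbt (congrArg Subtype.val (fne b' t' hbS htS e)), hnon, htcl⟩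
    rcases hMO (H ⧸ Cfsg.oddCore H) T (f t') (f a') (f b') 3 (Cores.pPrimeCore_quotient_pPrimeCore 2) hdX
      (fun L N _ hs hna => known_sections_quotient hG hHtop _ L N hs hna) le_rfl (by rw [hT, hS'card]) hRefl
      hgen hfusa hfusb with ⟨hrot, -⟩ | ⟨-, -, hc3, -⟩
    · exfalso
      have h1 := hrot (f y') (hcomm y' hyt) (Odd.of_dvd_nat hyodd ((orderOf_map_dvd f y').trans
        (by rw [hy', Subgroup.orderOf_mk])))
      refine hfyb (mul_left_cancel (a := f a') ?_)
      rw [← mul_assoc, ← hfya, mul_assoc, h1, mul_assoc]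
    · have hyC : f y' ∈ coreC (f t') := hdX.sylowCD.odd_mem_coreC hft (hcomm y' hyt)
        (Odd.of_dvd_nat hyodd ((orderOf_map_dvd f y').trans (by rw [hy', Subgroup.orderOf_mk])))
      have h3 : orderOf (f y') ∣ 3 := hc3 ▸ Subgroup.orderOf_dvd_natCard _ hyC
      rcases (Nat.dvd_prime Nat.prime_three).1 h3 with h | h
      · exact absurd ⟨y', (QuotientGroup.eq_one_iff y').1 (orderOf_eq_one_iff.1 h), rfl⟩ hycore
      · obtain ⟨k, hk⟩ := hRp.exists_card_eq
        have h4 : 3 ∣ p ^ k := by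
          rw [← hk, ← h]
          exact ((orderOf_map_dvd f y').trans (by rw [hy', Subgroup.orderOf_mk])).trans
            (Subgroup.orderOf_dvd_natCard R hy.1)
        exact ((Nat.prime_dvd_prime_iff_eq Nat.prime_three Fact.out).1 (Nat.prime_three.dvd_of_dvd_pow h4)).symm
  · exfalso
    obtain ⟨hsplit, -⟩ := hMS (H ⧸ Cfsg.oddCore H) (f t') (f b') (f a')
      (Cores.pPrimeCore_quotient_pPrimeCore 2) hdX
      (fun L N _ hs hna => known_sections_quotient hG hHtop _ L N hs hna) hft hfb' hfa hfbt hfat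
      (by rw [Set.pair_comm]; exact hS'p.to_le hclS) (by rw [Set.pair_comm]; exact htcl) hfusb
      (fun e => hat (congrArg Subtype.val (fne a' t' haS htS e))) hfusa
    exact hfyb (hsplit (f y') (hcomm y' hyt)
      (Odd.of_dvd_nat hyodd ((orderOf_map_dvd f y').trans (by rw [hy', Subgroup.orderOf_mk]))) hfya)

/-- Section C: fused centralisers. -/
theorem propFusedCentralizer (hMS : PropModelSplit.{u}) (hMO : PropModelOne.{u}) :
    PropFusedCentralizer.{u} := by
  intro G _ _ hG h8 p _ hp hNC V Y hV hYp hYne hYV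
  classical
  haveI : Fact (Nat.Prime 2) := ⟨Nat.prime_two⟩
  have hYD : Y ≤ coreV V := hG.le_coreV hV hYV (odd_card_of_pgroup hp hYp)
  obtain ⟨S, hVS⟩ := hV.isPGroup.exists_le_sylow
  obtain ⟨t, htS, hto, htZ⟩ := exists_central_involution S.2 fun e => hV.ne_bot (le_bot_iff.1 (e ▸ hVS))
  have htt : t * t = 1 := by rw [← sq, ← hto, pow_orderOf_eq_one]
  have ht1 : t ≠ 1 := fun e => by rw [e, orderOf_one] at hto; omega
  have htV : t ∈ V := hG.cd.mem_four_of_central hV hVS htt htZ
  obtain ⟨a, haV, ha1, hat⟩ : ∃ a ∈ V, a ≠ 1 ∧ a ≠ t := by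
    by_contra hno
    push Not at hno
    have hs : Function.Surjective (fun i : Bool => if i then (⟨t, htV⟩ : V) else 1) := fun x => by
      by_cases hx : (x : G) = 1
      · exact ⟨false, Subtype.ext hx.symm⟩
      · exact ⟨true, Subtype.ext (hno x x.2 hx).symm⟩
    have := Nat.card_le_card_of_surjective _ hs
    rw [hV.1, Nat.card_eq_fintype_card, Fintype.card_bool] at this
    omega
  have haS : a ∈ (S : Subgroup G) := hVS haV
  have hao : orderOf a = 2 := hV.orderOf_eq haV ha1
  have haa : a * a = 1 := hV.2 a haV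
  set O := coreC t with hOdef
  have hSO : (S : Subgroup G) ≤ Subgroup.normalizer (O : Set G) := fun s hs =>
    centralizer_le_normalizer_coreC t (Subgroup.mem_centralizer_singleton_iff.2 (htZ s hs))
  obtain ⟨k₂, hk₂⟩ := S.2.exists_card_eq
  have hcop : (Nat.card (S : Subgroup G)).Coprime (Nat.card O) := by
    rw [hk₂]; exact (Nat.coprime_two_left.2 (coreC_odd t)).pow_left k₂
  obtain ⟨R₀, hSR⟩ := Coprime.exists_invariant_sylow hSO hcop (Or.inr (isSolvable_coreC t)) p
  set R := (R₀ : Subgroup O).map O.subtype with hRdef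
  have hRp : IsPGroup p R := R₀.2.map _
  have hR : R ≤ O := Subgroup.map_subtype_le _
  have hRcard : Nat.card R = p ^ (Nat.card O).factorization p := Coprime.card_sylow_map R₀
  have hVR : V ≤ Subgroup.normalizer (R : Set G) := hVS.trans hSR
  obtain ⟨c, hc, hcY⟩ := exists_conj_le_fixed hG hV htV haV ht1 ha1 hat.symm hRp hR hRcard hVR hYp hYD
  set X := R ⊓ Subgroup.centralizer ({a} : Set G) with hX
  have hXne : X ≠ ⊥ := by
    obtain ⟨y, hy, hy1⟩ := Y.bot_or_exists_ne_one.resolve_left hYne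
    intro e
    have h1 := hcY y hy
    rw [e, Subgroup.mem_bot, conj_eq_one_iff] at h1
    exact hy1 h1
  suffices h : FusedIn V (Subgroup.centralizer (X : Set G)) ∨ Exception p V by
    refine h.imp_left fun hf => hf.of_conj hc fun x hx => Subgroup.mem_centralizer_iff.2 fun y hy => ?_
    have h1 := Subgroup.mem_centralizer_iff.1 hx _ (hcY y hy)
    calc y * (c⁻¹ * x * c) = c⁻¹ * (c * y * c⁻¹ * x) * c := by group
      _ = c⁻¹ * x * c * y := by rw [h1]; group
  by_cases hmov : R ≤ Subgroup.centralizer ({a} : Set G)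
  swap
  · exact Or.inl (fused_of_moved hG hp hNC hV htV haV ht1 ha1 hat.symm hRp hR hRcard hVR hXne hmov)
  have hXR : X = R := inf_eq_left.2 hmov
  rw [hXR] at hXne ⊢
  have hRD : R ≤ coreV V := by
    rw [← hG.coreC_inf_eq hV htV ht1 haV ha1 hat.symm]
    exact le_inf hR hmov
  set C := Subgroup.centralizer (R : Set G) with hCdef
  set H := Subgroup.normalizer (R : Set G) with hHdef
  have hVC : V ≤ C := fun v hv => Subgroup.mem_centralizer_iff.2 fun x hx =>
    (Subgroup.mem_centralizer_iff.1 (coreV_le V (hRD hx)) v hv).symm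
  have hfH : FusedIn V H := by
    have h := fusedIn_normalizer_fixed hG hV htV haV ht1 ha1 hat.symm hRp hR hRcard hVR
    rwa [← hX, hXR] at h
  have hCH : C ≤ H := Subgroup.centralizer_le_normalizer _
  have hHC : H ≤ Subgroup.normalizer (C : Set G) := normalizer_le_normalizer_centralizer R
  rcases fused_normal_or_minimal hG hfH hVC hCH hHC with h | hmin
  · exact Or.inl h
  by_cases hfC : FusedIn V C
  · exact Or.inl hfC
  right
  have hSC : (S : Subgroup G) ⊓ C = V :=
    hmin _ (S.2.to_le inf_le_left) (le_inf hVS hVC) inf_le_right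
  have hVn : ∀ s ∈ (S : Subgroup G), s ∈ Subgroup.normalizer (V : Set G) := fun s hs =>
    Subgroup.mem_normalizer_fintype fun v hv => by
      rw [SetLike.mem_coe, ← hSC]
      exact Subgroup.mem_inf.2 ⟨mul_mem (mul_mem hs (hVS hv)) (inv_mem hs),
        conj_mem_of_mem_normalizer (hHC (hSR hs)) (hVC hv)⟩
  have hfix : ∀ u ∈ (S : Subgroup G), u * a * u⁻¹ = a → u ∈ V := fun u hu h =>
    hG.cd.mem_four hV (C := (S : Subgroup G) ⊓ Subgroup.centralizer (V : Set G)) (S.2.to_le inf_le_left)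
      (le_inf hVS hV.le_centralizer_self) inf_le_right (Subgroup.mem_inf.2 ⟨hu, by
        rw [← hV.centralizer_pair htV haV ht1 ha1 hat.symm, Subgroup.mem_centralizer_iff]
        rintro y (rfl | rfl)
        · exact (htZ u hu).symm
        · calc y * u = u * y * u⁻¹ * u := by rw [h]
            _ = u * y := by group⟩)
  have hsw : ∀ u ∈ (S : Subgroup G), u ∉ V → u * a * u⁻¹ = t * a := fun u hu huV => by
    rcases four_cases hV htV haV ht1 ha1 hat.symm (conj_mem_of_mem_normalizer (hVn u hu) haV) with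
      h | h | h | h
    · exact absurd (conj_eq_one_iff.1 h) ha1
    · have h1 : u * t * u⁻¹ = t := by rw [htZ u hu, mul_inv_cancel_right]
      exact absurd (mul_left_cancel (mul_right_cancel (h.trans h1.symm))) hat
    · exact absurd (hfix u hu h) huV
    · exact h
  obtain ⟨u, huS, huV⟩ : ∃ u ∈ (S : Subgroup G), u ∉ V := by
    by_contra hno
    push Not at hno
    have := Subgroup.card_le_of_le (show (S : Subgroup G) ≤ V from hno)
    rw [hV.1] at this
    have := h8 S
    omega
  have hdich : ∀ s ∈ (S : Subgroup G), s ∈ V ∨ u⁻¹ * s ∈ V := fun s hs => by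
    by_cases hsV : s ∈ V
    · exact Or.inl hsV
    refine Or.inr (hfix _ (mul_mem (inv_mem huS) hs) ?_)
    rw [show u⁻¹ * s * a * (u⁻¹ * s)⁻¹ = u⁻¹ * (s * a * s⁻¹) * u by group, hsw s hs hsV, ← hsw u huS huV]
    group
  have hS8 : ∀ T : Sylow 2 G, Nat.card (T : Subgroup G) = 8 := fun T => by
    rw [T.card_eq_multiplicity, ← S.card_eq_multiplicity]
    refine le_antisymm ?_ (h8 S)
    have hs : Function.Surjective (fun q : Bool × V => (if q.1 then
        (⟨u * q.2, mul_mem huS (hVS q.2.2)⟩ : (S : Subgroup G)) else ⟨q.2, hVS q.2.2⟩)) := fun s => by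
      rcases hdich s s.2 with h | h
      · exact ⟨(false, ⟨s, h⟩), Subtype.ext rfl⟩
      · exact ⟨(true, ⟨_, h⟩), Subtype.ext (mul_inv_cancel_left u s)⟩
    have := Nat.card_le_card_of_surjective _ hs
    rwa [Nat.card_prod, hV.1, Nat.card_eq_fintype_card (α := Bool), Fintype.card_bool] at this
  -- an involution outside `V`
  obtain ⟨b, hbS, hbV, hbb⟩ : ∃ b ∈ (S : Subgroup G), b ∉ V ∧ b * b = 1 := by
    by_cases huu : u * u = 1
    · exact ⟨u, huS, huV, huu⟩
    refine ⟨u * a, mul_mem huS haS, fun h => huV (by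
      have := mul_mem h (inv_mem haV)
      rwa [mul_inv_cancel_right] at this), ?_⟩
    have h1 : u * u ∈ V := by
      refine hfix _ (mul_mem huS huS) ?_
      calc u * u * a * (u * u)⁻¹ = u * (u * a * u⁻¹) * u⁻¹ := by group
        _ = u * (t * a) * u⁻¹ := by rw [hsw u huS huV]
        _ = (u * t * u⁻¹) * (u * a * u⁻¹) := by group
        _ = a := by rw [hsw u huS huV, htZ u huS, mul_inv_cancel_right, ← mul_assoc, htt, one_mul]
    have h2 : u * u = t := by
      rcases four_cases hV htV haV ht1 ha1 hat.symm h1 with h | h | h | h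
      · exact absurd h huu
      · exact h
      · exfalso
        refine huV (hfix u huS ?_)
        rw [← h]; group
      · exfalso
        refine huV (hfix u huS ?_)
        have h3 : u * (t * a) * u⁻¹ = t * a := by rw [← h]; group
        have h4 : u * (t * a) * u⁻¹ = t * (u * a * u⁻¹) := by
          rw [show u * (t * a) * u⁻¹ = (u * t * u⁻¹) * (u * a * u⁻¹) by group, htZ u huS, mul_inv_cancel_right]
        exact mul_left_cancel (h4.symm.trans h3)
    calc u * a * (u * a) = (u * a * u⁻¹) * (u * u) * a := by group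
      _ = t * a * t * a := by rw [hsw u huS huV, h2]
      _ = t * (a * t) * a := by group
      _ = 1 := by rw [htZ a haS, ← mul_assoc, htt, one_mul, haa]
  have hb1 : b ≠ 1 := fun e => hbV (e ▸ one_mem V)
  have hbo : orderOf b = 2 := orderOf_eq_prime (by rw [sq, hbb]) hb1
  have hbt : b ≠ t := fun e => hbV (e ▸ htV)
  have hbab : b * a * b⁻¹ = t * a := hsw b hbS hbV
  have hcl : ∀ K : Subgroup G, a ∈ K → b ∈ K → (S : Subgroup G) ≤ K := fun K haK hbK s hs => by
    have htK : t ∈ K := by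
      rw [show t = b * a * b⁻¹ * a⁻¹ by rw [hbab, mul_inv_cancel_right]]
      exact mul_mem (mul_mem (mul_mem hbK haK) (inv_mem hbK)) (inv_mem haK)
    have hVK : V ≤ K := hV.eq_of_mem htV haV ht1 ha1 hat.symm htK haK
    by_cases hsV : s ∈ V
    · exact hVK hsV
    have h1 : b⁻¹ * s ∈ V := by
      refine hfix _ (mul_mem (inv_mem hbS) hs) ?_
      rw [show b⁻¹ * s * a * (b⁻¹ * s)⁻¹ = b⁻¹ * (s * a * s⁻¹) * b by group, hsw s hs hsV, ← hbab]
      group
    have h2 := mul_mem hbK (hVK h1)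
    rwa [mul_inv_cancel_left] at h2
  have hRb : ∀ y ∈ R, b * y * b⁻¹ ∈ R := fun y hy => conj_mem_of_mem_normalizer (hSR hbS) hy
  have hRnb : ¬ R ≤ Subgroup.centralizer ({b} : Set G) := fun h => hbV (by
    rw [← hSC]
    exact Subgroup.mem_inf.2 ⟨hbS, Subgroup.mem_centralizer_iff.2 fun y hy =>
      Subgroup.mem_centralizer_singleton_iff.1 (h hy)⟩)
  by_cases hE : R ⊓ Subgroup.centralizer ({b} : Set G) = ⊥
  · -- `b` inverts `R`, so a commutator fuses `V` in `C(R)`
    exfalso
    refine hfC ?_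
    have hinv := inverts_of_fixed_bot (odd_card_of_pgroup hp hRp) hbb hRb fun y hy hyb => by
      have h1 : y ∈ R ⊓ Subgroup.centralizer ({b} : Set G) :=
        Subgroup.mem_inf.2 ⟨hy, Subgroup.mem_centralizer_singleton_iff.2 hyb.symm⟩
      rwa [hE, Subgroup.mem_bot] at h1
    obtain ⟨g, hg, hgN, hgt⟩ := hfH.2.2 t htV ht1 a haV ha1
    have hbN : b ∈ Subgroup.normalizer (V : Set G) := hVn b hbS
    have hbt' : b * t * b⁻¹ = t := by rw [htZ b hbS, mul_inv_cancel_right]
    obtain ⟨x, hxH, hxN, hxt, hxa⟩ : ∃ x ∈ H, x ∈ Subgroup.normalizer (V : Set G) ∧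
        x * t * x⁻¹ = a ∧ x * a * x⁻¹ = t * a := by
      rcases four_cases hV htV haV ht1 ha1 hat.symm (conj_mem_of_mem_normalizer hgN haV) with h | h | h | h
      · exact absurd (conj_eq_one_iff.1 h) ha1
      · refine ⟨(b * g)⁻¹, inv_mem (mul_mem (hSR hbS) hg), inv_mem (mul_mem hbN hgN), ?_, ?_⟩
        · have h1 : b * g * a * (b * g)⁻¹ = t := by
            rw [show b * g * a * (b * g)⁻¹ = b * (g * a * g⁻¹) * b⁻¹ by group, h, hbt']
          rw [← h1]; group
        · have h1 : b * g * (t * a) * (b * g)⁻¹ = a := by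
            rw [show b * g * (t * a) * (b * g)⁻¹ = b * (g * t * g⁻¹ * (g * a * g⁻¹)) * b⁻¹ by group, hgt, h,
              show b * (a * t) * b⁻¹ = b * a * b⁻¹ * (b * t * b⁻¹) by group, hbab, hbt', mul_assoc, htZ a haS,
              ← mul_assoc, htt, one_mul]
          calc (b * g)⁻¹ * a * (b * g)⁻¹⁻¹ = (b * g)⁻¹ * (b * g * (t * a) * (b * g)⁻¹) * (b * g)⁻¹⁻¹ := by
                rw [h1]
            _ = t * a := by group
      · exact absurd (mul_left_cancel (mul_right_cancel (h.trans hgt.symm))) hat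
      · exact ⟨g, hg, hgN, hgt, h⟩
    have hbi : b⁻¹ = b := inv_eq_of_mul_eq_one_right hbb
    set d := b * x * b⁻¹ * x⁻¹ with hd
    have hdC : d ∈ C := by
      rw [hCdef, Subgroup.mem_centralizer_iff]
      intro z hz
      have hz1 : x⁻¹ * z * x ∈ R := (Subgroup.mem_normalizer_iff''.1 hxH z).1 hz
      have h2 : d * z * d⁻¹ = z := by
        have e1 : b⁻¹ * (x⁻¹ * z * x) * b = (x⁻¹ * z * x)⁻¹ := by
          have := hinv _ hz1
          rw [hbi] at this ⊢
          exact this
        calc d * z * d⁻¹ = b * (x * (b⁻¹ * (x⁻¹ * z * x) * b) * x⁻¹) * b⁻¹ := by rw [hd]; group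
          _ = b * z⁻¹ * b⁻¹ := by rw [e1]; group
          _ = z := by rw [hinv z⁻¹ (inv_mem hz), inv_inv]
      calc z * d = d * z * d⁻¹ * d := by rw [h2]
        _ = d * z := by group
    have hdN : d ∈ Subgroup.normalizer (V : Set G) :=
      mul_mem (mul_mem (mul_mem hbN hxN) (inv_mem hbN)) (inv_mem hxN)
    have hxta : x * (t * a) * x⁻¹ = t := by
      rw [show x * (t * a) * x⁻¹ = x * t * x⁻¹ * (x * a * x⁻¹) by group, hxt, hxa, ← mul_assoc, htZ a haS,
        mul_assoc, haa, mul_one]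
    have hbta : b * (t * a) * b⁻¹ = a := by
      rw [show b * (t * a) * b⁻¹ = b * t * b⁻¹ * (b * a * b⁻¹) by group, hbt', hbab, ← mul_assoc, htt, one_mul]
    have hdt : d * t * d⁻¹ = a := by
      calc d * t * d⁻¹ = b * (x * (b⁻¹ * (x⁻¹ * (x * (t * a) * x⁻¹) * x) * b) * x⁻¹) * b⁻¹ := by
            rw [hxta, hd]; group
        _ = b * (x * (b⁻¹ * (b * (b⁻¹ * (t * a) * b) * b⁻¹) * b) * x⁻¹) * b⁻¹ := by group
        _ = b * (x * a * x⁻¹) * b⁻¹ := by
            rw [show b⁻¹ * (t * a) * b = a by rw [hbi]; rw [hbi] at hbta; exact hbta]; group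
        _ = a := by rw [hxa, hbta]
    have hda : d * a * d⁻¹ = t * a := by
      calc d * a * d⁻¹ = b * (x * (b⁻¹ * (x⁻¹ * (x * t * x⁻¹) * x) * b) * x⁻¹) * b⁻¹ := by
            rw [hxt, hd]; group
        _ = b * (x * t * x⁻¹) * b⁻¹ := by
            rw [show b⁻¹ * (x⁻¹ * (x * t * x⁻¹) * x) * b = t by
              rw [show b⁻¹ * (x⁻¹ * (x * t * x⁻¹) * x) * b = b⁻¹ * t * b by group, hbi]
              rw [hbi] at hbt'
              exact hbt']
        _ = t * a := by rw [hxt, hbab]
    refine fusedIn_of_reach hV hVC htV haV ht1 ha1 hat.symm ⟨d * d, mul_mem hdC hdC, mul_mem hdN hdN, ?_⟩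
      ⟨d, hdC, hdN, hda⟩
    rw [show d * d * a * (d * d)⁻¹ = d * (d * a * d⁻¹) * d⁻¹ by group, hda,
      show d * (t * a) * d⁻¹ = d * t * d⁻¹ * (d * a * d⁻¹) by group, hdt, hda, ← mul_assoc, htZ a haS,
      mul_assoc, haa, mul_one]
  -- the exception
  have hp3 : p = 3 := prime_eq_three hG hMS hMO hp hNC S (hS8 S) htS haS hbS hto hao hbo htZ hat hbt hbab hcl
    hRp hR hRcard hRb hmov hE hRnb
  refine ⟨hp3, hS8, fun v hv hv1 => ?_⟩
  obtain ⟨x, -, hxN, hxv⟩ := (hG.fusedIn_top hV).2.2 t htV ht1 v hv hv1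
  have hcard : Nat.card (coreC v) = Nat.card (coreC t) := by
    refine le_antisymm ?_ ?_
    · rw [← Subgroup.card_map_of_injective (K := coreC v) (f := (MulAut.conj x⁻¹).toMonoidHom)
        (MulAut.conj x⁻¹).injective]
      refine Subgroup.card_le_of_le ?_
      rintro _ ⟨y, hy, rfl⟩
      have h1 := hG.coreC_conj (hV.orderOf_eq hv hv1) x⁻¹ hy
      rwa [show x⁻¹ * v * x⁻¹⁻¹ = t by rw [← hxv]; group] at h1
    · rw [← Subgroup.card_map_of_injective (K := coreC t) (f := (MulAut.conj x).toMonoidHom)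
        (MulAut.conj x).injective]
      refine Subgroup.card_le_of_le ?_
      rintro _ ⟨y, hy, rfl⟩
      exact hxv ▸ hG.coreC_conj hto x hy
  obtain ⟨Vb, hVb, htVb, hbVb, -⟩ := exists_isFour htt hbb (htZ b hbS).symm ht1 hb1 hbt.symm
  refine ⟨?_, Vb.map (MulAut.conj x).toMonoidHom, hVb.map x, ⟨t, htVb, hxv⟩, fun e => hbV ?_, ?_⟩
  · subst hp3
    rw [hcard]
    refine le_antisymm ?_ ((Nat.factorization_le_iff_dvd Nat.card_pos.ne' Nat.card_pos.ne').2
      (Subgroup.card_dvd_of_le ((hG.coreV_eq hV htV ht1).le.trans inf_le_left)) 3)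
    exact (Nat.prime_three.pow_dvd_iff_le_factorization Nat.card_pos.ne').1
      (hRcard ▸ Subgroup.card_dvd_of_le hRD)
  · have h1 : x * b * x⁻¹ ∈ V := e ▸ ⟨b, hbVb, rfl⟩
    have h2 := (Subgroup.mem_normalizer_iff.1 hxN b).2 h1
    exact h2
  · set E := R ⊓ Subgroup.centralizer ({b} : Set G) with hEdef
    have hle : E.map (MulAut.conj x).toMonoidHom ≤
        coreV V ⊓ Subgroup.centralizer ((Vb.map (MulAut.conj x).toMonoidHom : Subgroup G) : Set G) := by
      rintro _ ⟨y, hy, rfl⟩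
      refine Subgroup.mem_inf.2 ⟨hG.mem_coreV hV (Subgroup.mem_centralizer_iff.2 fun w hw => ?_) ?_,
        Subgroup.mem_centralizer_iff.2 ?_⟩
      · have h1 := Subgroup.mem_centralizer_iff.1 (coreV_le V (hRD hy.1)) _
          ((Subgroup.mem_normalizer_iff''.1 hxN w).1 hw)
        simp only [MulEquiv.coe_toMonoidHom, MulAut.conj_apply]
        calc w * (x * y * x⁻¹) = x * (x⁻¹ * w * x * y) * x⁻¹ := by group
          _ = x * y * x⁻¹ * w := by rw [h1]; group
      · show Odd (orderOf ((MulAut.conj x) y))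
        rw [MulEquiv.orderOf_eq]
        exact orderOf_odd_of_mem (odd_card_of_pgroup hp hRp) hy.1
      · rintro _ ⟨w, hw, rfl⟩
        rw [← map_mul, ← map_mul]
        congr 1
        have h1 : y ∈ Subgroup.centralizer (Vb : Set G) := by
          rw [← hVb.centralizer_pair htVb hbVb ht1 hb1 hbt.symm, Subgroup.mem_centralizer_iff]
          rintro z (rfl | rfl)
          · exact (Subgroup.mem_centralizer_singleton_iff.1 (coreC_le z (hR hy.1))).symm
          · exact (Subgroup.mem_centralizer_singleton_iff.1 hy.2).symm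
        exact Subgroup.mem_centralizer_iff.1 h1 w hw
    refine dvd_trans ?_ (Subgroup.card_dvd_of_le hle)
    rw [Subgroup.card_map_of_injective (MulAut.conj x).injective]
    obtain ⟨j, hj⟩ := (hRp.to_le (inf_le_left : E ≤ R)).exists_card_eq
    rw [hj, hp3]
    refine dvd_pow_self 3 fun h0 => hE ?_
    rw [h0, pow_zero] at hj
    exact Subgroup.card_eq_one.1 hj

end Cfsg.Agent.Lib.GorensteinWalter
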