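import Cfsg.Agent.Lib.GorensteinWalter.ModelsC.PSLOne
import Cfsg.Agent.Lib.GorensteinWalter.ModelsC.Alt
import Cfsg.Agent.Lib.PEmbRankOne.Dihedral
import Cfsg.Agent.Lib.GorensteinWalter.TrivialCores

/-!
# Section C: the models

`propModelSplit` and `propModelOne`.
-/

set_option autoImplicit false
set_option linter.unusedSectionVars false
set_option linter.style.haveILetI false

universe u

namespace Cfsg.Agent.Lib.GorensteinWalter

open Cfsg.Agent.Lib.Fusion.Dihedral ModelsC

namespace ModelsC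

variable {X : Type u} [Group X] [Finite X]

theorem fused_le_four {N V : Subgroup X} (hN : N.Normal) (hN4 : IsFour N) (hCD : SylowCD X) (hV : FusedIn V ⊤) : V = N := by
  haveI := hN
  haveI : Fact (Nat.Prime 2) := ⟨Nat.prime_two⟩
  -- an involution of `V` inside `N` drags `V` into it
  by_cases hint : ∃ z ∈ V, z ≠ 1 ∧ z ∈ N
  · obtain ⟨z, hz, hz1, hzN⟩ := hint
    refine Subgroup.eq_of_le_of_card_ge (fun w hw => ?_) (le_of_eq (hN4.1.trans hV.1.1.symm))
    by_cases hw1 : w = 1
    · exact hw1 ▸ one_mem N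
    obtain ⟨g, -, -, hg⟩ := hV.2.2 z hz hz1 w hw hw1
    exact hg ▸ hN.conj_mem z hzN g
  · exfalso
    push Not at hint
    -- `V` embeds into the automorphisms of `N`
    have hp : IsPGroup 2 ↥(N ⊔ V) := IsPGroup.to_sup_of_normal_left hN4.isPGroup hV.1.isPGroup
    obtain ⟨z, hzP, hz2, hzc⟩ := exists_central_involution hp
      (fun e => hV.1.ne_bot (le_bot_iff.1 (e ▸ le_sup_right)))
    have hzN := hCD.mem_four_of_central hN4 le_sup_left (sq_eq hz2) hzc
    have hzV := hCD.mem_four_of_central hV.1 le_sup_right (sq_eq hz2) hzc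
    exact hint z hzV (ne_one hz2) hzN

theorem eq_one_of_fixed {N : Subgroup X} (hN : N.Normal) (hN4 : IsFour N)
    (hC : Subgroup.centralizer (N : Set X) ≤ N) {z x : X} (hz : z ∈ N) (hz1 : z ≠ 1)
    (hxz : x * z = z * x) (hx : Odd (orderOf x)) : x = 1 := by
  have hxN : x ∈ Subgroup.normalizer (N : Set X) := by
    haveI := hN
    rw [Subgroup.normalizer_eq_top]
    trivial
  have hxc : ∀ w ∈ N, x * w = w * x := by
    by_contra hne
    obtain ⟨w, hw, hw1, hwz⟩ : ∃ w ∈ N, w ≠ 1 ∧ w ≠ z := by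
      by_contra hno
      push Not at hno
      have hs : Function.Surjective (fun i : Bool => if i then (⟨z, hz⟩ : N) else 1) := fun y => by
        by_cases hy : (y : X) = 1
        · exact ⟨false, Subtype.ext hy.symm⟩
        · exact ⟨true, Subtype.ext (hno y y.2 hy).symm⟩
      have := Nat.card_le_card_of_surjective _ hs
      rw [hN4.1, Nat.card_eq_fintype_card, Fintype.card_bool] at this
      omega
    obtain ⟨g, hg, -, hgz⟩ := exists_conj_of_odd hN4 hxN hx hne hz hz1 hw hw1
    obtain ⟨i, rfl⟩ := Subgroup.mem_zpowers_iff.1 hg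
    exact hwz (by rw [← hgz, ((show Commute x z from hxz).zpow_left i).eq, mul_inv_cancel_right])
  have hmem : x ∈ N := hC (Subgroup.mem_centralizer_iff.2 fun w hw => (hxc w hw).symm)
  exact orderOf_eq_one_iff.1 (Nat.eq_one_of_dvd_coprimes (Nat.coprime_two_left.2 hx)
    (orderOf_dvd_of_pow_eq_one (by rw [sq]; exact hN4.2 x hmem)) dvd_rfl)

theorem four_split {N : Subgroup X} (hN : N.Normal) (hN4 : IsFour N)
    (hC : Subgroup.centralizer (N : Set X) ≤ N) {t u v : X} (ht : t ∈ N) (hv : v ∉ N)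
    (ht2 : orderOf t = 2) (hvt : v * t = t * v) :
    (∀ x : X, x * t = t * x → Odd (orderOf x) → x * v = v * x → x * u = u * x) ∧
      ∃ T T' : ℕ, Nat.Coprime T T' ∧ 2 * T ≤ T' + 1 ∧
        Nat.card (coreC t) = T * Nat.card (coreFix t u) ∧
        Nat.card (coreC v) = T' * Nat.card (coreFix v t) := by
  have h1 : ∀ x : X, x * t = t * x → Odd (orderOf x) → x = 1 := fun x hx ho =>
    eq_one_of_fixed hN hN4 hC ht (ne_one ht2) hx ho
  have h2 : ∀ x ∈ coreC v, x = 1 := by
    intro x hx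
    have hxv := Subgroup.mem_centralizer_singleton_iff.1 (coreC_le v hx)
    refine h1 x ?_ (orderOf_odd_of_mem (coreC_odd v) hx)
    -- `t` is the only involution of `N` centralising `v`
    have hu : x * t * x⁻¹ ∈ N := hN.conj_mem t ht x
    by_contra hne
    have hne' : x * t * x⁻¹ ≠ t := fun h => hne (mul_inv_eq_iff_eq_mul.1 h)
    have hne1 : x * t * x⁻¹ ≠ 1 := fun h => ne_one ht2 (conj_eq_one_iff.1 h)
    have hle : N ≤ Subgroup.centralizer ({v} : Set X) := hN4.eq_of_mem hu ht hne1 (ne_one ht2) hne'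
      (Subgroup.mem_centralizer_singleton_iff.2 ((((show Commute x v from hxv)).mul_left
        (show Commute t v from hvt.symm)).mul_left (show Commute x v from hxv).inv_left).eq)
      (Subgroup.mem_centralizer_singleton_iff.2 hvt.symm)
    exact hv (hC (Subgroup.mem_centralizer_iff.2 fun w hw =>
      Subgroup.mem_centralizer_singleton_iff.1 (hle hw)))
  have hct : ∀ x ∈ coreC t, x = 1 := fun x hx =>
    h1 x (Subgroup.mem_centralizer_singleton_iff.1 (coreC_le t hx)) (orderOf_odd_of_mem (coreC_odd t) hx)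
  have hcard : ∀ H : Subgroup X, (∀ x ∈ H, x = 1) → Nat.card H = 1 := fun H h => by
    rw [(Subgroup.eq_bot_iff_forall H).2 h, Subgroup.card_bot]
  refine ⟨fun x hxt ho _ => by rw [h1 x hxt ho, one_mul, mul_one],
    1, 1, Nat.coprime_one_left 1, le_rfl, ?_, ?_⟩
  · rw [hcard _ hct, hcard (coreFix t u) fun x hx => hct x hx.1]
  · rw [hcard _ h2, hcard (coreFix v t) fun x hx => h2 x hx.1]

end ModelsC

open ModelsC in
/-- `PropModelSplit`. -/
theorem propModelSplit : PropModelSplit.{u} := by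
  intro X _ _ t u v hO hD hsec ht hu hv hut hvt hp htuv hfu hvt' hnf
  haveI : Fact (Nat.Prime 2) := ⟨Nat.prime_two⟩
  have hCD := hD.sylowCD
  have hu' : u ≠ t := by
    rintro rfl
    have h4 := hfu.1.1
    rw [fourOf, Set.pair_eq_singleton, ← Subgroup.zpowers_eq_closure, Nat.card_zpowers, hu] at h4
    omega
  have hne : fourOf t u ≠ fourOf t v := fun h => hnf (h ▸ hfu)
  have hr := mul_sq_ne_one hu hv hne (ne_one ht) hu'.symm hvt'.symm htuv
  obtain ⟨k₀, hk₀⟩ := hp ⟨u * v, mul_mem (Subgroup.subset_closure (Or.inl rfl))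
    (Subgroup.subset_closure (Or.inr rfl))⟩
  have hr2 : ∃ k, (u * v) ^ 2 ^ k = 1 := ⟨k₀, congrArg Subtype.val hk₀⟩
  have hm := mem_fourOf t u
  rcases PEmbRankOne.socle_cases hCD hO (not_isPGroup_of_fused hCD hfu) with
    ⟨N, hN, hN4, hC⟩ | ⟨L, hL, hs, hna, hd, hC⟩
  · have hVN := fused_le_four hN hN4 hCD hfu
    refine four_split hN hN4 hC (hVN ▸ hm.1) (fun hvN => hne ?_) ht hvt
    -- `v ∈ N` would make the two four-groups equal
    rw [hVN]
    refine le_antisymm (hN4.eq_of_mem (hVN ▸ hm.1) hvN (ne_one ht) (ne_one hv) hvt'.symm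
      (mem_fourOf t v).1 (mem_fourOf t v).2) ?_
    rw [Subgroup.closure_le]
    rintro y (rfl | rfl)
    exacts [hVN ▸ hm.1, hvN]
  · haveI := hL
    obtain ⟨hHyp, hK⟩ := hyp_of_sections hsec hs hna hd
    -- four-groups inside `L` are fused
    have hfour : t ∈ L → v ∈ L → False := by
      intro htL hvL
      apply hnf
      have hle : fourOf t v ≤ L := by
        rw [Subgroup.closure_le]
        rintro y (rfl | rfl)
        exacts [htL, hvL]
      obtain ⟨W, hW, htW, hvW, hWle⟩ := exists_isFour (sq_eq ht) (sq_eq hv) hvt.symm (ne_one ht) (ne_one hv)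
        hvt'.symm
      have hWe : fourOf t v = W := le_antisymm (by
        rw [Subgroup.closure_le]
        rintro y (rfl | rfl)
        exacts [htW, hvW]) (hWle _ (mem_fourOf t v).1 (mem_fourOf t v).2)
      have hWL : W ≤ L := hWe ▸ hle
      have hW' : IsFour (W.subgroupOf L) := ⟨by
        rw [Nat.card_congr (Subgroup.subgroupOfEquivOfLe hWL).toEquiv]; exact hW.1,
        fun x hx => Subtype.ext (hW.2 _ hx)⟩
      refine ⟨hWe ▸ hW, le_top, fun a ha ha1 b hb hb1 => ?_⟩
      obtain ⟨g, -, hgN, hg⟩ := (hHyp.fusedIn_top hW').2.2 ⟨a, hle ha⟩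
        (show (a : X) ∈ W from hWe ▸ ha) (fun h => ha1 (congrArg Subtype.val h)) ⟨b, hle hb⟩
        (show (b : X) ∈ W from hWe ▸ hb) (fun h => hb1 (congrArg Subtype.val h))
      refine ⟨g, trivial, ?_, congrArg Subtype.val hg⟩
      rw [hWe]
      refine Subgroup.mem_normalizer_fintype fun n hn => ?_
      exact (Subgroup.mem_normalizer_iff.1 hgN ⟨n, hWL hn⟩).1 hn
    rcases hK with ⟨F, iF, iFF, hF, -, ⟨e⟩⟩ | ⟨⟨e⟩⟩
    · have hVL := le_of_fused hfu fun g w hw hw1 =>
        commutator_mem' L e hF hC hD (hfu.1.orderOf_eq hw hw1) g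
      exact psl_split L e hF hC hD ht hu hv hut hvt hu' hvt' hr hr2 (hVL hm.1) (hfour (hVL hm.1))
    · exfalso
      have htop := alt_top L e hC hD
      exact hfour (htop ▸ Subgroup.mem_top t) (htop ▸ Subgroup.mem_top v)

open ModelsC in
/-- `PropModelOne`. -/
theorem propModelOne : PropModelOne.{u} := by
  intro X _ _ S t a b n hO hD hsec hn hS hR hcl hfa hfb
  haveI : Fact (Nat.Prime 2) := ⟨Nat.prime_two⟩
  have hCD := hD.sylowCD
  rcases PEmbRankOne.socle_cases hCD hO (not_isPGroup_of_fused hCD hfa) with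
    ⟨N, hN, hN4, hC⟩ | ⟨L, hL, hs, hna, hd, hC⟩
  · exact absurd ((fused_le_four hN hN4 hCD hfa).trans (fused_le_four hN hN4 hCD hfb).symm) hR.noncomm
  · haveI := hL
    obtain ⟨hHyp, hK⟩ := hyp_of_sections hsec hs hna hd
    rcases hK with ⟨F, iF, iFF, hF, -, ⟨e⟩⟩ | ⟨⟨e⟩⟩
    · left
      have h1 := le_of_fused hfa fun g w hw hw1 =>
        commutator_mem' L e hF hC hD (hfa.1.orderOf_eq hw hw1) g
      have h2 := le_of_fused hfb fun g w hw hw1 =>
        commutator_mem' L e hF hC hD (hfb.1.orderOf_eq hw hw1) g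
      have hSL : (S : Subgroup X) ≤ L := by
        rw [← hcl, Subgroup.closure_le]
        rintro y (rfl | rfl)
        exacts [h1 (mem_fourOf t y).2, h2 (mem_fourOf t y).2]
      exact psl_one L e hF hC hD hHyp S t a b n hS hR hSL
    · right
      have htop := alt_top L e hC hD
      subst htop
      exact alt_one (Subgroup.topEquiv.symm.trans e) hCD S t a b n hS hR hn

end Cfsg.Agent.Lib.GorensteinWalter
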