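import Mathlib

/-!
# Involutions acting on a group of odd order, inside an ambient group

The splitting `k = c l` into a fixed and an inverted element, the rigidity of two involutions with the same
fixed points, and a count of the conjugates of a subgroup that meet each other trivially.
-/

set_option autoImplicit false
set_option linter.unusedSectionVars false
set_option linter.style.haveILetI false

namespace Cfsg.Agent.Lib.GorensteinWalter

universe u

variable {G : Type u} [Group G] [Finite G]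

/-- An element of a group of odd order that is conjugate to its inverse is trivial. -/
theorem eq_one_of_conj_eq_inv {g x : G} (hg : Odd (orderOf g)) (hx : Odd (orderOf x))
    (h : g * x * g⁻¹ = x⁻¹) : x = 1 := by
  have h2 : Commute (g ^ 2) x := by
    have e : g ^ 2 * x * (g ^ 2)⁻¹ = x := by
      calc g ^ 2 * x * (g ^ 2)⁻¹ = g * (g * x * g⁻¹) * g⁻¹ := by rw [sq]; group
        _ = g * x⁻¹ * g⁻¹ := by rw [h]
        _ = (g * x * g⁻¹)⁻¹ := by group
        _ = x := by rw [h, inv_inv]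
    show g ^ 2 * x = x * g ^ 2
    calc g ^ 2 * x = g ^ 2 * x * (g ^ 2)⁻¹ * g ^ 2 := by group
      _ = x * g ^ 2 := by rw [e]
  obtain ⟨k, hk⟩ := hg
  have h3 : (g ^ 2) ^ (k + 1) = g := by
    rw [← pow_mul, show 2 * (k + 1) = orderOf g + 1 by omega, pow_succ, pow_orderOf_eq_one, one_mul]
  have h4 : g * x = x * g := by rw [← h3]; exact h2.pow_left _
  rw [h4, mul_inv_cancel_right] at h
  exact orderOf_eq_one_iff.1 (Nat.eq_one_of_dvd_coprimes (Nat.coprime_two_right.2 hx) dvd_rfl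
    (orderOf_dvd_of_pow_eq_one (by rw [sq]; nth_rewrite 1 [h]; exact inv_mul_cancel x)))

/-- Each element is a fixed element times an inverted one. -/
theorem exists_fixed_mul_inverted {K : Subgroup G} (hK : Odd (Nat.card K)) {s : G} (hs : s * s = 1)
    (hn : ∀ y ∈ K, s * y * s⁻¹ ∈ K) {k : G} (hk : k ∈ K) :
    ∃ c ∈ K, s * c = c * s ∧ ∃ l ∈ K, s * l * s⁻¹ = l⁻¹ ∧ k = c * l := by
  have hsi : s⁻¹ = s := inv_eq_of_mul_eq_one_right hs
  set w := (s * k * s⁻¹)⁻¹ * k with hw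
  have hwK : w ∈ K := mul_mem (inv_mem (hn k hk)) hk
  have hwi : s * w * s⁻¹ = w⁻¹ := by
    have h1 : s * (s * k * s⁻¹) * s⁻¹ = k := by
      calc s * (s * k * s⁻¹) * s⁻¹ = (s * s) * k * (s * s)⁻¹ := by group
        _ = k := by rw [hs, inv_one, mul_one, one_mul]
    calc s * w * s⁻¹ = (s * (s * k * s⁻¹) * s⁻¹)⁻¹ * (s * k * s⁻¹) := by rw [hw]; simp [mul_assoc]
      _ = k⁻¹ * (s * k * s⁻¹) := by rw [h1]
      _ = w⁻¹ := by rw [hw]; group
  obtain ⟨j, hj⟩ : Odd (orderOf w) := hK.of_dvd_nat (Subgroup.orderOf_dvd_natCard K hwK)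
  set l := w ^ (j + 1) with hl
  have hl2 : l * l = w := by
    rw [hl, ← pow_add, show j + 1 + (j + 1) = orderOf w + 1 by omega, pow_succ, pow_orderOf_eq_one, one_mul]
  have hli : s * l * s⁻¹ = l⁻¹ := by
    rw [hl, ← MulAut.conj_apply, map_pow, MulAut.conj_apply, hwi, inv_pow]
  refine ⟨k * l⁻¹, mul_mem hk (inv_mem (pow_mem hwK _)), ?_, l, pow_mem hwK _, hli, by group⟩
  have h2 : s * k * s⁻¹ = k * w⁻¹ := by rw [hw]; group
  have h3 : s * (k * l⁻¹) * s⁻¹ = k * l⁻¹ := by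
    calc s * (k * l⁻¹) * s⁻¹ = (s * k * s⁻¹) * (s * l * s⁻¹)⁻¹ := by group
      _ = k * (l * l)⁻¹ * l := by rw [h2, hli, inv_inv, hl2]
      _ = k * l⁻¹ := by group
  calc s * (k * l⁻¹) = s * (k * l⁻¹) * s⁻¹ * s := by group
    _ = k * l⁻¹ * s := by rw [h3]

/-- Commuting actions. -/
theorem act_comm {u v x : G} (hu : u * u = 1) (hv : v * v = 1)
    (h : u * v * u * v * x = x * (u * v * u * v)) :
    u * (v * x * v⁻¹) * u⁻¹ = v * (u * x * u⁻¹) * v⁻¹ := by
  have hui : u⁻¹ = u := inv_eq_of_mul_eq_one_right hu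
  have hvi : v⁻¹ = v := inv_eq_of_mul_eq_one_right hv
  calc u * (v * x * v⁻¹) * u⁻¹ = v⁻¹ * u⁻¹ * (u * v * u * v * x) * v⁻¹ * u⁻¹ * v⁻¹ * v := by
        group
    _ = v⁻¹ * u⁻¹ * (x * (u * v * u * v)) * v⁻¹ * u⁻¹ * v⁻¹ * v := by rw [h]
    _ = v⁻¹ * (u⁻¹ * x * u) * v * (u * v * v⁻¹ * u⁻¹) := by group
    _ = v⁻¹ * (u⁻¹ * x * u) * v := by group
    _ = v * (u * x * u⁻¹) * v⁻¹ := by rw [hui, hvi]

/-- Two commuting involutions with the same fixed points act in the same way. -/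
theorem fixed_of_same_fixed {K : Subgroup G} (hK : Odd (Nat.card K)) {u v : G} (hu : u * u = 1)
    (hv : v * v = 1) (hnu : ∀ y ∈ K, u * y * u⁻¹ ∈ K) (hnv : ∀ y ∈ K, v * y * v⁻¹ ∈ K)
    (hcomm : ∀ y ∈ K, u * v * u * v * y = y * (u * v * u * v))
    (huv : ∀ y ∈ K, u * y = y * u → v * y = y * v) (hvu : ∀ y ∈ K, v * y = y * v → u * y = y * u) :
    ∀ y ∈ K, u * v * y = y * (u * v) := by
  have hodd : ∀ y ∈ K, Odd (orderOf y) := fun y hy => hK.of_dvd_nat (Subgroup.orderOf_dvd_natCard K hy)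
  have hfix : ∀ y : G, ∀ g : G, g * y = y * g → g * y * g⁻¹ = y := fun y g h => by
    rw [h, mul_inv_cancel_right]
  intro k hk
  obtain ⟨c, hc, hcu, l, hl, hli, rfl⟩ := exists_fixed_mul_inverted hK hu hnu hk
  obtain ⟨d, hd, hdv, e, he, hei, rfl⟩ := exists_fixed_mul_inverted hK hv hnv hl
  have hdu := hvu d hd hdv
  have he' : v * (u * e * u⁻¹) * v⁻¹ = (u * e * u⁻¹)⁻¹ := by
    rw [← act_comm hu hv (hcomm e he), hei]
    group
  have h1 : u * e * u⁻¹ = d⁻¹ * (e⁻¹ * d⁻¹) := by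
    calc u * e * u⁻¹ = (u * d * u⁻¹)⁻¹ * (u * (d * e) * u⁻¹) := by group
      _ = d⁻¹ * (d * e)⁻¹ := by rw [hfix d u hdu, hli]
      _ = d⁻¹ * (e⁻¹ * d⁻¹) := by rw [_root_.mul_inv_rev]
  have h2 : d⁻¹ * (e * d⁻¹) = d * e * d := by
    have h3 : v * (d⁻¹ * (e⁻¹ * d⁻¹)) * v⁻¹ = (d⁻¹ * (e⁻¹ * d⁻¹))⁻¹ := by rw [← h1]; exact he'
    calc d⁻¹ * (e * d⁻¹) = (v * d * v⁻¹)⁻¹ * ((v * e * v⁻¹)⁻¹ * (v * d * v⁻¹)⁻¹) := by
          rw [hfix d v hdv, hei, inv_inv]
      _ = v * (d⁻¹ * (e⁻¹ * d⁻¹)) * v⁻¹ := by group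
      _ = d * e * d := by rw [h3]; group
  have h4 : e * (d * d) * e⁻¹ = (d * d)⁻¹ := by
    calc e * (d * d) * e⁻¹ = d⁻¹ * (d * e * d) * d * e⁻¹ := by group
      _ = d⁻¹ * (d⁻¹ * (e * d⁻¹)) * d * e⁻¹ := by rw [h2]
      _ = (d * d)⁻¹ := by group
  have hd1 : d = 1 := by
    have h5 := eq_one_of_conj_eq_inv (hodd e he) (hodd _ (mul_mem hd hd)) h4
    exact orderOf_eq_one_iff.1 (Nat.eq_one_of_dvd_coprimes (Nat.coprime_two_right.2 (hodd d hd)) dvd_rfl
      (orderOf_dvd_of_pow_eq_one (by rw [sq, h5])))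
  subst hd1
  rw [one_mul] at hli ⊢
  have hcv := huv c hc hcu
  have h6 : u * v * (c * e) * (u * v)⁻¹ = c * e := by
    calc u * v * (c * e) * (u * v)⁻¹ = u * ((v * c * v⁻¹) * (v * e * v⁻¹)) * u⁻¹ := by group
      _ = (u * c * u⁻¹) * (u * e * u⁻¹)⁻¹ := by rw [hfix c v hcv, hei]; group
      _ = c * e := by rw [hfix c u hcu, hli, inv_inv]
  calc u * v * (c * e) = u * v * (c * e) * (u * v)⁻¹ * (u * v) := by group
    _ = c * e * (u * v) := by rw [h6]

/-- Two involutions generating a 2-group with the same fixed points act in the same way. -/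
theorem fixed_of_same_fixed_pow {K : Subgroup G} (hK : Odd (Nat.card K)) :
    ∀ (n : ℕ) (i j : G), i * i = 1 → j * j = 1 → (∀ y ∈ K, i * y * i⁻¹ ∈ K) → (∀ y ∈ K, j * y * j⁻¹ ∈ K) →
      (∀ y ∈ K, (i * j) ^ 2 ^ n * y = y * (i * j) ^ 2 ^ n) →
      (∀ y ∈ K, i * y = y * i ↔ j * y = y * j) → ∀ y ∈ K, i * j * y = y * (i * j) := by
  intro n
  induction n with
  | zero =>
    intro i j _ _ _ _ h _ y hy
    simpa using h y hy
  | succ n ih =>
    intro i j hi hj hni hnj h heq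
    have hji : j⁻¹ = j := inv_eq_of_mul_eq_one_right hj
    have hi' : j * i * j * (j * i * j) = 1 := by
      calc j * i * j * (j * i * j) = j * i * (j * j) * i * j := by group
        _ = 1 := by rw [hj, mul_one, mul_assoc j i i, hi, mul_one, hj]
    have hni' : ∀ y ∈ K, j * i * j * y * (j * i * j)⁻¹ ∈ K := fun y hy => by
      have h1 := hnj _ (hni _ (hnj y hy))
      convert h1 using 1
      group
    have hpow : ∀ y ∈ K, (i * (j * i * j)) ^ 2 ^ n * y = y * (i * (j * i * j)) ^ 2 ^ n := fun y hy => by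
      rw [show i * (j * i * j) = (i * j) ^ 2 by rw [sq]; group, ← pow_mul, ← pow_succ']
      exact h y hy
    have heq' : ∀ y ∈ K, i * y = y * i ↔ j * i * j * y = y * (j * i * j) := by
      intro y hy
      have hjj : ∀ w : G, j * (j * w) = w := fun w => by rw [← mul_assoc, hj, one_mul]
      have key : j * i * j * y = y * (j * i * j) ↔ i * (j * y * j⁻¹) = (j * y * j⁻¹) * i := by
        rw [hji]
        constructor
        · intro e
          have h1 := congrArg (fun w => j * w * j) e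
          simpa [mul_assoc, hjj, hj] using h1
        · intro e
          have h1 := congrArg (fun w => j * w * j) e
          simpa [mul_assoc, hjj, hj] using h1
      rw [key, heq _ (hnj y hy), heq y hy]
      constructor
      · intro e
        have e' : j * y * j⁻¹ = y := by rw [e, mul_inv_cancel_right]
        rw [e']; exact e
      · intro e
        calc j * y = j⁻¹ * (j * (j * y * j⁻¹)) * j := by group
          _ = j⁻¹ * ((j * y * j⁻¹) * j) * j := by rw [e]
          _ = y * j := by group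
    have h2 := ih i (j * i * j) hi hi' hni hni' hpow heq'
    refine fixed_of_same_fixed hK hi hj hni hnj (fun y hy => ?_) (fun y hy => (heq y hy).1)
      (fun y hy => (heq y hy).2)
    rw [show i * j * i * j = i * (j * i * j) by group]
    exact h2 y hy

/-- Counting conjugates of `X` that meet trivially inside `V`, modulo `Z ≤ V`. -/
theorem orbit_count_le {ι κ : Type*} [Finite κ] [Nonempty ι] {a v : ℕ} (X : Finset κ)
    (f : ι → X → κ) (hf : ∀ i i' x x', f i x = f i' x' → i = i' ∧ x = x') (V : Finset κ)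
    (hV : ∀ i x, f i x ∈ V) (ha : X.card = a) (hv : V.card = v) [Finite ι] :
    Nat.card ι * a ≤ v := by
  classical
  let g : ι × X → V := fun p => ⟨f p.1 p.2, hV _ _⟩
  have hg : Function.Injective g := fun p q h => by
    obtain ⟨h1, h2⟩ := hf _ _ _ _ (congrArg Subtype.val h)
    exact Prod.ext h1 h2
  have := Nat.card_le_card_of_injective g hg
  rwa [Nat.card_prod, Nat.card_eq_fintype_card (α := X), Fintype.card_coe, ha,
    Nat.card_eq_fintype_card (α := V), Fintype.card_coe, hv] at this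

/-- The numerical contradiction of the counting argument. -/
theorem count_false {a b c T T' N : ℕ} (ha : 3 ≤ a) (hb1 : 1 ≤ b) (hbc : b ≤ c) (hc : 3 ≤ c) (hcT : c ≤ T)
    (hT : 2 * T ≤ T' + 1) (hN : T' ≤ N) (h : N * (a - 1) + 1 ≤ a * b) : False := by
  obtain ⟨a', rfl⟩ := Nat.exists_eq_add_of_le (show 1 ≤ a by omega)
  rw [Nat.add_sub_cancel_left] at h
  have h1 : (2 * c - 1) * a' ≤ N * a' := Nat.mul_le_mul_right _ (by omega)
  have h2 : (1 + a') * b ≤ (1 + a') * c := Nat.mul_le_mul_left _ hbc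
  obtain ⟨c', rfl⟩ := Nat.exists_eq_add_of_le (show 1 ≤ c by omega)
  rw [show 2 * (1 + c') - 1 = 2 * c' + 1 by omega] at h1
  nlinarith [Nat.mul_le_mul (show 2 ≤ a' by omega) (show 2 ≤ c' by omega)]

end Cfsg.Agent.Lib.GorensteinWalter
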