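import Cfsg.Agent.Lib.GorensteinWalter.ConfSylow
import Cfsg.Agent.Lib.PSolvable.HallHigman
import Cfsg.Agent.S0205

/-!
# The standing setting of section F

`N = N(Z(J(T)))` carries a configuration at `r`; `Y = O_{r'}(N)`, `Q = T ∩ O_{r'r}(N)` and `N₀ = N_N(Q)`, so that
`N = Y N₀`.  The file collects what the steps F2–F8 use: the four-group may be taken in `N₀`, the centraliser of
`Q` has odd order, coprime factorisation, the splitting lemma and K1.
-/

set_option autoImplicit false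
set_option linter.unusedSectionVars false
set_option linter.style.haveILetI false

namespace Cfsg.Agent.Lib.GorensteinWalter

open Cfsg.Agent.Lib.Fusion.Dihedral

universe u

variable {G : Type u} [Group G] [Finite G]

/-! ## Tools -/

theorem eq_one_of_pow_of_not_dvd {p : ℕ} [Fact p.Prime] {U : Subgroup G} (hU : ¬ p ∣ Nat.card U) {x : G}
    (hx : x ∈ U) {k : ℕ} (hk : x ^ p ^ k = 1) : x = 1 :=
  orderOf_eq_one_iff.1 (Nat.eq_one_of_dvd_coprimes
    (Nat.Coprime.pow_left k ((Fact.out : p.Prime).coprime_iff_not_dvd.2 hU))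
    (orderOf_dvd_of_pow_eq_one hk) (Subgroup.orderOf_dvd_natCard _ hx))

theorem isPGroup_zpowers {p : ℕ} [Fact p.Prime] {x : G} {k : ℕ} (hk : x ^ p ^ k = 1) :
    IsPGroup p (Subgroup.zpowers x) :=
  IsPGroup.of_card_dvd_pow (by rw [Nat.card_zpowers]; exact orderOf_dvd_of_pow_eq_one hk)

/-- A subgroup centralised by `g` stays in `C(g)`. -/
theorem commute_of_mem_centralizer {K : Subgroup G} {g k : G} (hg : g ∈ Subgroup.centralizer (K : Set G))
    (hk : k ∈ K) : g * k = k * g := (Subgroup.mem_centralizer_iff.1 hg k hk).symm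

/-- If an odd `Y` supplements `L` in `H`, every `p`-subgroup of `H` moves into `L` (`p ∤ |Y|`). -/
theorem exists_conj_le_of_factor {p : ℕ} [Fact p.Prime] {H L Y W : Subgroup G} (hW : IsPGroup p W)
    (hWH : W ≤ H) (hYH : Y ≤ H) (hY : ¬ p ∣ Nat.card Y)
    (hfac : ∀ h ∈ H, ∃ y ∈ Y, y⁻¹ * h ∈ L) : ∃ h ∈ H, ∀ w ∈ W, h * w * h⁻¹ ∈ L := by
  classical
  let ψ : Y → H ⧸ L.subgroupOf H := fun y => QuotientGroup.mk ⟨y, hYH y.2⟩
  have hψ : ∀ y y' : Y, ψ y = ψ y' ↔ (y : G)⁻¹ * y' ∈ Y ⊓ L := fun y y' => by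
    rw [QuotientGroup.eq, Subgroup.mem_subgroupOf]
    exact ⟨fun h => Subgroup.mem_inf.2 ⟨mul_mem (inv_mem y.2) y'.2, h⟩, fun h => h.2⟩
  have hbij : Function.Bijective (Quotient.lift (s := QuotientGroup.leftRel ((Y ⊓ L).subgroupOf Y)) ψ
      fun y y' h => (hψ y y').2 (Subgroup.mem_subgroupOf.1 (QuotientGroup.leftRel_apply.1 h))) := by
    refine ⟨fun a b => ?_, fun q => ?_⟩
    · induction a using Quotient.inductionOn with | _ y => ?_
      induction b using Quotient.inductionOn with | _ y' => ?_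
      intro h
      exact Quotient.sound (QuotientGroup.leftRel_apply.2 (Subgroup.mem_subgroupOf.2 ((hψ y y').1 h)))
    · obtain ⟨h, rfl⟩ := QuotientGroup.mk_surjective q
      obtain ⟨y, hy, hyl⟩ := hfac h h.2
      exact ⟨Quotient.mk'' ⟨y, hy⟩, QuotientGroup.eq.2 (Subgroup.mem_subgroupOf.2 hyl)⟩
  have hidx : ¬ p ∣ (L.subgroupOf H).index := by
    rw [Subgroup.index_eq_card, ← Nat.card_eq_of_bijective _ hbij]
    exact fun h => hY (h.trans (Subgroup.index_dvd_card ((Y ⊓ L).subgroupOf Y)))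
  obtain ⟨U⟩ : Nonempty (Sylow p (L.subgroupOf H)) := inferInstance
  set U' : Subgroup H := (U : Subgroup (L.subgroupOf H)).map (L.subgroupOf H).subtype
  have hU' : ¬ p ∣ U'.index := by
    rw [Subgroup.index_map_subtype]
    intro h
    rcases (Fact.out : p.Prime).dvd_mul.1 h with h | h
    · exact U.not_dvd_index h
    · exact hidx h
  obtain ⟨P, hP⟩ := (hW.comap_subtype (K := H)).exists_le_sylow
  obtain ⟨h, hh⟩ := MulAction.exists_smul_eq H P ((U.2.map _).toSylow hU')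
  refine ⟨h, h.2, fun w hw => ?_⟩
  have h1 : h * ⟨w, hWH hw⟩ * h⁻¹ ∈ U' := by
    show h * ⟨w, hWH hw⟩ * h⁻¹ ∈ (((U.2.map _).toSylow hU' : Sylow p H) : Subgroup H)
    rw [← hh]
    exact Subgroup.smul_mem_pointwise_smul _ (MulAut.conj h) (P : Subgroup H)
      (hP (show (w : G) ∈ W from hw))
  exact Subgroup.mem_subgroupOf.1 (Subgroup.map_subtype_le _ h1)

/-- Coprime action: a coset of `U` that `X` fixes contains an element centralised by `X`. -/
theorem exists_fixed_mul {p : ℕ} [Fact p.Prime] {X U : Subgroup G} (hX : IsPGroup p X)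
    (hU : ¬ p ∣ Nat.card U) (hn : X ≤ Subgroup.normalizer (U : Set G)) {w : G}
    (hw : ∀ x ∈ X, w⁻¹ * x * w * x⁻¹ ∈ U) : ∃ a ∈ U, w * a ∈ Subgroup.centralizer (X : Set G) := by
  classical
  set M := U ⊔ X with hM
  have hMset : ∀ x ∈ M, ∃ a ∈ U, ∃ u ∈ X, x = a * u := by
    intro x hx
    rw [hM, ← SetLike.mem_coe, Subgroup.coe_mul_of_right_le_normalizer_left _ _ hn] at hx
    obtain ⟨a, ha, u, hu, rfl⟩ := hx
    exact ⟨a, ha, u, hu, rfl⟩
  have hdisj : ∀ x ∈ U, x ∈ X → x = 1 := fun x hx hxX => by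
    obtain ⟨k, hk⟩ := hX ⟨x, hxX⟩
    exact eq_one_of_pow_of_not_dvd hU hx (congrArg Subtype.val hk)
  have hsyl : ∀ {Q : Subgroup M}, IsPGroup p Q → X.subgroupOf M ≤ Q → Q = X.subgroupOf M := by
    intro Q hQ hle
    refine le_antisymm (fun x hx => Subgroup.mem_subgroupOf.2 ?_) hle
    obtain ⟨a, ha, u, hu, hxau⟩ := hMset x x.2
    have haM : (⟨a, (le_sup_left : U ≤ M) ha⟩ : M) ∈ Q := by
      have h1 := mul_mem hx (inv_mem (hle (show (⟨u, (le_sup_right : X ≤ M) hu⟩ : M) ∈ X.subgroupOf M from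
        Subgroup.mem_subgroupOf.2 hu)))
      convert h1 using 1
      exact Subtype.ext (by rw [Subgroup.coe_mul, Subgroup.coe_inv, hxau, mul_inv_cancel_right])
    obtain ⟨k, hk⟩ := hQ ⟨_, haM⟩
    rw [hxau, eq_one_of_pow_of_not_dvd hU ha (congrArg (fun z : Q => ((z : M) : G)) hk), one_mul]
    exact hu
  let SX : Sylow p M :=
    { toSubgroup := X.subgroupOf M
      isPGroup' := hX.comap_subtype
      is_maximal' := hsyl }
  set W := X.map (MulAut.conj w⁻¹).toMonoidHom with hW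
  have hWM : W ≤ M := by
    rintro _ ⟨x, hx, rfl⟩
    show w⁻¹ * x * w⁻¹⁻¹ ∈ M
    rw [inv_inv, show w⁻¹ * x * w = w⁻¹ * x * w * x⁻¹ * x by group]
    exact Subgroup.mul_mem_sup (hw x hx) hx
  obtain ⟨Q, hQ⟩ := ((hX.map (MulAut.conj w⁻¹).toMonoidHom).comap_subtype (K := M)).exists_le_sylow
  obtain ⟨m, hm⟩ := MulAction.exists_smul_eq M Q SX
  obtain ⟨a, ha, u₀, hu₀, hmau⟩ := hMset (m⁻¹ : G) (inv_mem m.2)
  refine ⟨a, ha, ?_⟩
  rw [Subgroup.mem_centralizer_iff]
  intro x hx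
  have hxW : w⁻¹ * x * w ∈ W := ⟨x, hx, by simp [mul_assoc]⟩
  have h1 : (m : G) * (w⁻¹ * x * w) * (m : G)⁻¹ ∈ X := by
    have h' : m * ⟨_, hWM hxW⟩ * m⁻¹ ∈ (SX : Subgroup M) := by
      rw [← hm]
      exact Subgroup.smul_mem_pointwise_smul _ (MulAut.conj m) (Q : Subgroup M)
        (hQ (show (w⁻¹ * x * w : G) ∈ W from hxW))
    exact h'
  have h3 : (m : G) = u₀⁻¹ * a⁻¹ := by rw [← _root_.mul_inv_rev, ← hmau, inv_inv]
  have h2 : a⁻¹ * (w⁻¹ * x * w) * a ∈ X := by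
    have := mul_mem (mul_mem hu₀ h1) (inv_mem hu₀)
    rw [h3] at this
    convert this using 1
    group
  set d := w⁻¹ * x * w * x⁻¹ with hd
  have h4 : a⁻¹ * (w⁻¹ * x * w) * a * x⁻¹ = a⁻¹ * d * (x * a * x⁻¹) := by rw [hd]; group
  have h5 : a⁻¹ * (w⁻¹ * x * w) * a * x⁻¹ = 1 := by
    refine hdisj _ ?_ (mul_mem h2 (inv_mem hx))
    rw [h4]
    exact mul_mem (mul_mem (inv_mem ha) (hw x hx)) (conj_mem_of_mem_normalizer (hn hx) ha)
  rw [mul_inv_eq_one] at h5
  calc x * (w * a) = w * a * (a⁻¹ * (w⁻¹ * x * w) * a) := by group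
    _ = w * a * x := by rw [h5]

/-- A normal subgroup of even order contains every four-group fused in the group. -/
theorem le_of_even_normal (hG : Hyp G) {V H C : Subgroup G} (hV : FusedIn V H) (hCH : C ≤ H)
    (hn : H ≤ Subgroup.normalizer (C : Set G)) (hev : ¬ Odd (Nat.card C)) : V ≤ C := by
  classical
  haveI : Fact (Nat.Prime 2) := ⟨Nat.prime_two⟩
  rw [Nat.not_odd_iff_even, even_iff_two_dvd] at hev
  obtain ⟨c, hc⟩ := exists_prime_orderOf_dvd_card' 2 hev
  obtain ⟨T₂, hT₂⟩ := ((hV.1.isPGroup).comap_subtype (K := H)).exists_le_sylow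
  set D := (T₂ : Subgroup H).map H.subtype
  have hVD : V ≤ D := fun x hx => ⟨⟨x, hV.2.1 hx⟩, hT₂ (show (x : G) ∈ V from hx), rfl⟩
  haveI : (C.subgroupOf H).Normal := Subgroup.normal_subgroupOf_of_le_normalizer hn
  have hc2 : orderOf (⟨c, hCH c.2⟩ : H) = 2 := by
    rw [← Subgroup.orderOf_coe]
    simpa using hc
  obtain ⟨Q, hQ⟩ := (IsPGroup.of_card (n := 1) (by rw [Nat.card_zpowers, hc2, pow_one]) :
    IsPGroup 2 (Subgroup.zpowers (⟨c, hCH c.2⟩ : H))).exists_le_sylow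
  obtain ⟨h, hh⟩ := MulAction.exists_smul_eq H Q T₂
  have hcT : h * ⟨c, hCH c.2⟩ * h⁻¹ ∈ (T₂ : Subgroup H) := by
    rw [← hh]
    exact Subgroup.smul_mem_pointwise_smul _ (MulAut.conj h) (Q : Subgroup H) (hQ (Subgroup.mem_zpowers _))
  set CT := (C.subgroupOf H).subgroupOf (T₂ : Subgroup H)
  haveI : CT.Normal := inferInstance
  haveI : Nontrivial CT := by
    refine (Subgroup.nontrivial_iff_exists_ne_one _).2 ⟨⟨_, hcT⟩, ?_, fun e => ?_⟩
    · exact (inferInstance : (C.subgroupOf H).Normal).conj_mem _ (Subgroup.mem_subgroupOf.2 c.2) h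
    · have h1 : h * ⟨c, hCH c.2⟩ * h⁻¹ = 1 := congrArg Subtype.val e
      rw [conj_eq_one_iff] at h1
      rw [h1, orderOf_one] at hc2
      omega
  obtain ⟨z, hzC', hz1⟩ := (Subgroup.nontrivial_iff_exists_ne_one _).1
    ((Subgroup.nontrivial_iff_ne_bot _).2 (PGroups.normal_inf_center_ne_bot T₂.2 CT
      ((Subgroup.nontrivial_iff_ne_bot _).1 inferInstance)))
  have hzC := Subgroup.mem_inf.1 hzC'
  obtain ⟨k, hk⟩ := T₂.2 z
  have hzne : ((z : H) : G) ≠ 1 := fun e => hz1 (Subtype.ext (Subtype.ext e))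
  obtain ⟨j, -, hj⟩ := (Nat.dvd_prime_pow Nat.prime_two).1
    (orderOf_dvd_of_pow_eq_one (congrArg (fun w : (T₂ : Subgroup H) => ((w : H) : G)) hk) :
      orderOf ((z : H) : G) ∣ 2 ^ k)
  have hj1 : 0 < j := by
    rcases Nat.eq_zero_or_pos j with rfl | h
    · rw [pow_zero, orderOf_eq_one_iff] at hj; exact absurd hj hzne
    · exact h
  set z₂ : G := ((z : H) : G) ^ 2 ^ (j - 1) with hz₂
  have hzo : orderOf z₂ = 2 := by
    rw [hz₂, orderOf_pow_of_dvd (pow_ne_zero _ two_ne_zero) (hj ▸ pow_dvd_pow 2 (Nat.sub_le j 1)), hj,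
      Nat.pow_div (Nat.sub_le j 1) two_pos, show j - (j - 1) = 1 by omega, pow_one]
  have hzmem : z₂ ∈ C := pow_mem (Subgroup.mem_subgroupOf.1 (Subgroup.mem_subgroupOf.1 hzC.1)) _
  have hzV : z₂ ∈ V := hG.cd.mem_four_of_central hV.1 hVD (by rw [← sq, ← hzo, pow_orderOf_eq_one]) (by
    rintro _ ⟨s, hs, rfl⟩
    have h1 : (s : G) * ((z : H) : G) = ((z : H) : G) * s :=
      congrArg (fun w : (T₂ : Subgroup H) => ((w : H) : G)) (Subgroup.mem_center_iff.1 hzC.2 ⟨s, hs⟩)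
    exact (show Commute (s : G) ((z : H) : G) from h1).pow_right _)
  intro w hw
  by_cases hw1 : w = 1
  · rw [hw1]; exact one_mem C
  obtain ⟨g, hgH, -, rfl⟩ := hV.2.2 z₂ hzV (fun e => by rw [e, orderOf_one] at hzo; omega) w hw hw1
  exact conj_mem_of_mem_normalizer (hn hgH) hzmem

/-! ## `O_{r'}(O(C(v)))` -/

theorem coreR_le_coreC (r : ℕ) (v : G) : coreR r v ≤ coreC v := Subgroup.map_subtype_le _

theorem coreR_le (r : ℕ) (v : G) : coreR r v ≤ Subgroup.centralizer ({v} : Set G) :=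
  (coreR_le_coreC r v).trans (coreC_le v)

theorem coreR_odd (r : ℕ) (v : G) : Odd (Nat.card (coreR r v)) :=
  (coreC_odd v).of_dvd_nat (Subgroup.card_dvd_of_le (coreR_le_coreC r v))

theorem not_dvd_card_coreR (r : ℕ) [Fact r.Prime] (v : G) : ¬ r ∣ Nat.card (coreR r v) := by
  rw [Subgroup.card_map_of_injective (coreC v).subtype_injective]
  exact Cores.not_dvd_card_pPrimeCore r

theorem centralizer_le_normalizer_coreR (r : ℕ) (v : G) :
    Subgroup.centralizer ({v} : Set G) ≤ Subgroup.normalizer (coreR r v : Set G) := by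
  intro x hx
  have hn := centralizer_le_normalizer_coreC v hx
  refine Subgroup.mem_normalizer_fintype ?_
  rintro _ ⟨a, ha, rfl⟩
  let φ : coreC v ≃* coreC v :=
    { toFun := fun y => ⟨x * y * x⁻¹, conj_mem_of_mem_normalizer hn y.2⟩
      invFun := fun y => ⟨x⁻¹ * y * x, (Subgroup.mem_normalizer_iff''.1 hn y).1 y.2⟩
      left_inv := fun y => Subtype.ext (by simp [mul_assoc])
      right_inv := fun y => Subtype.ext (by simp [mul_assoc])
      map_mul' := fun y z => Subtype.ext (by simp [mul_assoc]) }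
  refine ⟨φ a, ?_, rfl⟩
  rw [← Cores.map_pPrimeCore_equiv φ]
  exact ⟨a, ha, rfl⟩

/-! ## The setting -/

/-- `Y = O_{r'}(N)`. -/
abbrev confY (r : ℕ) (T : Subgroup G) : Subgroup G :=
  (Cfsg.pPrimeCore r ↥(zjNorm T)).map (zjNorm T).subtype

/-- `Q = T ∩ O_{r'r}(N)`. -/
abbrev confQ (r : ℕ) (T : Subgroup G) : Subgroup G :=
  T ⊓ (Cfsg.pPrimePCore r ↥(zjNorm T)).map (zjNorm T).subtype

/-- `N₀ = N_N(Q)`. -/
abbrev confN0 (r : ℕ) (T : Subgroup G) : Subgroup G :=
  zjNorm T ⊓ Subgroup.normalizer (confQ r T : Set G)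

variable {r : ℕ}

theorem confY_le (T : Subgroup G) : confY r T ≤ zjNorm T := Subgroup.map_subtype_le _

theorem le_normalizer_confY (T : Subgroup G) : zjNorm T ≤ Subgroup.normalizer (confY r T : Set G) :=
  fun x hx => Subgroup.le_normalizer_map (zjNorm T).subtype
    ⟨⟨x, hx⟩, by rw [Subgroup.normalizer_eq_top]; trivial, rfl⟩

theorem not_dvd_card_confY [Fact r.Prime] (T : Subgroup G) : ¬ r ∣ Nat.card (confY r T) := by
  rw [Subgroup.card_map_of_injective (zjNorm T).subtype_injective]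
  exact Cores.not_dvd_card_pPrimeCore r

theorem confQ_le (T : Subgroup G) : confQ r T ≤ T := inf_le_left

theorem confN0_le (T : Subgroup G) : confN0 r T ≤ zjNorm T := inf_le_left

theorem confN0_le_normalizer (T : Subgroup G) :
    confN0 r T ≤ Subgroup.normalizer (confQ r T : Set G) := inf_le_right

theorem confQ_le_confN0 (T : Subgroup G) : confQ r T ≤ confN0 r T :=
  le_inf ((confQ_le T).trans (le_zjNorm T)) Subgroup.le_normalizer

/-- `O_{r'r}(N)`, inside `G`. -/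
abbrev confM (r : ℕ) (T : Subgroup G) : Subgroup G :=
  (Cfsg.pPrimePCore r ↥(zjNorm T)).map (zjNorm T).subtype

theorem confY_le_confM (T : Subgroup G) : confY r T ≤ confM r T :=
  Subgroup.map_mono PSolvable.pPrimeCore_le_pPrimePCore

theorem le_normalizer_confM (T : Subgroup G) : zjNorm T ≤ Subgroup.normalizer (confM r T : Set G) :=
  fun x hx => Subgroup.le_normalizer_map (zjNorm T).subtype
    ⟨⟨x, hx⟩, by rw [Subgroup.normalizer_eq_top]; trivial, rfl⟩

variable [Fact r.Prime] (T : Sylow r G)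

/-- An `r`-element of `O_{r'r}(N)` centralised modulo `Y` by what `Q` covers: `O_{r'r}(N) = Y Q`. -/
theorem confM_factor {x : G} (hx : x ∈ confM r (T : Subgroup G)) :
    ∃ y ∈ confY r (T : Subgroup G), ∃ q ∈ confQ r (T : Subgroup G), x = y * q := by
  classical
  set N := zjNorm (T : Subgroup G) with hN
  set M := Cfsg.pPrimePCore r N with hM
  let TN : Sylow r N := T.subtype (le_zjNorm _)
  obtain ⟨P, hP⟩ : ∃ P : Sylow r M, (P : Subgroup M).map M.subtype = (TN : Subgroup N) ⊓ M := by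
    obtain ⟨P₀⟩ : Nonempty (Sylow r M) := inferInstance
    obtain ⟨R, hR⟩ := (P₀.2.map M.subtype).exists_le_sylow
    obtain ⟨g, hg⟩ := MulAction.exists_smul_eq N R TN
    refine Coprime.exists_sylow_of_card inf_le_right (le_antisymm
      (pgroup_card_le (TN.2.to_le inf_le_left) inf_le_right) ?_)
    rw [← Coprime.card_sylow_map P₀, ← Subgroup.card_map_of_injective (K := (P₀ : Subgroup M).map M.subtype)
      (f := (MulAut.conj g).toMonoidHom) (MulAut.conj g).injective]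
    refine Nat.le_of_dvd Nat.card_pos (Subgroup.card_dvd_of_le ?_)
    rintro _ ⟨z, hz, rfl⟩
    refine Subgroup.mem_inf.2 ⟨?_, PSolvable.pPrimePCore_normal'.conj_mem z (Subgroup.map_subtype_le _ hz) g⟩
    rw [← hg]
    exact Subgroup.smul_mem_pointwise_smul _ (MulAut.conj g) (R : Subgroup N) (hR hz)
  obtain ⟨z, hz, rfl⟩ := hx
  have hzf : QuotientGroup.mk' (Cfsg.pPrimeCore r N) z ∈
      (((P : Subgroup M).map M.subtype).map (QuotientGroup.mk' (Cfsg.pPrimeCore r N))) := by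
    rw [PSolvable.map_sylow_pPrimePCore P, ← PSolvable.map_pPrimePCore]
    exact ⟨z, hz, rfl⟩
  obtain ⟨q, hq, hqz⟩ := hzf
  rw [hP] at hq
  have hy : z * q⁻¹ ∈ Cfsg.pPrimeCore r N := by
    rw [← QuotientGroup.eq_one_iff]
    show QuotientGroup.mk' (Cfsg.pPrimeCore r N) (z * q⁻¹) = 1
    rw [map_mul, map_inv, hqz, mul_inv_cancel]
  have hq' := Subgroup.mem_inf.1 hq
  refine ⟨_, ⟨z * q⁻¹, hy, rfl⟩, (q : G), Subgroup.mem_inf.2 ⟨hq'.1, q, hq'.2, rfl⟩, ?_⟩
  simp

/-- The Frattini factorisation `N = Y N₀`. -/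
theorem conf_factor {g : G} (hg : g ∈ zjNorm (T : Subgroup G)) :
    ∃ y ∈ confY r (T : Subgroup G), y⁻¹ * g ∈ confN0 r (T : Subgroup G) := by
  classical
  set N := zjNorm (T : Subgroup G) with hN
  set Q := confQ r (T : Subgroup G) with hQ
  set M := confM r (T : Subgroup G) with hM
  set Y := confY r (T : Subgroup G) with hY
  have hQN : Q ≤ N := (confQ_le _).trans (le_zjNorm _)
  have hYN : Y ≤ N := confY_le _
  have hfac : ∀ h ∈ M, ∃ y ∈ Y, y⁻¹ * h ∈ Q := fun h hh => by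
    obtain ⟨y, hy, q, hq, rfl⟩ := confM_factor T hh
    exact ⟨y, hy, by rwa [inv_mul_cancel_left]⟩
  have hQr : IsPGroup r Q := T.2.to_le (confQ_le _)
  have hW : Q.map (MulAut.conj g).toMonoidHom ≤ M := by
    rintro _ ⟨q, hq, rfl⟩
    exact conj_mem_of_mem_normalizer (le_normalizer_confM _ hg) hq.2
  obtain ⟨h, hh, hconj⟩ := exists_conj_le_of_factor (hQr.map (MulAut.conj g).toMonoidHom) hW
    (confY_le_confM _) (not_dvd_card_confY _) hfac
  obtain ⟨y, hy, q, hq, hinv⟩ := confM_factor T (inv_mem hh)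
  -- `h⁻¹ = y q`
  have h1 : ∀ x ∈ Q, y⁻¹ * g * x * (y⁻¹ * g)⁻¹ ∈ Q := fun x hx => by
    have h2 := hconj _ ⟨x, hx, rfl⟩
    simp only [MulEquiv.coe_toMonoidHom, MulAut.conj_apply] at h2
    have h3 : h = q⁻¹ * y⁻¹ := by rw [← _root_.mul_inv_rev, ← hinv, inv_inv]
    rw [h3] at h2
    have h4 := mul_mem (mul_mem hq h2) (inv_mem hq)
    convert h4 using 1
    group
  exact ⟨y, hy, Subgroup.mem_inf.2 ⟨mul_mem (inv_mem (hYN hy)) hg,
    Subgroup.mem_normalizer_fintype h1⟩⟩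

/-- `Y ∩ N₀` centralises `Q`. -/
theorem confY_inf_le_centralizer :
    confY r (T : Subgroup G) ⊓ confN0 r (T : Subgroup G) ≤
      Subgroup.centralizer (confQ r (T : Subgroup G) : Set G) := by
  intro y hy
  have hy' := Subgroup.mem_inf.1 hy
  rw [Subgroup.mem_centralizer_iff]
  intro q hq
  have h1 : q * y * q⁻¹ * y⁻¹ ∈ confY r (T : Subgroup G) :=
    mul_mem (conj_mem_of_mem_normalizer (le_normalizer_confY _ ((confQ_le_confN0 _ hq).1)) hy'.1)
      (inv_mem hy'.1)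
  have h2 : q * y * q⁻¹ * y⁻¹ ∈ confQ r (T : Subgroup G) := by
    rw [show q * y * q⁻¹ * y⁻¹ = q * (y * q⁻¹ * y⁻¹) by group]
    exact mul_mem hq (conj_mem_of_mem_normalizer hy'.2.2 (inv_mem hq))
  obtain ⟨k, hk⟩ := T.2 ⟨_, confQ_le _ h2⟩
  have h3 := eq_one_of_pow_of_not_dvd (not_dvd_card_confY _) h1 (congrArg Subtype.val hk)
  calc q * y = q * y * q⁻¹ * y⁻¹ * (y * q) := by group
    _ = y * q := by rw [h3, one_mul]

/-- Coprime factorisation of the centraliser in `N` of an `r`-subgroup of `N₀`. -/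
theorem conf_centralizer_factor {X : Subgroup G} (hX : IsPGroup r X)
    (hXN : X ≤ confN0 r (T : Subgroup G)) {g : G} (hg : g ∈ zjNorm (T : Subgroup G))
    (hgX : g ∈ Subgroup.centralizer (X : Set G)) :
    ∃ y ∈ confY r (T : Subgroup G), y ∈ Subgroup.centralizer (X : Set G) ∧
      y⁻¹ * g ∈ confN0 r (T : Subgroup G) ∧ y⁻¹ * g ∈ Subgroup.centralizer (X : Set G) := by
  set Y := confY r (T : Subgroup G) with hY
  set N₀ := confN0 r (T : Subgroup G) with hN₀
  obtain ⟨y, hy, hn⟩ := conf_factor T hg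
  have hXY : X ≤ Subgroup.normalizer (Y : Set G) := fun x hx => le_normalizer_confY _ (hXN hx).1
  have hU : ∀ x ∈ X, y⁻¹ * x * y * x⁻¹ ∈ Y ⊓ N₀ := fun x hx => by
    refine Subgroup.mem_inf.2 ⟨?_, ?_⟩
    · rw [show y⁻¹ * x * y * x⁻¹ = y⁻¹ * (x * y * x⁻¹) by group]
      exact mul_mem (inv_mem hy) (conj_mem_of_mem_normalizer (hXY hx) hy)
    · have h1 : y⁻¹ * x * y * x⁻¹ = (y⁻¹ * g) * x * (y⁻¹ * g)⁻¹ * x⁻¹ := by
        have h2 := commute_of_mem_centralizer hgX hx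
        calc y⁻¹ * x * y * x⁻¹ = y⁻¹ * (x * g) * g⁻¹ * y * x⁻¹ := by group
          _ = _ := by rw [← h2]; group
      rw [h1]
      exact mul_mem (mul_mem (mul_mem hn (hXN hx)) (inv_mem hn)) (inv_mem (hXN hx))
  obtain ⟨a, ha, hya⟩ := exists_fixed_mul hX
    (fun h => not_dvd_card_confY (T : Subgroup G) (h.trans (Subgroup.card_dvd_of_le inf_le_left)))
    (fun x hx => Subgroup.mem_normalizer_fintype fun u hu => Subgroup.mem_inf.2
      ⟨conj_mem_of_mem_normalizer (hXY hx) (Subgroup.mem_inf.1 hu).1,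
        mul_mem (mul_mem (hXN hx) (Subgroup.mem_inf.1 hu).2) (inv_mem (hXN hx))⟩) hU
  have ha' := Subgroup.mem_inf.1 ha
  refine ⟨y * a, mul_mem hy ha'.1, hya, ?_, mul_mem (inv_mem hya) hgX⟩
  rw [_root_.mul_inv_rev, mul_assoc]
  exact mul_mem (inv_mem ha'.2) hn

variable {T}

section conf

variable {V : Subgroup G}

/-- The normal odd-order consequences of a configuration. -/
theorem confY_odd (hG : Hyp G) (hV : Conf r V (zjNorm (T : Subgroup G))) :
    Odd (Nat.card (confY r (T : Subgroup G))) := by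
  obtain ⟨-, hVN, K, hKO, hKr, hVK, hKV⟩ := hV
  by_contra hev
  have hVY := le_of_even_normal hG hVN (confY_le _) (le_normalizer_confY _) hev
  refine hKV fun k hk => Subgroup.mem_centralizer_iff.2 fun v hv => ?_
  have h1 : v * k * v⁻¹ * k⁻¹ ∈ K := mul_mem (conj_mem_of_mem_normalizer (hVK hv) hk) (inv_mem hk)
  have h2 : v * k * v⁻¹ * k⁻¹ ∈ confY r (T : Subgroup G) := by
    rw [show v * k * v⁻¹ * k⁻¹ = v * (k * v⁻¹ * k⁻¹) by group]
    exact mul_mem (hVY hv) (conj_mem_of_mem_normalizer (le_normalizer_confY _ (coreOf_le _ (hKO hk)))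
      (inv_mem (hVY hv)))
  obtain ⟨j, hj⟩ := hKr ⟨_, h1⟩
  have h3 := eq_one_of_pow_of_not_dvd (not_dvd_card_confY _) h2 (congrArg Subtype.val hj)
  calc v * k = v * k * v⁻¹ * k⁻¹ * (k * v) := by group
    _ = k * v := by rw [h3, one_mul]

theorem confY_le_coreOf (hG : Hyp G) (hV : Conf r V (zjNorm (T : Subgroup G))) :
    confY r (T : Subgroup G) ≤ coreOf (zjNorm (T : Subgroup G)) :=
  le_coreOf (confY_le _) (le_normalizer_confY _) (confY_odd hG hV)

/-- A configuration can be moved into `N₀` and stays fused there. -/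
theorem exists_conf_fused_confN0 (hG : Hyp G) (hV : Conf r V (zjNorm (T : Subgroup G))) :
    ∃ W : Subgroup G, Conf r W (zjNorm (T : Subgroup G)) ∧ FusedIn W (confN0 r (T : Subgroup G)) ∧
      ∃ g ∈ zjNorm (T : Subgroup G), W = V.map (MulAut.conj g).toMonoidHom := by
  haveI : Fact (Nat.Prime 2) := ⟨Nat.prime_two⟩
  have hYodd := confY_odd hG hV
  obtain ⟨htop, hVN, K, hKO, hKr, hVK, hKV⟩ := hV
  obtain ⟨h, hh, hmem⟩ := exists_conj_le_of_factor (p := 2) hVN.1.isPGroup hVN.2.1 (confY_le _)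
    hYodd.not_two_dvd_nat (fun g hg => conf_factor T hg)
  set W := V.map (MulAut.conj h).toMonoidHom with hW
  have hWN₀ : W ≤ confN0 r (T : Subgroup G) := by
    rintro _ ⟨v, hv, rfl⟩
    exact hmem v hv
  have hWN : FusedIn W (zjNorm (T : Subgroup G)) := by
    refine ⟨hVN.1.map _, hWN₀.trans (confN0_le _), ?_⟩
    rintro _ ⟨v, hv, rfl⟩ hv1 _ ⟨w, hw, rfl⟩ hw1
    obtain ⟨g, hgH, hgN, hgv⟩ := hVN.2.2 v hv (fun e => hv1 (by rw [e, map_one])) w hw
      (fun e => hw1 (by rw [e, map_one]))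
    refine ⟨h * g * h⁻¹, mul_mem (mul_mem hh hgH) (inv_mem hh), ?_, ?_⟩
    · rw [hW, ← MulAut.conj_apply]
      exact Subgroup.le_normalizer_map _ ⟨g, hgN, rfl⟩
    · rw [← hgv]
      simp only [MulEquiv.coe_toMonoidHom, MulAut.conj_apply]
      group
  refine ⟨W, ⟨htop, hWN, K.map (MulAut.conj h).toMonoidHom, ?_, hKr.map _, ?_, ?_⟩,
    hWN.factor (le_normalizer_confY _) (confY_le _) hYodd (confN0_le _) hWN₀ (fun g hg => conf_factor T hg),
    h, hh, hW⟩
  · rintro _ ⟨k, hk, rfl⟩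
    exact conj_mem_of_mem_normalizer (le_normalizer_coreOf _ hh) (hKO hk)
  · rintro _ ⟨v, hv, rfl⟩
    exact Subgroup.le_normalizer_map _ ⟨v, hVK hv, rfl⟩
  · intro hle
    refine hKV fun k hk => Subgroup.mem_centralizer_iff.2 fun v hv => ?_
    have h1 := Subgroup.mem_centralizer_iff.1 (hle ⟨k, hk, rfl⟩) _ ⟨v, hv, rfl⟩
    rw [← map_mul, ← map_mul] at h1
    exact (MulAut.conj h).injective h1

/-- An element of `O(N)` centralising `Q` modulo `Y` lies in `O_{r'r}(N)`. -/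
theorem mem_confM_of_centralizes {x : G} (hxO : x ∈ coreOf (zjNorm (T : Subgroup G)))
    (hx : ∀ q ∈ confQ r (T : Subgroup G), x * q * x⁻¹ * q⁻¹ ∈ confY r (T : Subgroup G)) :
    x ∈ confM r (T : Subgroup G) := by
  classical
  set N := zjNorm (T : Subgroup G) with hN
  obtain ⟨x, hxO, rfl⟩ := hxO
  set f := QuotientGroup.mk' (Cfsg.pPrimeCore r N) with hf
  have hfs : Function.Surjective f := QuotientGroup.mk'_surjective _
  set D := (Cfsg.oddCore N).map f with hD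
  haveI : (Cfsg.oddCore N).Normal := by unfold Cfsg.oddCore; infer_instance
  haveI : D.Normal := Subgroup.Normal.map inferInstance f hfs
  haveI : Group.IsSolvable ↥(Cfsg.oddCore N) := Cfsg.Agent.S0205.result Cores.oddCore_odd
  have hDsol : Cfsg.IsPSolvable r D := PSolvable.isPSolvable_map f (PSolvable.isPSolvable_of_isSolvable)
  have hD1 : Cfsg.pPrimeCore r D = ⊥ := by
    rw [← Subgroup.map_eq_bot_iff_of_injective _ D.subtype_injective, eq_bot_iff]
    have h1 := PSolvable.pPrimeCore_map_le_of_normal (p := r) D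
    rwa [Cores.pPrimeCore_quotient_pPrimeCore r] at h1
  have hxD : (⟨f x, x, hxO, rfl⟩ : D) ∈ Subgroup.centralizer (Cfsg.pCore r D : Set D) := by
    rw [Subgroup.mem_centralizer_iff]
    intro d hd
    have hdX : (d : N ⧸ Cfsg.pPrimeCore r N) ∈ Cfsg.pCore r (N ⧸ Cfsg.pPrimeCore r N) :=
      PSolvable.pCore_map_le_of_normal D ⟨d, hd, rfl⟩
    rw [← PSolvable.map_pPrimePCore] at hdX
    obtain ⟨m, hm, hmd⟩ := hdX
    obtain ⟨y, hy, q, hq, hmyq⟩ := confM_factor T ⟨m, hm, rfl⟩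
    have hqN : q ∈ N := (confQ_le_confN0 _ hq).1
    obtain ⟨y, hy, rfl⟩ := hy
    have hm' : f m = f ⟨q, hqN⟩ := by
      rw [show m = y * ⟨q, hqN⟩ from Subtype.ext hmyq, map_mul,
        show f y = 1 from (QuotientGroup.eq_one_iff y).2 hy, one_mul]
    obtain ⟨c, hc, hcv⟩ := hx q hq
    have h2 : f x * f ⟨q, hqN⟩ = f ⟨q, hqN⟩ * f x := by
      have h3 : c = x * ⟨q, hqN⟩ * x⁻¹ * (⟨q, hqN⟩ : N)⁻¹ := Subtype.ext hcv
      have h4 : f (x * ⟨q, hqN⟩ * x⁻¹ * (⟨q, hqN⟩ : N)⁻¹) = 1 := (QuotientGroup.eq_one_iff _).2 (h3 ▸ hc)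
      rw [map_mul, map_mul, map_mul, map_inv, map_inv, mul_inv_eq_one, mul_inv_eq_iff_eq_mul] at h4
      exact h4
    refine Subtype.ext ?_
    show (d : N ⧸ Cfsg.pPrimeCore r N) * f x = f x * d
    rw [← hmd, hm', h2]
  have h5 := PSolvable.pCore_map_le_of_normal (p := r) D
    ⟨_, PSolvable.centralizer_pCore_le hDsol hD1 hxD, rfl⟩
  exact ⟨x, h5, rfl⟩

/-- A fused four-group in `N₀` with a configuration moves `Q`. -/
theorem confQ_moved (hV : Conf r V (zjNorm (T : Subgroup G))) :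
    ¬ confQ r (T : Subgroup G) ≤ Subgroup.centralizer (V : Set G) := by
  intro hQV
  obtain ⟨-, hVN, K, hKO, hKr, hVK, hKV⟩ := hV
  refine hKV fun k hk => Subgroup.mem_centralizer_iff.2 fun v hv => ?_
  have hYn := le_normalizer_confY (r := r) (T : Subgroup G)
  set c := k * v * k⁻¹ * v⁻¹ with hc
  have hcK : c ∈ K := by
    rw [hc, show k * v * k⁻¹ * v⁻¹ = k * (v * k⁻¹ * v⁻¹) by group]
    exact mul_mem hk (conj_mem_of_mem_normalizer (hVK hv) (inv_mem hk))
  have hkN : k ∈ zjNorm (T : Subgroup G) := coreOf_le _ (hKO hk)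
  have hvN : v ∈ zjNorm (T : Subgroup G) := hVN.2.1 hv
  -- `v` centralises `O_{r'r}(N)` modulo `Y`
  have hvM : ∀ m ∈ confM r (T : Subgroup G), v * m * v⁻¹ * m⁻¹ ∈ confY r (T : Subgroup G) := by
    intro m hm
    obtain ⟨y, hy, q, hq, rfl⟩ := confM_factor T hm
    have h1 : v * (y * q) * v⁻¹ * (y * q)⁻¹ = (v * y * v⁻¹) * (v * q * v⁻¹ * q⁻¹) * y⁻¹ := by group
    have h2 : v * q * v⁻¹ * q⁻¹ = 1 := by
      rw [← commute_of_mem_centralizer (hQV hq) hv, mul_inv_cancel_right, mul_inv_cancel]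
    rw [h1, h2, mul_one]
    exact mul_mem (conj_mem_of_mem_normalizer (hYn hvN) hy) (inv_mem hy)
  have hcM : c ∈ confM r (T : Subgroup G) := by
    refine mem_confM_of_centralizes (hKO hcK) fun q hq => ?_
    have hqv := commute_of_mem_centralizer (hQV hq) hv
    have hqN : q ∈ zjNorm (T : Subgroup G) := (confQ_le_confN0 _ hq).1
    set q' := k⁻¹ * q * k with hq'
    have hq'M : q' ∈ confM r (T : Subgroup G) := by
      refine (Subgroup.mem_normalizer_iff''.1 (le_normalizer_confM _ hkN) q).1 ?_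
      exact (Subgroup.mem_inf.1 hq).2
    have h1 : c * q * c⁻¹ * q⁻¹ =
        k * (v * q' * v⁻¹ * q'⁻¹) * k⁻¹ := by
      have h2 : v⁻¹ * q * v = q := by rw [mul_assoc, hqv]; group
      rw [hc, hq']
      calc k * v * k⁻¹ * v⁻¹ * q * (k * v * k⁻¹ * v⁻¹)⁻¹ * q⁻¹
          = k * v * k⁻¹ * (v⁻¹ * q * v) * k * v⁻¹ * k⁻¹ * q⁻¹ := by group
        _ = _ := by rw [h2]; group
    rw [h1]
    exact conj_mem_of_mem_normalizer (hYn hkN) (hvM _ hq'M)
  have hvv : v⁻¹ = v := inv_eq_of_mul_eq_one_right (hVN.1.2 v hv)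
  have h3 : v * c * v⁻¹ * c⁻¹ = 1 := by
    obtain ⟨j, hj⟩ := hKr ⟨_, mul_mem (conj_mem_of_mem_normalizer (hVK hv) hcK) (inv_mem hcK)⟩
    exact eq_one_of_pow_of_not_dvd (not_dvd_card_confY _) (hvM c hcM) (congrArg Subtype.val hj)
  rw [mul_inv_eq_one] at h3
  have hinv : v * c * v⁻¹ = c⁻¹ := by
    rw [hc, hvv]
    simp only [_root_.mul_inv_rev, inv_inv, hvv, mul_assoc, hVN.1.2 v hv, mul_one]
  rw [h3] at hinv
  obtain ⟨j, hj⟩ := hKr ⟨c, hcK⟩
  have hc1 : c = 1 := by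
    refine orderOf_eq_one_iff.1 (Nat.eq_one_of_dvd_coprimes
      (Nat.coprime_two_right.2 (orderOf_odd_of_mem (coreOf_odd _) (hKO hcK))) dvd_rfl
      (orderOf_dvd_of_pow_eq_one ?_))
    rw [sq]; nth_rewrite 1 [hinv]; exact inv_mul_cancel c
  rw [hc, mul_inv_eq_one, mul_inv_eq_iff_eq_mul] at hc1
  exact hc1.symm

theorem confQ_ne_bot (hV : Conf r V (zjNorm (T : Subgroup G))) :
    confQ r (T : Subgroup G) ≠ ⊥ := ne_bot_of_moved (confQ_moved hV)

/-- `C_G(Q)` has odd order. -/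
theorem centralizer_confQ_odd (hG : Hyp G) (hV : Conf r V (zjNorm (T : Subgroup G))) :
    Odd (Nat.card (Subgroup.centralizer (confQ r (T : Subgroup G) : Set G))) := by
  obtain ⟨W, hW, hWN₀, -⟩ := exists_conf_fused_confN0 hG hV
  set Q := confQ r (T : Subgroup G) with hQ
  have hfus : FusedIn W (Subgroup.normalizer (Q : Set G)) :=
    ⟨hWN₀.1, hWN₀.2.1.trans (confN0_le_normalizer _), fun v hv hv1 w hw hw1 => by
      obtain ⟨g, hg, hgN, hgv⟩ := hWN₀.2.2 v hv hv1 w hw hw1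
      exact ⟨g, confN0_le_normalizer _ hg, hgN, hgv⟩⟩
  have hn : Subgroup.normalizer (Q : Set G) ≤
      Subgroup.normalizer (Subgroup.centralizer (Q : Set G) : Set G) := fun g hg =>
    Subgroup.mem_normalizer_fintype fun c hc => by
      rw [SetLike.mem_coe, Subgroup.mem_centralizer_iff]
      intro y hy
      have h1 := Subgroup.mem_centralizer_iff.1 hc _ ((Subgroup.mem_normalizer_iff''.1 hg y).1 hy)
      calc y * (g * c * g⁻¹) = g * (g⁻¹ * y * g * c) * g⁻¹ := by group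
        _ = g * c * g⁻¹ * y := by rw [h1]; group
  by_contra hev
  have hWC := le_of_even_normal hG hfus (Subgroup.centralizer_le_normalizer _) hn hev
  exact confQ_moved hW fun q hq => Subgroup.mem_centralizer_iff.2 fun v hv =>
    (Subgroup.mem_centralizer_iff.1 (hWC hv) q hq).symm

/-- No involution centralises `Q`. -/
theorem confQ_not_centralized (hG : Hyp G) (hV : Conf r V (zjNorm (T : Subgroup G))) {v : G}
    (hv : orderOf v = 2) : ¬ confQ r (T : Subgroup G) ≤ Subgroup.centralizer ({v} : Set G) := by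
  intro hle
  have h : v ∈ Subgroup.centralizer (confQ r (T : Subgroup G) : Set G) := by
    rw [Subgroup.mem_centralizer_iff]
    exact fun q hq => Subgroup.mem_centralizer_singleton_iff.1 (hle hq)
  have h2 := orderOf_odd_of_mem (centralizer_confQ_odd hG hV) h
  rw [hv] at h2
  exact absurd h2 (by decide)

/-- `C_N(Q) = (Y ∩ C(Q)) (Q ∩ C(Q))`. -/
theorem centralizer_confQ_factor (hG : Hyp G) (hV : Conf r V (zjNorm (T : Subgroup G))) {x : G}
    (hxN : x ∈ zjNorm (T : Subgroup G)) (hx : x ∈ Subgroup.centralizer (confQ r (T : Subgroup G) : Set G)) :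
    ∃ y ∈ confY r (T : Subgroup G), y ∈ Subgroup.centralizer (confQ r (T : Subgroup G) : Set G) ∧
      ∃ q ∈ confQ r (T : Subgroup G), q ∈ Subgroup.centralizer (confQ r (T : Subgroup G) : Set G) ∧
        x = y * q := by
  classical
  set N := zjNorm (T : Subgroup G) with hN
  set Y := confY r (T : Subgroup G) with hY
  set N₀ := confN0 r (T : Subgroup G) with hN₀
  set Q := confQ r (T : Subgroup G) with hQ
  set C := N ⊓ Subgroup.centralizer (Q : Set G) with hC
  have hCn : N₀ ≤ Subgroup.normalizer (C : Set G) := fun g hg =>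
    Subgroup.mem_normalizer_fintype fun c hc => by
      refine Subgroup.mem_inf.2 ⟨mul_mem (mul_mem hg.1 hc.1) (inv_mem hg.1), ?_⟩
      rw [Subgroup.mem_centralizer_iff]
      intro y hy
      have h1 := Subgroup.mem_centralizer_iff.1 hc.2 _ ((Subgroup.mem_normalizer_iff''.1 hg.2 y).1 hy)
      calc y * (g * c * g⁻¹) = g * (g⁻¹ * y * g * c) * g⁻¹ := by group
        _ = g * c * g⁻¹ * y := by rw [h1]; group
  have hCN₀ : C ≤ N₀ := le_inf inf_le_left (inf_le_right.trans (Subgroup.centralizer_le_normalizer _))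
  have hCodd : Odd (Nat.card C) :=
    (centralizer_confQ_odd hG hV).of_dvd_nat (Subgroup.card_dvd_of_le inf_le_right)
  have hCY : C ≤ Subgroup.normalizer (Y : Set G) := inf_le_left.trans (le_normalizer_confY _)
  set D := Y ⊔ C with hD
  have hDset : ∀ d ∈ D, ∃ y ∈ Y, ∃ c ∈ C, d = y * c := by
    intro d hd
    rw [hD, ← SetLike.mem_coe, Subgroup.coe_mul_of_right_le_normalizer_left _ _ hCY] at hd
    obtain ⟨a, ha, u, hu, rfl⟩ := hd
    exact ⟨a, ha, u, hu, rfl⟩
  have hDodd : Odd (Nat.card D) := by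
    haveI : (Y.subgroupOf D).Normal :=
      Subgroup.normal_subgroupOf_of_le_normalizer (sup_le Subgroup.le_normalizer hCY)
    rw [← Subgroup.card_mul_index (Y.subgroupOf D),
      Nat.card_congr (Subgroup.subgroupOfEquivOfLe le_sup_left).toEquiv]
    refine (confY_odd hG hV).mul (Odd.of_dvd_nat hCodd ?_)
    let φ : C →* D ⧸ Y.subgroupOf D := (QuotientGroup.mk' _).comp (Subgroup.inclusion le_sup_right)
    have hφ : Function.Surjective φ := by
      intro q
      obtain ⟨d, rfl⟩ := QuotientGroup.mk_surjective q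
      obtain ⟨y, hy, c, hc, hdyc⟩ := hDset d d.2
      refine ⟨⟨c, hc⟩, QuotientGroup.eq.2 (Subgroup.mem_subgroupOf.2 ?_)⟩
      show c⁻¹ * (d : G) ∈ Y
      rw [hdyc, ← mul_assoc]
      exact (Subgroup.mem_normalizer_iff''.1 (hCY hc) y).1 hy
    rw [Subgroup.index_eq_card]
    exact Subgroup.card_dvd_of_surjective φ hφ
  have hDn : N ≤ Subgroup.normalizer (D : Set G) := fun g hg => by
    obtain ⟨y, hy, hn⟩ := conf_factor T hg
    refine Subgroup.mem_normalizer_fintype fun d hd => ?_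
    obtain ⟨y', hy', c, hc, rfl⟩ := hDset d hd
    rw [show g * (y' * c) * g⁻¹ = (g * y' * g⁻¹) *
      (y * ((y⁻¹ * g) * c * (y⁻¹ * g)⁻¹) * y⁻¹) by group]
    have hyD : y ∈ D := (le_sup_left : Y ≤ D) hy
    exact mul_mem ((le_sup_left : Y ≤ D) (conj_mem_of_mem_normalizer (le_normalizer_confY _ hg) hy'))
      (mul_mem (mul_mem hyD ((le_sup_right : C ≤ D) (conj_mem_of_mem_normalizer (hCn hn) hc))) (inv_mem hyD))
  have hxO : x ∈ coreOf N := le_coreOf (sup_le (confY_le _) inf_le_left) hDn hDodd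
    ((le_sup_right : C ≤ D) (Subgroup.mem_inf.2 ⟨hxN, hx⟩))
  obtain ⟨y, hy, q, hq, rfl⟩ := confM_factor T (mem_confM_of_centralizes hxO fun q hq => by
    rw [commute_of_mem_centralizer hx hq, mul_inv_cancel_right, mul_inv_cancel]
    exact one_mem _)
  have hyN₀ : y ∈ N₀ := by
    have h1 := mul_mem (hCN₀ (Subgroup.mem_inf.2 ⟨hxN, hx⟩)) (inv_mem (confQ_le_confN0 _ hq))
    rwa [mul_inv_cancel_right] at h1
  have hyC := confY_inf_le_centralizer T (Subgroup.mem_inf.2 ⟨hy, hyN₀⟩)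
  refine ⟨y, hy, hyC, q, hq, ?_, rfl⟩
  have h2 := mul_mem (inv_mem hyC) hx
  rwa [inv_mul_cancel_left] at h2

end conf

variable (T)

/-- An `r`-subgroup centralising an `r`-subgroup `X` of `N` moves into `N` inside `C(X)`. -/
theorem exists_conj_centralizer_le (hG : Hyp G) (hr : r ≠ 2) {X R : Subgroup G} (hX : IsPGroup r X)
    (hXN : X ≤ zjNorm (T : Subgroup G)) (hR : IsPGroup r R) (hRX : R ≤ Subgroup.centralizer (X : Set G)) :
    ∃ c ∈ Subgroup.centralizer (X : Set G), ∀ y ∈ R, c * y * c⁻¹ ∈ zjNorm (T : Subgroup G) := by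
  obtain ⟨Q, hQ⟩ := (hR.to_sup_of_normal_right' hX
    (hRX.trans (Subgroup.centralizer_le_normalizer _))).exists_le_sylow
  obtain ⟨g, hg⟩ := MulAction.exists_smul_eq G Q T
  have hmem : ∀ y ∈ R ⊔ X, g * y * g⁻¹ ∈ zjNorm (T : Subgroup G) := fun y hy => le_zjNorm _ (by
    rw [← hg]
    exact Subgroup.smul_mem_pointwise_smul _ (MulAut.conj g) (Q : Subgroup G) (hQ hy))
  obtain ⟨n, hn, c, hc, rfl⟩ := fusion_control hG hr T hX hXN g fun x hx => hmem x (le_sup_right (a := R) hx)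
  refine ⟨c, hc, fun y hy => ?_⟩
  have h1 := mul_mem (mul_mem (inv_mem hn) (hmem y (le_sup_left (b := X) hy))) hn
  convert h1 using 1
  group

/-- The splitting lemma: a factorisation `C(e) = θ(e) C_N(e)` descends to the centraliser of an `r`-subgroup
`X` of `N` with `e` central in `X`. -/
theorem centralizer_split {e : G} (hfac : ∀ c : G, c * e = e * c →
      ∃ w ∈ coreR r e, w⁻¹ * c ∈ zjNorm (T : Subgroup G))
    {X : Subgroup G} (hX : IsPGroup r X) (hXN : X ≤ zjNorm (T : Subgroup G)) (heX : e ∈ X)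
    (hec : ∀ x ∈ X, x * e = e * x) {c : G} (hc : c ∈ Subgroup.centralizer (X : Set G)) :
    ∃ w ∈ coreR r e, w ∈ Subgroup.centralizer (X : Set G) ∧ w⁻¹ * c ∈ zjNorm (T : Subgroup G) ∧
      w⁻¹ * c ∈ Subgroup.centralizer (X : Set G) := by
  set θ := coreR r e with hθ
  set N := zjNorm (T : Subgroup G) with hN
  have hXθ : X ≤ Subgroup.normalizer (θ : Set G) := fun x hx =>
    centralizer_le_normalizer_coreR r e (Subgroup.mem_centralizer_singleton_iff.2 (hec x hx))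
  obtain ⟨w, hw, hn⟩ := hfac c (commute_of_mem_centralizer hc heX)
  have hU : ∀ x ∈ X, w⁻¹ * x * w * x⁻¹ ∈ θ ⊓ N := fun x hx => by
    refine Subgroup.mem_inf.2 ⟨?_, ?_⟩
    · rw [show w⁻¹ * x * w * x⁻¹ = w⁻¹ * (x * w * x⁻¹) by group]
      exact mul_mem (inv_mem hw) (conj_mem_of_mem_normalizer (hXθ hx) hw)
    · have h2 := commute_of_mem_centralizer hc hx
      have h1 : w⁻¹ * x * w * x⁻¹ = (w⁻¹ * c) * x * (w⁻¹ * c)⁻¹ * x⁻¹ := by
        calc w⁻¹ * x * w * x⁻¹ = w⁻¹ * (x * c) * c⁻¹ * w * x⁻¹ := by group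
          _ = _ := by rw [← h2]; group
      rw [h1]
      exact mul_mem (mul_mem (mul_mem hn (hXN hx)) (inv_mem hn)) (inv_mem (hXN hx))
  obtain ⟨a, ha, hwa⟩ := exists_fixed_mul hX
    (fun h => not_dvd_card_coreR r e (h.trans (Subgroup.card_dvd_of_le inf_le_left)))
    (fun x hx => Subgroup.mem_normalizer_fintype fun u hu => Subgroup.mem_inf.2
      ⟨conj_mem_of_mem_normalizer (hXθ hx) (Subgroup.mem_inf.1 hu).1,
        mul_mem (mul_mem (hXN hx) (Subgroup.mem_inf.1 hu).2) (inv_mem (hXN hx))⟩) hU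
  have ha' := Subgroup.mem_inf.1 ha
  refine ⟨w * a, mul_mem hw ha'.1, hwa, ?_, mul_mem (inv_mem hwa) hc⟩
  rw [_root_.mul_inv_rev, mul_assoc]
  exact mul_mem (inv_mem ha'.2) hn

/-- K1: given the factorisations `C(t) = U_t C_N(t)`, every 2-subgroup centralising an `r`-subgroup `X` of `N`
moves into `N` inside `C(X)`. -/
theorem exists_conj_two_centralizer_le (hG : Hyp G) (hr : r ≠ 2) {V : Subgroup G}
    (hV : Conf r V (zjNorm (T : Subgroup G)))
    (hF4 : ∀ t ∈ zjNorm (T : Subgroup G), orderOf t = 2 → ∀ g : G, g * t = t * g →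
      ∃ w ∈ coreR r t, w⁻¹ * g ∈ zjNorm (T : Subgroup G))
    {X W : Subgroup G} (hX : IsPGroup r X) (hXN : X ≤ zjNorm (T : Subgroup G)) (hW : IsPGroup 2 W)
    (hWX : W ≤ Subgroup.centralizer (X : Set G)) :
    ∃ c ∈ Subgroup.centralizer (X : Set G), ∀ w ∈ W, c * w * c⁻¹ ∈ zjNorm (T : Subgroup G) := by
  classical
  haveI : Fact (Nat.Prime 2) := ⟨Nat.prime_two⟩
  set N := zjNorm (T : Subgroup G) with hN
  by_cases hW1 : W = ⊥
  · refine ⟨1, one_mem _, fun w hw => ?_⟩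
    rw [hW1, Subgroup.mem_bot] at hw
    simp [hw, one_mem]
  obtain ⟨z, hzW, hzo, hzc⟩ := exists_central_involution hW hW1
  obtain ⟨t, htV, ht1⟩ := V.bot_or_exists_ne_one.resolve_left hV.2.1.1.ne_bot
  have ht : orderOf t = 2 := hV.2.1.1.orderOf_eq htV ht1
  have htN : t ∈ N := hV.2.1.2.1 htV
  obtain ⟨g, hg⟩ := isConj_iff.1 (hG.isConj hzo ht)
  set H₁ := Subgroup.centralizer ({t} : Set G) with hH₁
  obtain ⟨k, hk, hkX⟩ := exists_conj_le_of_factor (p := r) (H := H₁) (L := N) (Y := coreR r t)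
    (W := X.map (MulAut.conj g).toMonoidHom) (hX.map _) (by
      rintro _ ⟨x, hx, rfl⟩
      rw [Subgroup.mem_centralizer_singleton_iff, ← hg]
      have h1 := commute_of_mem_centralizer (hWX hzW) hx
      simp only [MulEquiv.coe_toMonoidHom, MulAut.conj_apply]
      calc g * x * g⁻¹ * (g * z * g⁻¹) = g * (x * z) * g⁻¹ := by group
        _ = g * z * g⁻¹ * (g * x * g⁻¹) := by rw [← h1]; group)
    (coreR_le r t) (not_dvd_card_coreR r t)
    (fun h hh => hF4 t htN ht h (Subgroup.mem_centralizer_singleton_iff.1 hh))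
  obtain ⟨n, hn, c, hc, hkg⟩ := fusion_control hG hr T hX hXN (k * g) fun x hx => by
    have h1 := hkX _ ⟨x, hx, rfl⟩
    convert h1 using 1
    simp only [MulEquiv.coe_toMonoidHom, MulAut.conj_apply]
    group
  set t' := c * z * c⁻¹ with ht'
  have hkt : k * t = t * k := Subgroup.mem_centralizer_singleton_iff.1 hk
  have ht'N : t' ∈ N := by
    have h1 : t' = n⁻¹ * t * n := by
      have h2 : n * t' * n⁻¹ = t := by
        rw [ht', show n * (c * z * c⁻¹) * n⁻¹ = (n * c) * z * (n * c)⁻¹ by group, ← hkg,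
          show k * g * z * (k * g)⁻¹ = k * (g * z * g⁻¹) * k⁻¹ by group, hg, hkt, mul_inv_cancel_right]
      rw [← h2]; group
    rw [h1]
    exact mul_mem (mul_mem (inv_mem hn) htN) hn
  have ht'2 : orderOf t' = 2 := by
    rw [ht', ← MulAut.conj_apply, MulEquiv.orderOf_eq, hzo]
  set CX := Subgroup.centralizer (X : Set G) with hCX
  set H := CX ⊓ Subgroup.centralizer ({t'} : Set G) with hH
  set U := coreR r t' with hUdef
  have ht'X : t' ∈ CX := mul_mem (mul_mem hc (hWX hzW)) (inv_mem hc)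
  have hXt' : ∀ x ∈ X, x * t' = t' * x := fun x hx => (commute_of_mem_centralizer ht'X hx).symm
  have hfac : ∀ h ∈ H, ∃ y ∈ CX ⊓ U, y⁻¹ * h ∈ N := by
    intro h hh
    have hh' := Subgroup.mem_inf.1 hh
    obtain ⟨u, hu, hum⟩ := hF4 t' ht'N ht'2 h (Subgroup.mem_centralizer_singleton_iff.1 hh'.2)
    have hXU : X ≤ Subgroup.normalizer (U : Set G) := fun x hx =>
      centralizer_le_normalizer_coreR r t' (Subgroup.mem_centralizer_singleton_iff.2 (hXt' x hx))
    have hU : ∀ x ∈ X, u⁻¹ * x * u * x⁻¹ ∈ U ⊓ N := fun x hx => by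
      refine Subgroup.mem_inf.2 ⟨?_, ?_⟩
      · rw [show u⁻¹ * x * u * x⁻¹ = u⁻¹ * (x * u * x⁻¹) by group]
        exact mul_mem (inv_mem hu) (conj_mem_of_mem_normalizer (hXU hx) hu)
      · have h2 := commute_of_mem_centralizer hh'.1 hx
        have h1 : u⁻¹ * x * u * x⁻¹ = (u⁻¹ * h) * x * (u⁻¹ * h)⁻¹ * x⁻¹ := by
          calc u⁻¹ * x * u * x⁻¹ = u⁻¹ * (x * h) * h⁻¹ * u * x⁻¹ := by group
            _ = _ := by rw [← h2]; group
        rw [h1]
        exact mul_mem (mul_mem (mul_mem hum (hXN hx)) (inv_mem hum)) (inv_mem (hXN hx))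
    obtain ⟨a, ha, hua⟩ := exists_fixed_mul hX
      (fun h' => not_dvd_card_coreR r t' (h'.trans (Subgroup.card_dvd_of_le inf_le_left)))
      (fun x hx => Subgroup.mem_normalizer_fintype fun v hv => Subgroup.mem_inf.2
        ⟨conj_mem_of_mem_normalizer (hXU hx) (Subgroup.mem_inf.1 hv).1,
          mul_mem (mul_mem (hXN hx) (Subgroup.mem_inf.1 hv).2) (inv_mem (hXN hx))⟩) hU
    have ha' := Subgroup.mem_inf.1 ha
    refine ⟨u * a, Subgroup.mem_inf.2 ⟨hua, mul_mem hu ha'.1⟩, ?_⟩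
    rw [_root_.mul_inv_rev, mul_assoc]
    exact mul_mem (inv_mem ha'.2) hum
  obtain ⟨d, hd, hdW⟩ := exists_conj_le_of_factor (p := 2) (H := H) (Y := CX ⊓ U)
    (W := W.map (MulAut.conj c).toMonoidHom) (hW.map _) (by
      rintro _ ⟨w, hw, rfl⟩
      refine Subgroup.mem_inf.2 ⟨mul_mem (mul_mem hc (hWX hw)) (inv_mem hc),
        Subgroup.mem_centralizer_singleton_iff.2 ?_⟩
      simp only [MulEquiv.coe_toMonoidHom, MulAut.conj_apply]
      rw [ht', show c * w * c⁻¹ * (c * z * c⁻¹) = c * (w * z) * c⁻¹ by group, hzc w hw]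
      group)
    (inf_le_inf_left _ (coreR_le r t'))
    ((coreR_odd r t').of_dvd_nat (Subgroup.card_dvd_of_le inf_le_right)).not_two_dvd_nat hfac
  refine ⟨d * c, mul_mem (Subgroup.mem_inf.1 hd).1 hc, fun w hw => ?_⟩
  have h1 := hdW _ ⟨w, hw, rfl⟩
  convert h1 using 1
  simp only [MulEquiv.coe_toMonoidHom, MulAut.conj_apply]
  group

end Cfsg.Agent.Lib.GorensteinWalter
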