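import Cfsg.Agent.Lib.GorensteinWalter.InterfaceG
import Cfsg.Agent.Lib.GorensteinWalter.ConfSetup
import Cfsg.Agent.Lib.GorensteinWalter.TrivialCores

/-!
# Fused centralisers (section C)

For a prime `p` without configuration and a `p`-subgroup `Y ≠ 1` centralised by a four-group `V`, the centraliser
of `Y` is fused at `V`, unless the `A₇`-like exception at `3` occurs.  Take an `S`-invariant Sylow `p`-subgroup `R`
of `O(C(t))`, so that `Y` may be assumed to lie in `R ∩ C(a)`.  If `a` moves `R`, an element inverted by `a` shows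
that `C(R ∩ C(a))` is fused at `V`.  Otherwise the models apply to the normaliser of `R ∩ C(b)`.
-/

set_option autoImplicit false
set_option linter.unusedSectionVars false
set_option linter.style.haveILetI false

namespace Cfsg.Agent.Lib.GorensteinWalter

open Cfsg.Agent.Lib.Fusion.Dihedral

universe u

variable {G : Type u} [Group G] [Finite G]

/-! ## Tools -/

/-- The elements of a four-group through two of its involutions. -/
theorem four_cases {V : Subgroup G} (hV : IsFour V) {t a : G} (ht : t ∈ V) (ha : a ∈ V) (ht1 : t ≠ 1)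
    (ha1 : a ≠ 1) (hne : t ≠ a) {x : G} (hx : x ∈ V) : x = 1 ∨ x = t ∨ x = a ∨ x = t * a := by
  obtain ⟨W, hW, htW, haW, -⟩ := exists_isFour (hV.2 t ht) (hV.2 a ha) (hV.comm ht ha) ht1 ha1 hne
  have hWV : W ≤ V := hW.eq_of_mem htW haW ht1 ha1 hne ht ha
  by_contra hcon
  push Not at hcon
  obtain ⟨hx1, hxt, hxa, hxta⟩ := hcon
  classical
  have hta1 : t * a ≠ 1 := fun e => hne (by
    calc t = t * (a * a) := by rw [hV.2 a ha, mul_one]
      _ = a := by rw [← mul_assoc, e, one_mul])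
  have htat : t * a ≠ t := fun e => ha1 (mul_eq_left.1 e)
  have htaa : t * a ≠ a := fun e => ht1 (mul_eq_right.1 e)
  have hsub : ({1, t, a, t * a, x} : Finset G) ⊆ (V : Set G).toFinite.toFinset := by
    intro y hy
    simp only [Finset.mem_insert, Finset.mem_singleton] at hy
    rw [Set.Finite.mem_toFinset]
    rcases hy with rfl | rfl | rfl | rfl | rfl
    exacts [one_mem V, ht, ha, mul_mem ht ha, hx]
  have h5 := Finset.card_le_card hsub
  rw [← Set.ncard_eq_toFinset_card (V : Set G) (Set.toFinite _), ← Nat.card_coe_set_eq] at h5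
  have h4 : Nat.card (V : Set G) = 4 := hV.1
  rw [h4, Finset.card_insert_of_notMem (by simp [ht1.symm, ha1.symm, hta1.symm, hx1.symm]),
    Finset.card_insert_of_notMem (by simp [hne, htat.symm, hxt.symm]),
    Finset.card_insert_of_notMem (by simp [htaa.symm, hxa.symm]),
    Finset.card_insert_of_notMem (by simp [hxta.symm]), Finset.card_singleton] at h5
  omega

/-- The four-group of two commuting involutions is their closure. -/
theorem fourOf_eq {V : Subgroup G} (hV : IsFour V) {t a : G} (ht : t ∈ V) (ha : a ∈ V) (ht1 : t ≠ 1)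
    (ha1 : a ≠ 1) (hne : t ≠ a) : fourOf t a = V := by
  refine le_antisymm ((Subgroup.closure_le V).2 ?_) fun x hx => ?_
  · rintro y (rfl | rfl)
    exacts [ht, ha]
  have htc : t ∈ fourOf t a := Subgroup.subset_closure (Set.mem_insert t {a})
  have hac : a ∈ fourOf t a := Subgroup.subset_closure (Set.mem_insert_of_mem t rfl)
  rcases four_cases hV ht ha ht1 ha1 hne hx with rfl | rfl | rfl | rfl
  exacts [one_mem _, htc, hac, mul_mem htc hac]

/-- Transitivity on the involutions follows from one involution reaching the other two. -/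
theorem fusedIn_of_reach {V H : Subgroup G} (hV : IsFour V) (hVH : V ≤ H) {t a : G} (ht : t ∈ V)
    (ha : a ∈ V) (ht1 : t ≠ 1) (ha1 : a ≠ 1) (hne : t ≠ a)
    (h₁ : ∃ g ∈ H, g ∈ Subgroup.normalizer (V : Set G) ∧ g * a * g⁻¹ = t)
    (h₂ : ∃ g ∈ H, g ∈ Subgroup.normalizer (V : Set G) ∧ g * a * g⁻¹ = t * a) : FusedIn V H := by
  have reach : ∀ v ∈ V, v ≠ 1 → ∃ g ∈ H, g ∈ Subgroup.normalizer (V : Set G) ∧ g * a * g⁻¹ = v := by
    intro v hv hv1
    rcases four_cases hV ht ha ht1 ha1 hne hv with rfl | rfl | rfl | rfl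
    exacts [absurd rfl hv1, h₁, ⟨1, one_mem _, one_mem _, by group⟩, h₂]
  refine ⟨hV, hVH, fun v hv hv1 w hw hw1 => ?_⟩
  obtain ⟨g, hg, hgN, hgv⟩ := reach v hv hv1
  obtain ⟨k, hk, hkN, hkw⟩ := reach w hw hw1
  refine ⟨k * g⁻¹, mul_mem hk (inv_mem hg), mul_mem hkN (inv_mem hgN), ?_⟩
  rw [← hgv, ← hkw]
  group

theorem FusedIn.mono {V H K : Subgroup G} (h : FusedIn V H) (hHK : H ≤ K) : FusedIn V K :=
  ⟨h.1, h.2.1.trans hHK, fun v hv hv1 w hw hw1 => by
    obtain ⟨g, hg, hgN, hgv⟩ := h.2.2 v hv hv1 w hw hw1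
    exact ⟨g, hHK hg, hgN, hgv⟩⟩

/-- Conjugating by an element centralising `V`. -/
theorem FusedIn.of_conj {V H K : Subgroup G} (h : FusedIn V H) {c : G}
    (hc : c ∈ Subgroup.centralizer (V : Set G)) (hHK : ∀ x ∈ H, c⁻¹ * x * c ∈ K) : FusedIn V K := by
  have hcv : ∀ v ∈ V, c * v = v * c := fun v hv => (Subgroup.mem_centralizer_iff.1 hc v hv).symm
  refine ⟨h.1, fun v hv => ?_, fun v hv hv1 w hw hw1 => ?_⟩
  · have h1 := hHK v (h.2.1 hv)
    rwa [mul_assoc, ← hcv v hv, inv_mul_cancel_left] at h1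
  · obtain ⟨g, hg, hgN, hgv⟩ := h.2.2 v hv hv1 w hw hw1
    have hcN : c ∈ Subgroup.normalizer (V : Set G) := Subgroup.centralizer_le_normalizer _ hc
    refine ⟨c⁻¹ * g * c, hHK g hg, mul_mem (mul_mem (inv_mem hcN) hgN) hcN, ?_⟩
    calc c⁻¹ * g * c * v * (c⁻¹ * g * c)⁻¹ = c⁻¹ * (g * (c * v * c⁻¹) * g⁻¹) * c := by group
      _ = c⁻¹ * w * c := by rw [hcv v hv, mul_inv_cancel_right, hgv]
      _ = w := by rw [mul_assoc, ← hcv w hw, inv_mul_cancel_left]

theorem normalizer_le_normalizer_coreOf (C : Subgroup G) :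
    Subgroup.normalizer (C : Set G) ≤ Subgroup.normalizer (coreOf C : Set G) := by
  intro g hg
  refine Subgroup.mem_normalizer_fintype ?_
  rintro _ ⟨a, ha, rfl⟩
  let φ : C ≃* C :=
    { toFun := fun y => ⟨g * y * g⁻¹, conj_mem_of_mem_normalizer hg y.2⟩
      invFun := fun y => ⟨g⁻¹ * y * g, (Subgroup.mem_normalizer_iff''.1 hg y).1 y.2⟩
      left_inv := fun y => Subtype.ext (by simp [mul_assoc])
      right_inv := fun y => Subtype.ext (by simp [mul_assoc])
      map_mul' := fun y z => Subtype.ext (by simp [mul_assoc]) }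
  refine ⟨φ a, ?_, rfl⟩
  show φ a ∈ Cfsg.pPrimeCore 2 C
  rw [← Cores.map_pPrimeCore_equiv φ]
  exact ⟨a, ha, rfl⟩

theorem normalizer_le_normalizer_centralizer (X : Subgroup G) :
    Subgroup.normalizer (X : Set G) ≤
      Subgroup.normalizer (Subgroup.centralizer (X : Set G) : Set G) := fun g hg =>
  Subgroup.mem_normalizer_fintype fun c hc => by
    rw [SetLike.mem_coe, Subgroup.mem_centralizer_iff]
    intro y hy
    have h1 := Subgroup.mem_centralizer_iff.1 hc _ ((Subgroup.mem_normalizer_iff''.1 hg y).1 hy)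
    calc y * (g * c * g⁻¹) = g * (g⁻¹ * y * g * c) * g⁻¹ := by group
      _ = g * c * g⁻¹ * y := by rw [h1]; group

/-- A moved subgroup of odd order contains an element that the involution inverts. -/
theorem exists_inverted {K : Subgroup G} {s x : G} (hs : s * s = 1)
    (hn : ∀ y ∈ K, s * y * s⁻¹ ∈ K) (hx : x ∈ K) (hmov : s * x ≠ x * s) :
    ∃ y ∈ K, y ≠ 1 ∧ s * y * s⁻¹ = y⁻¹ := by
  have hsi : s⁻¹ = s := inv_eq_of_mul_eq_one_right hs
  refine ⟨x⁻¹ * (s * x * s⁻¹), mul_mem (inv_mem hx) (hn x hx), fun e => hmov ?_, ?_⟩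
  · rw [inv_mul_eq_one] at e
    calc s * x = s * x * s⁻¹ * s := by group
      _ = x * s := by rw [← e]
  · have hss : ∀ w : G, s * (s * w) = w := fun w => by rw [← mul_assoc, hs, one_mul]
    simp only [_root_.mul_inv_rev, inv_inv, hsi, mul_assoc, hss, hs, mul_one]

/-- An element and its inverse cannot coincide in odd order. -/
theorem eq_one_of_eq_inv {y : G} (hodd : Odd (orderOf y)) (h : y = y⁻¹) : y = 1 :=
  orderOf_eq_one_iff.1 (Nat.eq_one_of_dvd_coprimes (Nat.coprime_two_right.2 hodd) dvd_rfl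
    (orderOf_dvd_of_pow_eq_one (by rw [sq]; nth_rewrite 1 [h]; exact inv_mul_cancel y)))

/-- The `p`-subgroups centralised by a four-group `V` move into `R ∩ C(u)`. -/
theorem exists_conj_le_fixed (hG : Hyp G) {p : ℕ} [Fact p.Prime] {V R Y : Subgroup G} (hV : IsFour V)
    {t u : G} (ht : t ∈ V) (hu : u ∈ V) (ht1 : t ≠ 1) (hu1 : u ≠ 1) (hne : t ≠ u) (hRp : IsPGroup p R)
    (hR : R ≤ coreC t) (hRcard : Nat.card R = p ^ (Nat.card (coreC t)).factorization p)
    (hVR : V ≤ Subgroup.normalizer (R : Set G)) (hY : IsPGroup p Y) (hYV : Y ≤ coreV V) :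
    ∃ c ∈ Subgroup.centralizer (V : Set G), ∀ y ∈ Y, c * y * c⁻¹ ∈ R ⊓ Subgroup.centralizer ({u} : Set G) := by
  have hYO : Y ≤ coreC t := hYV.trans ((hG.coreV_eq hV ht ht1).le.trans inf_le_left)
  have hVO : V ≤ Subgroup.normalizer (coreC t : Set G) := fun v hv =>
    centralizer_le_normalizer_coreC t (Subgroup.mem_centralizer_singleton_iff.2 (hV.comm hv ht))
  have hcop : (Nat.card V).Coprime (Nat.card (coreC t)) := by
    rw [hV.1]; exact (Nat.coprime_two_left.2 (coreC_odd t)).pow_left 2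
  have hsolv : Group.IsSolvable V ∨ Group.IsSolvable (coreC t) := Or.inr (isSolvable_coreC t)
  have hVY : V ≤ Subgroup.normalizer (Y : Set G) := fun v hv =>
    Subgroup.mem_normalizer_fintype fun y hy => by
      rw [SetLike.mem_coe, Subgroup.mem_centralizer_iff.1 (coreV_le V (hYV hy)) v hv, mul_inv_cancel_right]
      exact hy
  obtain ⟨P, hYP, hVP⟩ := Coprime.exists_invariant_sylow_ge hVO hcop hsolv p Y hYO hY hVY
  obtain ⟨R₀, hR₀⟩ := Coprime.exists_sylow_of_card hR hRcard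
  obtain ⟨c, hc, hce⟩ := Coprime.exists_conj_invariant_sylow hVO hcop hsolv P R₀ hVP (hR₀ ▸ hVR)
  rw [hR₀] at hce
  refine ⟨c, hc.2, fun y hy => Subgroup.mem_inf.2 ⟨?_, ?_⟩⟩
  · rw [← hce]
    exact ⟨y, hYP hy, rfl⟩
  · rw [Subgroup.mem_centralizer_singleton_iff]
    have h1 := Subgroup.mem_centralizer_iff.1 hc.2 u hu
    have h2 := Subgroup.mem_centralizer_iff.1 (coreV_le V (hYV hy)) u hu
    have h3 : c * u * c⁻¹ = u := by rw [← h1, mul_inv_cancel_right]
    calc c * y * c⁻¹ * u = c * y * c⁻¹ * (c * u * c⁻¹) := by rw [h3]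
      _ = c * (u * y) * c⁻¹ := by rw [h2]; group
      _ = c * u * c⁻¹ * (c * y * c⁻¹) := by group
      _ = u * (c * y * c⁻¹) := by rw [h3]

/-- `N(R ∩ C(u))` is fused at `⟨t, u⟩`. -/
theorem fusedIn_normalizer_fixed (hG : Hyp G) {p : ℕ} [Fact p.Prime] {V R : Subgroup G} (hV : IsFour V)
    {t u : G} (ht : t ∈ V) (hu : u ∈ V) (ht1 : t ≠ 1) (hu1 : u ≠ 1) (hne : t ≠ u) (hRp : IsPGroup p R)
    (hR : R ≤ coreC t) (hRcard : Nat.card R = p ^ (Nat.card (coreC t)).factorization p)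
    (hVR : V ≤ Subgroup.normalizer (R : Set G)) :
    FusedIn V (Subgroup.normalizer ((R ⊓ Subgroup.centralizer ({u} : Set G) : Subgroup G) : Set G)) := by
  set X := R ⊓ Subgroup.centralizer ({u} : Set G) with hX
  have hXV : X ≤ coreV V := by
    rw [← hG.coreC_inf_eq hV ht ht1 hu hu1 hne]
    exact inf_le_inf_right _ hR
  have hXc : ∀ v ∈ V, ∀ x ∈ X, v * x = x * v := fun v hv x hx =>
    Subgroup.mem_centralizer_iff.1 (coreV_le V (hXV hx)) v hv
  refine ⟨hV, fun v hv => Subgroup.mem_normalizer_fintype fun x hx => by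
    rw [SetLike.mem_coe, hXc v hv x hx, mul_inv_cancel_right]; exact hx, fun v hv hv1 w hw hw1 => ?_⟩
  obtain ⟨g, -, hgN, hgv⟩ := (hG.fusedIn_top hV).2.2 v hv hv1 w hw hw1
  have hgX : X.map (MulAut.conj g).toMonoidHom ≤ coreV V := by
    rintro _ ⟨x, hx, rfl⟩
    refine hG.mem_coreV hV (Subgroup.mem_centralizer_iff.2 fun v' hv' => ?_) ?_
    · have h1 := hXc _ ((Subgroup.mem_normalizer_iff''.1 hgN v').1 hv') x hx
      simp only [MulEquiv.coe_toMonoidHom, MulAut.conj_apply]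
      calc v' * (g * x * g⁻¹) = g * (g⁻¹ * v' * g * x) * g⁻¹ := by group
        _ = g * x * g⁻¹ * v' := by rw [h1]; group
    · show Odd (orderOf ((MulAut.conj g) x))
      rw [MulEquiv.orderOf_eq]
      exact orderOf_odd_of_mem (coreV_odd V) (hXV hx)
  obtain ⟨c, hc, hcX⟩ := exists_conj_le_fixed hG hV ht hu ht1 hu1 hne hRp hR hRcard hVR
    ((hRp.to_le inf_le_left : IsPGroup p X).map (MulAut.conj g).toMonoidHom) hgX
  refine ⟨c * g, Subgroup.mem_normalizer_fintype fun x hx => ?_,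
    mul_mem (Subgroup.centralizer_le_normalizer _ hc) hgN, ?_⟩
  · rw [SetLike.mem_coe, show c * g * x * (c * g)⁻¹ = c * (g * x * g⁻¹) * c⁻¹ by group]
    exact hcX _ ⟨x, hx, rfl⟩
  · calc c * g * v * (c * g)⁻¹ = c * (g * v * g⁻¹) * c⁻¹ := by group
      _ = w := by rw [hgv, ← Subgroup.mem_centralizer_iff.1 hc w hw, mul_inv_cancel_right]

/-- A normal subgroup containing a fused four-group `V` is fused at it, or has `V` as Sylow 2-subgroup. -/
theorem fused_normal_or_minimal (hG : Hyp G) {V H C : Subgroup G} (hV : FusedIn V H) (hVC : V ≤ C)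
    (hCH : C ≤ H) (hn : H ≤ Subgroup.normalizer (C : Set G)) :
    FusedIn V C ∨ ∀ P : Subgroup G, IsPGroup 2 P → V ≤ P → P ≤ C → P = V := by
  classical
  haveI : Fact (Nat.Prime 2) := ⟨Nat.prime_two⟩
  by_cases hmin : ∀ P : Subgroup G, IsPGroup 2 P → V ≤ P → P ≤ C → P = V
  · exact Or.inr hmin
  left
  push Not at hmin
  obtain ⟨P, hP, hVP, hPC, hPne⟩ := hmin
  obtain ⟨T₀, hT₀⟩ := (hP.comap_subtype (K := C)).exists_le_sylow
  set T := (T₀ : Subgroup C).map C.subtype with hT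
  have hTC : T ≤ C := Subgroup.map_subtype_le _
  have hVT : V ≤ T := fun x hx => ⟨⟨x, hVC hx⟩, hT₀ (show (x : G) ∈ P from hVP hx), rfl⟩
  have hTp : IsPGroup 2 T := T₀.2.map _
  have hTV : T ≠ V := fun e => hPne (le_antisymm
    (fun x hx => e.le ⟨⟨x, hPC hx⟩, hT₀ (show (x : G) ∈ P from hx), rfl⟩) hVP)
  obtain ⟨t, -, hto, htc⟩ := exists_central_involution hTp fun e => hV.1.ne_bot (le_bot_iff.1 (e ▸ hVT))
  have htt : t * t = 1 := by rw [← sq, ← hto, pow_orderOf_eq_one]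
  have ht1 : t ≠ 1 := fun e => by rw [e, orderOf_one] at hto; omega
  have htV : t ∈ V := hG.cd.mem_four_of_central hV.1 hVT htt htc
  have huniq : ∀ z ∈ V, z ≠ 1 → (∀ x ∈ T, x * z = z * x) → z = t := by
    intro z hz hz1 hzc
    by_contra hzt
    refine hTV (le_antisymm (fun w hw => hG.cd.mem_four hV.1 hTp hVT (fun x hx => ?_) hw) hVT)
    rw [← hV.1.centralizer_pair htV hz ht1 hz1 (Ne.symm hzt), Subgroup.mem_centralizer_iff]
    rintro y (rfl | rfl)
    exacts [(htc x hx).symm, (hzc x hx).symm]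
  obtain ⟨a, haV, ha1, hat⟩ : ∃ a ∈ V, a ≠ 1 ∧ a ≠ t := by
    by_contra hno
    push Not at hno
    have hs : Function.Surjective (fun i : Bool => if i then (⟨t, htV⟩ : V) else 1) := fun x => by
      by_cases hx : (x : G) = 1
      · exact ⟨false, Subtype.ext hx.symm⟩
      · exact ⟨true, Subtype.ext (hno x x.2 hx).symm⟩
    have := Nat.card_le_card_of_surjective _ hs
    rw [hV.1.1, Nat.card_eq_fintype_card, Fintype.card_bool] at this
    omega
  -- an element of `C` sending `a` to `t`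
  obtain ⟨g, hgH, -, hga⟩ := hV.2.2 a haV ha1 t htV ht1
  obtain ⟨T₁, hT₁⟩ := Coprime.exists_sylow_of_card (K := C) (p := 2) (H := T.map (MulAut.conj g).toMonoidHom)
    (by rintro _ ⟨x, hx, rfl⟩; exact conj_mem_of_mem_normalizer (hn hgH) (hTC hx))
    (by rw [Subgroup.card_map_of_injective (MulAut.conj g).injective]; exact Coprime.card_sylow_map T₀)
  obtain ⟨d, hd, hdT⟩ := Coprime.exists_conj_sylow_map T₁ T₀
  rw [hT₁] at hdT
  set n := d * g with hn'
  have hnT : ∀ x ∈ T, n * x * n⁻¹ ∈ T := fun x hx => by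
    rw [hT, ← hdT]
    exact ⟨g * x * g⁻¹, ⟨x, hx, rfl⟩, by show d * (g * x * g⁻¹) * d⁻¹ = n * x * n⁻¹; rw [hn']; group⟩
  have hnN : n ∈ Subgroup.normalizer (T : Set G) := Subgroup.mem_normalizer_fintype hnT
  have hnt : n * t * n⁻¹ = t := by
    have hnc : ∀ x ∈ T, x * (n * t * n⁻¹) = n * t * n⁻¹ * x := fun x hx => by
      have h1 := htc _ ((Subgroup.mem_normalizer_iff''.1 hnN x).1 hx)
      calc x * (n * t * n⁻¹) = n * (n⁻¹ * x * n * t) * n⁻¹ := by group
        _ = n * t * n⁻¹ * x := by rw [h1]; group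
    have hsq : n * t * n⁻¹ * (n * t * n⁻¹) = 1 := by
      rw [show n * t * n⁻¹ * (n * t * n⁻¹) = n * (t * t) * n⁻¹ by group, htt]; group
    exact huniq _ (hG.cd.mem_four_of_central hV.1 hVT hsq hnc) (fun e => ht1 (conj_eq_one_iff.1 e)) hnc
  have hnH : n ∈ H := mul_mem (hCH hd) hgH
  set c₁ := n⁻¹ * d⁻¹ * n with hc₁
  have hc₁C : c₁ ∈ C := (Subgroup.mem_normalizer_iff''.1 (hn hnH) _).1 (inv_mem hd)
  have hc₁a : c₁ * a * c₁⁻¹ = t := by
    have hna : n * a * n⁻¹ = d * t * d⁻¹ := by rw [hn', ← hga]; group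
    calc c₁ * a * c₁⁻¹ = n⁻¹ * (d⁻¹ * (n * a * n⁻¹) * d) * n := by rw [hc₁]; group
      _ = n⁻¹ * (n * t * n⁻¹) * n := by rw [hna, hnt]; group
      _ = t := by group
  -- move the image of `V` into `T` inside `C(t)`
  set M := C ⊓ Subgroup.centralizer ({t} : Set G) with hM
  have hTM : T ≤ M := le_inf hTC fun x hx => Subgroup.mem_centralizer_singleton_iff.2 (htc x hx)
  obtain ⟨TM, hTM'⟩ := Coprime.exists_sylow_of_card (K := M) (p := 2) (H := T) hTM
    (le_antisymm (pgroup_card_le hTp hTM) (by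
      rw [hT, Coprime.card_sylow_map T₀]
      exact Nat.pow_le_pow_right two_pos ((Nat.factorization_le_iff_dvd Nat.card_pos.ne' Nat.card_pos.ne').2
        (Subgroup.card_dvd_of_le inf_le_left) 2)))
  set V₁ := V.map (MulAut.conj c₁).toMonoidHom with hV₁
  have hV₁M : V₁ ≤ M := by
    rintro _ ⟨v, hv, rfl⟩
    refine Subgroup.mem_inf.2 ⟨mul_mem (mul_mem hc₁C (hVC hv)) (inv_mem hc₁C),
      Subgroup.mem_centralizer_singleton_iff.2 ?_⟩
    have h1 := hV.1.comm haV hv
    simp only [MulEquiv.coe_toMonoidHom, MulAut.conj_apply]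
    rw [← hc₁a]
    calc c₁ * v * c₁⁻¹ * (c₁ * a * c₁⁻¹) = c₁ * (v * a) * c₁⁻¹ := by group
      _ = c₁ * a * c₁⁻¹ * (c₁ * v * c₁⁻¹) := by rw [← h1]; group
  obtain ⟨Q, hQ⟩ := ((hV.1.isPGroup.map (MulAut.conj c₁).toMonoidHom).comap_subtype (K := M)).exists_le_sylow
  obtain ⟨k, hk⟩ := MulAction.exists_smul_eq M Q TM
  set x := (k : G) * c₁ with hx
  have hxC : x ∈ C := mul_mem (Subgroup.mem_inf.1 k.2).1 hc₁C
  have hxa : x * a * x⁻¹ = t := by
    rw [hx, show (k : G) * c₁ * a * ((k : G) * c₁)⁻¹ = (k : G) * (c₁ * a * c₁⁻¹) * (k : G)⁻¹ by group, hc₁a,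
      Subgroup.mem_centralizer_singleton_iff.1 (Subgroup.mem_inf.1 k.2).2, mul_inv_cancel_right]
  have hxV : ∀ v ∈ V, x * v * x⁻¹ ∈ T := fun v hv => by
    have hvW : c₁ * v * c₁⁻¹ ∈ V₁ := ⟨v, hv, rfl⟩
    have h1 : k * ⟨_, hV₁M hvW⟩ * k⁻¹ ∈ ((TM : Sylow 2 M) : Subgroup M) := by
      rw [← hk]
      exact Subgroup.smul_mem_pointwise_smul _ (MulAut.conj k) (Q : Subgroup M)
        (hQ (show (c₁ * v * c₁⁻¹ : G) ∈ V₁ from hvW))
    rw [← hTM']
    exact ⟨_, h1, by rw [hx]; simp [mul_assoc]⟩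
  -- parity
  have h8 : 8 ≤ Nat.card T := by
    obtain ⟨j, hj⟩ := hTp.exists_card_eq
    have hle := Subgroup.card_le_of_le hVT
    rw [hV.1.1, hj] at hle
    have hne4 : Nat.card T ≠ 4 := fun e =>
      hTV (Subgroup.eq_of_le_of_card_ge hVT (by rw [hV.1.1, e])).symm
    rw [hj] at hne4 ⊢
    rcases Nat.lt_or_ge j 3 with hj3 | hj3
    · interval_cases j
      · exact absurd hle (by norm_num)
      · exact absurd hle (by norm_num)
      · exact absurd (by norm_num) hne4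
    · exact le_trans (by norm_num) (Nat.pow_le_pow_right two_pos hj3)
  have hcardT : Nat.card T = Nat.card (T₀ : Subgroup C) := by
    rw [hT, Subgroup.card_map_of_injective C.subtype_injective]
  obtain ⟨s, hsT, hsV⟩ : ∃ s ∈ T, ∀ v ∈ V, s * (x * v * x⁻¹) * s⁻¹ ∈ V := by
    rcases hG.cd.subgroup C T₀ with hcyc | ⟨m, hm, ⟨e⟩⟩
    · haveI := hcyc
      haveI : IsCyclic T := isCyclic_of_injective
        ((T₀ : Subgroup C).equivMapOfInjective C.subtype C.subtype_injective).symm.toMonoidHom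
        (MulEquiv.injective _)
      exact absurd (Subgroup.isCyclic_of_le hVT) (not_isCyclic_of_four hV.1)
    let D := Coords.ofEquiv e
    have hm4 : 4 ≤ m := by have := D.card; omega
    have hm2 : 2 ∣ m := D.two_dvd hm
    set U := V.subgroupOf C with hU
    have hU4 : IsFour U := ⟨by rw [hU, Nat.card_congr (Subgroup.subgroupOfEquivOfLe hVC).toEquiv, hV.1.1],
      fun y hy => Subtype.ext (hV.1.2 _ hy)⟩
    have hUT : U ≤ (T₀ : Subgroup C) := fun y hy => by
      obtain ⟨z, hz, hzy⟩ := hVT hy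
      exact Subtype.ext hzy ▸ hz
    obtain ⟨i, hi⟩ := D.four_contains_sr hm hUT hU4
    set g' : C := ⟨x, hxC⟩ with hg'
    have hgU : Fusion.Alperin.conjS g' U ≤ (T₀ : Subgroup C) := fun y hy => by
      obtain ⟨u, hu, rfl⟩ := hy
      obtain ⟨z, hz, hzy⟩ := hxV _ hu
      show g' * u * g'⁻¹ ∈ (T₀ : Subgroup C)
      exact (Subtype.ext hzy : z = g' * u * g'⁻¹) ▸ hz
    obtain ⟨j, hj, hjU⟩ := D.par_of_conj hm4 hm2 hUT hgU hU4 hi
    obtain ⟨s, hs, hseq⟩ := D.four_conj hm hm2 hgU (hU4.map g') hUT hU4 hjU hi hj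
    refine ⟨s, ⟨s, hs, rfl⟩, fun v hv => ?_⟩
    have h1 : s * (g' * ⟨v, hVC hv⟩ * g'⁻¹) * s⁻¹ ∈ U := by
      rw [← hseq]
      exact Fusion.Alperin.conj_mem_conjS (Fusion.Alperin.conj_mem_conjS (Subgroup.mem_subgroupOf.2 hv))
    exact Subgroup.mem_subgroupOf.1 h1
  have hsC : s ∈ C := hTC hsT
  -- an element swapping `a` and `t * a`
  obtain ⟨u, huT, huN, huV⟩ : ∃ u ∈ T, u ∈ Subgroup.normalizer (V : Set G) ∧ u ∉ V := by
    haveI : Group.IsNilpotent T := hTp.isNilpotent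
    have hlt : V.subgroupOf T < ⊤ := lt_top_iff_ne_top.2 fun h =>
      hTV (le_antisymm (Subgroup.subgroupOf_eq_top.1 h) hVT)
    obtain ⟨u, huN, huV⟩ := SetLike.exists_of_lt (Group.normalizerCondition_of_isNilpotent _ hlt)
    refine ⟨u, u.2, Subgroup.mem_normalizer_fintype fun y hy => ?_, fun h => huV (Subgroup.mem_subgroupOf.2 h)⟩
    exact Subgroup.mem_subgroupOf.1
      ((Subgroup.mem_normalizer_iff.1 huN ⟨y, hVT hy⟩).1 (Subgroup.mem_subgroupOf.2 hy))
  have hua : u * a * u⁻¹ = t * a := by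
    have hmem : u * a * u⁻¹ ∈ V := conj_mem_of_mem_normalizer huN haV
    rcases four_cases hV.1 htV haV ht1 ha1 (Ne.symm hat) hmem with h | h | h | h
    · exact absurd (conj_eq_one_iff.1 h) ha1
    · exfalso
      have h1 : u * t * u⁻¹ = t := by rw [htc u huT, mul_inv_cancel_right]
      exact hat (mul_left_cancel (mul_right_cancel (h.trans h1.symm)))
    · exfalso
      refine huV (hG.cd.mem_four hV.1 (C := T ⊓ Subgroup.centralizer (V : Set G))
        (hTp.to_le inf_le_left) (le_inf hVT hV.1.le_centralizer_self) inf_le_right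
        (Subgroup.mem_inf.2 ⟨huT, ?_⟩))
      rw [← hV.1.centralizer_pair htV haV ht1 ha1 (Ne.symm hat), Subgroup.mem_centralizer_iff]
      rintro y (rfl | rfl)
      · exact (htc u huT).symm
      · calc y * u = u * y * u⁻¹ * u := by rw [h]
          _ = u * y := by group
    · exact h
  refine fusedIn_of_reach hV.1 hVC htV haV ht1 ha1 (Ne.symm hat)
    ⟨s * x, mul_mem hsC hxC, Subgroup.mem_normalizer_fintype fun v hv => ?_, ?_⟩ ⟨u, hTC huT, huN, hua⟩
  · rw [SetLike.mem_coe, show s * x * v * (s * x)⁻¹ = s * (x * v * x⁻¹) * s⁻¹ by group]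
    exact hsV v hv
  · rw [show s * x * a * (s * x)⁻¹ = s * (x * a * x⁻¹) * s⁻¹ by group, hxa, htc s hsT, mul_inv_cancel_right]

/-- Without a fused four-group the odd core contains the elements of odd order. -/
theorem odd_mem_coreOf_of_minimal (hG : Hyp G) {V C : Subgroup G} (hVC : V ≤ C) (hV : IsFour V)
    (hmin : ∀ P : Subgroup G, IsPGroup 2 P → V ≤ P → P ≤ C → P = V) (hunf : ¬ FusedIn V C)
    {x : G} (hx : x ∈ C) (hodd : Odd (orderOf x)) : x ∈ coreOf C := by
  haveI : Fact (Nat.Prime 2) := ⟨Nat.prime_two⟩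
  refine propUnfused G hG C (fun W hW => hunf ?_) x hx hodd
  obtain ⟨T₀, hT₀⟩ := (hV.isPGroup.comap_subtype (K := C)).exists_le_sylow
  have hT : (T₀ : Subgroup C).map C.subtype = V :=
    hmin _ (T₀.2.map _) (fun y hy => ⟨⟨y, hVC hy⟩, hT₀ (show (y : G) ∈ V from hy), rfl⟩)
      (Subgroup.map_subtype_le _)
  obtain ⟨Q, hQ⟩ := (hW.1.isPGroup.comap_subtype (K := C)).exists_le_sylow
  obtain ⟨k, hk⟩ := MulAction.exists_smul_eq C Q T₀
  have hWV : W.map (MulAut.conj (k : G)).toMonoidHom ≤ V := by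
    rintro _ ⟨w, hw, rfl⟩
    rw [← hT]
    have h1 : k * ⟨w, hW.2.1 hw⟩ * k⁻¹ ∈ (T₀ : Subgroup C) := by
      rw [← hk]
      exact Subgroup.smul_mem_pointwise_smul _ (MulAut.conj k) (Q : Subgroup C)
        (hQ (show (w : G) ∈ W from hw))
    exact ⟨_, h1, rfl⟩
  have hWV' : W.map (MulAut.conj (k : G)).toMonoidHom = V := Subgroup.eq_of_le_of_card_ge hWV (by
    rw [Subgroup.card_map_of_injective (MulAut.conj (k : G)).injective, hW.1.1, hV.1])
  refine ⟨hV, hVC, ?_⟩
  rw [← hWV']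
  rintro _ ⟨v, hv, rfl⟩ hv1 _ ⟨w, hw, rfl⟩ hw1
  obtain ⟨g, hg, hgN, hgv⟩ := hW.2.2 v hv (fun e => hv1 (by rw [e, map_one])) w hw
    (fun e => hw1 (by rw [e, map_one]))
  refine ⟨(k : G) * g * (k : G)⁻¹, mul_mem (mul_mem k.2 hg) (inv_mem k.2), ?_, ?_⟩
  · rw [← MulAut.conj_apply]
    exact Subgroup.le_normalizer_map _ ⟨g, hgN, rfl⟩
  · rw [← hgv]
    simp only [MulEquiv.coe_toMonoidHom, MulAut.conj_apply]
    group

/-- An element inverted by `u` in a configuration-free normaliser is outside the core. -/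
theorem not_mem_coreOf_of_inverted {p : ℕ} [Fact p.Prime] (hNC : ∀ V H : Subgroup G, ¬ Conf p V H)
    {V H : Subgroup G} (hH : H ≠ ⊤) (hV : FusedIn V H) {t u : G} (ht : t ∈ V) (hu : u ∈ V) (ht1 : t ≠ 1)
    (hu1 : u ≠ 1) (hne : t ≠ u) {y : G} (hy : IsPGroup p (Subgroup.zpowers y)) (hodd : Odd (orderOf y))
    (hy1 : y ≠ 1) (hyt : t * y = y * t) (hyu : u * y * u⁻¹ = y⁻¹) : y ∉ coreOf H := by
  intro hmem
  refine hNC V H ⟨hH, hV, Subgroup.zpowers y, Subgroup.zpowers_le.2 hmem, hy, ?_, fun hle => hy1 ?_⟩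
  · intro v hv
    have key : ∀ w : G, w * y * w⁻¹ ∈ Subgroup.zpowers y →
        w ∈ Subgroup.normalizer (Subgroup.zpowers y : Set G) := fun w hw =>
      Subgroup.mem_normalizer_fintype fun z hz => by
        obtain ⟨i, rfl⟩ := Subgroup.mem_zpowers_iff.1 hz
        rw [SetLike.mem_coe, ← MulAut.conj_apply, map_zpow]
        exact zpow_mem hw i
    have h1 : t ∈ Subgroup.normalizer (Subgroup.zpowers y : Set G) := key t (by
      rw [hyt, mul_inv_cancel_right]; exact Subgroup.mem_zpowers y)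
    have h2 : u ∈ Subgroup.normalizer (Subgroup.zpowers y : Set G) := key u (by
      rw [hyu]; exact inv_mem (Subgroup.mem_zpowers y))
    exact hV.1.eq_of_mem ht hu ht1 hu1 hne h1 h2 hv
  · have h1 := Subgroup.mem_centralizer_iff.1 (hle (Subgroup.mem_zpowers y)) u hu
    refine eq_one_of_eq_inv hodd ?_
    rw [h1, mul_inv_cancel_right] at hyu
    exact hyu

/-- If `u` moves `R`, then `C(R ∩ C(u))` is fused at `⟨t, u⟩`. -/
theorem fused_of_moved (hG : Hyp G) {p : ℕ} [Fact p.Prime] (hp : p ≠ 2)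
    (hNC : ∀ V H : Subgroup G, ¬ Conf p V H) {V R : Subgroup G} (hV : IsFour V)
    {t u : G} (ht : t ∈ V) (hu : u ∈ V) (ht1 : t ≠ 1) (hu1 : u ≠ 1) (hne : t ≠ u) (hRp : IsPGroup p R)
    (hR : R ≤ coreC t) (hRcard : Nat.card R = p ^ (Nat.card (coreC t)).factorization p)
    (hVR : V ≤ Subgroup.normalizer (R : Set G)) (hne' : R ⊓ Subgroup.centralizer ({u} : Set G) ≠ ⊥)
    (hmov : ¬ R ≤ Subgroup.centralizer ({u} : Set G)) :
    FusedIn V (Subgroup.centralizer ((R ⊓ Subgroup.centralizer ({u} : Set G) : Subgroup G) : Set G)) := by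
  classical
  set X := R ⊓ Subgroup.centralizer ({u} : Set G) with hX
  set H := Subgroup.normalizer (X : Set G) with hH
  set C := Subgroup.centralizer (X : Set G) with hC
  have hXodd : Odd (Nat.card X) := odd_card_of_pgroup hp (hRp.to_le inf_le_left)
  have hHtop : H ≠ ⊤ := hG.normalizer_ne_top hne' (hG.ne_top_of_odd hXodd)
  have hfH : FusedIn V H := fusedIn_normalizer_fixed hG hV ht hu ht1 hu1 hne hRp hR hRcard hVR
  have hVC : V ≤ C := fun v hv => Subgroup.mem_centralizer_iff.2 fun x hx => by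
    have hx' : x ∈ coreV V := by
      rw [← hG.coreC_inf_eq hV ht ht1 hu hu1 hne]
      exact ⟨hR hx.1, hx.2⟩
    exact (Subgroup.mem_centralizer_iff.1 (coreV_le V hx') v hv).symm
  have hCH : C ≤ H := Subgroup.centralizer_le_normalizer _
  have hHC : H ≤ Subgroup.normalizer (C : Set G) := normalizer_le_normalizer_centralizer X
  rcases fused_normal_or_minimal hG hfH hVC hCH hHC with h | hmin
  · exact h
  by_contra hunf
  -- an element of `N_R(X)` inverted by `u`
  haveI : Group.IsNilpotent R := hRp.isNilpotent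
  have hlt : X.subgroupOf R < ⊤ := lt_top_iff_ne_top.2 fun h =>
    hmov ((Subgroup.subgroupOf_eq_top.1 h).trans inf_le_right)
  obtain ⟨z, hzN, hzX⟩ := SetLike.exists_of_lt (Group.normalizerCondition_of_isNilpotent _ hlt)
  have hzH : (z : G) ∈ H := Subgroup.mem_normalizer_fintype fun w hw => Subgroup.mem_subgroupOf.1
    ((Subgroup.mem_normalizer_iff.1 hzN ⟨w, hw.1⟩).1 (Subgroup.mem_subgroupOf.2 hw))
  have huu : u * u = 1 := hV.2 u hu
  have huH : u ∈ H := hfH.2.1 hu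
  obtain ⟨y, hy, hy1, hyinv⟩ := exists_inverted (K := R ⊓ H) huu
    (fun w hw => Subgroup.mem_inf.2 ⟨conj_mem_of_mem_normalizer (hVR hu) hw.1,
      mul_mem (mul_mem huH hw.2) (inv_mem huH)⟩)
    (Subgroup.mem_inf.2 ⟨z.2, hzH⟩)
    (fun e => hzX (Subgroup.mem_subgroupOf.2 ⟨z.2, Subgroup.mem_centralizer_singleton_iff.2 e.symm⟩))
  have hyH : y ∈ H := hy.2
  have hyodd : Odd (orderOf y) := orderOf_odd_of_mem (odd_card_of_pgroup hp hRp) hy.1
  have hy2C : y ^ 2 ∈ C := by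
    have h1 : y * u * y⁻¹ * u⁻¹ ∈ C :=
      mul_mem (conj_mem_of_mem_normalizer (hHC hyH) (hVC hu)) (inv_mem (hVC hu))
    have h2 : y * u * y⁻¹ * u⁻¹ = y ^ 2 := by
      rw [show y * u * y⁻¹ * u⁻¹ = y * (u * y * u⁻¹)⁻¹ by group, hyinv, inv_inv, sq]
    rwa [h2] at h1
  have hmem : y ^ 2 ∈ coreOf H :=
    le_coreOf ((coreOf_le C).trans hCH) (hHC.trans (normalizer_le_normalizer_coreOf C)) (coreOf_odd C)
      (odd_mem_coreOf_of_minimal hG hVC hV hmin hunf hy2C
        (Odd.of_dvd_nat hyodd (orderOf_pow_dvd 2)))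
  have hymem : y ∈ coreOf H := by
    obtain ⟨k, hk⟩ := hyodd
    have h1 : (y ^ 2) ^ (k + 1) = y := by
      rw [← pow_mul, show 2 * (k + 1) = orderOf y + 1 by omega, pow_succ, pow_orderOf_eq_one, one_mul]
    rw [← h1]
    exact pow_mem hmem _
  refine not_mem_coreOf_of_inverted hNC hHtop hfH ht hu ht1 hu1 hne
    (hRp.to_le (Subgroup.zpowers_le.2 hy.1)) hyodd hy1 ?_ hyinv hymem
  exact (Subgroup.mem_centralizer_singleton_iff.1 (coreC_le t (hR hy.1))).symm

end Cfsg.Agent.Lib.GorensteinWalter
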