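import Cfsg.Agent.Lib.GorensteinWalter.InterfaceG
import Cfsg.Agent.Lib.GorensteinWalter.FusedCentralizer
import Cfsg.Agent.Lib.GorensteinWalter.ActTools

/-!
# Section C: rotations of `S` whose square centralises `O(C(t))`

If the square of a rotation moves `O = O(C(t))`, a power `d` of it moves `O` while `d ^ 2` does not; then the
conjugate reflections `a` and `a d` have comparable, hence equal, fixed points, and so act in the same way.
-/

set_option autoImplicit false
set_option linter.unusedSectionVars false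
set_option linter.style.haveILetI false

namespace Cfsg.Agent.Lib.GorensteinWalter

open Cfsg.Agent.Lib.Fusion.Dihedral DihedralGroup

universe u

/-- Squares of elements of `S` centralise `O(C(t))`. -/
theorem propRotation (hC : PropComparable.{u}) : PropRotation.{u} := by
  intro G _ _ hG hnk S t h8 htS ht htZ
  classical
  haveI : Fact (Nat.Prime 2) := ⟨Nat.prime_two⟩
  obtain ⟨m, hm, ⟨e⟩⟩ := hG.dihedral S
  let D := Coords.ofEquiv e
  have hcard := D.card
  have hm4 : 4 ≤ m := by omega
  haveI : NeZero m := ⟨by omega⟩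
  have hm2 : 2 ∣ m := D.two_dvd hm
  set z := D.φ (r ((m / 2 : ℕ) : ZMod m)) with hz
  have ht1 : t ≠ 1 := fun e => by rw [e, orderOf_one] at ht; omega
  have htz : t = z := by
    rcases D.invol_cases hm htS ht with h | ⟨i, rfl⟩
    · exact h
    · exfalso
      have h1 := htZ _ (D.mem (r 1))
      rw [← map_mul, ← map_mul, D.inj.eq_iff, r_mul_sr, sr_mul_r, sr.injEq] at h1
      have h2 : ((2 : ℕ) : ZMod m) = 0 := by push_cast; linear_combination -h1
      rw [ZMod.natCast_eq_zero_iff] at h2
      exact absurd (Nat.le_of_dvd two_pos h2) (by omega)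
  have hnS : ∀ s ∈ (S : Subgroup G), ∀ y ∈ coreC t, s * y * s⁻¹ ∈ coreC t := fun s hs y hy =>
    (Subgroup.mem_normalizer_iff.1 (centralizer_le_normalizer_coreC t
      (Subgroup.mem_centralizer_singleton_iff.2 (htZ s hs))) y).1 hy
  intro s hs
  -- reduce to a rotation
  suffices key : ∀ i : ZMod m, ∀ y ∈ coreC t, D.φ (r (i + i)) * y = y * D.φ (r (i + i)) by
    intro y hy
    rw [Subgroup.mem_centralizer_singleton_iff]
    rcases D.cases hs with ⟨i, rfl⟩ | ⟨i, rfl⟩
    · rw [← map_mul, r_mul_r]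
      exact (key i y hy).symm
    · rw [D.sr_sq, one_mul, mul_one]
  intro i
  by_contra hcon
  -- a power moving `O` whose square does not
  obtain ⟨k, hk⟩ := D.exists_pow (by omega)
  have hsome : ∃ n, ∀ y ∈ coreC t, D.φ (r (i + i)) ^ 2 ^ n * y = y * D.φ (r (i + i)) ^ 2 ^ n := by
    refine ⟨k + 1, fun y _ => ?_⟩
    rw [← map_pow, ← hk, r_pow, ZMod.natCast_self, mul_zero, ← one_def, map_one, one_mul, mul_one]
  have hn0 : Nat.find hsome ≠ 0 := fun h0 => hcon (by
    have := Nat.find_spec hsome
    rwa [h0, pow_zero, pow_one] at this)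
  obtain ⟨n, hn⟩ := Nat.exists_eq_succ_of_ne_zero hn0
  set d := D.φ (r (i + i)) ^ 2 ^ n with hd
  have hd2 : ∀ y ∈ coreC t, d * d * y = y * (d * d) := fun y hy => by
    have := Nat.find_spec hsome y hy
    rwa [hn, pow_succ, pow_mul, sq] at this
  have hdm : ¬ ∀ y ∈ coreC t, d * y = y * d := fun h =>
    Nat.find_min hsome (show n < Nat.find hsome by omega) h
  set j : ZMod m := (2 ^ n : ℕ) * i with hj
  have hdj : d = D.φ (r (j + j)) := by rw [hd, ← map_pow, r_pow, hj]; congr 2; ring
  set u := D.φ (sr 0) with hu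
  set v := D.φ (sr (j + j)) with hv
  have hud : u * v = d := by rw [hu, hv, ← map_mul, sr_mul_sr, sub_zero, hdj]
  have huu : u * u = 1 := D.sr_sq 0
  have hvv : v * v = 1 := D.sr_sq _
  have huo : orderOf u = 2 := D.orderOf_sr' 0
  have hvo : orderOf v = 2 := D.orderOf_sr' _
  have huS : u ∈ (S : Subgroup G) := D.mem _
  have hvS : v ∈ (S : Subgroup G) := D.mem _
  have hsrt : ∀ l : ZMod m, D.φ (sr l) ≠ t := fun l h => by
    rw [htz, hz, D.inj.eq_iff] at h
    cases h
  have hconj : D.φ (r (-j)) * u * (D.φ (r (-j)))⁻¹ = v := by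
    rw [hu, D.conj_sr, hv]; congr 2; ring
  -- `d` is neither trivial nor `t`
  have hd1 : d ≠ 1 := fun h => hdm fun y _ => by rw [h, one_mul, mul_one]
  have hdt : d ≠ t := fun h => hdm fun y hy => by
    rw [h]; exact (Subgroup.mem_centralizer_singleton_iff.1 (coreC_le t hy)).symm
  have ht_gen : t ∈ Subgroup.closure ({u, v} : Set G) := by
    have hdmem : d ∈ Subgroup.closure ({u, v} : Set G) := hud ▸ mul_mem
      (Subgroup.subset_closure (Set.mem_insert _ _)) (Subgroup.subset_closure (Set.mem_insert_of_mem _ rfl))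
    have hp : IsPGroup 2 (Subgroup.zpowers d) := S.2.to_le (Subgroup.zpowers_le.2 (hud ▸ mul_mem huS hvS))
    obtain ⟨l, hl⟩ := hp.exists_card_eq
    rw [Nat.card_zpowers] at hl
    have hl0 : 0 < l := Nat.pos_of_ne_zero fun h => by
      rw [h, pow_zero, orderOf_eq_one_iff] at hl; exact hd1 hl
    set w := d ^ 2 ^ (l - 1) with hw
    have hwo : orderOf w = 2 := by
      rw [hw, orderOf_pow_of_dvd (pow_ne_zero _ two_ne_zero) (hl ▸ pow_dvd_pow 2 (Nat.sub_le l 1)), hl,
        Nat.pow_div (Nat.sub_le l 1) two_pos, show l - (l - 1) = 1 by omega, pow_one]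
    have hwS : w ∈ (S : Subgroup G) := pow_mem (hud ▸ mul_mem huS hvS) _
    rcases D.invol_cases hm hwS hwo with h | ⟨l', hl'⟩
    · rw [htz, hz, ← h]; exact pow_mem hdmem _
    · exfalso
      rw [hw, hdj, ← map_pow, r_pow] at hl'
      cases D.inj hl'
  have hnon : fourOf t u ≠ fourOf t v := by
    intro heq
    obtain ⟨V, hV, htV, huV, -⟩ := exists_isFour (by rw [← sq, ← ht, pow_orderOf_eq_one]) huu
      (htZ u huS).symm ht1 (fun e => by rw [e, orderOf_one] at huo; omega) (hsrt 0).symm
    have hu1 : u ≠ 1 := fun e => by rw [e, orderOf_one] at huo; omega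
    rw [fourOf_eq hV htV huV ht1 hu1 (hsrt 0).symm] at heq
    have hvV : v ∈ V := heq ▸ Subgroup.subset_closure (Set.mem_insert_of_mem _ rfl)
    rcases four_cases hV htV huV ht1 hu1 (hsrt 0).symm hvV with h | h | h | h
    · rw [h, orderOf_one] at hvo; omega
    · exact hsrt _ h
    · exact hd1 (by rw [← hud, h, huu])
    · exact hdt (by rw [← hud, h, ← mul_assoc, htZ u huS]; rw [mul_assoc, huu, mul_one])
  have hR : Refl S t u v :=
    ⟨htS, huS, hvS, ht, huo, hvo, htZ, hsrt 0, hsrt _, hnon, ht_gen⟩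
  have hcomm : ∀ o ∈ coreC t, u * v * u * v * o = o * (u * v * u * v) := fun o ho => by
    rw [show u * v * u * v = d * d by rw [← hud]; group]
    exact hd2 o ho
  -- the fixed points are conjugate
  have hsize : Nat.card (coreFix t u) = Nat.card (coreFix t v) := by
    set g := D.φ (r (-j)) with hg
    have hgS : g ∈ (S : Subgroup G) := D.mem _
    have key : ∀ (g x w : G), g ∈ (S : Subgroup G) → g * x * g⁻¹ = w →
        Nat.card (coreFix t x) ≤ Nat.card (coreFix t w) := by
      intro g x w hgS hgx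
      rw [← Subgroup.card_map_of_injective (K := coreFix t x) (f := (MulAut.conj g).toMonoidHom)
        (MulAut.conj g).injective]
      refine Subgroup.card_le_of_le ?_
      rintro _ ⟨y, hy, rfl⟩
      refine Subgroup.mem_inf.2 ⟨hnS g hgS y hy.1, Subgroup.mem_centralizer_singleton_iff.2 ?_⟩
      have h1 := Subgroup.mem_centralizer_singleton_iff.1 hy.2
      simp only [MulEquiv.coe_toMonoidHom, MulAut.conj_apply]
      rw [← hgx]
      calc g * y * g⁻¹ * (g * x * g⁻¹) = g * (y * x) * g⁻¹ := by group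
        _ = g * x * g⁻¹ * (g * y * g⁻¹) := by rw [h1]; group
    exact le_antisymm (key g u v hgS hconj)
      (key g⁻¹ v u (inv_mem hgS) (by rw [← hconj]; group))
  have heq : coreFix t u = coreFix t v := by
    rcases hC G hG hnk S t u v hR hcomm with h | h
    · exact Subgroup.eq_of_le_of_card_ge (le_inf inf_le_left h) hsize.ge
    · exact (Subgroup.eq_of_le_of_card_ge (le_inf inf_le_left h) hsize.le).symm
  refine hdm fun y hy => ?_
  rw [← hud]
  refine fixed_of_same_fixed (coreC_odd t) huu hvv (hnS u huS) (hnS v hvS) hcomm (fun x hx hxu => ?_)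
    (fun x hx hxv => ?_) y hy
  · have h1 : x ∈ coreFix t v :=
      heq ▸ Subgroup.mem_inf.2 ⟨hx, Subgroup.mem_centralizer_singleton_iff.2 hxu.symm⟩
    exact (Subgroup.mem_centralizer_singleton_iff.1 h1.2).symm
  · have h1 : x ∈ coreFix t u :=
      heq ▸ Subgroup.mem_inf.2 ⟨hx, Subgroup.mem_centralizer_singleton_iff.2 hxv.symm⟩
    exact (Subgroup.mem_centralizer_singleton_iff.1 h1.2).symm

end Cfsg.Agent.Lib.GorensteinWalter
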