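import Cfsg.Agent.Lib.GorensteinWalter.Basic
import Cfsg.Agent.Lib.Fusion.Dihedral

/-!
# Gorenstein–Walter: interface for the local sections F, L, B

Owner: helper60 (plan and proofs: `notes/gorenstein_walter_plan.md`).  Everything rests on Glauberman's
control of strong fusion by `N(Z(J(P)))` and on Thompson's `A × B` lemma.
-/

set_option autoImplicit false

universe u

namespace Cfsg.Agent.Lib.GorensteinWalter

open Cfsg.Agent.Lib.Fusion.Dihedral

/-- `O(H)`, inside `G`. -/
abbrev coreOf {G : Type u} [Group G] (H : Subgroup G) : Subgroup G :=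
  (Cfsg.oddCore H).map H.subtype

/-- `O_{r'}(O(C(v)))`, inside `G`. -/
abbrev coreR {G : Type u} [Group G] (r : ℕ) (v : G) : Subgroup G :=
  (Cfsg.pPrimeCore r ↥(coreC v)).map (coreC v).subtype

/-- `N(Z(J(T)))`. -/
abbrev zjNorm {G : Type u} [Group G] (T : Subgroup G) : Subgroup G :=
  Subgroup.normalizer (Cfsg.centerThompsonAOf T : Set G)

/-- A configuration at `r`: a proper subgroup fused at `V` in whose odd core `V` moves an `r`-subgroup. -/
def Conf {G : Type u} [Group G] (r : ℕ) (V H : Subgroup G) : Prop :=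
  H ≠ ⊤ ∧ FusedIn V H ∧ ∃ K : Subgroup G, K ≤ coreOf H ∧ IsPGroup r K ∧
    V ≤ Subgroup.normalizer (K : Set G) ∧ ¬ K ≤ Subgroup.centralizer (V : Set G)

/-- The only way a configuration at `r` survives: the Sylow `r`-subgroups of involution centralisers
are cyclic, free of four-groups, and move the `r'`-core. -/
structure SmallPrime (r : ℕ) (G : Type u) [Group G] : Prop where
  cyclic : ∀ t : G, orderOf t = 2 → ∀ K : Subgroup G, IsPGroup r K →
    K ≤ Subgroup.centralizer ({t} : Set G) → IsCyclic K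
  free : ∀ V K : Subgroup G, IsFour V → IsPGroup r K → K ≤ Subgroup.centralizer (V : Set G) → K = ⊥
  moves : ∀ t : G, orderOf t = 2 → ∃ e : G, e * t = t * e ∧ orderOf e = r ∧
    ¬ coreR r t ≤ Subgroup.centralizer ({e} : Set G)

/-! ## Section F -/

/-- Strong fusion control by `N(Z(J(T)))`. -/
def PropFusion : Prop :=
  ∀ (G : Type u) [Group G] [Finite G], Hyp G → ∀ (r : ℕ) [Fact r.Prime], r ≠ 2 → ∀ T : Sylow r G,
    ((T : Subgroup G) ≠ ⊥ → zjNorm (T : Subgroup G) ≠ ⊤) ∧ (T : Subgroup G) ≤ zjNorm (T : Subgroup G) ∧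
      ∀ X : Subgroup G, IsPGroup r X → X ≤ zjNorm (T : Subgroup G) → ∀ g : G,
        (∀ x ∈ X, g * x * g⁻¹ ∈ zjNorm (T : Subgroup G)) →
          ∃ n ∈ zjNorm (T : Subgroup G), ∃ c ∈ Subgroup.centralizer (X : Set G), g = n * c

/-- F1: from a configuration to one at `N(Z(J(T)))`, `T` a Sylow subgroup of `G`. -/
def PropConfSylow : Prop :=
  ∀ (G : Type u) [Group G] [Finite G], Hyp G → ∀ (r : ℕ) [Fact r.Prime], r ≠ 2 →
    ∀ V H : Subgroup G, Conf r V H →
      ∃ (T : Sylow r G) (W : Subgroup G), Conf r W (zjNorm (T : Subgroup G))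

/-- F2–F5: such a subgroup contains a Sylow `r`- and a Sylow 2-subgroup of `C(t)`, covers it modulo
`O_{r'}(O(C(t)))`, and has one class of involutions. -/
def PropConfBase : Prop :=
  ∀ (G : Type u) [Group G] [Finite G], Hyp G → ∀ (r : ℕ) [Fact r.Prime], r ≠ 2 →
    ∀ (T : Sylow r G) (V : Subgroup G), Conf r V (zjNorm (T : Subgroup G)) →
      (∀ t ∈ zjNorm (T : Subgroup G), orderOf t = 2 → ∀ g : G, g * t = t * g →
        ∃ w ∈ coreR r t, w⁻¹ * g ∈ zjNorm (T : Subgroup G)) ∧
      (∀ s ∈ zjNorm (T : Subgroup G), orderOf s = 2 → ∀ t ∈ zjNorm (T : Subgroup G), orderOf t = 2 →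
        ∃ n ∈ zjNorm (T : Subgroup G), n * s * n⁻¹ = t)

/-- F6–F8: the signalizer functor leaves strong embedding or a small prime. -/
def PropConfSmall : Prop :=
  ∀ (G : Type u) [Group G] [Finite G], Hyp G → ∀ (r : ℕ) [Fact r.Prime], r ≠ 2 →
    ∀ (T : Sylow r G) (V : Subgroup G), Conf r V (zjNorm (T : Subgroup G)) →
      IsKnownD G ∨ SmallPrime r G

/-- Section F: a configuration makes `r` small. -/
def PropNoConf : Prop :=
  ∀ (G : Type u) [Group G] [Finite G], Hyp G → ¬ IsKnownD G → ∀ (r : ℕ) [Fact r.Prime], r ≠ 2 →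
    ∀ V H : Subgroup G, Conf r V H → SmallPrime r G

/-! ## Section L -/

/-- At a prime without configuration `S`-invariant `r`-subgroups are centralised by the centre of `S`,
if `|S| > 4` (it fails in `PSL(2, q)` for `|S| = 4`). -/
def PropInvariant : Prop :=
  ∀ (G : Type u) [Group G] [Finite G], Hyp G → ∀ (r : ℕ) [Fact r.Prime], r ≠ 2 →
    (∀ V H : Subgroup G, ¬ Conf r V H) →
    ∀ (S : Sylow 2 G) (t : G) (K : Subgroup G), 4 < Nat.card (S : Subgroup G) → orderOf t = 2 →
      t ∈ (S : Subgroup G) → (∀ s ∈ (S : Subgroup G), s * t = t * s) → IsPGroup r K →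
      (S : Subgroup G) ≤ Subgroup.normalizer (K : Set G) → K ≤ Subgroup.centralizer ({t} : Set G)

/-- At a prime without configuration a Sylow `r`-subgroup of `O(C(t))` is centralised by a four-group
containing `t`, or is a Sylow subgroup of `G`. -/
def PropDichotomy : Prop :=
  ∀ (G : Type u) [Group G] [Finite G], Hyp G → ∀ (r : ℕ) [Fact r.Prime], r ≠ 2 →
    (∀ V H : Subgroup G, ¬ Conf r V H) →
    ∀ (t : G) (R : Subgroup G), orderOf t = 2 → IsPGroup r R → R ≤ coreC t →
      Nat.card R = r ^ (Nat.card (coreC t)).factorization r →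
      (∃ V : Subgroup G, IsFour V ∧ t ∈ V ∧ R ≤ Subgroup.centralizer (V : Set G)) ∨
        Nat.card R = r ^ (Nat.card G).factorization r

/-! ## Section B -/

/-- If no four-group centralises a nontrivial element of odd order, `G ≅ PSL(2,q)`. -/
def PropTrivialFour : Prop :=
  ∀ (G : Type u) [Group G] [Finite G], Hyp G → (∀ V : Subgroup G, IsFour V → coreV V = ⊥) → IsKnownD G

/-- If a Sylow 2-subgroup has order four, no four-group centralises a nontrivial element of odd order. -/
def PropFourSylow : Prop :=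
  ∀ (G : Type u) [Group G] [Finite G], Hyp G → ¬ IsKnownD G → (∀ S : Sylow 2 G, Nat.card (S : Subgroup G) = 4) →
    ∀ V : Subgroup G, IsFour V → coreV V = ⊥

end Cfsg.Agent.Lib.GorensteinWalter
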