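import Cfsg.Agent.Lib.GorensteinWalter.Interface
import Cfsg.Prelude.Def_Involutions

/-!
# The Gorenstein–Walter theorem: interface for the local sections

Owner: helper14 (plan: `notes/gorenstein_walter_plan.md`).  A strongly embedded subgroup is excluded
by `known_of_stronglyEmbedded`, so the local sections assume that there is none.  The sections are
independent: each takes the conclusions of the earlier ones as hypotheses on the group.
-/

set_option autoImplicit false

universe u

namespace Cfsg.Agent.Lib.GorensteinWalter

open Cfsg.Agent.Lib.Fusion.Dihedral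

/-- No subgroup is strongly embedded. -/
def NoStronglyEmbedded (G : Type u) [Group G] : Prop :=
  ∀ H : Subgroup G, ¬ Cfsg.IsStronglyEmbedded H

/-- A four-group fused in a proper subgroup centralises the core of the subgroup. -/
def FusedCoreCentral (G : Type u) [Group G] : Prop :=
  ∀ H : Subgroup G, H ≠ ⊤ → ∀ V : Subgroup G, FusedIn V H →
    V ≤ Subgroup.centralizer (((Cfsg.oddCore H).map H.subtype : Subgroup G) : Set G)

/-- A central involution of a Sylow 2-subgroup of order at least eight centralises every invariant
subgroup of odd order.  (This fails for order four: `PSL(2, 11)`.) -/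
def InvariantCentral (G : Type u) [Group G] : Prop :=
  ∀ (S : Sylow 2 G) (t : G), 8 ≤ Nat.card (S : Subgroup G) → orderOf t = 2 → t ∈ (S : Subgroup G) →
    (∀ s ∈ (S : Subgroup G), s * t = t * s) →
    ∀ K : Subgroup G, Odd (Nat.card K) → (S : Subgroup G) ≤ Subgroup.normalizer (K : Set G) →
      K ≤ Subgroup.centralizer ({t} : Set G)

/-- A Sylow 2-subgroup of order `2 ^ n ≥ 8`, its central involution, and representatives of its two
classes of non-central involutions. -/
structure Frame {G : Type u} [Group G] (S : Sylow 2 G) (n : ℕ) (t a b : G) : Prop where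
  three_le : 3 ≤ n
  card : Nat.card (S : Subgroup G) = 2 ^ n
  t_mem : t ∈ (S : Subgroup G)
  a_mem : a ∈ (S : Subgroup G)
  b_mem : b ∈ (S : Subgroup G)
  t_order : orderOf t = 2
  a_order : orderOf a = 2
  b_order : orderOf b = 2
  central : ∀ s ∈ (S : Subgroup G), s * t = t * s
  a_ne : a ≠ t
  b_ne : b ≠ t
  not_conj : ¬ ∃ s ∈ (S : Subgroup G), s * a * s⁻¹ = b

/-- Section F: the cores of fused subgroups. -/
def PropFusedCore : Prop :=
  ∀ (G : Type u) [Group G] [Finite G], Hyp G → NoStronglyEmbedded G → FusedCoreCentral G

/-- Section L: invariant subgroups of odd order are centralised. -/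
def PropCentralised : Prop :=
  ∀ (G : Type u) [Group G] [Finite G], Hyp G → FusedCoreCentral G → InvariantCentral G

/-- Sylow 2-subgroups of order four. -/
def PropFourOrder : Prop :=
  ∀ (G : Type u) [Group G] [Finite G], Hyp G → NoStronglyEmbedded G → FusedCoreCentral G →
    ∀ S : Sylow 2 G, Nat.card (S : Subgroup G) = 4 → IsKnownD G

/-- Section C3: exactly one trivial four-group core. -/
def PropOneTrivial : Prop :=
  ∀ (G : Type u) [Group G] [Finite G], Hyp G → FusedCoreCentral G → InvariantCentral G →
    ∀ (S : Sylow 2 G) (n : ℕ) (t a b : G), Frame S n t a b →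
      1 < Nat.card (Cfsg.oddCore ↥(Subgroup.centralizer ({t, a} : Set G))) →
      Nat.card (Cfsg.oddCore ↥(Subgroup.centralizer ({t, b} : Set G))) = 1 → IsKnownD G

/-- Section C3: not both four-group cores are non-trivial. -/
def PropBothNontrivial : Prop :=
  ∀ (G : Type u) [Group G] [Finite G], Hyp G → NoStronglyEmbedded G → FusedCoreCentral G →
    InvariantCentral G → ∀ (S : Sylow 2 G) (n : ℕ) (t a b : G), Frame S n t a b →
      1 < Nat.card (Cfsg.oddCore ↥(Subgroup.centralizer ({t, a} : Set G))) →
      1 < Nat.card (Cfsg.oddCore ↥(Subgroup.centralizer ({t, b} : Set G))) → False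

end Cfsg.Agent.Lib.GorensteinWalter
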