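import Cfsg.Agent.Lib.GorensteinWalter.SectionL
import Cfsg.Agent.Lib.GorensteinWalter.InterfaceL
import Cfsg.Agent.Lib.GorensteinWalter.InterfaceF
import Cfsg.Agent.Lib.GorensteinWalter.Model

/-!
# Gorenstein–Walter, section L: the propositions of the two interfaces

`PropCentralised` follows from `centralizes_invariant_odd`.  At a prime without configuration the same
gives `PropInvariant` for Sylow 2-subgroups of order at least eight.
-/

set_option autoImplicit false
set_option linter.style.haveILetI false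

namespace Cfsg.Agent.Lib.GorensteinWalter

open Cfsg.Agent.Lib.Fusion.Dihedral
open scoped Pointwise

universe u

theorem propFourOdd' : PropFourOdd.{u} := propFourOdd propModelFour

theorem fusedCentral_of_fusedCoreCentral {G : Type u} [Group G] (h : FusedCoreCentral G) (r : ℕ) :
    FusedCentral G r :=
  fun H hH V hV _Q hQ _ _ => hQ.trans (Subgroup.le_centralizer_iff.1 (h H hH V hV))

theorem fusedCentral_of_noConf {G : Type u} [Group G] {r : ℕ} (h : ∀ V H : Subgroup G, ¬ Conf r V H) :
    FusedCentral G r :=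
  fun H hH V hV Q hQ hQr hVQ => by
    by_contra hc
    exact h V H ⟨hH, hV, Q, hQ, hQr, hVQ, hc⟩

/-- Section L. -/
theorem propCentralised : PropCentralised.{u} := by
  intro G _ _ hG hFC S t h8 ht htS htZ K hK hSK
  exact centralizes_invariant_odd propFourOdd' hG S ht htS htZ h8
    (fun r _ _ _ => fusedCentral_of_fusedCoreCentral hFC r) hK hSK

/-- `PropInvariant` for Sylow 2-subgroups of order at least eight. -/
theorem invariant_of_noConf {G : Type u} [Group G] [Finite G] (hG : Hyp G) {r : ℕ} [Fact r.Prime]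
    (hr2 : r ≠ 2) (hno : ∀ V H : Subgroup G, ¬ Conf r V H) (S : Sylow 2 G) {t : G} {K : Subgroup G}
    (ht : orderOf t = 2) (htS : t ∈ (S : Subgroup G)) (htZ : ∀ s ∈ (S : Subgroup G), s * t = t * s)
    (h8 : 8 ≤ Nat.card (S : Subgroup G)) (hK : IsPGroup r K)
    (hSK : (S : Subgroup G) ≤ Subgroup.normalizer (K : Set G)) :
    K ≤ Subgroup.centralizer ({t} : Set G) :=
  SectionL.le_centralizer_of_invariant hG S ht htS htZ hr2 propFourOdd' (fusedCentral_of_noConf hno)
    h8 hK hSK

/-- Every involution is central in some Sylow 2-subgroup. -/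
theorem Hyp.exists_sylow_central {G : Type u} [Group G] [Finite G] (hG : Hyp G) {t : G}
    (ht : orderOf t = 2) :
    ∃ S : Sylow 2 G, t ∈ (S : Subgroup G) ∧ ∀ s ∈ (S : Subgroup G), s * t = t * s := by
  haveI : Fact (Nat.Prime 2) := ⟨Nat.prime_two⟩
  obtain ⟨S⟩ : Nonempty (Sylow 2 G) := inferInstance
  obtain ⟨V, hV, -⟩ := hG.exists_four ht
  have hS : (S : Subgroup G) ≠ ⊥ := fun hb => by
    obtain ⟨T, hT⟩ := hV.isPGroup.exists_le_sylow
    have h1 := Subgroup.card_le_of_le hT
    rw [hV.1, Nat.card_congr (T.equiv S).toEquiv, hb, Subgroup.card_bot] at h1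
    omega
  obtain ⟨z, hzS, hz, hzc⟩ := exists_central_involution S.2 hS
  obtain ⟨g, hg⟩ := isConj_iff.1 (hG.isConj hz ht)
  refine ⟨g • S, ?_, ?_⟩
  · rw [Sylow.coe_subgroup_smul, Coprime.mem_conj_smul, ← hg,
      show g⁻¹ * (g * z * g⁻¹) * g = z by group]
    exact hzS
  · intro s hs
    rw [Sylow.coe_subgroup_smul, Coprime.mem_conj_smul] at hs
    have h1 := hzc _ hs
    rw [← hg]
    calc s * (g * z * g⁻¹) = g * (g⁻¹ * s * g * z) * g⁻¹ := by group
      _ = g * z * g⁻¹ * s := by rw [h1]; group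

/-- Section L: the dichotomy for the Sylow subgroups of `O(C(t))`. -/
theorem propDichotomy : PropDichotomy.{u} := by
  intro G _ _ hG r _ hr2 hno t R ht hR hRle hRcard
  haveI : Fact (Nat.Prime 2) := ⟨Nat.prime_two⟩
  obtain ⟨S, htS, htZ⟩ := hG.exists_sylow_central ht
  obtain ⟨R0, hR0⟩ := Coprime.exists_invariant_sylow (SectionL.sylow_le_normalizer_coreC hG S ht htS htZ)
    (SectionL.coprime_sylow hG S ht htS htZ (coreC_odd t)) (Or.inr (isSolvable_coreC t)) r
  set R' := (R0 : Subgroup ↥(coreC t)).map (coreC t).subtype with hR'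
  have hR'card : Nat.card R' = r ^ (Nat.card (coreC t)).factorization r := Coprime.card_sylow_map R0
  by_cases hcent : ∃ W : Subgroup G, IsFour W ∧ W ≤ (S : Subgroup G) ∧
      R' ≤ Subgroup.centralizer (W : Set G)
  · obtain ⟨W, hW, hWS, hRW⟩ := hcent
    refine Or.inl ?_
    obtain ⟨R1, hR1⟩ := Coprime.exists_sylow_of_card hRle hRcard
    obtain ⟨c, hc, hcR⟩ := Coprime.exists_conj_sylow_map R0 R1
    rw [hR1] at hcR
    refine ⟨W.map (MulAut.conj c).toMonoidHom, hW.map _,
      ⟨t, SectionL.mem_four hG S ht htS htZ hW hWS, ?_⟩, fun x hx => ?_⟩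
    · simp [Subgroup.mem_centralizer_singleton_iff.1 (coreC_le t hc)]
    · rw [← hcR, Coprime.mem_conj_smul] at hx
      rw [Subgroup.mem_centralizer_iff]
      rintro _ ⟨w, hw, rfl⟩
      have h1 := Subgroup.mem_centralizer_iff.1 (hRW hx) w hw
      simp only [MulEquiv.coe_toMonoidHom, MulAut.conj_apply]
      calc c * w * c⁻¹ * x = c * (w * (c⁻¹ * x * c)) * c⁻¹ := by group
        _ = x * (c * w * c⁻¹) := by rw [h1]; group
  · obtain ⟨P, hP⟩ := SectionL.exists_sylow_eq hG S ht htS htZ hr2 propFourOdd'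
      (fusedCentral_of_noConf hno) (Subgroup.map_subtype_le _) hR'card (R0.2.map _) hR0 hcent
    refine Or.inr ?_
    rw [← P.card_eq_multiplicity, hP, hR'card, hRcard]

/-- Section L: `PropInvariant`. -/
theorem propInvariant : PropInvariant.{u} := by
  intro G _ _ hG r _ hr2 hno S t K h4 ht htS htZ hK hSK
  haveI : Fact (Nat.Prime 2) := ⟨Nat.prime_two⟩
  refine invariant_of_noConf hG hr2 hno S ht htS htZ ?_ hK hSK
  obtain ⟨k, hk⟩ := IsPGroup.iff_card.1 S.2
  rw [hk] at h4 ⊢
  have h3 : 3 ≤ k := by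
    by_contra h
    interval_cases k <;> simp_all
  calc 8 = 2 ^ 3 := by norm_num
    _ ≤ 2 ^ k := Nat.pow_le_pow_right two_pos h3

end Cfsg.Agent.Lib.GorensteinWalter
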