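import Cfsg.Agent.Lib.GorensteinWalter.Interface
import Cfsg.Agent.Lib.BenderConsumers23.Simple
import Cfsg.Agent.Lib.Linear.SmallIso.PSL5
import Cfsg.Agent.S0252

/-!
# Gorenstein–Walter: a minimal counterexample has no strongly embedded subgroup

Modulo part I (`BenderConsumers23.PropPartOne`) and part II (`BenderSuzuki.PropMain`).
-/

set_option autoImplicit false

namespace Cfsg.Agent.Lib.GorensteinWalter

open MulAction
open Cfsg.Agent.Lib.Involutions.StronglyEmbedded Cfsg.Agent.Lib.RankOne.Basic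

universe u

/-- An involution central in a dihedral group of order at least eight is the half turn. -/
theorem dihedral_central {n : ℕ} (hn : 3 ≤ n) {i : ZMod n}
    (h : ∀ g : DihedralGroup n, g * DihedralGroup.sr i = DihedralGroup.sr i * g) : False := by
  have h1 := h (DihedralGroup.r 1)
  rw [DihedralGroup.r_mul_sr, DihedralGroup.sr_mul_r] at h1
  have h2 := DihedralGroup.sr.inj h1
  have h3 : ((2 : ℕ) : ZMod n) = 0 := by push_cast; linear_combination -h2
  rw [ZMod.natCast_eq_zero_iff] at h3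
  exact absurd (Nat.le_of_dvd two_pos h3) (by omega)

/-- A strongly embedded subgroup forces `PSL(2,5)`. -/
theorem known_of_stronglyEmbedded (hP : BenderConsumers23.PropPartOne.{u})
    (hMain : BenderSuzuki.PropMain.{u, u}) {G : Type u} [Group G] [Finite G] (hG : Hyp G)
    {H : Subgroup G} (hH : Cfsg.IsStronglyEmbedded H) : IsKnownD G := by
  haveI := hG.simple
  have hna := BenderConsumers23.na_of_not_comm hG.nonabelian
  obtain ⟨t, Q, hh, hg⟩ := BenderConsumers23.good hP hMain hH
    (BenderConsumers23.twoRank_of_simple hna hH) (BenderConsumers23.normalCore_eq_bot hH)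
  obtain ⟨-, t', Q', hS', S, hSQ'⟩ := BenderConsumers23.simple_case hP hMain hna hH
  haveI : Fact (Nat.Prime 2) := ⟨Nat.prime_two⟩
  have hS := hh.setup
  have hst : stabilizer G ((1 : G) : G ⧸ H) = H := MulAction.stabilizer_quotient H
  obtain ⟨hQp, L, hL, -, hQL, -, hcase⟩ := hg
  have hQcard : Nat.card Q = Nat.card (S : Subgroup G) := by
    have h1 := card_omega hS
    have h2 := card_omega hS'
    rw [hSQ']
    omega
  let R : Sylow 2 G := Sylow.ofCard Q (by rw [hQcard]; exact Sylow.card_eq_multiplicity S)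
  obtain ⟨n, hn, ⟨e⟩⟩ := hG.dihedral R
  change ↥Q ≃* DihedralGroup n at e
  -- all involutions of `Q` are central in `Q`
  have hinv : ∀ x : G, x ∈ Q → x ≠ 1 → x * x = 1 → orderOf x = 2 := fun x _ h1 h2 =>
    BenderConsumers23.sq_eq_one_iff'.1 ⟨h2, h1⟩
  have hQH : Q ≤ H := hst ▸ hS.le
  have hcentral : ∀ x : Q, orderOf x = 2 → x ∈ Subgroup.center Q := by
    haveI : Nontrivial Q := Finite.one_lt_card_iff_nontrivial.1 (by
      rw [Nat.card_congr e.toEquiv, DihedralGroup.nat_card]; omega)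
    haveI := hQp.center_nontrivial
    obtain ⟨s, hs⟩ := exists_prime_orderOf_dvd_card' (G := Subgroup.center Q) 2
      ((IsPGroup.iff_card.1 (hQp.to_subgroup _)).elim fun k hk => by
        rcases k with _ | k
        · exact absurd hk (by rw [pow_zero]; exact (Finite.one_lt_card (α := Subgroup.center Q)).ne')
        · exact hk ▸ dvd_pow_self 2 k.succ_ne_zero)
    intro x hx
    have hs2 : orderOf ((s : Q) : G) = 2 := by rw [Subgroup.orderOf_coe, Subgroup.orderOf_coe, hs]
    have hx2 : orderOf (x : G) = 2 := by rw [Subgroup.orderOf_coe, hx]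
    obtain ⟨g, hg⟩ := isConj_iff.1 (isConj_involutions hH hs2 hx2)
    have hgH : g ∈ H := mem_of_conj_mem hH hs2 (hQH (s : Q).2) (hg ▸ hQH x.2)
    refine Subgroup.mem_center_iff.2 fun y => Subtype.ext ?_
    have hy : g⁻¹ * (y : G) * g ∈ Q := by
      simpa using hS.conj_mem g⁻¹ (hst.symm ▸ inv_mem hgH) y y.2
    have hc : g⁻¹ * (y : G) * g * ((s : Q) : G) = ((s : Q) : G) * (g⁻¹ * (y : G) * g) :=
      congrArg Subtype.val (Subgroup.mem_center_iff.1 s.2 ⟨_, hy⟩)
    show (y : G) * x = x * y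
    rw [← hg]
    calc (y : G) * (g * ((s : Q) : G) * g⁻¹)
        = g * (g⁻¹ * (y : G) * g * ((s : Q) : G)) * g⁻¹ := by group
      _ = _ := by rw [hc]; group
  have hn2 : n = 2 := by
    by_contra hne
    have h1 : orderOf (e.symm (DihedralGroup.sr 0)) = 2 := by
      rw [MulEquiv.orderOf_eq, DihedralGroup.orderOf_sr]
    refine dihedral_central (by omega : 3 ≤ n) (i := 0) fun g => ?_
    have := congrArg e (Subgroup.mem_center_iff.1 (hcentral _ h1) (e.symm g))
    simpa using this
  subst hn2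
  have hQ4 : Nat.card Q = 4 := by rw [Nat.card_congr e.toEquiv, DihedralGroup.nat_card]
  have hsq : ∀ x ∈ Q, x * x = 1 := fun x hx => by
    have h1 : ∀ g : DihedralGroup 2, g * g = 1 := by decide
    have h2 : (⟨x, hx⟩ : Q) * ⟨x, hx⟩ = 1 := e.injective (by rw [map_mul, map_one, h1])
    exact congrArg Subtype.val h2
  have hI : BenderSuzuki.invs G ((1 : G) : G ⧸ H) = (Q : Set G) \ {1} := by
    ext x
    constructor
    · rintro ⟨h1, h2, h3⟩
      exact ⟨involutions_stab_mem_Q hS h1 h3, h2⟩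
    · rintro ⟨h1, h2⟩
      exact ⟨hS.le h1, h2, hsq x h1⟩
  have hq : BenderSuzuki.qNum G ((1 : G) : G ⧸ H) = 4 := by
    rw [BenderSuzuki.qNum, hI, Nat.card_coe_set_eq, Set.ncard_diff_singleton_of_mem Q.one_mem,
      ← Nat.card_coe_set_eq]
    have : Nat.card ↥(Q : Set G) = 4 := hQ4
    omega
  have hLtop : L = ⊤ := (Subgroup.Normal.eq_bot_or_eq_top hL).resolve_left fun h => by
    rw [h] at hQL
    rw [le_bot_iff.1 hQL, Subgroup.card_bot] at hQ4
    omega
  rcases hcase with ⟨-, -, F, i, j, hF, -, ⟨f⟩⟩ | ⟨hc, -, -⟩ | ⟨hc, -, -⟩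
  · subst hLtop
    rw [hq] at hF
    haveI : Fact (Nat.Prime 5) := ⟨by norm_num⟩
    obtain ⟨e4⟩ := Cfsg.Agent.S0252.result hF
    obtain ⟨e5⟩ := Linear.SmallIso.nonempty_psl_two_five (F := ZMod 5) (ZMod.card 5)
    refine Or.inl ⟨ZMod 5, inferInstance, inferInstance, by rw [ZMod.card]; decide,
      by rw [ZMod.card]; norm_num,
      ⟨((Subgroup.topEquiv.symm.trans f).trans e4).trans e5.symm⟩⟩
  · rw [hq, hQ4] at hc
    omega
  · rw [hq, hQ4] at hc
    omega

end Cfsg.Agent.Lib.GorensteinWalter
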