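import Cfsg.Agent.Lib.GorensteinWalter.CoreQuot
import Cfsg.Agent.Lib.GorensteinWalter.ActTools

/-!
# Section C: a strict inclusion `C_O(b) < C_O(a)`

The order equations give `(d, n, K) = (3, 3, -2)` or `(5, 3, -1)`, `d` the ratio of the two fixed point groups.
No prime is small and `a` centralises `O`; then `N(C_O(b))` contains `O` and `S` and is fused at `⟨t, b⟩`, and
the models leave only the order of `A₇`.
-/

set_option autoImplicit false
set_option linter.unusedSectionVars false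
set_option linter.style.haveILetI false

namespace Cfsg.Agent.Lib.GorensteinWalter

open Cfsg.Agent.Lib.Fusion.Dihedral

universe u

variable {G : Type u} [Group G] [Finite G]

/-- The order equations for the ratio `d = |C_O(a)| / |C_O(b)|`. -/
theorem unequal_numbers (hG : Hyp G) {S : Sylow 2 G} {t a b : G} (hR : Refl S t a b) {n : ℕ} (hn : 3 ≤ n)
    (hS : Nat.card (S : Subgroup G) = 2 ^ n) (hnc : ¬ ∃ s ∈ (S : Subgroup G), s * a * s⁻¹ = b)
    {d : ℕ} (hd : 1 < d) (hda : Nat.card (coreFix t a) = d * Nat.card (coreFix t b)) :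
    n = 3 ∧ ((d = 3 ∧
        3 * Nat.card G * Nat.card (coreFix t b) ^ 2 = 280 * Nat.card (coreC t) ^ 3) ∨
      (d = 5 ∧
        25 * Nat.card G * Nat.card (coreFix t b) ^ 2 = 1512 * Nat.card (coreC t) ^ 3)) := by
  obtain ⟨hVa, htVa, haVa, hea⟩ := hG.four_coreFix hR.t_two hR.u_two hR.u_ne (hR.central a hR.u_mem)
  obtain ⟨hVb, htVb, hbVb, heb⟩ := hG.four_coreFix hR.t_two hR.v_two hR.v_ne (hR.central b hR.v_mem)
  have hdodd : Odd d := ((coreC_odd t).of_dvd_nat (Subgroup.card_dvd_of_le inf_le_left)).of_dvd_nat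
    ⟨Nat.card (coreFix t b), hda⟩
  have hOD := propOrderData G hG S n t a b hn hS hR.t_mem hR.u_mem hR.v_mem hR.t_two hR.u_two hR.v_two
    hR.central hR.u_ne hR.v_ne hnc
  rw [hVa.centralizer_pair htVa haVa (ne_one_of_two hR.t_two) (ne_one_of_two hR.u_two) hR.u_ne.symm,
    hVb.centralizer_pair htVb hbVb (ne_one_of_two hR.t_two) (ne_one_of_two hR.v_two) hR.v_ne.symm,
    ← card_coreC, ← card_coreV, ← card_coreV, hea, heb, hda] at hOD
  obtain ⟨K, k₂, k₃, hK, hsum, e1, e2, -, -, -, -⟩ := hOD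
  push_cast at e1 e2
  set m := Nat.card (coreC t)
  set e := Nat.card (coreFix t b) with he
  have he0 : (e : ℤ) ≠ 0 := by exact_mod_cast (Nat.card_pos (α := coreFix t b)).ne'
  have harith := propArith n d K k₂ k₃ hn hdodd hd hK hsum (by
    refine mul_left_cancel₀ (pow_ne_zero 2 he0) ?_
    linear_combination e2)
  rcases harith with ⟨hd3, hn3, hK2⟩ | ⟨hd5, hn3, hK1⟩
  · refine ⟨hn3, Or.inl ⟨hd3, ?_⟩⟩
    have h : 3 * (Nat.card G : ℤ) * (e : ℤ) ^ 2 = 280 * (m : ℤ) ^ 3 := by
      rw [hd3, hn3, hK2] at e1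
      norm_num at e1
      refine mul_left_cancel₀ (mul_ne_zero (show (96 : ℤ) ≠ 0 by norm_num) (pow_ne_zero 2 he0)) ?_
      linear_combination e1
    exact_mod_cast h
  · refine ⟨hn3, Or.inr ⟨hd5, ?_⟩⟩
    have h : 25 * (Nat.card G : ℤ) * (e : ℤ) ^ 2 = 1512 * (m : ℤ) ^ 3 := by
      rw [hd5, hn3, hK1] at e1
      norm_num at e1
      refine mul_left_cancel₀ (mul_ne_zero (show (8 : ℤ) ≠ 0 by norm_num) (pow_ne_zero 2 he0)) ?_
      linear_combination e1
    exact_mod_cast h

/-- A subgroup of fixed points of index at most five in an odd group is normal. -/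
theorem normal_of_index_le_five {K : Subgroup G} (hK : Odd (Nat.card K)) {b : G} (hb : b * b = 1)
    (hn : ∀ y ∈ K, b * y * b⁻¹ ∈ K) {d : ℕ} (hd : d ≤ 5)
    (hcard : Nat.card K = d * Nat.card ↥(K ⊓ Subgroup.centralizer ({b} : Set G))) :
    K ≤ Subgroup.normalizer ((K ⊓ Subgroup.centralizer ({b} : Set G) : Subgroup G) : Set G) := by
  classical
  set E := K ⊓ Subgroup.centralizer ({b} : Set G) with hE
  have hEK : E ≤ K := inf_le_left
  have hEb : ∀ e ∈ E, b * e = e * b := fun e he => (Subgroup.mem_centralizer_singleton_iff.1 he.2).symm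
  have hodd : ∀ y ∈ K, Odd (orderOf y) := fun y hy => orderOf_odd_of_mem hK hy
  -- the inverted elements are parametrised by the cosets of `E`
  let ψ : K ⧸ E.subgroupOf K → G := Quotient.lift (fun o : K => b * o * b⁻¹ * (o : G)⁻¹) fun x y hxy => by
    have h1 : (x : G)⁻¹ * y ∈ E := by
      simpa [Subgroup.mem_subgroupOf] using QuotientGroup.leftRel_apply.1 hxy
    show b * x * b⁻¹ * (x : G)⁻¹ = b * y * b⁻¹ * (y : G)⁻¹
    calc b * x * b⁻¹ * (x : G)⁻¹
          = b * x * ((x : G)⁻¹ * y * b⁻¹) * ((x : G)⁻¹ * y)⁻¹ * (x : G)⁻¹ := by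
            have h2 : (x : G)⁻¹ * y * b⁻¹ = b⁻¹ * ((x : G)⁻¹ * y) := by
              rw [inv_eq_of_mul_eq_one_right hb]; exact (hEb _ h1).symm
            rw [h2]; group
      _ = b * y * b⁻¹ * (y : G)⁻¹ := by group
  set I : Set G := {y | y ∈ K ∧ b * y * b⁻¹ = y⁻¹} with hI
  have hIψ : I ⊆ Set.range ψ := by
    rintro y ⟨hy, hyb⟩
    obtain ⟨j, hj⟩ := hodd y hy
    have hx2 : y ^ (j + 1) * y ^ (j + 1) = y := by
      rw [← pow_add, show j + 1 + (j + 1) = orderOf y + 1 by omega, pow_succ, pow_orderOf_eq_one, one_mul]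
    refine ⟨QuotientGroup.mk (⟨(y ^ (j + 1))⁻¹, inv_mem (pow_mem hy _)⟩ : K), ?_⟩
    show b * (y ^ (j + 1))⁻¹ * b⁻¹ * ((y ^ (j + 1))⁻¹)⁻¹ = y
    rw [← MulAut.conj_apply, map_inv, map_pow, MulAut.conj_apply, hyb, inv_pow, inv_inv, hx2]
  have hIcard : I.ncard ≤ d := by
    refine (Set.ncard_le_ncard hIψ (Set.toFinite _)).trans ?_
    rw [← Nat.card_coe_set_eq]
    refine (Finite.card_range_le ψ).trans (le_of_eq ?_)
    have h1 := Subgroup.card_eq_card_quotient_mul_card_subgroup (E.subgroupOf K)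
    rw [Nat.card_congr (Subgroup.subgroupOfEquivOfLe hEK).toEquiv, hcard] at h1
    exact (Nat.eq_of_mul_eq_mul_right Nat.card_pos h1).symm
  -- `E` centralises the inverted elements
  have hcI : ∀ e ∈ E, ∀ y ∈ I, e * y = y * e := by
    intro e he y hy
    by_contra hne
    have hmem : ∀ g ∈ E, ∀ w ∈ I, g * w * g⁻¹ ∈ I := fun g hg w hw => by
      refine ⟨mul_mem (mul_mem (hEK hg) hw.1) (inv_mem (hEK hg)), ?_⟩
      have h2 : b * g * b⁻¹ = g := by rw [hEb g hg, mul_inv_cancel_right]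
      calc b * (g * w * g⁻¹) * b⁻¹ = b * g * b⁻¹ * (b * w * b⁻¹) * (b * g * b⁻¹)⁻¹ := by group
        _ = (g * w * g⁻¹)⁻¹ := by rw [h2, hw.2]; group
    have hinvI : ∀ w ∈ I, w⁻¹ ∈ I := fun w hw => ⟨inv_mem hw.1, by
      rw [show b * w⁻¹ * b⁻¹ = (b * w * b⁻¹)⁻¹ by group, hw.2]⟩
    set z := e * y * e⁻¹ with hz
    set w := e * z * e⁻¹ with hw
    have hzI : z ∈ I := hmem e he y hy
    have hwI : w ∈ I := hmem e he z hzI
    have hy1 : y ≠ 1 := fun h => hne (by rw [h, mul_one, one_mul])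
    have hzy : z ≠ y := fun h => hne (by
      calc e * y = z * e := by rw [hz]; group
        _ = y * e := by rw [h])
    have hzyi : z ≠ y⁻¹ := fun h =>
      hy1 (eq_one_of_conj_eq_inv (hodd e (hEK he)) (hodd y hy.1) h)
    have hyyi : y ≠ y⁻¹ := fun h => hy1 (eq_one_of_eq_inv (hodd y hy.1) h)
    have hz1 : z ≠ 1 := fun h => hy1 (conj_eq_one_iff.1 h)
    have hzzi : z ≠ z⁻¹ := fun h => hz1 (eq_one_of_eq_inv (hodd z hzI.1) h)
    have hw1 : w ≠ 1 := fun h => hz1 (conj_eq_one_iff.1 h)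
    have hwz : w ≠ z := fun h => hzy (mul_left_cancel (mul_right_cancel (h : e * z * e⁻¹ = e * y * e⁻¹)))
    have hwzi : w ≠ z⁻¹ := fun h =>
      hz1 (eq_one_of_conj_eq_inv (hodd e (hEK he)) (hodd z hzI.1) h)
    have he2 : ∀ v : G, e * (e * y * e⁻¹) * e⁻¹ = v → e ^ 2 * y * (e ^ 2)⁻¹ = v := fun v hv => by
      rw [← hv, sq]; group
    have hwy : w ≠ y := by
      intro h
      have h1 := he2 y h
      obtain ⟨j, hj⟩ := hodd e (hEK he)
      have h2 : Commute (e ^ 2) y := by
        show e ^ 2 * y = y * e ^ 2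
        calc e ^ 2 * y = e ^ 2 * y * (e ^ 2)⁻¹ * e ^ 2 := by group
          _ = y * e ^ 2 := by rw [h1]
      apply hne
      have h3 : e = (e ^ 2) ^ (j + 1) := by
        rw [← pow_mul, show 2 * (j + 1) = orderOf e + 1 by omega, pow_succ, pow_orderOf_eq_one, one_mul]
      rw [h3]
      exact (h2.pow_left (j + 1)).eq
    have hwyi : w ≠ y⁻¹ := fun h =>
      hy1 (eq_one_of_conj_eq_inv ((hodd _ (pow_mem (hEK he) 2))) (hodd y hy.1) (he2 _ h))
    have hsub : (({1, y, y⁻¹, z, z⁻¹, w} : Finset G) : Set G) ⊆ I := by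
      intro v hv
      simp only [Finset.coe_insert, Finset.coe_singleton, Set.mem_insert_iff, Set.mem_singleton_iff] at hv
      rcases hv with rfl | rfl | rfl | rfl | rfl | rfl
      exacts [⟨one_mem K, by simp⟩, hy, hinvI _ hy, hzI, hinvI _ hzI, hwI]
    have h6 := Set.ncard_le_ncard hsub (Set.toFinite _)
    rw [Set.ncard_coe_finset, Finset.card_insert_of_notMem (by
        simp [hy1.symm, hz1.symm, hw1.symm, eq_comm (a := (1 : G)), hy1, hz1, hw1]),
      Finset.card_insert_of_notMem (by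
        simp [hyyi, hzy.symm, hwy.symm, show y ≠ z⁻¹ from fun h => hzyi (by rw [h, inv_inv])]),
      Finset.card_insert_of_notMem (by
        simp [hzyi.symm, hwyi.symm, show y⁻¹ ≠ z⁻¹ from fun h => hzy (inv_injective h).symm]),
      Finset.card_insert_of_notMem (by simp [hzzi, hwz.symm]),
      Finset.card_insert_of_notMem (by simp [hwzi.symm]), Finset.card_singleton] at h6
    omega
  intro o ho
  refine Subgroup.mem_normalizer_fintype fun e he => ?_
  obtain ⟨c, hc, hcb, l, hl, hli, rfl⟩ := exists_fixed_mul_inverted hK hb hn ho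
  have hcE : c ∈ E := Subgroup.mem_inf.2 ⟨hc, Subgroup.mem_centralizer_singleton_iff.2 hcb.symm⟩
  rw [SetLike.mem_coe, show c * l * e * (c * l)⁻¹ = c * (l * e * l⁻¹) * c⁻¹ by group,
    ← hcI e he l ⟨hl, hli⟩, mul_inv_cancel_right]
  exact mul_mem (mul_mem hcE he) (inv_mem hcE)

/-- A strict inclusion of the fixed points forces a known group. -/
theorem propUnequal (hNo : PropNoConf.{u}) (hDich : PropDichotomy.{u}) (hInv : PropInvariant.{u})
    (hMS : PropModelSplit.{u}) (hMO : PropModelOne.{u}) : PropUnequal.{u} := by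
  intro G _ _ hG S t a b hR hcl h8 hlt
  classical
  haveI : Fact (Nat.Prime 2) := ⟨Nat.prime_two⟩
  by_contra hnk
  obtain ⟨n, hS⟩ := S.2.exists_card_eq
  have hn : 3 ≤ n := by
    by_contra hne
    have : (2 : ℕ) ^ n ≤ 2 ^ 2 := Nat.pow_le_pow_right two_pos (by omega)
    omega
  set O := coreC t with hO
  set E := coreFix t b with hE
  obtain ⟨d, hda⟩ := Subgroup.card_dvd_of_le hlt.le
  have hda' : Nat.card (coreFix t a) = d * Nat.card E := by rw [hda, mul_comm]
  have hd : 1 < d := by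
    by_contra hle
    have h1 : Nat.card (coreFix t a) ≤ Nat.card E := by
      rw [hda']
      exact (Nat.mul_le_mul_right _ (not_lt.1 hle)).trans (one_mul _).le
    exact hlt.ne (Subgroup.eq_of_le_of_card_ge hlt.le h1)
  have hnc : ¬ ∃ s ∈ (S : Subgroup G), s * a * s⁻¹ = b := by
    rintro ⟨s, hs, rfl⟩
    exact hlt.ne (Subgroup.eq_of_le_of_card_ge hlt.le (card_coreFix_conj (hR.central s hs) a).ge)
  obtain ⟨hn3, hcases⟩ := unequal_numbers hG hR hn hS hnc hd hda'
  have hm0 : Nat.card O ≠ 0 := Nat.card_pos.ne'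
  have he0 : Nat.card E ≠ 0 := Nat.card_pos.ne'
  have hg0 : Nat.card G ≠ 0 := Nat.card_pos.ne'
  -- at a prime without configuration `a` centralises a Sylow subgroup of `O`
  have hNCle : ∀ (r : ℕ) [Fact r.Prime], r ≠ 2 → (∀ V H : Subgroup G, ¬ Conf r V H) →
      (Nat.card O).factorization r ≤ (Nat.card (coreFix t a)).factorization r := by
    intro r hrp hr hC
    rcases regular_or_fixed hG hDich hR h8 hnc hr hC with h | h | h
    · obtain ⟨A, B, hA0, hB0, hAd, heq⟩ : ∃ A B : ℕ, A ≠ 0 ∧ B ≠ 0 ∧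
          A.factorization r ≤ 2 * d.factorization r ∧
          A * Nat.card G * Nat.card E ^ 2 = B * Nat.card O ^ 3 := by
        rcases hcases with ⟨hd3, heq⟩ | ⟨hd5, heq⟩
        · exact ⟨3, 280, by norm_num, by norm_num, by rw [hd3]; omega, heq⟩
        · refine ⟨25, 1512, by norm_num, by norm_num, ?_, heq⟩
          rw [hd5, show (25 : ℕ) = 5 ^ 2 by norm_num, Nat.factorization_pow]
          simp
      have h1 := congrArg (fun x : ℕ => x.factorization r) heq
      simp only [Nat.factorization_mul (mul_ne_zero hA0 hg0) (pow_ne_zero 2 he0),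
        Nat.factorization_mul hA0 hg0, Nat.factorization_mul hB0 (pow_ne_zero 3 hm0), Nat.factorization_pow,
        Finsupp.add_apply, Finsupp.smul_apply, smul_eq_mul] at h1
      rw [hda', Nat.factorization_mul (by omega) he0, Finsupp.add_apply]
      replace h : (Nat.card O).factorization r = (Nat.card G).factorization r := h
      omega
    · exact h
    · exact h.trans ((Nat.factorization_le_iff_dvd he0 Nat.card_pos.ne').2 (Subgroup.card_dvd_of_le hlt.le) r)
  -- no prime is small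
  have hNC : ∀ (r : ℕ) [Fact r.Prime], r ≠ 2 → ∀ V H : Subgroup G, ¬ Conf r V H := by
    intro r hrp hr V H hcf
    obtain ⟨e, s, P, -, -, -, hs, hs2, hsC, hPO, hPs, haP, -, -, hPa, -⟩ := small_witness hG hnk hNo hr
      (hNo G hG hnk r hr V H hcf) hR.t_two hR.u_two hR.u_ne (hR.central a hR.u_mem)
    haveI := hs
    exact hPa (fixed_invariant (coreC_odd t) hR.u_two
      (fun y hy => conj_mem_coreC (hR.central a hR.u_mem) hy) (hNCle s hs2 hsC) hPs hPO haP)
  have hOa : coreFix t a = O := by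
    refine Subgroup.eq_of_le_of_card_ge inf_le_left (Nat.le_of_dvd Nat.card_pos ?_)
    rw [← Nat.factorization_le_iff_dvd hm0 Nat.card_pos.ne']
    intro r
    by_cases hr : r.Prime
    swap
    · rw [Nat.factorization_eq_zero_of_not_prime _ hr]; exact zero_le
    haveI := Fact.mk hr
    by_cases hr2 : r = 2
    · subst hr2
      rw [Nat.factorization_eq_zero_of_not_dvd (coreC_odd t).not_two_dvd_nat]
      exact zero_le
    exact hNCle r hr2 (hNC r hr2)
  by_cases hE1 : E = ⊥
  · refine hnk (known_of_some_trivial hG hNo (fun r _ hr hC => hInv G hG r hr hC) S n hn hS t b a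
      hR.t_mem hR.v_mem hR.u_mem hR.t_two hR.v_two hR.u_two hR.central hR.v_ne hR.u_ne ?_
      fun V hV htV hbV => by rw [hG.coreV_eq_coreFix hR.t_two hR.v_two hR.v_ne hV htV hbV, ← hE, hE1])
    rintro ⟨s, hs, hsb⟩
    exact hnc ⟨s⁻¹, inv_mem hs, by rw [← hsb]; group⟩
  -- the normaliser of `E`
  have hOcard : Nat.card O = d * Nat.card E := by rw [← hda', hOa]
  have hd5 : d ≤ 5 := by rcases hcases with ⟨h, -⟩ | ⟨h, -⟩ <;> omega
  set H := Subgroup.normalizer (E : Set G) with hH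
  have hOH : O ≤ H := normal_of_index_le_five (coreC_odd t) (mul_self_of_two hR.v_two)
    (fun y hy => conj_mem_coreC (hR.central b hR.v_mem) hy) hd5 hOcard
  have haO : ∀ y ∈ O, a * y = y * a := fun y hy => by
    have h1 : y ∈ coreFix t a := hOa.symm ▸ hy
    exact (Subgroup.mem_centralizer_singleton_iff.1 h1.2).symm
  have hbE : ∀ y ∈ E, b * y = y * b := fun y hy => (Subgroup.mem_centralizer_singleton_iff.1 hy.2).symm
  have hEfix := centralized_of_gens hcl (K := E) (fun y hy => haO y hy.1) hbE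
  have hSH : (S : Subgroup G) ≤ H := fun s hs => Subgroup.mem_normalizer_fintype fun y hy => by
    rw [SetLike.mem_coe, hEfix y hy s hs, mul_inv_cancel_right]
    exact hy
  have hEtop : E ≠ ⊤ := hG.ne_top_of_odd ((coreC_odd t).of_dvd_nat (Subgroup.card_dvd_of_le inf_le_left))
  have hHtop : H ≠ ⊤ := hG.normalizer_ne_top hE1 hEtop
  obtain ⟨hVb, htVb, hbVb, heb⟩ := hG.four_coreFix hR.t_two hR.v_two hR.v_ne (hR.central b hR.v_mem)
  have hfb : FusedIn (fourOf t b) H := by
    refine ⟨hVb, ?_, fun v hv hv1 w hw hw1 => ?_⟩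
    · rw [fourOf, Subgroup.closure_le]
      rintro x (rfl | rfl)
      exacts [hSH hR.t_mem, hSH hR.v_mem]
    · obtain ⟨g, -, hgN, hg⟩ := (hG.fusedIn_top hVb).2.2 v hv hv1 w hw hw1
      refine ⟨g, Subgroup.mem_normalizer_fintype fun y hy => ?_, hgN, hg⟩
      rw [SetLike.mem_coe, hE, ← heb] at hy ⊢
      refine hG.mem_coreV hVb (Subgroup.mem_centralizer_iff.2 fun x hx => ?_) ?_
      · have h1 := Subgroup.mem_centralizer_iff.1 (coreV_le _ hy) _
          ((Subgroup.mem_normalizer_iff''.1 hgN x).1 hx)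
        calc x * (g * y * g⁻¹) = g * (g⁻¹ * x * g * y) * g⁻¹ := by group
          _ = g * y * g⁻¹ * x := by rw [h1]; group
      · rw [← MulAut.conj_apply, MulEquiv.orderOf_eq (MulAut.conj g) y]
        exact orderOf_odd_of_mem (coreV_odd _) hy
  have hHn : fourOf t b ≤ Subgroup.normalizer (coreOf H : Set G) :=
    hfb.2.1.trans (Subgroup.le_normalizer.trans (normalizer_le_normalizer_coreOf H))
  have hDE : coreOf H ≤ E := by
    rw [hE, ← heb]
    refine hG.le_coreV hVb ?_ (coreOf_odd H)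
    by_contra hno
    obtain ⟨s, P, hs, hsD, hPD, hPs, hVP, hPC⟩ := exists_moved_invariant_pgroup hHn
      (by rw [hVb.1]; exact (Nat.coprime_two_left.2 (coreOf_odd H)).pow_left 2)
      (Or.inl (Coprime.isSolvable_of_isPGroup hVb.isPGroup)) hno
    haveI := Fact.mk hs
    have hs2 : s ≠ 2 := fun h => (coreOf_odd H).not_two_dvd_nat (h ▸ hsD)
    exact hNC s hs2 _ H ⟨hHtop, hfb, P, hPD, hPs, hVP, hPC⟩
  have hset : CoreSetting S t a b H :=
    ⟨⟨hG, hR, hcl, hHtop, hSH, hfb⟩, fun y hy => hEfix y (hDE hy)⟩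
  have hfinal : (∀ x ∈ H, x * t = t * x → Odd (orderOf x) → x * a = a * x → x * b = b * x) → False :=
    fun hsplit => by
      have h1 : O ≤ E := fun y hy => Subgroup.mem_inf.2 ⟨hy, Subgroup.mem_centralizer_singleton_iff.2
        (hsplit y (hOH hy) (Subgroup.mem_centralizer_singleton_iff.1 (coreC_le t hy))
          (orderOf_odd_of_mem (coreC_odd t) hy) (haO y hy).symm)⟩
      exact hlt.not_ge ((hOa.le).trans h1)
  rcases hset.models hMS hMO hn hS with ⟨-, h⟩ | ⟨h, -⟩ | ⟨-, hHcard, hc, -⟩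
  · exact hfinal h
  · exact hfinal h
  rw [inf_eq_left.2 hOH] at hc
  have hle := Nat.le_of_dvd Nat.card_pos (Subgroup.card_dvd_of_le hDE)
  have hc' : d * Nat.card E = 3 * Nat.card (coreOf H) := by rw [← hOcard]; exact hc
  have hd3 : d ≤ 3 := by
    by_contra hne
    have := Nat.mul_le_mul_right (Nat.card E) (show 4 ≤ d by omega)
    have := Nat.card_pos (α := E)
    omega
  rcases hcases with ⟨hd', heq⟩ | ⟨hd', -⟩
  swap
  · omega
  rw [hd'] at hc' hOcard
  have heq' : 3 * Nat.card G * Nat.card E ^ 2 = 3 * (2520 * Nat.card E) * Nat.card E ^ 2 := by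
    rw [heq]
    show 280 * Nat.card O ^ 3 = _
    rw [hOcard]
    ring
  have hg : Nat.card G = 2520 * Nat.card E :=
    Nat.eq_of_mul_eq_mul_left (by norm_num) (Nat.eq_of_mul_eq_mul_right (by positivity) heq')
  refine hHtop (Subgroup.eq_top_of_card_eq H ?_)
  rw [hHcard, hg]
  omega

end Cfsg.Agent.Lib.GorensteinWalter
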