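import Cfsg.Agent.Lib.GorensteinWalter.Assembly
import Cfsg.Agent.Lib.GorensteinWalter.ConfClosed
import Cfsg.Agent.Lib.GorensteinWalter.SectionLCentralised
import Cfsg.Agent.Lib.GorensteinWalter.Rotation
import Cfsg.Agent.Lib.GorensteinWalter.Comparable
import Cfsg.Agent.Lib.GorensteinWalter.ModelsC
import Cfsg.Agent.Lib.GorensteinWalter.ModelsC.Cyclic
import Cfsg.Agent.Lib.GorensteinWalter.FusedCentralizerMain
import Cfsg.Agent.Lib.GorensteinWalter.Coinvariant
import Cfsg.Agent.Lib.GorensteinWalter.Equal
import Cfsg.Agent.Lib.GorensteinWalter.Unequal
import Cfsg.Agent.Lib.GorensteinWalter.Four.Closed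
import Cfsg.Agent.Lib.GorensteinWalter.Wiring
import Cfsg.Agent.Lib.GorensteinWalter.StronglyEmbedded

/-!
# The Gorenstein–Walter theorem

Owner: helper60.  All sections are wired: a minimal counterexample does not exist.
-/

set_option autoImplicit false

universe u

namespace Cfsg.Agent.Lib.GorensteinWalter

/-- Rotations centralise `O(C(t))`. -/
theorem propRotationFinal : PropRotation.{u} := propRotation (propComparable propNoConfFinal)

/-- Equal nontrivial fixed points are impossible. -/
theorem propEqualFinal : PropEqual.{u} :=
  propEqual propNoConfFinal propDichotomy propInvariant propRotationFinal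
    (propFusedCentralizer propModelSplit propModelOne) (propCoinvariant propRotationFinal)
    propModelSplit propModelOne propModelCyclic
    fun G _ _ hG _ hH => known_of_stronglyEmbedded BenderOne.propPartOneFinal BenderSuzuki.propMain.{u, u} hG hH

/-- Strict inclusion of the fixed points. -/
theorem propUnequalFinal : PropUnequal.{u} :=
  propUnequal propNoConfFinal propDichotomy propInvariant propModelSplit propModelOne

/-- A minimal counterexample is known. -/
theorem propMainFinal : PropMain.{u} :=
  propMain_of_sections propNoConfFinal propInvariant propDichotomy propFourSylowFinal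
    propRotationFinal (propComparable propNoConfFinal) propEqualFinal propUnequalFinal

/-- A non-abelian simple group with dihedral Sylow 2-subgroups is `PSL(2,q)`, `q` odd, or `A₇`. -/
theorem known_of_simple (G : Type u) [Group G] [Finite G] (hs : IsSimpleGroup G)
    (hna : ¬ IsMulCommutative G) (hd : HasDihedralSylow G) : IsKnownD G :=
  known_of_propMain propMainFinal G hs hna hd

end Cfsg.Agent.Lib.GorensteinWalter
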