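import Cfsg.Agent.Lib.Fusion.Dihedral
import Cfsg.Prelude.Def_CaseTheorems

/-!
# The Gorenstein–Walter theorem: interface

Owner: helper60 (plan: `notes/gorenstein_walter_plan.md`).  The theorem is proved by a minimal
counterexample `G` (`Hyp G`), following Bender's method with the Brauer–Suzuki–Wall theorem and the
principal block order formula at the end.
-/

set_option autoImplicit false

universe u

namespace Cfsg.Agent.Lib.GorensteinWalter

open Cfsg.Agent.Lib.Fusion.Dihedral

/-- `PSL(2,q)` with `q > 3` odd, or the alternating group of degree seven. -/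
def IsKnownD (G : Type u) [Group G] : Prop :=
  (∃ (F : Type) (_ : Field F) (_ : Fintype F), Odd (Fintype.card F) ∧ 3 < Fintype.card F ∧
      Nonempty (G ≃* Matrix.ProjectiveSpecialLinearGroup (Fin 2) F)) ∨
    Nonempty (G ≃* alternatingGroup (Fin 7))

/-- The Sylow 2-subgroups are dihedral (the four-group included). -/
def HasDihedralSylow (G : Type u) [Group G] : Prop :=
  ∀ S : Sylow 2 G, ∃ n, 2 ≤ n ∧ Nonempty ((S : Subgroup G) ≃* DihedralGroup n)

/-- The non-abelian simple sections of proper subgroups of `G` are known. -/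
def ProperKnown (G : Type u) [Group G] : Prop :=
  ∀ H : Subgroup G, H ≠ ⊤ → ∀ (N : Subgroup H) [N.Normal],
    IsSimpleGroup (H ⧸ N) → ¬ IsMulCommutative (H ⧸ N) → IsKnownD (H ⧸ N)

/-- A minimal counterexample, without the assumption that it is one. -/
structure Hyp (G : Type u) [Group G] : Prop where
  simple : IsSimpleGroup G
  nonabelian : ¬ IsMulCommutative G
  dihedral : HasDihedralSylow G
  proper : ProperKnown G

/-- The four-group `V` is fused in `H`: `H` contains it and moves each involution of `V` to each
other one inside `N(V)`. -/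
def FusedIn {G : Type u} [Group G] (V H : Subgroup G) : Prop :=
  IsFour V ∧ V ≤ H ∧ ∀ v ∈ V, v ≠ 1 → ∀ w ∈ V, w ≠ 1 →
    ∃ g ∈ H, g ∈ Subgroup.normalizer (V : Set G) ∧ g * v * g⁻¹ = w

/-! ## Section W: wiring -/

/-- Goal of the local and character theoretic analysis. -/
def PropMain : Prop :=
  ∀ (G : Type u) [Group G] [Finite G], Hyp G → IsKnownD G

/-! ## Section M: the models -/

/-- In a group between a known simple group and its automorphism group, an odd order subgroup
invariant under a four-group is centralised by an involution of it. -/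
def PropModelFour : Prop :=
  ∀ (X : Type u) [Group X] [Finite X] (L : Subgroup X) [L.Normal], IsKnownD L →
    Subgroup.centralizer (L : Set X) = ⊥ → HasDihedralSylow X →
    ∀ V K : Subgroup X, IsFour V → Odd (Nat.card K) → V ≤ Subgroup.normalizer (K : Set X) →
      ∃ v ∈ V, v ≠ 1 ∧ K ≤ Subgroup.centralizer ({v} : Set X)

/-! ## Section S: structure of proper subgroups -/

/-- Without a fused four-group a subgroup has a normal 2-complement. -/
def PropUnfused : Prop :=
  ∀ (G : Type u) [Group G] [Finite G], Hyp G → ∀ H : Subgroup G,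
    (∀ V : Subgroup G, ¬ FusedIn V H) → ∀ x ∈ H, Odd (orderOf x) →
      x ∈ (Cfsg.oddCore H).map H.subtype

/-- A four-group invariant subgroup of odd order of a proper subgroup is centralised, modulo the
odd core, by an involution of the four-group. -/
def PropFourOdd : Prop :=
  ∀ (G : Type u) [Group G] [Finite G], Hyp G → ∀ H : Subgroup G, H ≠ ⊤ →
    ∀ V K : Subgroup G, IsFour V → V ≤ H → K ≤ H → Odd (Nat.card K) →
      V ≤ Subgroup.normalizer (K : Set G) →
      ∃ v ∈ V, v ≠ 1 ∧ ∀ k ∈ K, k * v * k⁻¹ * v⁻¹ ∈ (Cfsg.oddCore H).map H.subtype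

end Cfsg.Agent.Lib.GorensteinWalter
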