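import Cfsg.Agent.Lib.GorensteinWalter.Interface
import Cfsg.Agent.Lib.Fusion.DihedralClasses
import Cfsg.Agent.Lib.Cores.Basic
import Cfsg.Agent.Lib.Involutions.IndexTwo
import Cfsg.Agent.Lib.TwoGroups.Recognition
import Cfsg.Agent.S0205

/-!
# Cyclic or dihedral Sylow 2-subgroups: subgroups, quotients, and core-free perfect groups
-/

set_option autoImplicit false
set_option linter.unusedSectionVars false
set_option linter.style.haveILetI false

namespace Cfsg.Agent.Lib.GorensteinWalter

open Cfsg.Agent.Lib.Fusion.Dihedral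
open DihedralGroup

universe u v

/-- A cyclic or dihedral group. -/
def CycDih (P : Type u) [Group P] : Prop :=
  IsCyclic P ∨ ∃ n, 2 ≤ n ∧ Nonempty (P ≃* DihedralGroup n)

/-- Every Sylow 2-subgroup is cyclic or dihedral. -/
def SylowCD (G : Type u) [Group G] : Prop := ∀ S : Sylow 2 G, CycDih ↥(S : Subgroup G)

theorem HasDihedralSylow.sylowCD {G : Type u} [Group G] (h : HasDihedralSylow G) : SylowCD G :=
  fun S => Or.inr (h S)

/-- A group covered by a cyclic subgroup and one coset inverting it. -/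
theorem cycDih_of_pair {Q : Type u} [Group Q] [Finite Q] (a b : Q) (hb : b * b = 1)
    (hab : b * a * b⁻¹ = a⁻¹) (hcov : ∀ x : Q, x ∈ Subgroup.zpowers a ∨ b * x ∈ Subgroup.zpowers a) :
    CycDih Q := by
  classical
  by_cases hmem : b ∈ Subgroup.zpowers a
  · refine Or.inl ⟨a, fun x => ?_⟩
    rcases hcov x with h | h
    · exact h
    · have := mul_mem (inv_mem hmem) h
      rwa [inv_mul_cancel_left] at this
  set m := orderOf a with hm
  haveI : NeZero m := ⟨(orderOf_pos a).ne'⟩
  let f : Subgroup.zpowers a × Bool → Q := fun p => if p.2 then b * (p.1 : Q) else (p.1 : Q)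
  have hf : Function.Bijective f := by
    constructor
    · rintro ⟨x, i⟩ ⟨y, j⟩ h
      rcases i <;> rcases j <;> simp [f] at h
      · exact Prod.ext h rfl
      · exfalso
        apply hmem
        have : b = (x : Q) * (y : Q)⁻¹ := by rw [h]; group
        exact this ▸ mul_mem x.2 (inv_mem y.2)
      · exfalso
        apply hmem
        have : b = (y : Q) * (x : Q)⁻¹ := by rw [← h]; group
        exact this ▸ mul_mem y.2 (inv_mem x.2)
      · exact Prod.ext h rfl
    · intro x
      rcases hcov x with h | h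
      · exact ⟨(⟨x, h⟩, false), rfl⟩
      · refine ⟨(⟨b * x, h⟩, true), ?_⟩
        simp [f, ← mul_assoc, hb]
  have hcard : Nat.card Q = 2 * m := by
    rw [← Nat.card_eq_of_bijective f hf, Nat.card_prod, Nat.card_zpowers, Nat.card_eq_fintype_card (α := Bool),
      Fintype.card_bool, mul_comm]
  by_cases hm1 : m = 1
  · haveI : Fact (Nat.Prime 2) := ⟨Nat.prime_two⟩
    exact Or.inl (isCyclic_of_prime_card (p := 2) (by rw [hcard, hm1]))
  · exact Or.inr ⟨m, by have := orderOf_pos a; omega,
      TwoGroups.Recognition.nonempty_dihedral rfl hb hab hmem hcard⟩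

theorem inv_rot {n : ℕ} (j : ZMod n) (g : DihedralGroup n) (hg : g ∈ Subgroup.zpowers (r 1)) :
    sr j * g * (sr j)⁻¹ = g⁻¹ := by
  obtain ⟨i, rfl⟩ := Subgroup.mem_zpowers_iff.1 hg
  rw [r_one_zpow, inv_sr, sr_mul_r, sr_mul_sr, inv_r]
  congr 1
  ring

theorem sr_sq {n : ℕ} (j : ZMod n) : (sr j : DihedralGroup n) * sr j = 1 := by
  rw [sr_mul_sr, sub_self, r_zero]

theorem r_mem {n : ℕ} (i : ZMod n) : (r i : DihedralGroup n) ∈ Subgroup.zpowers (r 1) := by
  refine Subgroup.mem_zpowers_iff.2 ⟨i.cast, ?_⟩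
  rw [r_one_zpow, ZMod.intCast_zmod_cast]

theorem CycDih.of_injective {P : Type u} [Group P] [Finite P] {Q : Type v} [Group Q] (h : CycDih P)
    (f : Q →* P) (hf : Function.Injective f) : CycDih Q := by
  haveI : Finite Q := Finite.of_injective f hf
  rcases h with h | ⟨n, -, ⟨e⟩⟩
  · haveI := h
    exact Or.inl (isCyclic_of_injective f hf)
  · let g : Q →* DihedralGroup n := e.toMonoidHom.comp f
    have hg : Function.Injective g := e.injective.comp hf
    set R : Subgroup Q := (Subgroup.zpowers (r 1 : DihedralGroup n)).comap g with hR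
    haveI : IsCyclic R := isCyclic_of_injective
      ((g.comp R.subtype).codRestrict (Subgroup.zpowers (r 1 : DihedralGroup n)) fun x => x.2)
      fun x y hxy => Subtype.ext (hg (congrArg Subtype.val hxy :))
    obtain ⟨a, ha⟩ := IsCyclic.exists_generator (α := R)
    by_cases hall : ∀ x : Q, x ∈ R
    · refine Or.inl ⟨a, fun x => ?_⟩
      obtain ⟨i, hi⟩ := ha ⟨x, hall x⟩
      exact ⟨i, congrArg Subtype.val hi⟩
    push Not at hall
    obtain ⟨b, hb⟩ := hall
    obtain ⟨j, hj⟩ : ∃ j, g b = sr j := by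
      rcases hgb : g b with i | i
      · exact absurd (show g b ∈ Subgroup.zpowers (r 1) from hgb ▸ r_mem i) hb
      · exact ⟨i, rfl⟩
    refine cycDih_of_pair (a : Q) b (hg (by rw [map_mul, map_one, hj, sr_sq])) (hg (by
      rw [map_mul, map_mul, map_inv, map_inv, hj, inv_rot j _ a.2])) fun x => ?_
    by_cases hx : x ∈ R
    · obtain ⟨i, hi⟩ := ha ⟨x, hx⟩
      exact Or.inl ⟨i, congrArg Subtype.val hi⟩
    · obtain ⟨k, hk⟩ : ∃ k, g x = sr k := by
        rcases hgx : g x with i | i
        · exact absurd (show g x ∈ Subgroup.zpowers (r 1) from hgx ▸ r_mem i) hx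
        · exact ⟨i, rfl⟩
      have hbx : b * x ∈ R := by
        show g (b * x) ∈ Subgroup.zpowers (r 1 : DihedralGroup n)
        rw [map_mul, hj, hk, sr_mul_sr]
        exact r_mem _
      obtain ⟨i, hi⟩ := ha ⟨b * x, hbx⟩
      exact Or.inr ⟨i, congrArg Subtype.val hi⟩

theorem CycDih.of_surjective {P : Type u} [Group P] [Finite P] {Q : Type v} [Group Q] (h : CycDih P)
    (f : P →* Q) (hf : Function.Surjective f) : CycDih Q := by
  haveI : Finite Q := Finite.of_surjective f hf
  rcases h with h | ⟨n, -, ⟨e⟩⟩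
  · haveI := h
    exact Or.inl (isCyclic_of_surjective f hf)
  · let g : DihedralGroup n →* Q := f.comp e.symm.toMonoidHom
    have hg : Function.Surjective g := hf.comp e.symm.surjective
    refine cycDih_of_pair (g (r 1)) (g (sr 0)) (by rw [← map_mul, sr_sq, map_one])
      (by rw [← map_inv, ← map_mul, ← map_mul, inv_rot 0 _ (Subgroup.mem_zpowers _), map_inv]) fun x => ?_
    obtain ⟨d, rfl⟩ := hg x
    have key : ∀ i, g (r i) ∈ Subgroup.zpowers (g (r 1)) := fun i => by
      rw [← MonoidHom.map_zpowers]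
      exact ⟨r i, r_mem i, rfl⟩
    rcases d with i | i
    · exact Or.inl (key i)
    · refine Or.inr ?_
      rw [← map_mul, sr_mul_sr]
      exact key _

variable {G : Type u} [Group G] [Finite G]

theorem SylowCD.twoSubgroup (h : SylowCD G) {Q : Subgroup G} (hQ : IsPGroup 2 Q) : CycDih Q := by
  obtain ⟨S, hS⟩ := hQ.exists_le_sylow
  exact (h S).of_injective (Subgroup.inclusion hS) (Subgroup.inclusion_injective hS)

theorem SylowCD.subgroup (h : SylowCD G) (H : Subgroup G) : SylowCD H := by
  intro S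
  have hp : IsPGroup 2 ((S : Subgroup H).map H.subtype) := S.2.map _
  exact (h.twoSubgroup hp).of_injective
    ((S : Subgroup H).equivMapOfInjective H.subtype H.subtype_injective).toMonoidHom
    (MulEquiv.injective _)

theorem SylowCD.of_surjective (h : SylowCD G) {Q : Type v} [Group Q] (f : G →* Q)
    (hf : Function.Surjective f) : SylowCD Q := by
  haveI : Finite Q := Finite.of_surjective f hf
  haveI : Fact (Nat.Prime 2) := ⟨Nat.prime_two⟩
  intro P
  obtain ⟨S⟩ : Nonempty (Sylow 2 G) := inferInstance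
  refine ((h S).of_surjective (f.subgroupMap (S : Subgroup G)) (f.subgroupMap_surjective _)).of_injective
    (Sylow.equiv P (S.mapSurjective hf)).toMonoidHom (MulEquiv.injective _)

/-- An elementary abelian subgroup has order at most four. -/
theorem SylowCD.card_le_four (h : SylowCD G) {E : Subgroup G} (hsq : ∀ x ∈ E, x * x = 1) :
    Nat.card E ≤ 4 := by
  have hp : IsPGroup 2 E := fun x => ⟨1, Subtype.ext (by simpa [pow_one, sq] using hsq x x.2)⟩
  rcases h.twoSubgroup hp with hc | ⟨n, hn, ⟨e⟩⟩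
  · obtain ⟨g, hg⟩ := hc.exists_ofOrder_eq_natCard
    rw [← hg]
    exact le_trans (Nat.le_of_dvd two_pos (orderOf_dvd_of_pow_eq_one
      (Subtype.ext (by simpa [sq] using hsq g g.2)))) (by norm_num)
  · rw [Nat.card_congr e.toEquiv, DihedralGroup.nat_card]
    haveI : NeZero n := ⟨by omega⟩
    have h2 : (r 1 : DihedralGroup n) ^ 2 = 1 := by
      obtain ⟨x, hx⟩ := e.surjective (r 1)
      rw [← hx, ← map_pow, show x ^ 2 = 1 from Subtype.ext (by simpa [sq] using hsq x x.2), map_one]
    have := Nat.le_of_dvd two_pos ((orderOf_r_one (n := n)) ▸ orderOf_dvd_of_pow_eq_one h2)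
    omega

/-- A central four-group of a cyclic or dihedral group is the whole group. -/
theorem SylowCD.mem_four (h : SylowCD G) {V : Subgroup G} (hV : IsFour V) {C : Subgroup G}
    (hC : IsPGroup 2 C) (hVC : V ≤ C) (hcen : C ≤ Subgroup.centralizer (V : Set G)) {x : G} (hx : x ∈ C) :
    x ∈ V := by
  by_cases hx2 : x * x = 1
  · -- `V` and `x` generate an elementary abelian group
    let E : Subgroup G :=
      { carrier := {g | g ∈ C ∧ g * g = 1 ∧ ∀ k ∈ C, k * k = 1 → k ∈ Subgroup.closure ((V : Set G) ∪ {x}) → g * k = k * g} ∩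
          (Subgroup.closure ((V : Set G) ∪ {x}) : Set G)
        one_mem' := ⟨⟨one_mem C, one_mul 1, fun k _ _ _ => by rw [one_mul, mul_one]⟩, one_mem _⟩
        mul_mem' := fun {a b} ha hb => by
          have hab : a * b = b * a := ha.1.2.2 b hb.1.1 hb.1.2.1 hb.2
          refine ⟨⟨mul_mem ha.1.1 hb.1.1, ?_, fun k hk hk2 hkc => ?_⟩, mul_mem ha.2 hb.2⟩
          · rw [(show Commute b a from hab.symm).mul_mul_mul_comm, ha.1.2.1, hb.1.2.1, one_mul]
          · exact ((show Commute a k from ha.1.2.2 k hk hk2 hkc).mul_left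
              (show Commute b k from hb.1.2.2 k hk hk2 hkc)).eq
        inv_mem' := fun {a} ha => by rwa [inv_eq_of_mul_eq_one_right ha.1.2.1] }
    have hcl : ∀ y ∈ (V : Set G) ∪ {x}, y ∈ E := by
      intro y hy
      have hgen : ∀ y ∈ (V : Set G) ∪ {x}, y ∈ C ∧ y * y = 1 := by
        rintro y (hy | hy)
        · exact ⟨hVC hy, hV.2 y hy⟩
        · rw [Set.mem_singleton_iff.1 hy]; exact ⟨hx, hx2⟩
      refine ⟨⟨(hgen y hy).1, (hgen y hy).2, fun k _ _ hk => ?_⟩, Subgroup.subset_closure hy⟩
      have : Subgroup.closure ((V : Set G) ∪ {x}) ≤ Subgroup.centralizer ({y} : Set G) := by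
        rw [Subgroup.closure_le]
        intro w hw
        rw [SetLike.mem_coe, Subgroup.mem_centralizer_singleton_iff]
        rcases hw with hw | hw <;> rcases hy with hy | hy
        · exact hV.comm hw hy
        · rw [Set.mem_singleton_iff.1 hy]
          exact Subgroup.mem_centralizer_iff.1 (hcen hx) w hw
        · rw [Set.mem_singleton_iff.1 hw]
          exact (Subgroup.mem_centralizer_iff.1 (hcen hx) y hy).symm
        · rw [Set.mem_singleton_iff.1 hw, Set.mem_singleton_iff.1 hy]
      exact (Subgroup.mem_centralizer_singleton_iff.1 (this hk)).symm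
    have hle : V ≤ E := fun y hy => hcl y (Or.inl hy)
    have := Subgroup.eq_of_le_of_card_ge hle (by
      rw [hV.1]; exact h.card_le_four fun y hy => hy.1.2.1)
    exact this ▸ hcl x (Or.inr rfl)
  · exfalso
    rcases h.twoSubgroup hC with hc | ⟨n, hn, ⟨e⟩⟩
    · haveI := hc
      haveI := Subgroup.isCyclic_of_le hVC
      exact not_isCyclic_iff_exponent_eq_prime Nat.prime_two (by rw [hV.1]; rfl) |>.2
        ((isFour_iff.1 hV).exponent_two) inferInstance
    · obtain ⟨i, hi⟩ : ∃ i, e ⟨x, hx⟩ = r i := by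
        rcases hex : e ⟨x, hx⟩ with i | i
        · exact ⟨i, rfl⟩
        · exact absurd (congrArg Subtype.val (e.injective (show e (⟨x, hx⟩ * ⟨x, hx⟩) = e 1 by
            rw [map_mul, map_one, hex, sr_sq]))) hx2
      have hrot : ∀ v : V, e ⟨v, hVC v.2⟩ ∈ Subgroup.zpowers (r 1 : DihedralGroup n) := fun v => by
        rcases hev : e ⟨v, hVC v.2⟩ with j | j
        · exact r_mem j
        · exfalso
          have hcm := congrArg e (show (⟨v, hVC v.2⟩ : C) * ⟨x, hx⟩ = ⟨x, hx⟩ * ⟨v, hVC v.2⟩ from
            Subtype.ext (Subgroup.mem_centralizer_iff.1 (hcen hx) v v.2))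
          rw [map_mul, map_mul, hev, hi, sr_mul_r, r_mul_sr] at hcm
          have h2 : i + i = 0 := by linear_combination sr.inj hcm
          apply hx2
          exact congrArg Subtype.val (e.injective (show e (⟨x, hx⟩ * ⟨x, hx⟩) = e 1 by
            rw [map_mul, map_one, hi, r_mul_r, h2, r_zero]))
      haveI : IsCyclic V := isCyclic_of_injective
        ((e.toMonoidHom.comp (Subgroup.inclusion hVC)).codRestrict _ hrot)
        fun a b hab => Subgroup.inclusion_injective hVC (e.injective (congrArg Subtype.val hab :))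
      exact not_isCyclic_iff_exponent_eq_prime Nat.prime_two (by rw [hV.1]; rfl) |>.2
        ((isFour_iff.1 hV).exponent_two) inferInstance

/-- An element of odd order acting non-trivially on a four-group permutes its involutions transitively. -/
theorem exists_conj_of_odd {V : Subgroup G} (hV : IsFour V) {n : G}
    (hn : n ∈ Subgroup.normalizer (V : Set G)) (hodd : Odd (orderOf n))
    (hne : ¬ ∀ x ∈ V, n * x = x * n) {a b : G} (ha : a ∈ V) (ha1 : a ≠ 1) (hb : b ∈ V) (hb1 : b ≠ 1) :
    ∃ g ∈ Subgroup.zpowers n, g ∈ Subgroup.normalizer (V : Set G) ∧ g * a * g⁻¹ = b := by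
  set σ := autPerm V ⟨n, hn⟩ with hσ
  have hne1 : σ ≠ 1 := fun h => hne (fun x hx => by
    have : (⟨n, hn⟩ : Subgroup.normalizer (V : Set G)) ∈ (autPerm V).ker := h
    rw [ker_autPerm, Subgroup.mem_subgroupOf, Subgroup.mem_centralizer_iff] at this
    exact (this x hx).symm)
  have h6 : orderOf σ ∣ 6 := by
    refine (orderOf_dvd_natCard σ).trans ?_
    rw [Nat.card_perm, card_nontriv hV]
    rfl
  have hod : Odd (orderOf σ) := by
    refine Odd.of_dvd_nat hodd ?_
    rw [← Subgroup.orderOf_mk n hn]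
    exact orderOf_map_dvd _ _
  have h3 : orderOf σ = 3 := by
    have h0 : orderOf σ ≠ 1 := fun h => hne1 (orderOf_eq_one_iff.1 h)
    have := Nat.le_of_dvd (by norm_num) h6
    rw [Nat.odd_iff] at hod
    interval_cases orderOf σ <;> omega
  rcases perm_three (card_nontriv hV) σ h3 ⟨a, ha, ha1⟩ ⟨b, hb, hb1⟩ with h | h | h
  · exact ⟨1, one_mem _, one_mem _, by simpa using congrArg Subtype.val h⟩
  · exact ⟨n, Subgroup.mem_zpowers n, hn, congrArg Subtype.val h⟩
  · refine ⟨n * n, mul_mem (Subgroup.mem_zpowers n) (Subgroup.mem_zpowers n), mul_mem hn hn, ?_⟩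
    have h' : n * (n * a * n⁻¹) * n⁻¹ = b := congrArg Subtype.val h
    rw [← h']
    group

/-- With cyclic or dihedral Sylow 2-subgroups and no four-group acted on by three, there is a normal 2-complement. -/
theorem SylowCD.odd_mem_oddCore (h : SylowCD G)
    (hno : ∀ V : Subgroup G, IsFour V → OddTrivial V) {x : G} (hx : Odd (orderOf x)) :
    x ∈ Cfsg.oddCore G := by
  haveI : Fact (Nat.Prime 2) := ⟨Nat.prime_two⟩
  by_cases heven : Even (Nat.card G)
  swap
  · have : (⊤ : Subgroup G) ≤ Cfsg.oddCore G := Cores.le_oddCore (by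
      rw [Subgroup.card_top]; exact Nat.not_even_iff_odd.1 heven)
    exact this (Subgroup.mem_top x)
  obtain ⟨S⟩ : Nonempty (Sylow 2 G) := inferInstance
  obtain ⟨P, K, hK, hKP⟩ : Cfsg.HasNormalPComplement 2 G := by
    rcases h S with hc | ⟨n, hn, ⟨e⟩⟩
    · exact ⟨S, _, inferInstance, hc.isComplement' (Nat.minFac_eq_two_iff _ |>.2 heven.two_dvd)⟩
    · exact (Coords.ofEquiv e).hasNormalPComplement fun R _ hR => hno R hR
  haveI := hK
  obtain ⟨j, hj⟩ := IsPGroup.iff_card.1 P.2
  have hKodd : Odd (Nat.card K) := by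
    rw [← hKP.index_eq_card, ← Nat.not_even_iff_odd, even_iff_two_dvd]
    exact P.not_dvd_index
  refine Cores.le_oddCore hKodd ?_
  rw [← QuotientGroup.eq_one_iff]
  refine orderOf_eq_one_iff.1 (Nat.eq_one_of_dvd_coprimes ((Nat.coprime_two_left.2 hx).pow_left j) ?_
    (orderOf_map_dvd (QuotientGroup.mk' K) x))
  refine (orderOf_dvd_natCard _).trans (dvd_of_eq ?_)
  rw [← Subgroup.index_eq_card, hKP.symm.index_eq_card, hj]

/-- A non-abelian simple group with cyclic or dihedral Sylow 2-subgroups has dihedral ones. -/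
theorem SylowCD.dihedral_of_simple (h : SylowCD G) [IsSimpleGroup G] (hna : ¬ IsMulCommutative G) :
    HasDihedralSylow G := by
  have hns : ¬ Group.IsSolvable G := fun hs =>
    hna ⟨⟨IsSimpleGroup.comm_iff_isSolvable.2 hs⟩⟩
  intro S
  rcases h S with hc | hd
  · exfalso
    have heven : Even (Nat.card G) := by
      rw [← Nat.not_odd_iff_even]; exact fun ho => hns (Cfsg.Agent.S0205.result ho)
    obtain ⟨H, hH⟩ := Involutions.IndexTwo.exists_index_two_of_cyclic_sylow heven S hc
    rcases (Subgroup.normal_of_index_eq_two hH).eq_bot_or_eq_top with hb | ht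
    · rw [hb, Subgroup.index_bot] at hH
      haveI : Fact (Nat.Prime 2) := ⟨Nat.prime_two⟩
      haveI := isCyclic_of_prime_card hH
      exact hna ⟨⟨fun a b => (IsCyclic.commGroup (α := G)).mul_comm a b⟩⟩
    · rw [ht, Subgroup.index_top] at hH; omega
  · exact hd

theorem no_index_two [Group.IsPerfect G] (H : Subgroup G) : H.index ≠ 2 := by
  intro hH
  haveI := Subgroup.normal_of_index_eq_two hH
  have hc : Nat.card (G ⧸ H) = 2 := by rw [← Subgroup.index_eq_card]; exact hH
  haveI : Fact (Nat.Prime 2) := ⟨Nat.prime_two⟩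
  haveI := isCyclic_of_prime_card hc
  letI := IsCyclic.commGroup (α := G ⧸ H)
  have := Abelianization.commutator_subset_ker (QuotientGroup.mk' H)
  rw [Group.IsPerfect.commutator_eq_top, QuotientGroup.ker_mk', top_le_iff] at this
  rw [this, Subgroup.index_top] at hH
  omega

/-- A perfect core-free group with cyclic or dihedral Sylow 2-subgroups is simple. -/
theorem SylowCD.simple_of_perfect (h : SylowCD G) [Group.IsPerfect G] [Nontrivial G]
    (hO : Cfsg.oddCore G = ⊥) : IsSimpleGroup G ∧ ¬ IsMulCommutative G ∧ HasDihedralSylow G := by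
  haveI : Fact (Nat.Prime 2) := ⟨Nat.prime_two⟩
  have hna : ¬ IsMulCommutative G := fun hc => by
    have h1 := Group.IsPerfect.commutator_eq_top (G := G)
    rw [_root_.commutator_def, Subgroup.commutator_eq_bot_iff_le_centralizer.2 (fun x _ =>
      Subgroup.mem_centralizer_iff.2 fun y _ => hc.is_comm.comm y x)] at h1
    exact bot_ne_top h1
  have heven : Even (Nat.card G) := by
    rw [← Nat.not_odd_iff_even]
    intro ho
    have : (⊤ : Subgroup G) ≤ Cfsg.oddCore G := Cores.le_oddCore (by rwa [Subgroup.card_top])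
    rw [hO, le_bot_iff] at this
    exact bot_ne_top this.symm
  have hdih : HasDihedralSylow G := by
    intro S
    rcases h S with hc | hd
    · obtain ⟨H, hH⟩ := Involutions.IndexTwo.exists_index_two_of_cyclic_sylow heven S hc
      exact absurd hH (no_index_two H)
    · exact hd
  obtain ⟨S⟩ : Nonempty (Sylow 2 G) := inferInstance
  obtain ⟨n, hn, ⟨e⟩⟩ := hdih S
  let D := Coords.ofEquiv e
  have hclass := D.isConj_of_three hn fun U hU hf => by
    by_contra h3
    obtain ⟨H, hH⟩ := D.exists_index_two hn hU hf fun k hk ho => commute_of_not_three hf h3 hk ho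
    exact no_index_two H hH
  refine ⟨⟨fun N hN => ?_⟩, hna, hdih⟩
  by_cases hb : N = ⊥
  · exact Or.inl hb
  refine Or.inr ?_
  haveI := hN
  obtain ⟨t, htN, ht⟩ : ∃ t ∈ N, orderOf t = 2 := by
    have hne : ¬ Odd (Nat.card N) := fun ho => hb (le_bot_iff.1 (hO ▸ Cores.le_oddCore ho))
    obtain ⟨t, ht⟩ := exists_prime_orderOf_dvd_card' (G := N) 2
      (even_iff_two_dvd.1 (Nat.not_odd_iff_even.1 hne))
    exact ⟨t, t.2, by rw [Subgroup.orderOf_coe, ht]⟩
  have hsr : ∀ i, D.φ (sr i) ∈ N := fun i => by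
    obtain ⟨c, hc⟩ := isConj_iff.1 (hclass t _ ht (D.orderOf_sr' i))
    exact hc ▸ hN.conj_mem t htN c
  have hle : (S : Subgroup G) ≤ N := by
    intro x hx
    rcases D.cases hx with ⟨i, rfl⟩ | ⟨i, rfl⟩
    · rw [show r i = sr 0 * sr i by rw [sr_mul_sr, sub_zero], map_mul]
      exact mul_mem (hsr 0) (hsr i)
    · exact hsr i
  have hodd : Odd (Nat.card (G ⧸ N)) := by
    rw [← Subgroup.index_eq_card, ← Nat.not_even_iff_odd, even_iff_two_dvd]
    exact fun h2 => S.not_dvd_index (h2.trans (Subgroup.index_dvd_of_le hle))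
  haveI := Cfsg.Agent.S0205.result hodd
  by_contra hNtop
  haveI : Nontrivial (G ⧸ N) := (QuotientGroup.nontrivial_iff (N := N)).2 hNtop
  have hlt := Group.IsSolvable.commutator_lt_top_of_nontrivial (G := G ⧸ N)
  have hsurj := QuotientGroup.mk'_surjective N
  have : _root_.commutator (G ⧸ N) = ⊤ := by
    rw [_root_.commutator_def, ← Subgroup.map_top_of_surjective _ hsurj, ← Subgroup.map_commutator,
      ← _root_.commutator_def, Group.IsPerfect.commutator_eq_top]
  exact hlt.ne this

end Cfsg.Agent.Lib.GorensteinWalter
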