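import Cfsg.Agent.Lib.GorensteinWalter.Interface

/-!
# Section M, shared facts: the automorphism picture of a model and dihedral Sylow 2-subgroups
-/

set_option autoImplicit false

universe u v

namespace Cfsg.Agent.Lib.GorensteinWalter.Model

open Cfsg.Agent.Lib.Fusion.Dihedral DihedralGroup Subgroup

/-- A group with dihedral Sylow 2-subgroups has no elementary abelian subgroup of order eight. -/
theorem no_eight {X : Type u} [Group X] [Finite X] (hD : HasDihedralSylow X) {w a b : X}
    (hw : w * w = 1) (ha : a * a = 1) (hb : b * b = 1) (hwa : w * a = a * w) (hwb : w * b = b * w)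
    (hab : a * b = b * a) (ha1 : a ≠ 1) (hb1 : b ≠ 1) (hne : a ≠ b) (hw1 : w ≠ 1) (hwa' : w ≠ a)
    (hwb' : w ≠ b) (hwab : w ≠ a * b) : False := by
  classical
  have : Fact (Nat.Prime 2) := ⟨Nat.prime_two⟩
  set E : Subgroup X := closure ({w, a, b} : Set X) with hE
  have hcomm : ∀ x ∈ ({w, a, b} : Set X), ∀ y ∈ ({w, a, b} : Set X), x * y = y * x := by
    rintro x (rfl | rfl | rfl) y (rfl | rfl | rfl)
    all_goals first | rfl | assumption | (symm; assumption)
  letI := closureCommGroupOfComm hcomm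
  have hsq : ∀ x ∈ E, x * x = 1 := by
    intro x hx
    induction hx using closure_induction with
    | mem y hy => rcases hy with rfl | rfl | rfl <;> assumption
    | one => rw [one_mul]
    | mul y z hy hz e1 e2 =>
      have hyz : y * z = z * y :=
        congrArg Subtype.val (mul_comm (⟨y, hy⟩ : closure ({w, a, b} : Set X)) ⟨z, hz⟩)
      calc y * z * (y * z) = y * (z * y) * z := by group
        _ = y * (y * z) * z := by rw [hyz]
        _ = (y * y) * (z * z) := by group
        _ = 1 := by rw [e1, e2, one_mul]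
    | inv y hy e1 => rw [← _root_.mul_inv_rev, e1, inv_one]
  have hp : IsPGroup 2 E := fun x =>
    ⟨1, Subtype.ext (by simpa [pow_two] using hsq x x.2)⟩
  obtain ⟨S, hS⟩ := hp.exists_le_sylow
  obtain ⟨m, hm, ⟨e⟩⟩ := hD S
  let D : Coords S m := Coords.ofEquiv e
  haveI : NeZero m := ⟨by omega⟩
  have uniq : ∀ x y : X, x ∈ D.rot → y ∈ D.rot → x * x = 1 → y * y = 1 → x ≠ 1 → y ≠ 1 → x = y := by
    have key : ∀ x, x ∈ D.rot → x * x = 1 → x ≠ 1 → x = D.φ (r ((m / 2 : ℕ) : ZMod m)) := by
      intro x hx hx2 hx1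
      rcases D.cases (D.rot_le hx) with ⟨i, rfl⟩ | ⟨i, rfl⟩
      · rw [← map_mul, r_mul_r, ← map_one D.φ] at hx2
        have h0 : i + i = 0 := DihedralGroup.r.inj ((D.inj hx2).trans one_def)
        rcases double_eq_zero h0 with rfl | rfl
        · exact absurd (by rw [r_zero, map_one]) hx1
        · rfl
      · exact absurd hx (D.sr_notMem_rot i)
    exact fun x y hx hy e1 e2 n1 n2 => (key x hx e1 n1).trans (key y hy e2 n2).symm
  have pick : ∀ x ∈ E, ∀ y ∈ E, x ∈ D.rot ∨ y ∈ D.rot ∨ x * y ∈ D.rot := by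
    intro x hx y hy
    by_contra h
    push Not at h
    exact h.2.2 (D.mul_mem_rot (hS hx) (hS hy) h.1 h.2.1)
  have hwE : w ∈ E := subset_closure (by simp)
  have haE : a ∈ E := subset_closure (by simp)
  have hbE : b ∈ E := subset_closure (by simp)
  have hab1 : a * b ≠ 1 := fun h => hne (by rw [mul_eq_one_iff_eq_inv.1 h, inv_eq_of_mul_eq_one_right hb])
  have hwa1 : w * a ≠ 1 := fun h => hwa' (by rw [mul_eq_one_iff_eq_inv.1 h, inv_eq_of_mul_eq_one_right ha])
  have hwb1 : w * b ≠ 1 := fun h => hwb' (by rw [mul_eq_one_iff_eq_inv.1 h, inv_eq_of_mul_eq_one_right hb])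
  have cases3 : ∀ z ∈ D.rot, z * z = 1 → z ≠ 1 → ∀ x ∈ E, ∀ y ∈ E, x ≠ 1 → y ≠ 1 → x * y ≠ 1 →
      z = x ∨ z = y ∨ z = x * y := by
    intro z hz hz2 hz1 x hx y hy nx ny nxy
    rcases pick x hx y hy with h | h | h
    · exact Or.inl (uniq z x hz h hz2 (hsq x hx) hz1 nx)
    · exact Or.inr (Or.inl (uniq z y hz h hz2 (hsq y hy) hz1 ny))
    · exact Or.inr (Or.inr (uniq z _ hz h hz2 (hsq _ (mul_mem hx hy)) hz1 nxy))
  have fin : ∀ z ∈ D.rot, z * z = 1 → z ≠ 1 → (z = a ∨ z = b ∨ z = a * b) → False := by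
    intro z hz hz2 hz1 hzc
    have c1 := cases3 z hz hz2 hz1 w hwE a haE hw1 ha1 hwa1
    have c2 := cases3 z hz hz2 hz1 w hwE b hbE hw1 hb1 hwb1
    rcases hzc with rfl | rfl | rfl
    · rcases c2 with h | h | h
      · exact hwa' h.symm
      · exact hne h
      · exact hwab (by rw [h, mul_assoc, hb, mul_one])
    · rcases c1 with h | h | h
      · exact hwb' h.symm
      · exact hne h.symm
      · exact hwab (by rw [h, hwa, ← mul_assoc, ha, one_mul])
    · rcases c1 with h | h | h
      · exact hwab h.symm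
      · exact hb1 (mul_eq_left.1 h)
      · exact hwb' (mul_right_cancel ((h.symm.trans hab).trans rfl))
  rcases pick a haE b hbE with h | h | h
  · exact fin a h ha ha1 (Or.inl rfl)
  · exact fin b h hb hb1 (Or.inr (Or.inl rfl))
  · exact fin _ h (hsq _ (mul_mem haE hbE)) hab1 (Or.inr (Or.inr rfl))

variable {X : Type u} [Group X] (L : Subgroup X) [L.Normal] {M : Type v} [Group M] (e : L ≃* M)

/-- The action of `X` on a model of its normal subgroup `L`. -/
noncomputable def autHom : X →* MulAut M := (MulAut.congr e).toMonoidHom.comp MulAut.conjNormal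

theorem autHom_apply (x : X) (l : L) : autHom L e x (e l) = e (MulAut.conjNormal x l) := by
  simp [autHom, MulAut.congr]

theorem autHom_of_mem (l : L) : autHom L e l = MulAut.conj (e l) := by
  refine MulEquiv.ext fun m => ?_
  obtain ⟨n, rfl⟩ := e.surjective m
  rw [autHom_apply, MulAut.conj_apply, ← map_inv, ← map_mul, ← map_mul]
  exact congrArg e (Subtype.ext (by simp [MulAut.conjNormal_apply]))

theorem autHom_injective (hc : Subgroup.centralizer (L : Set X) = ⊥) :
    Function.Injective (autHom L e) := by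
  refine (injective_iff_map_eq_one _).2 fun x hx => ?_
  have hmem : x ∈ Subgroup.centralizer (L : Set X) := by
    rw [mem_centralizer_iff]
    intro l hl
    have h := autHom_apply L e x ⟨l, hl⟩
    rw [hx, MulAut.one_apply] at h
    have h2 := congrArg Subtype.val (e.injective h)
    rw [MulAut.conjNormal_apply] at h2
    exact (eq_mul_inv_iff_mul_eq.1 h2)
  rwa [hc, mem_bot] at hmem

/-- An element acts trivially on `y ∈ L` as soon as its automorphism fixes the image of `y`. -/
theorem commute_of_fixed {x : X} {l : L} (h : autHom L e x (e l) = e l) : x * l = l * x := by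
  rw [autHom_apply] at h
  have h2 := congrArg Subtype.val (e.injective h)
  rw [MulAut.conjNormal_apply] at h2
  exact mul_inv_eq_iff_eq_mul.1 h2

/-- An involution centralising the part in `L` of an odd order subgroup, and commuting with it
modulo `L`, centralises it. -/
theorem le_centralizer_of_inf {K : Subgroup X} {v : X} (hK : Odd (Nat.card K)) (hv : v * v = 1)
    (hvK : v ∈ normalizer (K : Set X)) (hfix : ∀ l ∈ K ⊓ L, v * l = l * v)
    (hcom : ∀ k ∈ K, k * v * k⁻¹ * v⁻¹ ∈ L) : K ≤ Subgroup.centralizer ({v} : Set X) := by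
  intro k hk
  rw [mem_centralizer_singleton_iff]
  have hvi : v⁻¹ = v := inv_eq_of_mul_eq_one_right hv
  set c := k * v * k⁻¹ * v⁻¹ with hc
  have hcK : c ∈ K := by
    have h1 : v * k⁻¹ * v⁻¹ ∈ K := (mem_normalizer_iff.1 hvK _).1 (inv_mem hk)
    have h2 : c = k * (v * k⁻¹ * v⁻¹) := by rw [hc]; group
    exact h2 ▸ mul_mem hk h1
  have h1 := hfix c ⟨hcK, hcom k hk⟩
  have hinv : c * c = 1 := by
    have h2 : v * c * v⁻¹ = c := by rw [h1, mul_inv_cancel_right]
    have h3 : v * c * v⁻¹ = c⁻¹ := by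
      rw [hc]
      simp only [_root_.mul_inv_rev, inv_inv, hvi, mul_assoc]
      rw [hv, mul_one]
    exact mul_eq_one_iff_eq_inv.2 (h2.symm.trans h3)
  have hord : orderOf c ∣ Nat.card K := by
    rw [← Subgroup.orderOf_mk c hcK]; exact orderOf_dvd_natCard _
  have hodd : Odd (orderOf c) := hK.of_dvd_nat hord
  have hd : orderOf c ∣ 2 := orderOf_dvd_of_pow_eq_one (by rw [pow_two, hinv])
  have hc1 : c = 1 := by
    rcases (Nat.dvd_prime Nat.prime_two).1 hd with h | h
    · exact orderOf_eq_one_iff.1 h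
    · exact absurd (h ▸ hodd) (by decide)
  rw [hc] at hc1
  exact mul_inv_eq_iff_eq_mul.1 (mul_inv_eq_one.1 hc1)

end Cfsg.Agent.Lib.GorensteinWalter.Model
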