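import Cfsg.Agent.Lib.GorensteinWalter.ModelAux
import Cfsg.Agent.Lib.AutPSL.Descent
import Cfsg.Agent.Lib.AutPSL.Main
import Cfsg.Agent.Lib.PSLTwo.Sylow
import Cfsg.Agent.S0205

/-!
# Section M, the model `PSL(2,q)`
-/

set_option autoImplicit false

universe u

namespace Cfsg.Agent.Lib.GorensteinWalter.Model

open Cfsg.Agent.Lib.Fusion.Dihedral Cfsg.Agent.Lib.AutPSL Matrix
open scoped MatrixGroups

section Mat

variable {F : Type*} [Field F]

local notation "M2" => Matrix (Fin 2) (Fin 2) F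

theorem anticomm {A B : M2} (hA : A.trace = 0) (hB : B.trace = 0) :
    A * B + B * A = (A * B).trace • 1 := by
  rw [trace_fin_two] at hA hB
  have a1 : A 1 1 = -A 0 0 := by linear_combination hA
  have b1 : B 1 1 = -B 0 0 := by linear_combination hB
  ext i j
  fin_cases i <;> fin_cases j <;>
    (simp [Matrix.mul_apply, Fin.sum_univ_two, trace_fin_two, a1, b1]; try ring)

theorem tr_zero_of_sq {g : M2} {c : F} (h : g * g = c • 1) (hns : ∀ d : F, g ≠ d • 1) :
    g.trace = 0 := by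
  have e00 := congrFun (congrFun h 0) 0
  have e01 := congrFun (congrFun h 0) 1
  have e10 := congrFun (congrFun h 1) 0
  have e11 := congrFun (congrFun h 1) 1
  simp [Matrix.mul_apply, Fin.sum_univ_two] at e00 e01 e10 e11
  rw [trace_fin_two]
  by_contra ht
  have h01 : g 0 1 = 0 :=
    (mul_eq_zero.1 (show (g 0 0 + g 1 1) * g 0 1 = 0 by linear_combination e01)).resolve_left ht
  have h10 : g 1 0 = 0 :=
    (mul_eq_zero.1 (show (g 0 0 + g 1 1) * g 1 0 = 0 by linear_combination e10)).resolve_left ht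
  have hd : g 1 1 = g 0 0 := sub_eq_zero.1 ((mul_eq_zero.1
    (show (g 0 0 + g 1 1) * (g 1 1 - g 0 0) = 0 by linear_combination e11 - e00)).resolve_left ht)
  apply hns (g 0 0)
  ext i j
  fin_cases i <;> fin_cases j <;> simp [h01, h10, hd]

theorem prop_of_commute {A N : M2} (h2 : (2 : F) ≠ 0) (hA : A.trace = 0) (hN : N.trace = 0)
    (hN0 : N ≠ 0) (h : A * N = N * A) : ∃ κ : F, A = κ • N := by
  rw [trace_fin_two] at hA hN
  have a1 : A 1 1 = -A 0 0 := by linear_combination hA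
  have n1 : N 1 1 = -N 0 0 := by linear_combination hN
  have e00 := congrFun (congrFun h 0) 0
  have e01 := congrFun (congrFun h 0) 1
  have e10 := congrFun (congrFun h 1) 0
  simp [Matrix.mul_apply, Fin.sum_univ_two, a1, n1] at e00 e01 e10
  have k1 : A 0 0 * N 0 1 = A 0 1 * N 0 0 := mul_left_cancel₀ h2 (by linear_combination e01)
  have k2 : A 1 0 * N 0 0 = A 0 0 * N 1 0 := mul_left_cancel₀ h2 (by linear_combination e10)
  have k0 : A 0 1 * N 1 0 = N 0 1 * A 1 0 := by linear_combination e00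
  by_cases hx : N 0 0 = 0
  · by_cases hy : N 0 1 = 0
    · have hz : N 1 0 ≠ 0 := fun hz => hN0 (by ext i j; fin_cases i <;> fin_cases j <;> simp [hx, hy, hz, n1])
      refine ⟨A 1 0 / N 1 0, ?_⟩
      have ha : A 0 0 = 0 := by
        rw [hx, mul_zero] at k2
        exact (mul_eq_zero.1 k2.symm).resolve_right hz
      have hb : A 0 1 = 0 := by
        rw [hy, zero_mul] at k0
        exact (mul_eq_zero.1 k0).resolve_right hz
      ext i j
      fin_cases i <;> fin_cases j <;> simp [hx, hy, hz, n1, a1, ha, hb]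
    · refine ⟨A 0 1 / N 0 1, ?_⟩
      have ha : A 0 0 = 0 := by
        rw [hx, mul_zero] at k1
        exact (mul_eq_zero.1 k1).resolve_right hy
      ext i j
      fin_cases i <;> fin_cases j <;> simp [hx, n1, a1, ha] <;> field_simp
      linear_combination -k0
  · refine ⟨A 0 0 / N 0 0, ?_⟩
    ext i j
    fin_cases i <;> fin_cases j <;> simp [n1, a1] <;> field_simp
    · linear_combination -k1
    · linear_combination k2

/-- The trace zero part. -/
def tfree (A : M2) : M2 := A - (A.trace / 2) • 1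

theorem trace_tfree (h2 : (2 : F) ≠ 0) (A : M2) : (tfree A).trace = 0 := by
  simp [tfree, Matrix.trace_sub, Matrix.trace_smul, div_mul_cancel₀ _ h2]

theorem tfree_commute {A B : M2} (h : A * B = B * A) : tfree A * tfree B = tfree B * tfree A := by
  simp only [tfree, sub_mul, mul_sub, Matrix.smul_mul, Matrix.mul_smul, one_mul, mul_one, h, smul_sub,
    smul_comm (B.trace / 2) (A.trace / 2)]
  abel

theorem commute_tfree {A N : M2} (h : A * tfree N = tfree N * A) : A * N = N * A := by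
  have hN : N = tfree N + (N.trace / 2) • 1 := by simp [tfree]
  rw [hN, mul_add, add_mul, h, Matrix.smul_mul, Matrix.mul_smul, one_mul, mul_one]

theorem commute_both (h2 : (2 : F) ≠ 0) {A B N : M2} (hN : N.trace = 0) (hN0 : N ≠ 0)
    (hA : A * N = N * A) (hB : B * N = N * B) : A * B = B * A := by
  have aux : ∀ C : M2, C * N = N * C → ∃ κ : F, C = κ • N + (C.trace / 2) • 1 := by
    intro C hC
    obtain ⟨κ, hκ⟩ := prop_of_commute h2 (trace_tfree h2 C) hN hN0 (by
      simp only [tfree, sub_mul, mul_sub, Matrix.smul_mul, Matrix.mul_smul, one_mul, mul_one, hC])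
    exact ⟨κ, by rw [← hκ]; simp [tfree]⟩
  obtain ⟨a, ha⟩ := aux A hA
  obtain ⟨b, hb⟩ := aux B hB
  rw [ha, hb]
  simp only [mul_add, add_mul, Matrix.smul_mul, Matrix.mul_smul, one_mul, mul_one, smul_add, smul_smul]
  rw [mul_comm a b, mul_comm a (B.trace / 2), mul_comm (A.trace / 2) b,
    mul_comm (A.trace / 2) (B.trace / 2)]
  abel

end Mat

section PSL

variable {F : Type} [Field F] [Fintype F]

local notation "SL2" => Matrix.SpecialLinearGroup (Fin 2) F
local notation "PSL2" => Matrix.ProjectiveSpecialLinearGroup (Fin 2) F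
local notation "GL2" => GL (Fin 2) F
local notation "M2" => Matrix (Fin 2) (Fin 2) F

theorem center_sq (h2 : (2 : F) ≠ 0) {z : SL2} (hz : z ∈ Subgroup.center SL2) : z * z = 1 := by
  rcases (PSLTwo.Sylow.mem_center_iff' h2).1 hz with rfl | rfl
  · exact one_mul 1
  · exact PSLTwo.Sylow.negOne_sq

theorem exists_lift (h2 : (2 : F) ≠ 0) {x : PSL2} (hx : Odd (orderOf x)) :
    ∃ s : SL2, (QuotientGroup.mk s : PSL2) = x ∧ Odd (orderOf s) := by
  obtain ⟨s, rfl⟩ := QuotientGroup.mk_surjective x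
  set m := orderOf (QuotientGroup.mk s : PSL2) with hm
  have hz : s ^ m ∈ Subgroup.center SL2 := by
    rw [← QuotientGroup.eq_one_iff, QuotientGroup.mk_pow, pow_orderOf_eq_one]
  refine ⟨s * s ^ m, ?_, ?_⟩
  · rw [QuotientGroup.mk_mul, (QuotientGroup.eq_one_iff _).2 hz, mul_one]
  · refine hx.of_dvd_nat (orderOf_dvd_of_pow_eq_one ?_)
    obtain ⟨k, hk⟩ := hx
    have hcm : Commute s (s ^ m) := (Commute.refl s).pow_right m
    rw [hcm.mul_pow, hk, pow_succ (s ^ (2 * k + 1)) (2 * k), pow_mul, pow_two, center_sq h2 (hk ▸ hz),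
      one_pow, one_mul, center_sq h2 (hk ▸ hz)]

theorem lift_unique (h2 : (2 : F) ≠ 0) {s t : SL2} (h : (QuotientGroup.mk s : PSL2) = QuotientGroup.mk t)
    (hs : Odd (orderOf s)) (ht : Odd (orderOf t)) : s = t := by
  have hz : s⁻¹ * t ∈ Subgroup.center SL2 := QuotientGroup.eq.1 h
  obtain ⟨k, hk⟩ := hs.mul ht
  have hcm : Commute s (s⁻¹ * t) := Subgroup.mem_center_iff.1 hz s
  have h1 : (s * (s⁻¹ * t)) ^ (orderOf s * orderOf t) = 1 := by
    rw [mul_inv_cancel_left, mul_comm, pow_mul, pow_orderOf_eq_one, one_pow]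
  rw [hcm.mul_pow, pow_mul s, pow_orderOf_eq_one, one_pow, one_mul, hk, pow_succ, pow_mul, pow_two,
    center_sq h2 hz, one_pow, one_mul] at h1
  exact inv_mul_eq_one.1 h1

theorem commute_lift (h2 : (2 : F) ≠ 0) {s t : SL2} (hs : Odd (orderOf s))
    (h : (QuotientGroup.mk t : PSL2) * QuotientGroup.mk s = QuotientGroup.mk s * QuotientGroup.mk t) :
    t * s = s * t := by
  have h1 : t * s * t⁻¹ = s := by
    refine lift_unique h2 ?_ ?_ hs
    · rw [QuotientGroup.mk_mul, QuotientGroup.mk_mul, QuotientGroup.mk_inv, h, mul_inv_cancel_right]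
    · rwa [show orderOf (t * s * t⁻¹) = orderOf s from MulEquiv.orderOf_eq (MulAut.conj t) s]
  exact mul_inv_eq_iff_eq_mul.1 h1

theorem exists_inner_of_det {d : GL2} {c : Fˣ} (hc : GeneralLinearGroup.det d = c * c) :
    ∃ x : PSL2, (conjAut d : MulAut PSL2) = MulAut.conj x := by
  set d' : GL2 := GeneralLinearGroup.scalar (Fin 2) c⁻¹ * d with hd
  have hdet : GeneralLinearGroup.det d' = 1 := by
    rw [hd, map_mul, GeneralLinearGroup.det_scalar, Fintype.card_fin, hc]
    group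
  refine ⟨QuotientGroup.mk (⟨(d' : M2), ?_⟩ : SL2), ?_⟩
  · simpa using congrArg Units.val hdet
  · have h1 : Matrix.SpecialLinearGroup.toGL (⟨(d' : M2), by simpa using congrArg Units.val hdet⟩ : SL2) = d' :=
      Units.ext rfl
    have h0 := conjAut_toGL (⟨(d' : M2), by simpa using congrArg Units.val hdet⟩ : SL2)
    have hca : (conjAut d' : MulAut PSL2) = conjAut d := by rw [hd, map_mul, conjAut_scalar, one_mul]
    rw [h1] at h0
    exact hca.symm.trans h0

theorem mapUnits_div_square (hodd : ringChar F ≠ 2) (σ : F ≃+* F) (D : Fˣ) :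
    ∃ c : Fˣ, mapUnits σ D * D⁻¹ = c * c := by
  set a : Fˣ := mapUnits σ D * D⁻¹
  suffices h : IsSquare (a : F) by
    obtain ⟨r, hr⟩ := h
    have hr0 : r ≠ 0 := fun h0 => a.ne_zero (by rw [hr, h0, mul_zero])
    exact ⟨Units.mk0 r hr0, Units.ext hr⟩
  rw [FiniteField.isSquare_iff hodd a.ne_zero]
  have hval : (a : F) = σ D * (D : F)⁻¹ := by simp [a]
  rw [hval, mul_pow, inv_pow, ← map_pow]
  rcases FiniteField.pow_dichotomy hodd D.ne_zero with h | h <;> rw [h] <;> simp

variable {X : Type u} [Group X] [Finite X] (L : Subgroup X) [L.Normal]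

theorem exists_semilinear (e : L ≃* PSL2) (x : X) :
    ∃ (g : GL2) (σ : F ≃+* F), autHom L e x = conjAut g * fieldAut σ := by
  obtain ⟨g, σ, γ, hγ, h⟩ := exists_decomp (le_refl 2) (autHom L e x)
  rcases hγ with rfl | ⟨h3, -⟩
  · exact ⟨g, σ, by rw [h, mul_one]⟩
  · omega

theorem exists_linear (e : L ≃* PSL2) (hodd : ringChar F ≠ 2) (hc : Subgroup.centralizer (L : Set X) = ⊥)
    (hD : HasDihedralSylow X) {v : X} (hv : v * v = 1) :
    ∃ g : GL2, autHom L e v = conjAut g := by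
  classical
  have h2 : (2 : F) ≠ 0 := Ring.two_ne_zero hodd
  obtain ⟨g, σ, hφ⟩ := exists_semilinear L e v
  by_cases hσ : σ = 1
  · exact ⟨g, by rw [hφ, hσ, map_one, mul_one]⟩
  exfalso
  have hsq : (conjAut g * fieldAut σ : MulAut PSL2) ^ 2 = 1 := by
    rw [← hφ, ← map_pow, pow_two, hv, map_one]
  have hσ2 : σ ^ 2 = 1 := by
    have h := hsq
    rw [conjAut_mul_fieldAut_pow] at h
    exact (eq_one_of_conj_field (le_refl 2) h).2
  have : Fact (Nat.Prime 2) := ⟨Nat.prime_two⟩
  have hord : orderOf σ = 2 := orderOf_eq_prime hσ2 hσ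
  obtain ⟨h, hh⟩ := exists_conj_of_pow_eq_one (le_refl 2) hord two_pos hsq
  have hvL : v ∉ L := by
    intro hvL
    obtain ⟨s, hs⟩ := QuotientGroup.mk_surjective (e ⟨v, hvL⟩)
    have h1 : autHom L e v = conjAut (Matrix.SpecialLinearGroup.toGL s) * fieldAut 1 := by
      rw [map_one, mul_one, conjAut_toGL, hs]
      exact autHom_of_mem L e ⟨v, hvL⟩
    rw [hφ] at h1
    exact hσ (conjAut_mul_fieldAut_injective (le_refl 2) h1).2
  obtain ⟨p, hp⟩ := CharP.exists F
  haveI : Fact p.Prime := ⟨CharP.char_is_prime F p⟩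
  obtain ⟨a₀, b₀, hab⟩ := ZMod.sq_add_sq p (-1)
  set f : ZMod p →+* F := ZMod.castHom (dvd_refl p) F
  set a := f a₀
  set b := f b₀
  have hab' : a ^ 2 + b ^ 2 = -1 := by
    rw [← map_pow, ← map_pow, ← map_add, hab, map_neg, map_one]
  have hfix : ∀ t : ZMod p, σ (f t) = f t := fun t =>
    RingHom.congr_fun (Subsingleton.elim (σ.toRingHom.comp f) f) t
  let A : SL2 := ⟨!![0, 1; -1, 0], by simp [Matrix.det_fin_two_of]⟩
  let B : SL2 := ⟨!![a, b; b, -a], by rw [Matrix.det_fin_two_of]; linear_combination -hab'⟩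
  have hA2 : (A : M2) * A = (-1 : F) • 1 := by
    ext i j; fin_cases i <;> fin_cases j <;> simp [A, Matrix.mul_apply, Fin.sum_univ_two]
  have hB2 : (B : M2) * B = (a ^ 2 + b ^ 2) • (1 : M2) := by
    ext i j; fin_cases i <;> fin_cases j <;> simp [B, Matrix.mul_apply, Fin.sum_univ_two] <;> ring
  have hAB : (A : M2) * B = (-1 : F) • ((B : M2) * A) := by
    ext i j; fin_cases i <;> fin_cases j <;> simp [A, B, Matrix.mul_apply, Fin.sum_univ_two]
  have one_of : ∀ (s : SL2) (c : F), (s : M2) = c • 1 → (QuotientGroup.mk s : PSL2) = 1 := fun s c hs =>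
    ((mk_eq_mk_iff (1 : SL2) s).2 ⟨c, by rw [Matrix.SpecialLinearGroup.coe_one]; exact hs⟩).symm
  have qA : (QuotientGroup.mk A : PSL2) * QuotientGroup.mk A = 1 := by
    rw [← QuotientGroup.mk_mul]; exact one_of _ (-1) (by rw [Matrix.SpecialLinearGroup.coe_mul, hA2])
  have qB : (QuotientGroup.mk B : PSL2) * QuotientGroup.mk B = 1 := by
    rw [← QuotientGroup.mk_mul]
    exact one_of _ (-1) (by rw [Matrix.SpecialLinearGroup.coe_mul, hB2, hab'])
  have qAB : (QuotientGroup.mk A : PSL2) * QuotientGroup.mk B = QuotientGroup.mk B * QuotientGroup.mk A := by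
    rw [← QuotientGroup.mk_mul, ← QuotientGroup.mk_mul]
    refine ((mk_eq_mk_iff (B * A) (A * B)).2 ⟨-1, ?_⟩).symm
    rw [Matrix.SpecialLinearGroup.coe_mul, Matrix.SpecialLinearGroup.coe_mul, hAB]
  have nA : (QuotientGroup.mk A : PSL2) ≠ 1 := by
    intro h1
    obtain ⟨c, hc1⟩ := (mk_eq_mk_iff (1 : SL2) A).1 h1.symm
    have := congrFun (congrFun hc1 0) 1
    simp [A] at this
  have nB : (QuotientGroup.mk B : PSL2) ≠ 1 := by
    intro h1
    obtain ⟨c, hc1⟩ := (mk_eq_mk_iff (1 : SL2) B).1 h1.symm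
    have e00 := congrFun (congrFun hc1 0) 0
    have e11 := congrFun (congrFun hc1 1) 1
    have e01 := congrFun (congrFun hc1 0) 1
    simp [B] at e00 e11 e01
    have ha : a = 0 := mul_left_cancel₀ h2 (by linear_combination e00 - e11)
    rw [ha, e01] at hab'
    simp at hab'
  have nAB : (QuotientGroup.mk A : PSL2) ≠ QuotientGroup.mk B := by
    intro h1
    obtain ⟨c, hc1⟩ := (mk_eq_mk_iff A B).1 h1
    have e00 := congrFun (congrFun hc1 0) 0
    have e10 := congrFun (congrFun hc1 1) 0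
    have e01 := congrFun (congrFun hc1 0) 1
    simp [A, B] at e00 e10 e01
    have hb : b = 0 := mul_left_cancel₀ h2 (by linear_combination e01 + e10)
    rw [e00, hb] at hab'
    simp at hab'
  have fA : fieldSL σ A = A := by
    apply Subtype.ext
    rw [coe_fieldSL]
    ext i j; fin_cases i <;> fin_cases j <;> simp [A]
  have fB : fieldSL σ B = B := by
    apply Subtype.ext
    rw [coe_fieldSL]
    ext i j; fin_cases i <;> fin_cases j <;> simp [B, a, b, hfix]
  let ψ : PSL2 →* X := (L.subtype.comp e.symm.toMonoidHom).comp (conjAut h : MulAut PSL2).toMonoidHom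
  have hψinj : Function.Injective ψ := by
    intro x y hxy
    exact (conjAut h : MulAut PSL2).injective (e.symm.injective (Subtype.ext hxy))
  have hψL : ∀ x, ψ x ∈ L := fun x => (e.symm ((conjAut h : MulAut PSL2) x)).2
  have hcomm : ∀ s : SL2, fieldSL σ s = s → v * ψ (QuotientGroup.mk s) = ψ (QuotientGroup.mk s) * v := by
    intro s hs
    refine commute_of_fixed L e (l := e.symm ((conjAut h : MulAut PSL2) (QuotientGroup.mk s))) ?_
    rw [MulEquiv.apply_symm_apply, hφ, hh, MulAut.mul_apply, MulAut.mul_apply, MulAut.inv_apply_self,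
      fieldAut_mk, hs]
  refine no_eight hD (w := v) (a := ψ (QuotientGroup.mk A)) (b := ψ (QuotientGroup.mk B)) hv ?_ ?_
    (hcomm A fA) (hcomm B fB) ?_ ?_ ?_ ?_ ?_ ?_ ?_ ?_
  · rw [← map_mul, qA, map_one]
  · rw [← map_mul, qB, map_one]
  · rw [← map_mul, qAB, map_mul]
  · rw [← map_one ψ]; exact hψinj.ne nA
  · rw [← map_one ψ]; exact hψinj.ne nB
  · exact hψinj.ne nAB
  · rintro rfl; exact hvL L.one_mem
  · intro h1; exact hvL (h1 ▸ hψL _)
  · intro h1; exact hvL (h1 ▸ hψL _)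
  · intro h1; exact hvL (h1 ▸ mul_mem (hψL _) (hψL _))

theorem commutator_mem (e : L ≃* PSL2) (hodd : ringChar F ≠ 2) (hc : Subgroup.centralizer (L : Set X) = ⊥)
    {v : X} {gv : GL2} (hv : autHom L e v = conjAut gv) (k : X) : k * v * k⁻¹ * v⁻¹ ∈ L := by
  obtain ⟨g, σ, hk⟩ := exists_semilinear L e k
  set d : GL2 := g * mapGL σ gv * g⁻¹ * gv⁻¹ with hd
  have h1 : autHom L e (k * v * k⁻¹ * v⁻¹) = conjAut d := by
    rw [map_mul, map_mul, map_mul, map_inv, map_inv, hk, hv, hd, map_mul, map_mul, map_mul, map_inv, map_inv,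
      mul_assoc (conjAut g) (fieldAut σ) (conjAut gv), fieldAut_conjAut]
    group
  obtain ⟨c, hc'⟩ := mapUnits_div_square hodd σ (GeneralLinearGroup.det gv)
  have hdet : GeneralLinearGroup.det d = c * c := by
    rw [← hc', hd, map_mul, map_mul, map_mul, map_inv, map_inv, det_mapGL]
    rw [mul_comm (GeneralLinearGroup.det g), mul_inv_cancel_right]
  obtain ⟨y, hy⟩ := exists_inner_of_det hdet
  have h2 : autHom L e (k * v * k⁻¹ * v⁻¹) = autHom L e ((e.symm y : L) : X) := by
    rw [h1, hy, autHom_of_mem L e (e.symm y), MulEquiv.apply_symm_apply]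
  rw [autHom_injective L e hc h2]
  exact (e.symm y).2

omit [L.Normal] [Finite X] in
/-- A nontrivial abelian subgroup of an odd order subgroup, invariant under its whole normaliser. -/
theorem exists_abelian (K : Subgroup X) [Finite K] (hK : Odd (Nat.card K)) (hK1 : K ≠ ⊥) :
    ∃ N : Subgroup X, N ≤ K ∧ N ≠ ⊥ ∧ (∀ a ∈ N, ∀ b ∈ N, a * b = b * a) ∧
      ∀ x ∈ Subgroup.normalizer (K : Set X), ∀ a ∈ N, x * a * x⁻¹ ∈ N := by
  classical
  obtain ⟨n, hn⟩ := (Group.isSolvable_def _).1 (Cfsg.Agent.S0205.result hK)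
  let D : ℕ → Subgroup X := fun i => Nat.rec K (fun _ P => ⁅P, P⁆) i
  have hDmap : ∀ i, (derivedSeries K i).map K.subtype = D i := by
    intro i
    induction i with
    | zero => rw [derivedSeries_zero, ← MonoidHom.range_eq_map, Subgroup.range_subtype]; rfl
    | succ i ih => rw [derivedSeries_succ, Subgroup.map_commutator, ih]
  have hex : ∃ i, D i = ⊥ := ⟨n, by rw [← hDmap, hn, Subgroup.map_bot]⟩
  have hpos : Nat.find hex ≠ 0 := fun h0 => hK1 (by have := Nat.find_spec hex; rw [h0] at this; exact this)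
  obtain ⟨j, hj⟩ := Nat.exists_eq_succ_of_ne_zero hpos
  have hle : D j ≤ K := by rw [← hDmap]; exact Subgroup.map_subtype_le _
  refine ⟨D j, hle, fun h0 => Nat.find_min hex (m := j) (hj ▸ Nat.lt_succ_self j) h0, ?_, ?_⟩
  · intro a ha b hb
    have h0 : ⁅D j, D j⁆ = ⊥ := by have := Nat.find_spec hex; rw [hj] at this; exact this
    have := Subgroup.commutator_mem_commutator ha hb
    rw [h0, Subgroup.mem_bot, commutatorElement_eq_one_iff_commute] at this
    exact this
  · intro x hx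
    have hKc : K.map (MulAut.conj x).toMonoidHom = K := by
      ext y
      rw [Subgroup.mem_map_equiv, MulAut.conj_symm_apply]
      refine (Subgroup.mem_normalizer_iff.1 hx _).trans ?_
      group
    have hinv : ∀ i, (D i).map (MulAut.conj x).toMonoidHom = D i := by
      intro i
      induction i with
      | zero => exact hKc
      | succ i ih =>
        show (⁅D i, D i⁆).map _ = ⁅D i, D i⁆
        rw [Subgroup.map_commutator, ih]
    intro a ha
    rw [← hinv j]
    exact ⟨a, ha, rfl⟩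

theorem conj_scales (h2 : (2 : F) ≠ 0) {s : SL2} {g : GL2} (hs0 : tfree (s : M2) ≠ 0)
    (hcom : conjSL g s * s = s * conjSL g s) :
    ∃ κ : F, (g : M2) * tfree (s : M2) = κ • (tfree (s : M2) * (g : M2)) := by
  set N := tfree (s : M2) with hN
  have hA : tfree ((conjSL g s : SL2) : M2) = (g : M2) * N * ((g⁻¹ : GL2) : M2) := by
    rw [hN, tfree, tfree, coe_conjSL, Matrix.trace_units_conj]
    simp [mul_sub, sub_mul]
  have hc := tfree_commute (congrArg (fun t : SL2 => (t : M2)) hcom)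
  obtain ⟨κ, hκ⟩ := prop_of_commute h2 (trace_tfree h2 _) (trace_tfree h2 _) hs0 hc
  rw [hA] at hκ
  refine ⟨κ, ?_⟩
  have := congrArg (fun M : M2 => M * (g : M2)) hκ
  simpa [mul_assoc, Matrix.smul_mul] using this

/-- The model `PSL(2,q)`. -/
theorem model_psl (hF : Odd (Fintype.card F)) (e : L ≃* PSL2)
    (hc : Subgroup.centralizer (L : Set X) = ⊥) (hD : HasDihedralSylow X) (V K : Subgroup X)
    (hV : IsFour V) (hK : Odd (Nat.card K)) (hVK : V ≤ Subgroup.normalizer (K : Set X)) :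
    ∃ v ∈ V, v ≠ 1 ∧ K ≤ Subgroup.centralizer ({v} : Set X) := by
  classical
  have hodd : ringChar F ≠ 2 := fun h => by
    have := FiniteField.even_card_of_char_two h
    rw [← Nat.not_even_iff_odd, Nat.even_iff] at hF
    exact hF this
  have h2 : (2 : F) ≠ 0 := Ring.two_ne_zero hodd
  set φ := autHom L e with hφ
  have hlin : ∀ v ∈ V, ∃ g : GL2, φ v = conjAut g := fun v hv => exists_linear L e hodd hc hD (hV.2 v hv)
  suffices h : ∃ v ∈ V, v ≠ 1 ∧ ∀ l ∈ K ⊓ L, v * l = l * v by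
    obtain ⟨v, hv, hv1, hfix⟩ := h
    obtain ⟨g, hg⟩ := hlin v hv
    exact ⟨v, hv, hv1, le_centralizer_of_inf L hK (hV.2 v hv) (hVK hv) hfix
      fun k _ => commutator_mem L e hodd hc hg k⟩
  obtain ⟨v₁, hv₁, hv₁1⟩ : ∃ v ∈ V, v ≠ 1 := by
    by_contra hne
    push Not at hne
    have := hV.1
    rw [(Subgroup.eq_bot_iff_forall V).2 hne, Subgroup.card_bot] at this
    omega
  obtain ⟨v₂, hv₂, hv₂1, hv₂n⟩ : ∃ v ∈ V, v ≠ 1 ∧ v ≠ v₁ := by
    by_contra hne
    push Not at hne
    have hsub : (V : Set X) ⊆ {1, v₁} := fun x hx => by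
      by_cases h : x = 1
      · exact Or.inl h
      · exact Or.inr (hne x hx h)
    have h1 := Set.ncard_le_ncard hsub (by simp)
    have h2 : ({1, v₁} : Set X).ncard ≤ 2 := (Set.ncard_insert_le _ _).trans (by simp)
    have : (V : Set X).ncard = 4 := by rw [← Nat.card_coe_set_eq]; exact hV.1
    omega
  by_cases hbot : K ⊓ L = ⊥
  · refine ⟨v₁, hv₁, hv₁1, fun l hl => ?_⟩
    rw [hbot, Subgroup.mem_bot] at hl
    rw [hl, mul_one, one_mul]
  have hKLodd : Odd (Nat.card (K ⊓ L : Subgroup X)) := hK.of_dvd_nat (Subgroup.card_dvd_of_le inf_le_left)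
  have hnorm : Subgroup.normalizer (K : Set X) ≤ Subgroup.normalizer ((K ⊓ L : Subgroup X) : Set X) := by
    intro x hx
    rw [Subgroup.mem_normalizer_iff] at hx ⊢
    intro y
    have hL : y ∈ L ↔ x * y * x⁻¹ ∈ L := ⟨fun h => Subgroup.Normal.conj_mem inferInstance y h x, fun h => by
      simpa [mul_assoc] using Subgroup.Normal.conj_mem (inferInstance : L.Normal) _ h x⁻¹⟩
    exact and_congr (hx y) hL
  obtain ⟨N, hNle, hN1, hNab, hNinv⟩ := exists_abelian (K ⊓ L) hKLodd hbot
  obtain ⟨n, hn, hn1⟩ : ∃ n ∈ N, n ≠ 1 := by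
    by_contra hne
    push Not at hne
    exact hN1 ((Subgroup.eq_bot_iff_forall N).2 hne)
  have oddL : ∀ l : L, (l : X) ∈ K → Odd (orderOf (e l)) := by
    intro l hl
    rw [e.orderOf_eq, ← Subgroup.orderOf_coe l, ← Subgroup.orderOf_mk (l : X) hl]
    exact hK.of_dvd_nat (orderOf_dvd_natCard _)
  let nL : L := ⟨n, (hNle hn).2⟩
  obtain ⟨s, hsn, hsodd⟩ := exists_lift h2 (oddL nL (hNle hn).1)
  set n₀ := tfree (s : M2) with hn₀def
  have hn₀ : n₀ ≠ 0 := by
    intro h0
    apply hn1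
    have hs1 : (QuotientGroup.mk s : PSL2) = 1 :=
      ((mk_eq_mk_iff (1 : SL2) s).2 ⟨(s : M2).trace / 2, by
        rw [Matrix.SpecialLinearGroup.coe_one]; exact sub_eq_zero.1 h0⟩).symm
    rw [hsn, ← map_one e] at hs1
    exact congrArg Subtype.val (e.injective hs1)
  have htr : n₀.trace = 0 := trace_tfree h2 _
  -- every element of the normaliser with linear action scales `n₀`
  have scale : ∀ (x : X) (g : GL2), x ∈ Subgroup.normalizer (K : Set X) → φ x = conjAut g →
      ∃ κ : F, (g : M2) * n₀ = κ • (n₀ * (g : M2)) := by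
    intro x g hx hg
    refine conj_scales h2 hn₀ (commute_lift h2 hsodd ?_)
    rw [← conjAut_mk, hsn, ← hg, hφ, autHom_apply, ← map_mul e, ← map_mul e]
    refine congrArg e (Subtype.ext ?_)
    simp only [Subgroup.coe_mul, MulAut.conjNormal_apply]
    exact hNab _ (hNinv x (hnorm hx) n hn) n hn
  have sq_one : ∀ (v : X) (g : GL2), v ∈ V → v ≠ 1 → φ v = conjAut g →
      (∃ c : F, c ≠ 0 ∧ (g : M2) * g = c • 1) ∧ ∀ d : F, (g : M2) ≠ d • 1 := by
    intro v g hv hv1 hg
    constructor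
    · have h1 : (conjAut (g * g) : MulAut PSL2) = 1 := by rw [map_mul, ← hg, ← map_mul, hV.2 v hv, map_one]
      obtain ⟨c, hc'⟩ := exists_scalar_of_conjAut_eq_one (le_refl 2) h1
      refine ⟨c, c.ne_zero, ?_⟩
      rw [← Units.val_mul, hc']
      simp [Matrix.smul_one_eq_diagonal, GeneralLinearGroup.coe_scalar, Matrix.scalar_apply]
    · intro d hd
      have h1 := conjAut_eq_one_of_center (mem_center_GL_of_scalar hd)
      rw [← hg, ← map_one φ] at h1
      exact hv1 (autHom_injective L e hc h1)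
  have sign : ∀ (v : X) (g : GL2), v ∈ V → v ≠ 1 → φ v = conjAut g →
      (g : M2) * n₀ = n₀ * g ∨ (g : M2) * n₀ = -(n₀ * g) := by
    intro v g hv hv1 hg
    obtain ⟨κ, hκ⟩ := scale v g (hVK hv) hg
    obtain ⟨⟨c, hc0, hgg⟩, -⟩ := sq_one v g hv hv1 hg
    have h4 : c • n₀ = (κ * κ * c) • n₀ := by
      have e1 : (g : M2) * ((g : M2) * n₀) = κ • ((g : M2) * n₀ * g) := by
        rw [hκ, Matrix.mul_smul, ← hκ, mul_assoc]
      rw [← mul_assoc, hgg, Matrix.smul_mul, one_mul, hκ, Matrix.smul_mul, smul_smul, mul_assoc n₀, hgg,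
        Matrix.mul_smul, mul_one, smul_smul] at e1
      exact e1
    have h5 : κ * κ = 1 := by
      have := smul_left_injective F hn₀ h4
      exact mul_right_cancel₀ hc0 (by rw [one_mul]; exact this.symm)
    rcases mul_self_eq_one_iff.1 h5 with rfl | rfl
    · left; rw [hκ, one_smul]
    · right; rw [hκ, neg_one_smul]
  obtain ⟨v, hv, hv1, g, hg, hgn⟩ :
      ∃ v ∈ V, v ≠ 1 ∧ ∃ g : GL2, φ v = conjAut g ∧ (g : M2) * n₀ = n₀ * g := by
    obtain ⟨g₁, hg₁⟩ := hlin v₁ hv₁
    obtain ⟨g₂, hg₂⟩ := hlin v₂ hv₂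
    rcases sign v₁ g₁ hv₁ hv₁1 hg₁ with h | h
    · exact ⟨v₁, hv₁, hv₁1, g₁, hg₁, h⟩
    rcases sign v₂ g₂ hv₂ hv₂1 hg₂ with h' | h'
    · exact ⟨v₂, hv₂, hv₂1, g₂, hg₂, h'⟩
    refine ⟨v₁ * v₂, mul_mem hv₁ hv₂, fun h0 => hv₂n ?_, g₁ * g₂, by rw [map_mul, map_mul, hg₁, hg₂], ?_⟩
    · rw [eq_inv_of_mul_eq_one_right h0, inv_eq_of_mul_eq_one_right (hV.2 v₁ hv₁)]
    · rw [Units.val_mul, mul_assoc, h', mul_neg, ← mul_assoc, h, neg_mul, neg_neg, mul_assoc]
  refine ⟨v, hv, hv1, ?_⟩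
  obtain ⟨⟨c, hc0, hgg⟩, hns⟩ := sq_one v g hv hv1 hg
  have hδ : n₀.det ≠ 0 := by
    intro h0
    have h1 := anticomm (tr_zero_of_sq hgg hns) htr
    rw [← hgn] at h1
    have ht : ((g : M2) * n₀).trace = 0 := by
      have h3 := congrArg Matrix.det h1
      rw [← two_smul F ((g : M2) * n₀), Matrix.det_smul, Matrix.det_mul, h0, Matrix.det_smul,
        Matrix.det_one] at h3
      simpa using h3.symm
    rw [ht, zero_smul, ← two_smul F, smul_eq_zero] at h1
    have h4 : (g : M2) * n₀ = 0 := h1.resolve_left h2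
    refine hn₀ ?_
    have := congrArg (fun M : M2 => ((g⁻¹ : GL2) : M2) * M) h4
    simpa [← mul_assoc] using this
  intro l hl
  let lL : L := ⟨l, hl.2⟩
  obtain ⟨t, htl, htodd⟩ := exists_lift h2 (oddL lL hl.1)
  have hkt : φ l = conjAut (Matrix.SpecialLinearGroup.toGL t) := by
    rw [conjAut_toGL, htl]; exact autHom_of_mem L e lL
  obtain ⟨κ, hκ⟩ := scale l _ (Subgroup.le_normalizer hl.1) hkt
  have hκ1 : κ = 1 := by
    have hk2 : κ * κ = 1 := by
      have h3 := congrArg Matrix.det hκ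
      rw [Matrix.det_smul, Matrix.det_mul, Matrix.det_mul] at h3
      simp at h3
      exact mul_right_cancel₀ hδ (by linear_combination -h3)
    rcases mul_self_eq_one_iff.1 hk2 with h | h
    · exact h
    exfalso
    rw [h, neg_one_smul] at hκ
    have hp : ∀ i : ℕ, (t : M2) ^ i * n₀ = (-1 : F) ^ i • (n₀ * (t : M2) ^ i) := by
      intro i
      induction i with
      | zero => simp
      | succ i ih =>
        rw [pow_succ' (t : M2), mul_assoc, ih, Matrix.mul_smul, ← mul_assoc,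
          show (t : M2) * n₀ = -(n₀ * (t : M2)) from hκ, neg_mul, smul_neg, mul_assoc, pow_succ' (-1 : F),
          mul_smul, neg_one_smul]
    have h5 := hp (orderOf t)
    rw [← Matrix.SpecialLinearGroup.coe_pow, pow_orderOf_eq_one, Matrix.SpecialLinearGroup.coe_one,
      htodd.neg_one_pow, one_mul, mul_one, neg_one_smul] at h5
    have h6 : (2 : F) • n₀ = 0 := by rw [two_smul]; exact eq_neg_iff_add_eq_zero.1 h5
    exact hn₀ ((smul_eq_zero.1 h6).resolve_left h2)
  rw [hκ1, one_smul] at hκ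
  have hgt : (g : M2) * (t : M2) = (t : M2) * g :=
    commute_both h2 htr hn₀ hgn hκ
  refine commute_of_fixed L e (l := lL) ?_
  rw [← hφ, hg, ← htl, conjAut_mk]
  refine congrArg _ (Subtype.ext ?_)
  rw [coe_conjSL, hgt, mul_assoc, Units.mul_inv, mul_one]

end PSL

end Cfsg.Agent.Lib.GorensteinWalter.Model
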