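import Cfsg.Agent.Lib.GorensteinWalter.Interface

/-!
# The Gorenstein–Walter theorem: interface for the order equations

Owner: helper60.  For a central involution `t` of a dihedral Sylow 2-subgroup of order `2 ^ n ≥ 8`
with the two four-groups `⟨t, a⟩`, `⟨t, b⟩`, put `m = |O(C(t))|`, `d₁ = |O(C⟨t,a⟩)|`, `d₂ = |O(C⟨t,b⟩)|`.
The principal block gives integers `K`, `k₂`, `k₃` with `χ₁(1) = ±(1 + 2ⁿK)` and
`χᵢ(1) = ±(2ⁿ⁻¹kᵢ - 1)`.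
-/

set_option autoImplicit false

universe u

namespace Cfsg.Agent.Lib.GorensteinWalter

/-- The order equations. -/
def OrderData (g n m d₁ d₂ : ℕ) : Prop :=
  ∃ K k₂ k₃ : ℤ, K ≠ 0 ∧ k₂ + k₃ = -(2 * K) ∧
    8 * (g : ℤ) * K ^ 2 * (d₁ : ℤ) ^ 2 * (d₂ : ℤ) ^ 2 =
      2 ^ n * (m : ℤ) ^ 3 * ((d₁ : ℤ) + d₂) ^ 2 * (2 ^ n * K + 1) * (2 ^ n * K + 2) ∧
    (2 ^ n * K + 2) ^ 2 * k₂ * k₃ * ((d₁ : ℤ) + d₂) ^ 2 =
      16 * K ^ 2 * d₁ * d₂ * (2 ^ (n - 1) * k₂ - 1) * (2 ^ (n - 1) * k₃ - 1) ∧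
    (2 ^ n * K + 1) ∣ (g : ℤ) ∧ (2 ^ n * K + 2) ∣ (g : ℤ) ∧
    (2 ^ (n - 1) * k₂ - 1) ∣ (g : ℤ) ∧ (2 ^ (n - 1) * k₃ - 1) ∣ (g : ℤ)

/-- Section C1: the equations hold. -/
def PropOrderData : Prop :=
  ∀ (G : Type u) [Group G] [Finite G], Hyp G → ∀ (S : Sylow 2 G) (n : ℕ) (t a b : G), 3 ≤ n →
    Nat.card (S : Subgroup G) = 2 ^ n →
    t ∈ (S : Subgroup G) → a ∈ (S : Subgroup G) → b ∈ (S : Subgroup G) →
    orderOf t = 2 → orderOf a = 2 → orderOf b = 2 → (∀ s ∈ (S : Subgroup G), s * t = t * s) →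
    a ≠ t → b ≠ t → (¬ ∃ s ∈ (S : Subgroup G), s * a * s⁻¹ = b) →
      OrderData (Nat.card G) n
        (Nat.card (Cfsg.oddCore ↥(Subgroup.centralizer ({t} : Set G))))
        (Nat.card (Cfsg.oddCore ↥(Subgroup.centralizer ({t, a} : Set G))))
        (Nat.card (Cfsg.oddCore ↥(Subgroup.centralizer ({t, b} : Set G))))

/-- Section C2: the arithmetic of the case of one trivial four-group core. -/
def PropArith : Prop :=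
  ∀ (n d : ℕ) (K k₂ k₃ : ℤ), 3 ≤ n → Odd d → 1 < d → K ≠ 0 → k₂ + k₃ = -(2 * K) →
    (2 ^ n * K + 2) ^ 2 * k₂ * k₃ * ((d : ℤ) + 1) ^ 2 =
      16 * K ^ 2 * d * (2 ^ (n - 1) * k₂ - 1) * (2 ^ (n - 1) * k₃ - 1) →
    (d = 3 ∧ n = 3 ∧ K = -2) ∨ (d = 5 ∧ n = 3 ∧ K = -1)

end Cfsg.Agent.Lib.GorensteinWalter
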