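import Mathlib.Tactic
import Cfsg.Agent.Lib.GorensteinWalter.InterfaceC

/-!
# The arithmetic of the order equations with one trivial four-group core

With `d = α² - β²`, `α = β + 1`, `u = 2ⁿ⁻¹K` the equation says that `(2u+1)α² + u²β²` is a square
`q²`; writing `q` as `uβ` plus a small correction leaves finitely many cases.
-/

set_option autoImplicit false

universe u

namespace Cfsg.Agent.Lib.GorensteinWalter

/-- No solution with `u > 0`. -/
theorem no_pos {u β q : ℤ} (hu : 0 < u) (hβ : 1 ≤ β) (hq : 0 ≤ q)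
    (h : q ^ 2 = (2 * u + 1) * (β + 1) ^ 2 + u ^ 2 * β ^ 2) : False := by
  obtain ⟨c, hc⟩ : ∃ c, q = u * β + c := ⟨q - u * β, by ring⟩
  have hub : 0 ≤ u * β := by positivity
  have hc0 : 0 < c := by
    by_contra hle
    have h1 : q ^ 2 ≤ (u * β) ^ 2 := pow_le_pow_left₀ hq (by omega) 2
    have h2 : (0 : ℤ) < (2 * u + 1) * (β + 1) ^ 2 := by positivity
    nlinarith
  subst hc
  have e : 2 * u * (c * β - (β + 1) ^ 2) = (β + 1) ^ 2 - c ^ 2 := by linear_combination h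
  rcases lt_trichotomy c (β + 1) with hlt | heq | hgt
  · have h1 : c * β - (β + 1) ^ 2 < 0 := by nlinarith
    have h2 : 0 < (β + 1) ^ 2 - c ^ 2 := by nlinarith
    nlinarith
  · subst heq
    nlinarith
  · rcases (show c = β + 2 ∨ β + 3 ≤ c by omega) with h2 | h2
    · subst h2
      ring_nf at e
      omega
    · have h3 : 0 ≤ c * β - (β + 1) ^ 2 := by nlinarith
      have h4 : (β + 1) ^ 2 - c ^ 2 < 0 := by nlinarith
      nlinarith

/-- The finitely many solutions with `u = -v < 0` and `4 ∣ v`. -/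
theorem neg_cases {v β q : ℤ} (hv : 4 ∣ v) (hv0 : 0 < v) (hβ : 1 ≤ β) (hq : 0 ≤ q)
    (h : q ^ 2 = v ^ 2 * β ^ 2 - (2 * v - 1) * (β + 1) ^ 2) :
    (β = 1 ∧ v = 8 ∧ q = 2) ∨ (β = 2 ∧ v = 8 ∧ q = 11) ∨ (β = 2 ∧ v = 4 ∧ q = 1) ∨
      (β = 4 ∧ v = 4 ∧ q = 9) := by
  obtain ⟨c, hc⟩ : ∃ c, q = v * β - c := ⟨v * β - q, by ring⟩
  subst hc
  have hv4 : 4 ≤ v := Int.le_of_dvd hv0 hv
  have hvb : 0 ≤ v * β := by positivity
  have hm : 0 < (2 * v - 1) * (β + 1) ^ 2 := by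
    have : 0 < 2 * v - 1 := by omega
    positivity
  have hc0 : 0 < c := by
    by_contra hle
    have h1 : (v * β) ^ 2 ≤ (v * β - c) ^ 2 := pow_le_pow_left₀ hvb (by omega) 2
    nlinarith
  have hcle : c ≤ v * β := by omega
  have e : 2 * v * (c * β - (β + 1) ^ 2) = c ^ 2 - (β + 1) ^ 2 := by linear_combination (-1) * h
  have hgt : β + 1 < c := by
    by_contra hle
    rcases (show c = β + 1 ∨ c ≤ β by omega) with h1 | h1
    · subst h1; nlinarith
    · have h2 : 0 < (β + 1) ^ 2 - c * β := by nlinarith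
      have h3 : 0 ≤ (v - 4) * ((β + 1) ^ 2 - c * β) := mul_nonneg (by omega) h2.le
      have h4 : 0 ≤ (β - c) * (7 * β - c) := mul_nonneg (by omega) (by omega)
      nlinarith
  rcases (show c = β + 2 ∨ β + 3 ≤ c by omega) with h2 | h2
  · subst h2
    ring_nf at e
    omega
  obtain ⟨k, hk⟩ : ∃ k, c = β + 2 + k := ⟨c - (β + 2), by ring⟩
  subst hk
  have hk1 : 1 ≤ k := by omega
  have e' : 2 * v * (k * β - 1) = (k + 1) * (2 * β + 3 + k) := by linear_combination e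
  have hc2 : (β + 2 + k) ^ 2 ≤ (2 * v - 1) * (β + 1) ^ 2 := by
    have h5 : 0 ≤ (β + 2 + k) * (v * β - (β + 2 + k)) := mul_nonneg (by omega) (by omega)
    nlinarith
  have hkb : k ≤ β + 3 := by
    by_contra hlt
    have h5 : (β + 4) * β ≤ k * β := mul_le_mul_of_nonneg_right (by omega) (by omega)
    have h6 : (β + 1) ^ 2 ≤ k * β - 1 := by nlinarith
    have h7 : 2 * v * (β + 1) ^ 2 ≤ 2 * v * (k * β - 1) := mul_le_mul_of_nonneg_left h6 (by omega)
    nlinarith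
  have hkb1 : 1 ≤ k * β := one_le_mul_of_one_le_of_one_le hk1 hβ
  have h8 : 8 * (k * β - 1) ≤ (k + 1) * (2 * β + 3 + k) := by
    rw [← e']
    exact mul_le_mul_of_nonneg_right (by omega) (by omega)
  have hb6 : β ≤ 6 := by
    by_contra hlt
    have h9 : k * k ≤ k * (β + 3) := mul_le_mul_of_nonneg_left hkb (by omega)
    have h10 : 7 * (5 * k - 2) ≤ β * (5 * k - 2) := mul_le_mul_of_nonneg_right (by omega) (by omega)
    nlinarith
  obtain ⟨j, rfl⟩ := hv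
  have hk9 : k ≤ 9 := by omega
  interval_cases β <;> interval_cases k <;> omega

/-- Section C2. -/
theorem propArith : PropArith := by
  intro n d K k₂ k₃ hn hodd hd hK hsum heq
  obtain ⟨b, hb⟩ := hodd
  obtain ⟨n, rfl⟩ : ∃ n', n = n' + 1 := ⟨n - 1, by omega⟩
  rw [Nat.add_sub_cancel] at heq
  obtain ⟨N, hN⟩ : ∃ N : ℤ, N = 2 ^ n := ⟨_, rfl⟩
  rw [← hN] at heq
  have h2N : (2 : ℤ) ^ (n + 1) = 2 * N := by rw [pow_succ, hN]; ring
  rw [h2N] at heq
  obtain ⟨l, hl⟩ : ∃ l, 2 ≤ n ∧ n = 2 + l := ⟨n - 2, by omega, by omega⟩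
  have hN4 : (4 : ℤ) ∣ N := ⟨2 ^ l, by rw [hN, hl.2, pow_add]; ring⟩
  have hNpos : 0 < N := by rw [hN]; positivity
  set β : ℤ := (b : ℤ) with hβdef
  have hdz : (d : ℤ) = 2 * β + 1 := by rw [hb]; push_cast; ring
  have hβ : 1 ≤ β := by omega
  obtain ⟨L, hL⟩ : ∃ L, k₂ = -K + L := ⟨k₂ + K, by ring⟩
  have hk3 : k₃ = -K - L := by omega
  subst hL hk3
  rw [hdz] at heq
  obtain ⟨u, hu⟩ : ∃ u : ℤ, u = N * K := ⟨_, rfl⟩
  have hu4 : (4 : ℤ) ∣ u := hu ▸ hN4.mul_right K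
  have hu0 : u ≠ 0 := hu ▸ mul_ne_zero hNpos.ne' hK
  have hkey : L ^ 2 * ((2 * u + 1) * (β + 1) ^ 2 + u ^ 2 * β ^ 2) = (β * K * (u + 1)) ^ 2 := by
    have h16 : 16 * (L ^ 2 * ((2 * u + 1) * (β + 1) ^ 2 + u ^ 2 * β ^ 2)) =
        16 * (β * K * (u + 1)) ^ 2 := by
      rw [hu]
      linear_combination (-1) * heq
    omega
  have hne : β * K * (u + 1) ≠ 0 :=
    mul_ne_zero (mul_ne_zero (by omega) hK) (by omega)
  have hL0 : L ≠ 0 := fun e => hne (by
    rw [e] at hkey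
    exact pow_eq_zero_iff (two_ne_zero) |>.1 (hkey.symm.trans (by ring)))
  obtain ⟨r, hr⟩ : L ∣ β * K * (u + 1) :=
    (Int.pow_dvd_pow_iff two_ne_zero).1 ⟨_, hkey.symm⟩
  have hsq : r ^ 2 = (2 * u + 1) * (β + 1) ^ 2 + u ^ 2 * β ^ 2 := by
    rw [hr, mul_pow L r] at hkey
    exact (mul_left_cancel₀ (pow_ne_zero 2 hL0) hkey).symm
  have hsq' : |r| ^ 2 = (2 * u + 1) * (β + 1) ^ 2 + u ^ 2 * β ^ 2 := by rw [sq_abs, hsq]
  rcases lt_trichotomy u 0 with hneg | h0 | hpos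
  · obtain ⟨v, hv⟩ : ∃ v, u = -v := ⟨-u, by ring⟩
    have hcases := neg_cases (v := v) (β := β) (q := |r|) (by omega) (by omega) hβ (abs_nonneg r)
      (by rw [hsq', hv]; ring)
    have hKneg : K < 0 := by
      by_contra h
      exact absurd (mul_nonneg hNpos.le (not_lt.1 h)) (by omega)
    have hNv : N ≤ v := by
      have : v = N * -K := by rw [mul_neg, ← hu, hv]; ring
      rw [this]
      exact le_mul_of_one_le_right hNpos.le (by omega)
    have hn3 : n ≤ 3 := by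
      by_contra h
      have h16 : (2 : ℤ) ^ 4 ≤ N := by rw [hN]; exact pow_le_pow_right₀ (by norm_num) (by omega)
      rcases hcases with ⟨-, h, -⟩ | ⟨-, h, -⟩ | ⟨-, h, -⟩ | ⟨-, h, -⟩ <;> omega
    have h2l : 2 ≤ n := hl.1
    have hr' : r = |r| ∨ r = -|r| := by
      rcases abs_choice r with e | e <;> omega
    rcases (show n = 2 ∨ n = 3 by omega) with rfl | rfl <;> norm_num at hN <;>
      rcases hcases with ⟨hb', hv', hq⟩ | ⟨hb', hv', hq⟩ | ⟨hb', hv', hq⟩ | ⟨hb', hv', hq⟩ <;>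
      rw [hq] at hr' <;>
      rcases hr' with hr' | hr' <;>
      (rw [hr', hb', hv, hv'] at hr) <;>
      (rw [hv, hv', hN] at hu) <;> omega
  · exact absurd h0 hu0
  · exact (no_pos hpos hβ (abs_nonneg r) hsq').elim

end Cfsg.Agent.Lib.GorensteinWalter
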