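import Cfsg.Agent.Lib.GorensteinWalter.InterfaceC
import Cfsg.Agent.Lib.GorensteinWalter.Basic
import Cfsg.Agent.Lib.DihedralBlock.Main
import Cfsg.Agent.Lib.DihedralBlock.Order
import Cfsg.Agent.Lib.H80.ClassMult
import Cfsg.Agent.Lib.Blocks.LocalRing

/-!
# The Gorenstein–Walter theorem, section C1: the order equations

The principal 2-block of a group with dihedral Sylow 2-subgroups and one class of involutions is
evaluated at the central involution and at a rotation; the sum and the difference of the two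
counting identities give the two equations.
-/

set_option autoImplicit false

universe u

namespace Cfsg.Agent.Lib.GorensteinWalter.OrderDataAux

open Subgroup Cfsg.Agent.Lib.Characters.Basic Cfsg.Agent.Lib.DihedralBlock.Sections
  Cfsg.Agent.Lib.DihedralBlock

variable {G : Type u} [Group G] [Finite G] {N : ℕ} {σ a : G} {P : Sylow 2 G} (hR : Rot P N σ)

include hR in
/-- The restriction to the Sylow subgroup contains the trivial character integrally often. -/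
theorem restrict_dvd (hone : ∀ i : G, orderOf i = 2 → IsConj (σ ^ (N / 2)) i)
    (ha : a ∈ (P : Subgroup G)) (haz : a ∉ zpowers σ) (χ : Cfsg.IrrCharacter G)
    (x r : ℤ) (v : ℕ → ℤ) (hx : (χ : G → ℂ) 1 = x)
    (hv : ∀ l, 0 < l → l < N → (χ : G → ℂ) (σ ^ l) = v l)
    (hr : (χ : G → ℂ) (σ ^ (N / 2)) = r) :
    ((2 * N : ℕ) : ℤ) ∣ x + ∑ l ∈ Finset.Ico 1 N, v l + (N : ℤ) * r := by
  classical
  haveI := Fintype.ofFinite G
  have hN : 0 < N := by have := hR.four_le; omega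
  obtain ⟨q, hq⟩ := Cfsg.Agent.Lib.H80.ClassMult.exists_sum_subgroup χ (P : Subgroup G)
  rw [← Finset.sum_subtype (Finset.univ.filter fun p : G => p ∈ (P : Subgroup G)) (by simp)
    (χ : G → ℂ),
    ← Finset.sum_filter_add_sum_filter_not _ (fun p : G => p ∈ zpowers σ), Finset.filter_filter,
    Finset.filter_filter, hR.card, Order.sum_refl hR ha haz] at hq
  have hrot : ∑ p ∈ Finset.univ.filter (fun p : G => p ∈ (P : Subgroup G) ∧ p ∈ zpowers σ),
      (χ : G → ℂ) p = ∑ l ∈ Finset.range N, (χ : G → ℂ) (σ ^ l) := by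
    symm
    refine Finset.sum_bij (fun l _ => σ ^ l) ?_ ?_ ?_ (fun l _ => rfl)
    · intro l _
      rw [Finset.mem_filter]
      exact ⟨Finset.mem_univ _, pow_mem hR.mem l, pow_mem (mem_zpowers σ) l⟩
    · intro i hi l hl e
      exact pow_injOn_Iio_orderOf (by simpa [hR.order] using hi) (by simpa [hR.order] using hl) e
    · intro p hp
      obtain ⟨-, -, hpz⟩ := Finset.mem_filter.1 hp
      obtain ⟨i, hi⟩ := (isOfFinOrder_of_finite σ).mem_powers_iff_mem_zpowers.2 hpz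
      refine ⟨i % N, Finset.mem_range.2 (Nat.mod_lt _ hN), ?_⟩
      rw [← hR.order, pow_mod_orderOf]
      exact hi
  have hrefl : ∀ i : ℕ, (χ : G → ℂ) (a * σ ^ i) = r := by
    intro i
    have hz : a * σ ^ i ∉ zpowers σ := fun h => haz (by
      simpa using mul_mem h (inv_mem (pow_mem (mem_zpowers σ) i)))
    have h2 := (hR.inverts _ (mul_mem ha (pow_mem hR.mem i)) hz).1
    have ho : orderOf (a * σ ^ i) = 2 :=
      orderOf_eq_prime (by rw [pow_two]; exact h2) (fun e => hz (e ▸ one_mem _))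
    rw [← hr]
    exact (classFunction_apply_of_isConj (isClassFunction_irr χ) (hone _ ho)).symm
  rw [hrot, Finset.range_eq_Ico, Finset.sum_eq_sum_Ico_succ_bot hN, pow_zero, hx,
    Finset.sum_congr rfl (s₁ := Finset.Ico (0 + 1) N) (g := fun l => (v l : ℂ)) fun l hl => by
      obtain ⟨h1, h2⟩ := Finset.mem_Ico.1 hl
      exact hv l (by omega) h2,
    Finset.sum_congr rfl (s₁ := Finset.Ico 0 N) (g := fun _ => (r : ℂ)) fun i _ => hrefl i,
    Finset.sum_const, Nat.card_Ico, Nat.sub_zero, nsmul_eq_mul] at hq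
  refine ⟨(q : ℤ), ?_⟩
  simp only [zero_add] at hq
  exact_mod_cast hq

include hR in
/-- The core of the centraliser of a four-group, and the involutions of a coset. -/
theorem invs_mul_core [Fintype G] {p : G} (hp : p ∈ (P : Subgroup G)) (hpz : p ∉ zpowers σ) :
    Nat.card (Cfsg.oddCore ↥(centralizer ({σ ^ (N / 2), p} : Set G))) * (Order.invs σ N p).card =
      Nat.card (Order.kern σ N) := by
  set K := Order.kern σ N with hK
  set C := centralizer ({σ ^ (N / 2), p} : Set G) with hC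
  have hpC := hR.le_centralizer_half hp
  have h1 := Order.card_invs_mul hpC (hR.inverts p hp hpz).1
  have h2 := Order.card_invs_refl hR hp hpz
  rw [← hK] at h1
  rw [← hK, ← hC, ← h1] at h2
  set A := (Order.invs σ N p).card
  set D := Nat.card {k : G // k ∈ K ∧ k * p = p * k}
  have hA : 0 < A := by
    rcases Nat.eq_zero_or_pos A with h | h
    · rw [h, zero_mul] at h1
      exact absurd h1.symm Nat.card_pos.ne'
    · exact h
  have hcard : Nat.card C = 4 * D := Nat.eq_of_mul_eq_mul_right hA (by rw [h2]; ring)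
  set L := K ⊓ centralizer ({p} : Set G) with hL
  have hLD : Nat.card L = D := Nat.card_congr
    (Equiv.subtypeEquivRight fun k => by rw [hL, Subgroup.mem_inf, mem_centralizer_singleton_iff])
  have hLC : L ≤ C := by
    intro k hk
    obtain ⟨hkK, hkp⟩ := Subgroup.mem_inf.1 hk
    refine Subgroup.mem_centralizer_iff.2 fun y hy => ?_
    rcases hy with rfl | rfl
    · exact (mem_centralizer_singleton_iff.1 (Order.kern_le hkK)).symm
    · exact (mem_centralizer_singleton_iff.1 hkp).symm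
  have hLodd : Odd D :=
    Odd.of_dvd_nat Order.card_kern_odd (hLD ▸ Subgroup.card_dvd_of_le inf_le_left)
  haveI : (L.subgroupOf C).Normal := by
    refine ⟨fun k hk c => ?_⟩
    rw [Subgroup.mem_subgroupOf, Subgroup.mem_inf] at hk ⊢
    have hc := Subgroup.mem_centralizer_iff.1 c.2
    have hcJ : (c : G) ∈ centralizer ({σ ^ (N / 2)} : Set G) :=
      mem_centralizer_singleton_iff.2 (hc _ (Or.inl rfl)).symm
    have hcp : (c : G) ∈ centralizer ({p} : Set G) :=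
      mem_centralizer_singleton_iff.2 (hc _ (Or.inr rfl)).symm
    simp only [Subgroup.coe_mul, Subgroup.coe_inv]
    exact ⟨Order.kern_conj hcJ hk.1, mul_mem (mul_mem hcp hk.2) (inv_mem hcp)⟩
  have hN' : Nat.card (L.subgroupOf C) = D := by
    rw [Nat.card_congr (Subgroup.subgroupOfEquivOfLe hLC).toEquiv, hLD]
  have hle : L.subgroupOf C ≤ Cfsg.oddCore ↥C := Cores.le_oddCore (hN' ▸ hLodd)
  have ha : D ∣ Nat.card (Cfsg.oddCore ↥C) := hN' ▸ Subgroup.card_dvd_of_le hle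
  have hb : Nat.card (Cfsg.oddCore ↥C) ∣ D := by
    have hodd : Odd (Nat.card (Cfsg.oddCore ↥C)) := Cores.oddCore_odd
    have hdd := Subgroup.card_subgroup_dvd_card (Cfsg.oddCore ↥C)
    rw [hcard] at hdd
    refine Nat.Coprime.dvd_of_dvd_mul_left ?_ hdd
    exact ((Nat.coprime_two_left.2 hodd).pow_left 2).symm
  rw [← Nat.dvd_antisymm ha hb, ← h1, mul_comm]

/-- Sum of the alternating signs. -/
theorem sum_alt (h : ℕ) (hh : 0 < h) : ∑ l ∈ Finset.Ico 1 (2 * h), (-1 : ℤ) ^ (l + 1) = 1 := by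
  induction h with
  | zero => omega
  | succ h ih =>
    rcases Nat.eq_zero_or_pos h with rfl | hpos
    · decide
    · rw [show 2 * (h + 1) = 2 * h + 1 + 1 by ring, Finset.sum_Ico_succ_top (by omega),
        Finset.sum_Ico_succ_top (by omega), ih hpos]
      ring

/-- Sum of the parities. -/
theorem sum_parity (m : ℕ) :
    ∑ i ∈ Finset.Ico 1 (2 * m + 2), (if Even i then (1 : ℂ) else -1) = -1 := by
  induction m with
  | zero => simp
  | succ m ih =>
    rw [show 2 * (m + 1) + 2 = 2 * m + 2 + 1 + 1 by ring, Finset.sum_Ico_succ_top (by omega),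
      Finset.sum_Ico_succ_top (by omega), ih, if_pos (by simp [Nat.even_add]),
      if_neg (by simp [Nat.even_add, Nat.even_add_one])]
    ring

set_option maxHeartbeats 1000000 in
/-- The equations for a rotation `σ` and the two classes of reflections. -/
theorem orderData_of_rot {G : Type u} [Group G] [Finite G] (k : ℕ) {σ : G} {P : Sylow 2 G}
    (hR : Rot P (2 ^ (k + 2)) σ)
    (hone : ∀ i : G, orderOf i = 2 → IsConj (σ ^ (2 ^ (k + 2) / 2)) i)
    {a b : G} (ha : a ∈ (P : Subgroup G)) (haz : a ∉ zpowers σ)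
    (hb : b ∈ (P : Subgroup G)) (hbz : b ∉ zpowers σ)
    (hab : ¬ ∃ s ∈ (P : Subgroup G), s * a * s⁻¹ = b) :
    OrderData (Nat.card G) (k + 3)
      (Nat.card (Cfsg.oddCore ↥(centralizer ({σ ^ (2 ^ (k + 2) / 2)} : Set G))))
      (Nat.card (Cfsg.oddCore ↥(centralizer ({σ ^ (2 ^ (k + 2) / 2), a} : Set G))))
      (Nat.card (Cfsg.oddCore ↥(centralizer ({σ ^ (2 ^ (k + 2) / 2), b} : Set G)))) := by
  classical
  obtain ⟨M, hM⟩ := Cfsg.Agent.Lib.Blocks.exists_isPModular 2 Nat.prime_two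
  haveI := hM.2.1
  haveI := Fintype.ofFinite G
  haveI := Fintype.ofFinite (Cfsg.IrrCharacter G)
  have h1' : 2 ^ (k + 2) = 2 * 2 ^ (k + 1) := by rw [pow_succ, mul_comm]
  have h2' : 2 ^ (k + 1) = 2 * 2 ^ k := by rw [pow_succ, mul_comm]
  have h3 : 1 ≤ 2 ^ k := Nat.one_le_two_pow
  haveI : NeZero (2 ^ (k + 2)) := ⟨by omega⟩
  have hσ := hR.mem
  have hσo := hR.order
  have hcard := hR.card
  obtain ⟨ζ, hζ⟩ : ∃ ζ : ℂ, IsPrimitiveRoot ζ (2 ^ (k + 2)) :=
    ⟨_, Complex.isPrimitiveRoot_exp _ (show 2 ^ (k + 2) ≠ 0 by omega)⟩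
  obtain ⟨C⟩ := Comb.exists_config (Main.data hR M hM hζ)
  obtain ⟨v1a, v1b, v1c, v1d⟩ := Main.values hR M hM hζ C (l := 1) one_pos (by omega)
  set J := σ ^ (2 ^ (k + 2) / 2) with hJ
  set K := Order.kern σ (2 ^ (k + 2)) with hK
  have hmK : Nat.card (Cfsg.oddCore ↥(centralizer ({J} : Set G))) = Nat.card K :=
    (Subgroup.card_map_of_injective Subtype.val_injective).symm
  -- the two counts
  have hKodd : Odd (Nat.card K) := Order.card_kern_odd
  have hJC : ∀ x ∈ K, Commute J x := fun x hx =>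
    (mem_centralizer_singleton_iff.1 (Order.kern_le hx)).symm
  have hJpow : ∀ x ∈ K, (J * x) ^ Nat.card K = J := by
    intro x hx
    obtain ⟨m, hm⟩ := hKodd
    rw [(hJC x hx).mul_pow, orderOf_dvd_iff_pow_eq_one.1 (Subgroup.orderOf_dvd_natCard K hx), mul_one,
      hm, pow_succ, pow_mul, pow_two, hR.half_sq, one_pow, one_mul]
  have hσpow : ∀ x ∈ K, (σ * x) ^ (2 ^ (k + 2) / 2 * Nat.card K) = J := by
    intro x hx
    have hC : ∀ i : ℕ, σ ^ i ∈ centralizer ({J} : Set G) := fun i =>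
      hR.le_centralizer_half (pow_mem hR.mem i)
    have h0 : σ * x * σ⁻¹ ∈ K := by
      have := Order.kern_conj (hR.le_centralizer_half hR.mem) hx
      simpa using this
    have hcos : ∀ i : ℕ, (σ * x) ^ i * (σ ^ i)⁻¹ ∈ K := by
      intro i
      induction i with
      | zero => simp
      | succ i ih =>
        have h := Order.coset_mul (q := σ) (y := σ * x) (hC i) ih h0
        rwa [← pow_succ, ← pow_succ] at h
    have hk' := hcos (2 ^ (k + 2) / 2)
    set x' := (σ * x) ^ (2 ^ (k + 2) / 2) * J⁻¹ with hx'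
    have e : (σ * x) ^ (2 ^ (k + 2) / 2) = J * x' := by
      rw [(hJC x' hk').eq, hx', inv_mul_cancel_right]
    rw [pow_mul, e, hJpow x' hk']
  have hdJ : Nat.card {q : G // q ∈ (P : Subgroup G) ∧ q * J = J * q} = 2 * 2 ^ (k + 2) := by
    rw [← hcard]
    refine Nat.card_congr
      { toFun := fun q => ⟨q.1, q.2.1⟩
        invFun := fun q => ⟨q.1, q.2, mem_centralizer_singleton_iff.1
          (hR.le_centralizer_half q.2)⟩
        left_inv := fun _ => rfl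
        right_inv := fun _ => rfl }
  have hσsq : σ * σ ≠ 1 := fun e => by
    have := Nat.le_of_dvd two_pos (orderOf_dvd_of_pow_eq_one (x := σ) (n := 2) (by rw [pow_two]; exact e))
    omega
  have hdσ : Nat.card {q : G // q ∈ (P : Subgroup G) ∧ q * σ = σ * q} = 2 ^ (k + 2) := by
    rw [← hσo, ← Nat.card_zpowers]
    refine Nat.card_congr
      { toFun := fun q => ⟨q.1, hR.centralizer_le q.2.1 (mem_zpowers σ) hσsq q.2.2⟩
        invFun := fun q => ⟨q.1, zpowers_le.2 hσ q.2, ?_⟩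
        left_inv := fun _ => rfl
        right_inv := fun _ => rfl }
    obtain ⟨z, hz⟩ := mem_zpowers_iff.1 q.2
    rw [← hz]
    exact ((Commute.refl σ).zpow_left z).eq
  have EJ := Order.counting hR M hM (g := J) (pow_mem (mem_zpowers σ) _)
    hR.half_ne hR.complement_half.1 hJpow (Or.inl (mul_inv_cancel J))
    (by rw [hdJ]; exact hR.sum_half M hM) hone
  have Eσ := Order.counting hR M hM (g := σ) (mem_zpowers σ)
    (fun e => hσsq (by rw [e, one_mul])) (hR.complement (mem_zpowers σ) hσsq).1 hσpow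
    (Or.inr (fun e => hσsq (by
      have hc : Commute J σ⁻¹ := ((Commute.refl σ).pow_left _).inv_right
      rw [← hJ, hc.symm.mul_mul_mul_comm, hJ, hR.half_sq, one_mul, ← mul_inv_rev, inv_eq_one] at e
      exact e)))
    (by
      rw [hdσ, hR.sum_rot M hM (mem_zpowers σ) (mem_zpowers σ) hσsq,
        if_pos (Or.inl rfl)])
    hone
  -- the two classes of reflections
  obtain ⟨j, hj⟩ := (isOfFinOrder_of_finite σ).mem_powers_iff_mem_zpowers.2
    (hR.prod_mem a ha b hb haz hbz)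
  have hb' : b = a * σ ^ j := by
    rw [show σ ^ j = a * b from hj, ← mul_assoc, (hR.inverts a ha haz).1, one_mul]
  have hjo : ¬ Even j := by
    intro he
    refine hab ?_
    have h := Order.refl_parity hR ha haz
      (fun p => ∃ s ∈ (P : Subgroup G), s * a * s⁻¹ = p)
      (fun s hs p => propext ⟨fun ⟨r, hr, e⟩ => ⟨s⁻¹ * r, mul_mem (inv_mem hs) hr, by
          calc s⁻¹ * r * a * (s⁻¹ * r)⁻¹ = s⁻¹ * (r * a * r⁻¹) * s := by group
            _ = p := by rw [e]; group⟩,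
        fun ⟨r, hr, e⟩ => ⟨s * r, mul_mem hs hr, by
          calc s * r * a * (s * r)⁻¹ = s * (r * a * r⁻¹) * s⁻¹ := by group
            _ = _ := by rw [e]⟩⟩) j
    rw [hb', h, if_pos he]
    exact ⟨1, one_mem _, by simp⟩
  set A := (Order.invs σ (2 ^ (k + 2)) a).card
  set B := (Order.invs σ (2 ^ (k + 2)) b).card with hBdef
  have hI : ∀ i : ℕ, (Order.invs σ (2 ^ (k + 2)) (a * σ ^ i)).card =
      if Even i then A else B := fun i => by
    have h : ∀ i : ℕ, (Order.invs σ (2 ^ (k + 2)) (a * σ ^ i)).card =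
        if Even i then A else (Order.invs σ (2 ^ (k + 2)) (σ * a)).card := fun i =>
      Order.refl_parity hR ha haz (fun p => (Order.invs σ (2 ^ (k + 2)) p).card)
        (fun s hs p => Order.card_invs_conj (hR.le_centralizer_half hs)) i
    rw [h i, hBdef, hb', h j, if_neg hjo]
  have hSJ : ∑ p ∈ Finset.univ.filter (fun p : G => p ∈ (P : Subgroup G) ∧ p ∉ zpowers σ),
      (Order.invs σ (2 ^ (k + 2)) p).card * (Order.invs σ (2 ^ (k + 2)) (p * J⁻¹)).card =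
      2 ^ (k + 1) * (A * A + B * B) := by
    rw [Order.sum_refl hR ha haz,
      show Finset.range (2 ^ (k + 2)) = Finset.range (2 * 2 ^ (k + 1)) by rw [h1'],
      ← Order.sum_range_parity (2 ^ (k + 1)) (A * A) (B * B)]
    refine Finset.sum_congr rfl fun i _ => ?_
    rw [hJ, inv_eq_of_mul_eq_one_right hR.half_sq, mul_assoc, ← pow_add, hI, hI]
    have : Even (i + 2 ^ (k + 2) / 2) ↔ Even i := by simp only [Nat.even_iff]; omega
    simp only [this]
    split_ifs <;> rfl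
  have hSσ : ∑ p ∈ Finset.univ.filter (fun p : G => p ∈ (P : Subgroup G) ∧ p ∉ zpowers σ),
      (Order.invs σ (2 ^ (k + 2)) p).card * (Order.invs σ (2 ^ (k + 2)) (p * σ⁻¹)).card =
      2 ^ (k + 1) * (A * B + B * A) := by
    rw [Order.sum_refl hR ha haz,
      show Finset.range (2 ^ (k + 2)) = Finset.range (2 * 2 ^ (k + 1)) by rw [h1'],
      ← Order.sum_range_parity (2 ^ (k + 1)) (A * B) (B * A)]
    refine Finset.sum_congr rfl fun i _ => ?_
    have hinv : σ⁻¹ = σ ^ (2 ^ (k + 2) - 1) := by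
      refine inv_eq_of_mul_eq_one_right ?_
      rw [← pow_succ', Nat.sub_add_cancel (by omega : 1 ≤ 2 ^ (k + 2)), ← hσo, pow_orderOf_eq_one]
    rw [hinv, mul_assoc, ← pow_add, hI, hI]
    have : Even (i + (2 ^ (k + 2) - 1)) ↔ ¬ Even i := by simp only [Nat.even_iff]; omega
    simp only [this]
    split_ifs <;> rfl
  rw [hSJ] at EJ
  rw [hSσ] at Eσ
  have hA := invs_mul_core hR ha haz
  have hB := invs_mul_core hR hb hbz
  have hcK := Order.card_centralizer_half hR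
  rw [← hJ, ← hK] at hA hB hcK
  rw [hmK]
  set e₁ := Nat.card (Cfsg.oddCore ↥(centralizer ({J, a} : Set G)))
  set e₂ := Nat.card (Cfsg.oddCore ↥(centralizer ({J, b} : Set G)))
  change e₁ * A = _ at hA
  change e₂ * B = _ at hB
  -- degrees
  have hrel1 := Main.relations hR M hM hζ C (ρ := 1) (by simp)
  have hd1 : (C.d1 : ℂ) * C.d1 = 1 := by rcases C.d1_pm with p | p <;> rw [p] <;> norm_num
  have hd2 : (C.d2 : ℂ) * C.d2 = 1 := by rcases C.d2_pm with p | p <;> rw [p] <;> norm_num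
  have hd3 : (C.d3 : ℂ) * C.d3 = 1 := by rcases C.d3_pm with p | p <;> rw [p] <;> norm_num
  have hjr : (C.r.1 : G → ℂ) J = C.d1 := by
    rw [Main.apply_half_eq hR M hM hζ C.r.2]
    exact_mod_cast C.j_r
  have hjb : (C.b.1 : G → ℂ) J = -(C.d2 : ℂ) := by
    rw [Main.apply_half_eq hR M hM hζ C.b.2]
    exact_mod_cast C.j_b
  have hjc : (C.c.1 : G → ℂ) J = -(C.d3 : ℂ) := by
    rw [Main.apply_half_eq hR M hM hζ C.c.2]
    exact_mod_cast C.j_c
  obtain ⟨x1, hx1, hx1g⟩ : ∃ x : ℕ, (C.r.1 : G → ℂ) 1 = (x : ℂ) ∧ x ∣ Nat.card G :=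
    ⟨_, (H80.ClassMult.deg_spec C.r.1).2, H80.ClassMult.charDegree_dvd_card _⟩
  obtain ⟨x2, hx2, hx2g⟩ : ∃ x : ℕ, (C.b.1 : G → ℂ) 1 = (x : ℂ) ∧ x ∣ Nat.card G :=
    ⟨_, (H80.ClassMult.deg_spec C.b.1).2, H80.ClassMult.charDegree_dvd_card _⟩
  obtain ⟨x3, hx3, hx3g⟩ : ∃ x : ℕ, (C.c.1 : G → ℂ) 1 = (x : ℂ) ∧ x ∣ Nat.card G :=
    ⟨_, (H80.ClassMult.deg_spec C.c.1).2, H80.ClassMult.charDegree_dvd_card _⟩
  have h1c : (1 : ℕ) ∈ Finset.Ico 1 (2 ^ (k + 2) / 2) := Finset.mem_Ico.2 ⟨le_rfl, by omega⟩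
  obtain ⟨xF, hxF, hxFg⟩ : ∃ x : ℕ, ((C.chi 1).1 : G → ℂ) 1 = (x : ℂ) ∧ x ∣ Nat.card G :=
    ⟨_, (H80.ClassMult.deg_spec (C.chi 1).1).2, H80.ClassMult.charDegree_dvd_card _⟩
  -- congruences
  have halt := sum_alt (2 ^ (k + 1)) (by omega)
  rw [← h1'] at halt
  obtain ⟨Kz, hKz⟩ : ∃ Kz : ℤ, C.d1 * (x1 : ℤ) = 1 + 2 ^ (k + 3) * Kz := by
    obtain ⟨q, hq⟩ := restrict_dvd hR hone ha haz C.r.1 x1 C.d1 (fun _ => C.d1)
      (by rw [hx1]; norm_cast)
      (fun l hl hl' => (Main.values hR M hM hζ C hl hl').1) hjr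
    rw [Finset.sum_const, Nat.card_Ico, nsmul_eq_mul, Nat.cast_sub (by omega)] at hq
    push_cast at hq
    refine ⟨C.d1 * q - 1, ?_⟩
    have hdd : C.d1 * C.d1 = 1 := by exact_mod_cast hd1
    have hp : (2 : ℤ) ^ (k + 3) = 2 * 2 ^ (k + 2) := by rw [pow_succ, mul_comm]
    linear_combination C.d1 * hq - (C.d1 * q - 1) * hp - (2 * (2 : ℤ) ^ (k + 2) - 1) * hdd
  obtain ⟨k₂, hk₂⟩ : ∃ k₂ : ℤ, C.d2 * (x2 : ℤ) = 2 ^ (k + 2) * k₂ - 1 := by
    obtain ⟨q, hq⟩ := restrict_dvd hR hone ha haz C.b.1 x2 (-C.d2)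
      (fun l => C.d2 * (-1) ^ (l + 1)) (by rw [hx2]; norm_cast)
      (fun l hl hl' => by
        rw [(Main.values hR M hM hζ C hl hl').2.1]; push_cast; rfl)
      (by rw [← hJ, hjb]; push_cast; rfl)
    rw [← Finset.mul_sum, halt] at hq
    push_cast at hq
    refine ⟨2 * C.d2 * q + 1, ?_⟩
    have hdd : C.d2 * C.d2 = 1 := by exact_mod_cast hd2
    linear_combination C.d2 * hq + ((2 : ℤ) ^ (k + 2) - 1) * hdd
  obtain ⟨k₃, hk₃⟩ : ∃ k₃ : ℤ, C.d3 * (x3 : ℤ) = 2 ^ (k + 2) * k₃ - 1 := by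
    obtain ⟨q, hq⟩ := restrict_dvd hR hone ha haz C.c.1 x3 (-C.d3)
      (fun l => C.d3 * (-1) ^ (l + 1)) (by rw [hx3]; norm_cast)
      (fun l hl hl' => by
        rw [(Main.values hR M hM hζ C hl hl').2.2.1]; push_cast; rfl)
      (by rw [← hJ, hjc]; push_cast; rfl)
    rw [← Finset.mul_sum, halt] at hq
    push_cast at hq
    refine ⟨2 * C.d3 * q + 1, ?_⟩
    have hdd : C.d3 * C.d3 = 1 := by exact_mod_cast hd3
    linear_combination C.d3 * hq + ((2 : ℤ) ^ (k + 2) - 1) * hdd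
  have hr1 : 1 + (C.d1 : ℂ) * x1 = -(C.d2 : ℂ) * x2 - C.d3 * x3 := by
    have := hrel1.1
    rwa [hx1, hx2, hx3] at this
  have hsum23 : k₂ + k₃ = -(2 * Kz) := by
    have h : 1 + C.d1 * (x1 : ℤ) = -C.d2 * x2 - C.d3 * x3 := by exact_mod_cast hr1
    refine mul_left_cancel₀ (pow_ne_zero (k + 2) (two_ne_zero : (2 : ℤ) ≠ 0)) ?_
    linear_combination h - hKz - hk₂ - hk₃
  have hF : C.d1 * (xF : ℤ) = 2 ^ (k + 3) * Kz + 2 := by
    have h := hrel1.2 1 h1c
    rw [hx1, hxF] at h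
    have h' : 1 + C.d1 * (x1 : ℤ) = C.d1 * xF := by exact_mod_cast h
    linear_combination hKz - h'
  have hdvd : ∀ (d : ℤ) (x : ℕ), (d = 1 ∨ d = -1) → x ∣ Nat.card G →
      d * (x : ℤ) ∣ (Nat.card G : ℤ) := by
    rintro d x (rfl | rfl) hx
    · rw [one_mul]; exact_mod_cast hx
    · rw [neg_one_mul]; exact (neg_dvd).2 (by exact_mod_cast hx)
  -- evaluation
  set T : ℂ := 2 ^ k with hT
  set y : ℂ := 8 * T * Kz + 1 with hy
  set z : ℂ := 8 * T * Kz + 2 with hz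
  set u : ℂ := 4 * T * k₂ - 1 with hu
  set w : ℂ := 4 * T * k₃ - 1 with hw
  have hp3 : (2 : ℂ) ^ (k + 3) = 8 * T := by rw [hT, pow_add]; ring
  have hp2 : (2 : ℂ) ^ (k + 2) = 4 * T := by rw [hT, pow_add]; ring
  have hy' : (C.d1 : ℂ) * x1 = y := by
    have h : (C.d1 : ℂ) * x1 = 1 + 2 ^ (k + 3) * Kz := by exact_mod_cast hKz
    rw [hy, ← hp3]; linear_combination h
  have hz' : (C.d1 : ℂ) * xF = z := by rw [hz, ← hp3]; exact_mod_cast hF
  have hu' : (C.d2 : ℂ) * x2 = u := by rw [hu, ← hp2]; exact_mod_cast hk₂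
  have hw' : (C.d3 : ℂ) * x3 = w := by rw [hw, ← hp2]; exact_mod_cast hk₃
  have hdiv : ∀ (d : ℂ) (x : ℂ), d * d = 1 → d / x = 1 / (d * x) := by
    intro d x hd
    rw [one_div, mul_inv, inv_eq_of_mul_eq_one_left hd, div_eq_mul_inv]
  have hne : ∀ (d : ℂ) (x : ℂ), d * d = 1 → x ≠ 0 → d * x ≠ 0 := fun d x hd hx =>
    mul_ne_zero (fun e => by rw [e, zero_mul] at hd; exact zero_ne_one hd) hx
  have hy0 : y ≠ 0 := hy' ▸ hne _ _ hd1 (hx1 ▸ apply_one_ne_zero C.r.1)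
  have hz0 : z ≠ 0 := hz' ▸ hne _ _ hd1 (hxF ▸ apply_one_ne_zero (C.chi 1).1)
  have hu0 : u ≠ 0 := hu' ▸ hne _ _ hd2 (hx2 ▸ apply_one_ne_zero C.b.1)
  have hw0 : w ≠ 0 := hw' ▸ hne _ _ hd3 (hx3 ▸ apply_one_ne_zero C.c.1)
  have huw : u + w = -z := by
    have h : (k₂ : ℂ) + k₃ = -(2 * Kz) := by exact_mod_cast hsum23
    rw [hu, hw, hz]; linear_combination (4 * T) * h
  have hFi : ∀ i ∈ Finset.Ico 1 (2 ^ (k + 2) / 2), ((C.chi i).1 : G → ℂ) 1 = (xF : ℂ) := by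
    intro i hi
    have h1 := (hrel1.2 i hi).symm.trans (hrel1.2 1 h1c)
    rw [← hxF]
    exact mul_left_cancel₀ (fun e => by rw [e, zero_mul] at hd1; exact zero_ne_one hd1) h1
  set blk := Fourier.blk G M
  have hblk : (Set.toFinite (Cfsg.principalBlock M G)).toFinset = blk := rfl
  rw [hblk, ← Finset.sum_coe_sort blk] at EJ Eσ
  have hone1 : ∀ g : G, ((Main.data hR M hM hζ).one.1 : G → ℂ) g = 1 := fun g => rfl
  have hζh : ζ ^ (2 ^ (k + 2) / 2) = -1 := (Main.zeta_half hR).resolve_right (not_not.2 hζ)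
  have hzsum : ∑ i ∈ Finset.Ico 1 (2 ^ (k + 2) / 2), (ζ ^ i + (ζ ^ i)⁻¹) = 0 := by
    have h := Fourier.sum_expn hζ (((1 : ℕ) : ZMod (2 ^ (k + 2))))
    rw [if_neg (fun e => by
        have := Nat.le_of_dvd one_pos ((ZMod.natCast_eq_zero_iff 1 _).1 e)
        omega),
      Fourier.sum_fold ⟨2 ^ (k + 1), h1'⟩] at h
    simp only [Nat.cast_one, one_mul, AddChar.map_zero_eq_one, AddChar.map_neg_eq_inv,
      Fourier.expn_natCast, hζh] at h
    linear_combination h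
  have hpar : ∑ i ∈ Finset.Ico 1 (2 ^ (k + 2) / 2), (if Even i then (1 : ℂ) else -1) = -1 := by
    rw [show 2 ^ (k + 2) / 2 = 2 * (2 ^ k - 1) + 2 by omega]
    exact sum_parity _
  have hEJ : ∑ s : ↥blk, (s.1 : G → ℂ) J * (s.1 : G → ℂ) J ^ 2 / (s.1 : G → ℂ) 1 =
      1 + 1 / y - 1 / u - 1 / w - 8 / z := by
    rw [C.sum_eq, hone1, hone1, hjr, hjb, hjc, hx1, hx2, hx3,
      Finset.sum_congr rfl (g := fun i => 8 * (C.d1 : ℂ) / xF * (if Even i then 1 else -1)) (fun i hi => by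
        rw [Main.apply_half_eq hR M hM hζ (C.chi i).2, hFi i hi,
          show Main.inv hR hζ (C.chi i).1 =
            if Even i then 2 * C.d1 else -(2 * C.d1) from C.j_chi i hi]
        split_ifs <;> push_cast
        · linear_combination (8 * (C.d1 : ℂ) / xF) * hd1
        · linear_combination (-8 * (C.d1 : ℂ) / xF) * hd1),
      ← Finset.mul_sum, hpar]
    have p1 : (C.d1 : ℂ) * (C.d1 : ℂ) ^ 2 = C.d1 := by linear_combination (C.d1 : ℂ) * hd1
    have p2 : -(C.d2 : ℂ) * (-(C.d2 : ℂ)) ^ 2 = -C.d2 := by linear_combination -(C.d2 : ℂ) * hd2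
    have p3 : -(C.d3 : ℂ) * (-(C.d3 : ℂ)) ^ 2 = -C.d3 := by linear_combination -(C.d3 : ℂ) * hd3
    rw [p1, p2, p3, neg_div, neg_div, hdiv _ _ hd1, hdiv _ _ hd2, hdiv _ _ hd3,
      show (8 : ℂ) * C.d1 / xF = 8 * (C.d1 / xF) from mul_div_assoc _ _ _, hdiv _ _ hd1, hy', hu', hw',
      hz']
    ring
  have hEσ : ∑ s : ↥blk, (s.1 : G → ℂ) σ * (s.1 : G → ℂ) J ^ 2 / (s.1 : G → ℂ) 1 =
      1 + 1 / y + 1 / u + 1 / w := by
    simp only [pow_one] at v1a v1b v1c v1d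
    rw [C.sum_eq, hone1, hone1, hone1, v1a, v1b, v1c, hjr, hjb, hjc, hx1, hx2, hx3,
      Finset.sum_congr rfl (g := fun i => 4 * (C.d1 : ℂ) / xF * (ζ ^ i + (ζ ^ i)⁻¹)) (fun i hi => by
        rw [v1d i hi, Main.apply_half_eq hR M hM hζ (C.chi i).2, hFi i hi,
          show Main.inv hR hζ (C.chi i).1 =
            if Even i then 2 * C.d1 else -(2 * C.d1) from C.j_chi i hi, mul_one]
        split_ifs <;> push_cast <;>
          linear_combination (4 * (C.d1 : ℂ) / xF * (ζ ^ i + (ζ ^ i)⁻¹)) * hd1),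
      ← Finset.mul_sum, hzsum]
    have p1 : (C.d1 : ℂ) * (C.d1 : ℂ) ^ 2 = C.d1 := by linear_combination (C.d1 : ℂ) * hd1
    have p2 : (C.d2 : ℂ) * (-1) ^ (1 + 1) * (-(C.d2 : ℂ)) ^ 2 = C.d2 := by
      linear_combination (C.d2 : ℂ) * hd2
    have p3 : (C.d3 : ℂ) * (-1) ^ (1 + 1) * (-(C.d3 : ℂ)) ^ 2 = C.d3 := by
      linear_combination (C.d3 : ℂ) * hd3
    rw [p1, p2, p3, hdiv _ _ hd1, hdiv _ _ hd2, hdiv _ _ hd3, hy', hu', hw']
    ring
  rw [hEJ] at EJ
  rw [hEσ] at Eσ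
  set g := Nat.card G with hg
  set m := Nat.card K with hm
  have hm0 : (m : ℂ) ≠ 0 := Nat.cast_ne_zero.2 Nat.card_pos.ne'
  have hg0 : (g : ℂ) ≠ 0 := Nat.cast_ne_zero.2 Nat.card_pos.ne'
  have hT0 : T ≠ 0 := pow_ne_zero _ two_ne_zero
  have hA' : (e₁ : ℂ) * A = m := by exact_mod_cast hA
  have hB' : (e₂ : ℂ) * B = m := by exact_mod_cast hB
  have he₁ : (e₁ : ℂ) ≠ 0 := fun e => hm0 (by rw [← hA', e, zero_mul])
  have he₂ : (e₂ : ℂ) ≠ 0 := fun e => hm0 (by rw [← hB', e, zero_mul])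
  have hc : (Nat.card (centralizer ({J} : Set G)) : ℂ) = m * (8 * T) := by
    rw [hcK]; push_cast; rw [hp2]; ring
  rw [hc] at EJ Eσ
  have hp1 : (2 : ℂ) ^ (k + 1) = 2 * T := by rw [hT, pow_add]; ring
  push_cast at EJ Eσ
  rw [hp1] at EJ Eσ
  -- the sum of the identities
  have hyz : y * z * (1 / y) = z ∧ y * z * (1 / z) = y :=
    ⟨by field_simp, by field_simp⟩
  have huwz : u * w * z * (1 / u) = w * z ∧ u * w * z * (1 / w) = u * z ∧
      u * w * z * (1 / z) = u * w :=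
    ⟨by field_simp, by field_simp, by field_simp⟩
  have eS : (g : ℂ) * Kz ^ 2 = T * m * ((A : ℂ) + B) ^ 2 * y * z := by
    refine mul_left_cancel₀
      (mul_ne_zero (mul_ne_zero (by norm_num : (128 : ℂ) ≠ 0) (pow_ne_zero 2 hT0)) hm0) ?_
    linear_combination y * z * EJ + y * z * Eσ - 2 * (g : ℂ) * m * hyz.1 +
      8 * (g : ℂ) * m * hyz.2
  have hid : u * w = 16 * T ^ 2 * k₂ * k₃ + y := by
    rw [hy]
    have h : (k₂ : ℂ) + k₃ = -(2 * Kz) := by exact_mod_cast hsum23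
    rw [hu, hw]; linear_combination (-4 * T) * h
  have eD : (g : ℂ) * ((k₂ : ℂ) * k₃ - Kz ^ 2) =
      -(T * m * ((A : ℂ) - B) ^ 2 * (u * w) * z) := by
    refine mul_left_cancel₀
      (mul_ne_zero (mul_ne_zero (by norm_num : (128 : ℂ) ≠ 0) (pow_ne_zero 2 hT0)) hm0) ?_
    have hpoly : 128 * T ^ 2 * ((k₂ : ℂ) * k₃ - Kz ^ 2) = 8 * (u * w) - 2 * z ^ 2 := by
      rw [hid, hy, hz]; ring
    linear_combination u * w * z * Eσ - u * w * z * EJ - 2 * (g : ℂ) * m * huwz.1 -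
      2 * (g : ℂ) * m * huwz.2.1 - 8 * (g : ℂ) * m * huwz.2.2 + (g : ℂ) * m * hpoly -
      2 * (g : ℂ) * m * z * huw
  have eAB : ((A : ℂ) + B) * (e₁ * e₂) = m * ((e₁ : ℂ) + e₂) := by
    linear_combination (e₂ : ℂ) * hA' + (e₁ : ℂ) * hB'
  have eAB' : ((A : ℂ) - B) * (e₁ * e₂) = m * ((e₂ : ℂ) - e₁) := by
    linear_combination (e₂ : ℂ) * hA' - (e₁ : ℂ) * hB'
  have eq1 : 8 * (g : ℂ) * Kz ^ 2 * e₁ ^ 2 * e₂ ^ 2 =
      8 * T * m ^ 3 * ((e₁ : ℂ) + e₂) ^ 2 * y * z := by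
    linear_combination 8 * (e₁ : ℂ) ^ 2 * e₂ ^ 2 * eS +
      8 * T * m * y * z * (((A : ℂ) + B) * (e₁ * e₂) + m * ((e₁ : ℂ) + e₂)) * eAB
  have eq1' : (g : ℂ) * ((k₂ : ℂ) * k₃ - Kz ^ 2) * e₁ ^ 2 * e₂ ^ 2 =
      -(T * m ^ 3 * ((e₂ : ℂ) - e₁) ^ 2 * (u * w) * z) := by
    linear_combination (e₁ : ℂ) ^ 2 * e₂ ^ 2 * eD -
      T * m * (u * w) * z * (((A : ℂ) - B) * (e₁ * e₂) + m * ((e₂ : ℂ) - e₁)) * eAB'
  have hKz0 : Kz ≠ 0 := by
    intro e
    have hK0 : (Kz : ℂ) = 0 := by exact_mod_cast e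
    rw [hK0, zero_pow two_ne_zero, mul_zero, zero_mul, zero_mul] at eq1
    refine absurd eq1.symm ?_
    have hes : (e₁ : ℂ) + e₂ ≠ 0 := by
      rw [← Nat.cast_add, Nat.cast_ne_zero]
      have : e₁ ≠ 0 := by exact_mod_cast he₁
      omega
    exact mul_ne_zero (mul_ne_zero (mul_ne_zero (mul_ne_zero (mul_ne_zero (by norm_num) hT0)
      (pow_ne_zero 3 hm0)) (pow_ne_zero 2 hes)) hy0) hz0
  have hbr : ((e₁ : ℂ) + e₂) ^ 2 * y * ((k₂ : ℂ) * k₃ - Kz ^ 2) +
      (Kz : ℂ) ^ 2 * ((e₂ : ℂ) - e₁) ^ 2 * (u * w) = 0 := by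
    refine mul_left_cancel₀
      (mul_ne_zero (mul_ne_zero hT0 (pow_ne_zero 3 hm0)) hz0) ?_
    linear_combination (Kz : ℂ) ^ 2 * eq1' - ((k₂ : ℂ) * k₃ - Kz ^ 2) / 8 * eq1
  have eq2 : z ^ 2 * k₂ * k₃ * ((e₁ : ℂ) + e₂) ^ 2 =
      16 * (Kz : ℂ) ^ 2 * e₁ * e₂ * u * w := by
    have hzy : z = y + 1 := by rw [hz, hy]; ring
    rw [hy] at hid hbr
    rw [hz]
    linear_combination 4 * hbr - 4 * (Kz : ℂ) ^ 2 * ((e₁ : ℂ) + e₂) ^ 2 * hid
  refine ⟨Kz, k₂, k₃, hKz0, hsum23, ?_, ?_, ?_, ?_, ?_, ?_⟩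
  · rw [← Int.cast_inj (α := ℂ)]
    push_cast
    rw [hp3]
    linear_combination eq1
  · rw [← Int.cast_inj (α := ℂ)]
    rw [show k + 3 - 1 = k + 2 from rfl]
    push_cast
    rw [hp3, hp2]
    linear_combination eq2
  · rw [add_comm, ← hKz]; exact hdvd _ _ C.d1_pm hx1g
  · rw [← hF]; exact hdvd _ _ C.d1_pm hxFg
  · rw [show k + 3 - 1 = k + 2 from rfl, ← hk₂]; exact hdvd _ _ C.d2_pm hx2g
  · rw [show k + 3 - 1 = k + 2 from rfl, ← hk₃]; exact hdvd _ _ C.d3_pm hx3g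

end Cfsg.Agent.Lib.GorensteinWalter.OrderDataAux

namespace Cfsg.Agent.Lib.GorensteinWalter

open Cfsg.Agent.Lib.DihedralBlock.Sections

/-- Section C1: the order equations. -/
theorem propOrderData : PropOrderData.{u} := by
  intro G _ _ hG S n t a b hn hcard ht ha hb hto hao hbo htc hat hbt hab
  obtain ⟨m, hm, ⟨e⟩⟩ := hG.dihedral S
  have hcm : 2 * m = 2 ^ n := by
    rw [← hcard, Nat.card_congr e.toEquiv, DihedralGroup.nat_card]
  obtain ⟨k, rfl⟩ : ∃ k, n = k + 3 := ⟨n - 3, by omega⟩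
  have hm' : m = 2 ^ (k + 2) := by
    rw [show k + 3 = k + 2 + 1 from rfl, pow_succ] at hcm
    omega
  subst hm'
  haveI : NeZero (2 ^ (k + 2)) := ⟨pow_ne_zero _ two_ne_zero⟩
  have h4 : 4 ≤ 2 ^ (k + 2) := by
    have := Nat.one_le_two_pow (n := k)
    rw [pow_add]; omega
  have hR := rot_of_equiv e h4 ⟨2 ^ k, by rw [pow_add]; ring⟩
    (σ := ((e.symm (DihedralGroup.r 1) : (S : Subgroup G)) : G)) (SetLike.coe_mem _)
    (by rw [Subgroup.orderOf_coe, MulEquiv.orderOf_eq, DihedralGroup.orderOf_r_one])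
  set σ : G := ((e.symm (DihedralGroup.r 1) : (S : Subgroup G)) : G)
  have hσsq : σ * σ ≠ 1 := fun e' => by
    have := Nat.le_of_dvd two_pos (orderOf_dvd_of_pow_eq_one (x := σ) (n := 2)
      (by rw [pow_two]; exact e'))
    rw [hR.order] at this
    omega
  have hinv : ∀ x : G, orderOf x = 2 → x ≠ 1 ∧ x * x = 1 := fun x hx =>
    ⟨fun e' => by rw [e', orderOf_one] at hx; omega,
      by rw [← pow_two, ← hx, pow_orderOf_eq_one]⟩
  have htz : t ∈ Subgroup.zpowers σ := by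
    by_contra htz
    have h := (hR.inverts t ht htz).2
    rw [← htc σ hR.mem, mul_inv_cancel_right] at h
    exact hσsq (mul_eq_one_iff_eq_inv.2 h)
  obtain rfl := hR.eq_half htz (hinv t hto).1 (hinv t hto).2
  exact OrderDataAux.orderData_of_rot k hR (fun i hi => hG.isConj hto hi)
    ha (fun h => hat (hR.eq_half h (hinv a hao).1 (hinv a hao).2))
    hb (fun h => hbt (hR.eq_half h (hinv b hbo).1 (hinv b hbo).2)) hab

end Cfsg.Agent.Lib.GorensteinWalter
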