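import Cfsg.Agent.Lib.GorensteinWalter.TrivialCores
import Cfsg.Agent.Lib.GorensteinWalter.OrderData
import Cfsg.Agent.Lib.GorensteinWalter.Arith
import Cfsg.Agent.S0984

/-!
# The case of one trivial four-group core

With `O = O(C(t))` inverted by `a` and `d = |O(C⟨t,b⟩)| > 1`, the order equations leave
`(d, n) = (3, 3)` or `(5, 3)`.  For a prime `r` dividing `e = m / d` the normaliser of the Sylow
`r`-subgroup of `O` lies in `C(t)`, so it is a Sylow subgroup of `G`; this forces `e = 1`.  The order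
2520 gives `A₇` and the order 7560 is impossible.
-/

set_option autoImplicit false
set_option linter.unusedSectionVars false
set_option linter.style.haveILetI false

namespace Cfsg.Agent.Lib.GorensteinWalter

open Cfsg.Agent.Lib.Fusion.Dihedral

universe u

variable {G : Type u} [Group G] [Finite G]

theorem card_centralizer_eq (hG : Hyp G) (S : Sylow 2 G) {t : G} (ht : orderOf t = 2)
    (htS : t ∈ (S : Subgroup G)) (htZ : ∀ s ∈ (S : Subgroup G), s * t = t * s) :
    Nat.card (Subgroup.centralizer ({t} : Set G)) = Nat.card (S : Subgroup G) * Nat.card (coreC t) := by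
  classical
  haveI : Fact (Nat.Prime 2) := ⟨Nat.prime_two⟩
  set C := Subgroup.centralizer ({t} : Set G) with hC
  have hSC : (S : Subgroup G) ≤ C := fun s hs => Subgroup.mem_centralizer_singleton_iff.2 (htZ s hs)
  have hsup := hG.coreC_sup_sylow ht (S.subtype hSC)
  have hmap : ((S.subtype hSC : Sylow 2 C) : Subgroup C).map C.subtype = (S : Subgroup G) := by
    show ((S : Subgroup G).subgroupOf C).map C.subtype = _
    rw [Subgroup.map_subgroupOf_eq_of_le hSC]
  rw [hmap] at hsup
  have hdisj : (S : Subgroup G) ⊓ coreC t = ⊥ := by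
    rw [Subgroup.eq_bot_iff_forall]
    intro x hx
    obtain ⟨k, hk⟩ := S.2 ⟨x, hx.1⟩
    exact orderOf_eq_one_iff.1 (Nat.eq_one_of_dvd_coprimes
      ((Nat.coprime_two_left.2 (orderOf_odd_of_mem (coreC_odd t) hx.2)).pow_left k)
      (orderOf_dvd_of_pow_eq_one (congrArg Subtype.val hk)) dvd_rfl)
  have hn : (S : Subgroup G) ≤ Subgroup.normalizer (coreC t : Set G) :=
    hSC.trans (centralizer_le_normalizer_coreC t)
  let f : (coreC t) × (S : Subgroup G) → C := fun p => ⟨(p.1 : G) * p.2,
    mul_mem (coreC_le t p.1.2) (hSC p.2.2)⟩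
  have hf : Function.Bijective f := by
    constructor
    · rintro ⟨x, s⟩ ⟨x', s'⟩ h
      have h1 : (x : G) * s = x' * s' := congrArg Subtype.val h
      have h2 : (x' : G)⁻¹ * x = (s' : G) * (s : G)⁻¹ := by
        calc (x' : G)⁻¹ * x = (x' : G)⁻¹ * ((x : G) * s) * (s : G)⁻¹ := by group
          _ = _ := by rw [h1]; group
      have h3 : (x' : G)⁻¹ * x ∈ (S : Subgroup G) ⊓ coreC t :=
        Subgroup.mem_inf.2 ⟨by rw [h2]; exact mul_mem s'.2 (inv_mem s.2), mul_mem (inv_mem x'.2) x.2⟩
      rw [hdisj, Subgroup.mem_bot, inv_mul_eq_one] at h3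
      exact Prod.ext (Subtype.ext h3.symm) (Subtype.ext (mul_left_cancel (h3 ▸ h1)))
    · rintro ⟨g, hg⟩
      rw [hC, ← hsup, ← SetLike.mem_coe, Subgroup.coe_mul_of_right_le_normalizer_left _ _ hn] at hg
      obtain ⟨x, hx, s, hs, hgxs⟩ := hg
      exact ⟨(⟨x, hx⟩, ⟨s, hs⟩), Subtype.ext hgxs⟩
  rw [← Nat.card_eq_of_bijective f hf, Nat.card_prod, mul_comm]

/-- The normaliser of an `S`-invariant subgroup of `O(C(t))` lies in `C(t)`, unless the subgroup has
trivial centraliser-free part: no four-group of `S` through `t` centralises it. -/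
theorem normalizer_le_of_no_fixed (hG : Hyp G) (S : Sylow 2 G) {t : G} (ht : orderOf t = 2)
    (htS : t ∈ (S : Subgroup G)) (htZ : ∀ s ∈ (S : Subgroup G), s * t = t * s)
    (hL : ∀ K : Subgroup G, Odd (Nat.card K) → (S : Subgroup G) ≤ Subgroup.normalizer (K : Set G) →
      K ≤ Subgroup.centralizer ({t} : Set G))
    {Y : Subgroup G} (hY : Y ≤ coreC t) (hSY : (S : Subgroup G) ≤ Subgroup.normalizer (Y : Set G))
    (hnf : ∀ W : Subgroup G, IsFour W → t ∈ W → W ≤ (S : Subgroup G) → ¬ Y ≤ coreV W) :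
    Subgroup.normalizer (Y : Set G) ≤ Subgroup.centralizer ({t} : Set G) := by
  classical
  haveI : Fact (Nat.Prime 2) := ⟨Nat.prime_two⟩
  set C := Subgroup.centralizer ({t} : Set G) with hC
  set M := Subgroup.normalizer (Y : Set G) with hM
  have hSC : (S : Subgroup G) ≤ C := fun s hs => Subgroup.mem_centralizer_singleton_iff.2 (htZ s hs)
  have htt : t * t = 1 := by rw [← sq, ← ht, pow_orderOf_eq_one]
  have ht1 : t ≠ 1 := fun e => by rw [e, orderOf_one] at ht; omega
  have hYodd : Odd (Nat.card Y) := (coreC_odd t).of_dvd_nat (Subgroup.card_dvd_of_le hY)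
  have hMfused : ∀ V : Subgroup G, ¬ FusedIn V M := by
    intro V hV
    obtain ⟨T, hT⟩ := ((hV.1.isPGroup).comap_subtype (K := M)).exists_le_sylow
    obtain ⟨k, hk⟩ := MulAction.exists_smul_eq M T (S.subtype hSY)
    have hVS : ∀ w ∈ V, (k : G) * w * (k : G)⁻¹ ∈ (S : Subgroup G) := fun w hw => by
      have h1 : k * ⟨w, hV.2.1 hw⟩ * k⁻¹ ∈ ((S.subtype hSY : Sylow 2 M) : Subgroup M) := by
        rw [← hk]
        exact Subgroup.smul_mem_pointwise_smul _ (MulAut.conj k) (T : Subgroup M)
          (hT (show (w : G) ∈ V from hw))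
      exact h1
    set W := V.map (MulAut.conj (k : G)).toMonoidHom with hW
    have hW4 : IsFour W := hV.1.map _
    have hWS : W ≤ (S : Subgroup G) := by
      rintro _ ⟨w, hw, rfl⟩
      exact hVS w hw
    have htW : t ∈ W := hG.cd.mem_four_of_central hW4 hWS htt htZ
    have hWf : FusedIn W M := by
      refine ⟨hW4, hWS.trans hSY, ?_⟩
      rintro _ ⟨v, hv, rfl⟩ hv1 _ ⟨w, hw, rfl⟩ hw1
      obtain ⟨g, hgM, hgN, hgv⟩ := hV.2.2 v hv (fun h => hv1 (by rw [h, map_one])) w hw
        (fun h => hw1 (by rw [h, map_one]))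
      refine ⟨(k : G) * g * (k : G)⁻¹, mul_mem (mul_mem k.2 hgM) (inv_mem k.2), ?_, ?_⟩
      · rw [hW, ← MulAut.conj_apply]
        exact Subgroup.le_normalizer_map _ ⟨g, hgN, rfl⟩
      · rw [← hgv]
        simp only [MulEquiv.coe_toMonoidHom, MulAut.conj_apply]
        group
    exact hnf W hW4 htW hWS
      (hG.le_coreV hW4 (centralizes_of_fused hWf le_rfl htW ht1 (hY.trans (coreC_le t))) hYodd)
  set N := (Cfsg.oddCore M).map M.subtype with hN
  have hNodd : Odd (Nat.card N) := by
    rw [Subgroup.card_map_of_injective M.subtype_injective]; exact Cores.oddCore_odd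
  have hNC : N ≤ C := hL N hNodd (hSY.trans (by
    haveI : (Cfsg.oddCore M).Normal := by unfold Cfsg.oddCore; infer_instance
    intro m hm
    exact Subgroup.le_normalizer_map M.subtype
      ⟨⟨m, hm⟩, by rw [Subgroup.normalizer_eq_top]; trivial, rfl⟩))
  have htop : (S.subtype hSY : Subgroup M) ≤ C.subgroupOf M := fun x hx => hSC hx
  have : C.subgroupOf M = ⊤ := by
    by_contra hne
    obtain ⟨p, hp, hpd⟩ := Nat.exists_prime_and_dvd (mt Subgroup.index_eq_one.1 hne)
    haveI := Fact.mk hp
    by_cases hp2 : p = 2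
    · subst hp2
      exact (S.subtype hSY).not_dvd_index (hpd.trans (Subgroup.index_dvd_of_le htop))
    obtain ⟨Q⟩ : Nonempty (Sylow p M) := inferInstance
    have hQN : (Q : Subgroup M) ≤ C.subgroupOf M := fun x hx =>
      hNC (propUnfused G hG M hMfused x x.2 (by
        obtain ⟨j, hj⟩ := Q.2 ⟨x, hx⟩
        have h1 : x ^ p ^ j = 1 := congrArg Subtype.val hj
        rw [Subgroup.orderOf_coe]
        exact Odd.of_dvd_nat ((hp.odd_of_ne_two hp2).pow) (orderOf_dvd_of_pow_eq_one h1)))
    exact Q.not_dvd_index (hpd.trans (Subgroup.index_dvd_of_le hQN))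
  intro x hx
  exact (this.ge (Subgroup.mem_top ⟨x, hx⟩) : _)

/-- A group of order 36 with trivial odd core has no place here. -/
theorem exists_normal_three {X : Type*} [Group X] [Finite X] (h : Nat.card X = 36) :
    ∃ N : Subgroup X, N.Normal ∧ (Nat.card N = 3 ∨ Nat.card N = 9) := by
  classical
  haveI : Fact (Nat.Prime 3) := ⟨Nat.prime_three⟩
  obtain ⟨R⟩ : Nonempty (Sylow 3 X) := inferInstance
  have hR : Nat.card (R : Subgroup X) = 9 := by
    rw [Sylow.card_eq_multiplicity, h, show (36 : ℕ).factorization 3 = 2 from ?_]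
    · rfl
    rw [Nat.factorization_def _ Nat.prime_three, show 36 = 3 ^ 2 * 4 from rfl,
      padicValNat.mul (by norm_num) (by norm_num), padicValNat.prime_pow,
      padicValNat.eq_zero_of_not_dvd (by norm_num)]
  have hidx : (R : Subgroup X).index = 4 := by
    have := (R : Subgroup X).card_mul_index
    rw [hR, h] at this
    omega
  refine ⟨(R : Subgroup X).normalCore, inferInstance, ?_⟩
  set f := MulAction.toPermHom X (X ⧸ (R : Subgroup X))
  have hker : (R : Subgroup X).normalCore = f.ker := Subgroup.normalCore_eq_ker _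
  have hdiv : Nat.card f.range ∣ 24 := by
    refine (Subgroup.card_subgroup_dvd_card _).trans ?_
    rw [Nat.card_perm, ← Subgroup.index_eq_card, hidx]
    rfl
  have hmul := f.ker.card_mul_index
  rw [Subgroup.index_ker, h] at hmul
  have h36 : Nat.card f.range ∣ 36 := ⟨Nat.card f.ker, by rw [← hmul, mul_comm]⟩
  have h12 : Nat.card f.range ∣ 12 := Nat.dvd_gcd hdiv h36
  have h9 : Nat.card f.ker ∣ 9 := by
    rw [← hR, ← hker]
    exact Subgroup.card_dvd_of_le (Subgroup.normalCore_le _)
  have hle := Nat.le_of_dvd (by norm_num) h12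
  have hle9 := Nat.le_of_dvd (by norm_num) h9
  rw [hker]
  rcases (Nat.dvd_prime_pow Nat.prime_three (m := 2)).1 (show Nat.card f.ker ∣ 3 ^ 2 by norm_num; exact h9) with ⟨i, hi, hi'⟩
  interval_cases i
  · rw [pow_zero] at hi'
    rw [hi', one_mul] at hmul
    omega
  · exact Or.inl (hi'.trans (pow_one 3))
  · exact Or.inr (hi'.trans (by norm_num))

/-- No minimal counterexample has order 7560 with a core of order five. -/
theorem false_of_order_7560 (hG : Hyp G) (hg : Nat.card G = 7560) (S : Sylow 2 G) {t a b : G}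
    (ht : orderOf t = 2) (htS : t ∈ (S : Subgroup G)) (htZ : ∀ s ∈ (S : Subgroup G), s * t = t * s)
    (haS : a ∈ (S : Subgroup G)) (hbS : b ∈ (S : Subgroup G))
    (hS8 : Nat.card (S : Subgroup G) = 8) (hm : Nat.card (coreC t) = 5)
    (hL : ∀ K : Subgroup G, Odd (Nat.card K) → (S : Subgroup G) ≤ Subgroup.normalizer (K : Set G) →
      K ≤ Subgroup.centralizer ({t} : Set G))
    (hinv : ∀ y ∈ coreC t, a * y * a⁻¹ = y⁻¹) {V : Subgroup G} (hV : IsFour V) (hVS : V ≤ (S : Subgroup G))
    (hVY : ∀ v ∈ V, ∀ y ∈ coreC t, v * y = y * v) : False := by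
  classical
  haveI := hG.simple
  haveI : Fact (Nat.Prime 2) := ⟨Nat.prime_two⟩
  haveI : Fact (Nat.Prime 5) := ⟨Nat.prime_five⟩
  set Y := coreC t with hYdef
  set C := Subgroup.centralizer ({t} : Set G)
  set M := Subgroup.normalizer (Y : Set G) with hM
  have hCM : C ≤ M := centralizer_le_normalizer_coreC t
  have hC40 : Nat.card C = 40 := by rw [card_centralizer_eq hG S ht htS htZ, hS8, hm]
  have hYsyl : ∀ Q : Sylow 5 G, Nat.card (Q : Subgroup G) = 5 := fun Q => by
    rw [Sylow.card_eq_multiplicity, hg, show (7560 : ℕ).factorization 5 = 1 from ?_]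
    · rfl
    rw [Nat.factorization_def _ Nat.prime_five, show 7560 = 5 ^ 1 * 1512 from rfl,
      padicValNat.mul (by norm_num) (by norm_num), padicValNat.prime_pow,
      padicValNat.eq_zero_of_not_dvd (by norm_num)]
  let Q : Sylow 5 G := Sylow.ofCard Y (by
    rw [hm, hg, show (7560 : ℕ).factorization 5 = 1 from ?_]
    · rfl
    rw [Nat.factorization_def _ Nat.prime_five, show 7560 = 5 ^ 1 * 1512 from rfl,
      padicValNat.mul (by norm_num) (by norm_num), padicValNat.prime_pow,
      padicValNat.eq_zero_of_not_dvd (by norm_num)])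
  have hn5 : M.index % 5 = 1 := by
    have h1 : Nat.card (Sylow 5 G) % 5 = 1 := card_sylow_modEq_one 5 G
    rw [Q.card_eq_index_normalizer] at h1
    exact h1
  have h40 : 40 ∣ Nat.card M := hC40 ▸ Subgroup.card_dvd_of_le hCM
  obtain ⟨j, hj⟩ := h40
  have hmul := M.card_mul_index
  rw [hj, hg, mul_assoc] at hmul
  have hmul' : j * M.index = 189 := by omega
  have hidx1 : M.index ≠ 1 := fun h => by
    rw [Subgroup.index_eq_one] at h
    refine hG.normalizer_ne_top ?_ (hG.ne_top_of_odd (coreC_odd t)) h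
    intro hb; rw [hYdef, hb, Subgroup.card_bot] at hm; omega
  have hj9 : M.index = 21 := by
    have hd : M.index ∣ 189 := ⟨j, by rw [← hmul', mul_comm]⟩
    have key : ∀ x < 190, x ∣ 189 → x % 5 = 1 → x ≠ 1 → x = 21 := by decide +kernel
    exact key _ (by have := Nat.le_of_dvd (by norm_num) hd; omega) hd hn5 hidx1
  have hMcard : Nat.card M = 360 := by
    rw [hj9] at hmul'
    omega
  -- the centraliser of `Y` inside `M`
  set K := (Subgroup.centralizer (Y : Set G)).subgroupOf M with hK
  haveI hKn : K.Normal := ⟨fun x hx g => by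
    rw [hK, Subgroup.mem_subgroupOf] at hx ⊢
    simp only [Subgroup.coe_mul, Subgroup.coe_inv]
    refine Subgroup.mem_centralizer_iff.2 fun y hy => ?_
    have h1 := Subgroup.mem_centralizer_iff.1 hx _ ((Subgroup.mem_normalizer_iff''.1 g.2 y).1 hy)
    calc y * ((g : G) * x * (g : G)⁻¹) = (g : G) * ((g : G)⁻¹ * y * g * x) * (g : G)⁻¹ := by group
      _ = (g : G) * x * (g : G)⁻¹ * y := by rw [h1]; group⟩
  have hKcard : Nat.card K = 180 := by
    haveI : IsCyclic Y := isCyclic_of_prime_card hm
    -- the conjugation action has image of order two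
    let ψ : M →* MulAut Y := Subgroup.normalizerMonoidHom Y
    have hker : ψ.ker = K := Subgroup.normalizerMonoidHom_ker Y
    have h4 : Nat.card ψ.range ∣ 4 := by
      refine (Subgroup.card_subgroup_dvd_card _).trans ?_
      rw [IsCyclic.card_mulAut, hm, Nat.totient_prime Nat.prime_five]
    have hmulK := K.card_mul_index
    rw [← hker, Subgroup.index_ker, hMcard, hker] at hmulK
    have haK : (⟨a, hCM (Subgroup.mem_centralizer_singleton_iff.2 (htZ a haS))⟩ : M) ∉ K := by
      intro h
      obtain ⟨y, hy, hy1⟩ := Y.bot_or_exists_ne_one.resolve_left (fun e => by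
        rw [e, Subgroup.card_bot] at hm; omega)
      have h1 := hinv y hy
      rw [← Subgroup.mem_centralizer_iff.1 (Subgroup.mem_subgroupOf.1 h) y hy, mul_inv_cancel_right] at h1
      refine hy1 (orderOf_eq_one_iff.1 (Nat.eq_one_of_dvd_coprimes
        (Nat.coprime_two_right.2 (orderOf_odd_of_mem (coreC_odd t) hy)) dvd_rfl
        (orderOf_dvd_of_pow_eq_one (by rw [sq]; nth_rewrite 1 [h1]; exact inv_mul_cancel y))))
    have hVK : V.subgroupOf M ≤ K := fun v hv => Subgroup.mem_subgroupOf.2
      (Subgroup.mem_centralizer_iff.2 fun y hy => (hVY _ hv y hy).symm)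
    have h4K : 4 ∣ Nat.card K := by
      have := Subgroup.card_dvd_of_le hVK
      rwa [Nat.card_congr (Subgroup.subgroupOfEquivOfLe (hVS.trans ((fun s hs =>
        hCM (Subgroup.mem_centralizer_singleton_iff.2 (htZ s hs))) : (S : Subgroup G) ≤ M))).toEquiv,
        hV.1] at this
    have hne : Nat.card ψ.range ≠ 1 := by
      intro h1
      rw [h1, mul_one] at hmulK
      exact haK (Subgroup.eq_top_of_card_eq K (by rw [hmulK, hMcard]) ▸ Subgroup.mem_top _)
    obtain ⟨c, hc⟩ := h4K
    have hle := Nat.le_of_dvd (by norm_num) h4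
    interval_cases hr : Nat.card ψ.range <;> omega
  -- a normal 3-part gives an odd normal subgroup of order at least 15
  haveI : (Y.subgroupOf M).Normal := Subgroup.normal_subgroupOf_of_le_normalizer le_rfl
  set YK := (Y.subgroupOf M).subgroupOf K with hYK
  have hYleC : Y ≤ Subgroup.centralizer (Y : Set G) := by
    haveI : IsCyclic Y := isCyclic_of_prime_card hm
    intro x hx
    refine Subgroup.mem_centralizer_iff.2 fun y hy => ?_
    exact congrArg Subtype.val ((IsCyclic.commGroup (α := Y)).mul_comm ⟨y, hy⟩ ⟨x, hx⟩)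
  have hYM : Y ≤ M := Subgroup.le_normalizer
  have hYKc : Nat.card YK = 5 := by
    rw [hYK, Nat.card_congr (Subgroup.subgroupOfEquivOfLe (fun y hy =>
      Subgroup.mem_subgroupOf.2 (hYleC hy) : Y.subgroupOf M ≤ K)).toEquiv,
      Nat.card_congr (Subgroup.subgroupOfEquivOfLe hYM).toEquiv, hm]
  have h36 : Nat.card (K ⧸ YK) = 36 := by
    have := Subgroup.card_eq_card_quotient_mul_card_subgroup YK
    rw [hKcard, hYKc] at this
    omega
  obtain ⟨N, hN, hN3⟩ := exists_normal_three h36
  haveI := hN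
  set N' := N.comap (QuotientGroup.mk' YK) with hN'
  have hN'c : Nat.card N' = 5 * Nat.card N := by
    have h1 : N'.index = N.index := Subgroup.index_comap_of_surjective N (QuotientGroup.mk'_surjective YK)
    have h2 := N'.card_mul_index
    have h3 := N.card_mul_index
    rw [h1, hKcard] at h2
    rw [h36] at h3
    have hpos : 0 < N.index := Nat.pos_of_ne_zero Subgroup.index_ne_zero_of_finite
    exact Nat.eq_of_mul_eq_mul_right hpos (by rw [h2, mul_assoc, h3]; norm_num)
  have hN'odd : Odd (Nat.card N') := by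
    rw [hN'c]; rcases hN3 with h | h <;> rw [h] <;> decide
  haveI := Cores.normal_map_subtype K (Cfsg.oddCore K)
  have h1 : (Cfsg.oddCore K).map K.subtype ≤ Cfsg.oddCore M := Cores.le_oddCore (by
    rw [Subgroup.card_map_of_injective K.subtype_injective]; exact Cores.oddCore_odd)
  set P := (Cfsg.oddCore M).map M.subtype with hP
  have hPodd : Odd (Nat.card P) := by
    rw [Subgroup.card_map_of_injective M.subtype_injective]; exact Cores.oddCore_odd
  have hSM : (S : Subgroup G) ≤ M := fun s hs => hCM (Subgroup.mem_centralizer_singleton_iff.2 (htZ s hs))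
  have hPC : P ≤ C := hL P hPodd (hSM.trans (by
    haveI : (Cfsg.oddCore M).Normal := by unfold Cfsg.oddCore; infer_instance
    intro m hm
    exact Subgroup.le_normalizer_map M.subtype
      ⟨⟨m, hm⟩, by rw [Subgroup.normalizer_eq_top]; trivial, rfl⟩))
  have hPY : P ≤ Y := hG.le_coreC ht hPC hPodd
  have hle : Nat.card N' ≤ 5 := by
    have h2 : (N'.map K.subtype).map M.subtype ≤ Y :=
      le_trans (Subgroup.map_mono ((Subgroup.map_mono (Cores.le_oddCore hN'odd)).trans h1)) hPY
    have h3 := Nat.le_of_dvd (by omega) (Subgroup.card_dvd_of_le h2)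
    rw [Subgroup.card_map_of_injective M.subtype_injective,
      Subgroup.card_map_of_injective K.subtype_injective, hm] at h3
    exact h3
  rw [hN'c] at hle
  rcases hN3 with h | h <;> omega

/-- In a dihedral Sylow subgroup of order at least eight the reflections form two classes. -/
theorem classify_reflection (hG : Hyp G) (S : Sylow 2 G) (hS8 : 8 ≤ Nat.card (S : Subgroup G))
    {t a b w : G} (htS : t ∈ (S : Subgroup G)) (ht : orderOf t = 2)
    (htZ : ∀ s ∈ (S : Subgroup G), s * t = t * s) (haS : a ∈ (S : Subgroup G))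
    (ha : orderOf a = 2) (hat : a ≠ t) (hbS : b ∈ (S : Subgroup G)) (hb : orderOf b = 2) (hbt : b ≠ t)
    (hab : ¬ ∃ s ∈ (S : Subgroup G), s * a * s⁻¹ = b) (hwS : w ∈ (S : Subgroup G))
    (hw : orderOf w = 2) (hwt : w ≠ t) :
    (∃ s ∈ (S : Subgroup G), s * a * s⁻¹ = w) ∨ ∃ s ∈ (S : Subgroup G), s * b * s⁻¹ = w := by
  classical
  obtain ⟨m, hm, ⟨e⟩⟩ := hG.dihedral S
  let D := Coords.ofEquiv e
  have hm4 : 4 ≤ m := by have := D.card; omega
  haveI : NeZero m := ⟨by omega⟩
  have hm2 : 2 ∣ m := D.two_dvd hm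
  have htr : t = D.φ (DihedralGroup.r ((m / 2 : ℕ) : ZMod m)) := by
    rcases D.invol_cases hm htS ht with h | ⟨i, rfl⟩
    · exact h
    · exfalso
      have h1 := htZ _ (D.mem (DihedralGroup.r 1))
      rw [← map_mul, ← map_mul, D.inj.eq_iff, DihedralGroup.r_mul_sr, DihedralGroup.sr_mul_r,
        DihedralGroup.sr.injEq] at h1
      have h2 : ((2 : ℕ) : ZMod m) = 0 := by
        push_cast
        linear_combination -h1
      rw [ZMod.natCast_eq_zero_iff] at h2
      exact absurd (Nat.le_of_dvd two_pos h2) (by omega)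
  have cl : ∀ x ∈ (S : Subgroup G), orderOf x = 2 → x ≠ t → ∃ i, x = D.φ (DihedralGroup.sr i) :=
    fun x hx hx2 hxt => (D.invol_cases hm hx hx2).resolve_left (fun h => hxt (h.trans htr.symm))
  obtain ⟨i, rfl⟩ := cl a haS ha hat
  obtain ⟨j, rfl⟩ := cl b hbS hb hbt
  obtain ⟨k, rfl⟩ := cl w hwS hw hwt
  have conj : ∀ x y : ZMod m, par hm2 x = par hm2 y →
      ∃ s ∈ (S : Subgroup G), s * D.φ (DihedralGroup.sr x) * s⁻¹ = D.φ (DihedralGroup.sr y) := by
    intro x y hxy
    obtain ⟨l, rfl⟩ := par_surjective_two hm2 hxy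
    exact ⟨_, D.mem (DihedralGroup.r l), by rw [D.conj_sr]; congr 2; abel⟩
  have hij : par hm2 i ≠ par hm2 j := fun h => hab (conj i j h)
  by_cases h : par hm2 i = par hm2 k
  · exact Or.inl (conj i k h)
  · refine Or.inr (conj j k ?_)
    revert h hij
    generalize par hm2 i = x
    generalize par hm2 j = y
    generalize par hm2 k = z
    revert x y z
    decide

/-- One trivial and one nontrivial four-group core leads to `A₇`. -/
theorem known_of_one_trivial (hG : Hyp G) (S : Sylow 2 G) (n : ℕ) (hn : 3 ≤ n)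
    (hcard : Nat.card (S : Subgroup G) = 2 ^ n) (t a b : G) (htS : t ∈ (S : Subgroup G))
    (haS : a ∈ (S : Subgroup G)) (hbS : b ∈ (S : Subgroup G)) (ht : orderOf t = 2) (ha : orderOf a = 2)
    (hb : orderOf b = 2) (htZ : ∀ s ∈ (S : Subgroup G), s * t = t * s) (hat : a ≠ t) (hbt : b ≠ t)
    (hab : ¬ ∃ s ∈ (S : Subgroup G), s * a * s⁻¹ = b)
    (hL : ∀ K : Subgroup G, Odd (Nat.card K) → (S : Subgroup G) ≤ Subgroup.normalizer (K : Set G) →
      K ≤ Subgroup.centralizer ({t} : Set G))
    (hd₁ : ∀ V : Subgroup G, IsFour V → t ∈ V → a ∈ V → coreV V = ⊥)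
    (hd₂ : ∀ V : Subgroup G, IsFour V → t ∈ V → b ∈ V → coreV V ≠ ⊥) : IsKnownD G := by
  classical
  haveI := hG.simple
  haveI : Fact (Nat.Prime 2) := ⟨Nat.prime_two⟩
  have sq1 : ∀ x : G, orderOf x = 2 → x * x = 1 := fun x hx => by rw [← sq, ← hx, pow_orderOf_eq_one]
  have ne1 : ∀ x : G, orderOf x = 2 → x ≠ 1 := fun x hx e => by rw [e, orderOf_one] at hx; omega
  obtain ⟨Va, hVa, htVa, haVa, hVale⟩ := exists_isFour (sq1 t ht) (sq1 a ha) (htZ a haS).symm (ne1 t ht)
    (ne1 a ha) hat.symm
  obtain ⟨Vb, hVb, htVb, hbVb, hVble⟩ := exists_isFour (sq1 t ht) (sq1 b hb) (htZ b hbS).symm (ne1 t ht)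
    (ne1 b hb) hbt.symm
  have hVbS : Vb ≤ (S : Subgroup G) := hVble _ htS hbS
  set O := coreC t with hOdef
  set m := Nat.card O with hmdef
  set d := Nat.card (coreV Vb) with hddef
  have hd1 : coreV Va = ⊥ := hd₁ Va hVa htVa haVa
  have hd : 1 < d := by
    by_contra h
    exact hd₂ Vb hVb htVb hbVb (Subgroup.card_eq_one.1 (le_antisymm (not_lt.1 h) Nat.card_pos))
  have hdodd : Odd d := coreV_odd Vb
  have hdm : d ∣ m := Subgroup.card_dvd_of_le (by
    rw [hG.coreV_eq hVb htVb (ne1 t ht)]; exact inf_le_left)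
  have hSn : ∀ s ∈ (S : Subgroup G), ∀ y ∈ O, s * y * s⁻¹ ∈ O := fun s hs y hy =>
    (Subgroup.mem_normalizer_iff.1 (centralizer_le_normalizer_coreC t
      (Subgroup.mem_centralizer_singleton_iff.2 (htZ s hs))) y).1 hy
  have hainv : ∀ y ∈ O, a * y * a⁻¹ = y⁻¹ := inverts_of_fixed_bot (coreC_odd t) (sq1 a ha) (hSn a haS)
    fun y hy hc => by
      have h1 : y ∈ coreV Va := by
        rw [← hG.coreC_inf_eq hVa htVa (ne1 t ht) haVa (ne1 a ha) hat.symm]
        exact ⟨hy, Subgroup.mem_centralizer_singleton_iff.2 hc.symm⟩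
      rwa [hd1, Subgroup.mem_bot] at h1
  -- the order equations
  have hOD := propOrderData G hG S n t a b hn hcard htS haS hbS ht ha hb htZ hat hbt hab
  rw [← card_coreC] at hOD
  have eqa : Nat.card (Cfsg.oddCore ↥(Subgroup.centralizer ({t, a} : Set G))) = 1 := by
    rw [hVa.centralizer_pair htVa haVa (ne1 t ht) (ne1 a ha) hat.symm, ← card_coreV, hd1, Subgroup.card_bot]
  have eqb : Nat.card (Cfsg.oddCore ↥(Subgroup.centralizer ({t, b} : Set G))) = d := by
    rw [hVb.centralizer_pair htVb hbVb (ne1 t ht) (ne1 b hb) hbt.symm, ← card_coreV]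
  rw [eqa, eqb] at hOD
  obtain ⟨K, k₂, k₃, hK, hsum, e1, e2, -, -, -, -⟩ := hOD
  have harith := propArith n d K k₂ k₃ hn hdodd hd hK hsum (by
    push_cast at e2
    linear_combination e2)
  obtain ⟨e, he⟩ := hdm
  have he0 : 0 < e := Nat.pos_of_ne_zero fun h => by rw [h, mul_zero] at he; exact (Nat.card_pos (α := O)).ne' he
  -- the Sylow subgroups for primes dividing `e`
  have hfac : ∀ r : ℕ, r.Prime → r ∣ e → (Nat.card G).factorization r = m.factorization r := by
    intro r hr hre
    haveI := Fact.mk hr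
    have hrm : r ∣ m := he ▸ hre.trans (dvd_mul_left e d)
    have hr2 : r ≠ 2 := fun h => (coreC_odd t).not_two_dvd_nat (h ▸ hrm)
    obtain ⟨R⟩ : Nonempty (Sylow r O) := inferInstance
    have hcomm : ∀ x ∈ O, ∀ y ∈ O, x * y = y * x := by
      intro x hx y hy
      have h1 := hainv (x * y) (mul_mem hx hy)
      have h2 : a * (x * y) * a⁻¹ = (a * x * a⁻¹) * (a * y * a⁻¹) := by group
      rw [h2, hainv x hx, hainv y hy, _root_.mul_inv_rev] at h1
      have h3 := congrArg (·⁻¹) h1
      simp only [_root_.mul_inv_rev, inv_inv] at h3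
      exact h3.symm
    set P := (R : Subgroup O).map O.subtype with hP
    have hPO : P ≤ O := Subgroup.map_subtype_le _
    have hPcard : Nat.card P = r ^ m.factorization r := by
      rw [Subgroup.card_map_of_injective O.subtype_injective, Sylow.card_eq_multiplicity]
    have hPp : IsPGroup r P := R.2.map _
    have hmemP : ∀ x ∈ O, r ^ m.factorization r > 0 → x ^ (r ^ m.factorization r) = 1 → x ∈ P := by
      intro x hx _ hxp
      haveI : (R : Subgroup O).Normal := ⟨fun z hz g => by
        have : g * z * g⁻¹ = z := Subtype.ext (by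
          simp only [Subgroup.coe_mul, Subgroup.coe_inv]
          rw [hcomm _ g.2 _ z.2, mul_inv_cancel_right])
        rwa [this]⟩
      have hp' : IsPGroup r (Subgroup.zpowers (⟨x, hx⟩ : O)) := IsPGroup.of_card_dvd_pow (n := m.factorization r) (by
        rw [Nat.card_zpowers]
        exact orderOf_dvd_of_pow_eq_one (Subtype.ext (by simpa using hxp)))
      obtain ⟨R', hR'⟩ := hp'.exists_le_sylow
      haveI := Sylow.unique_of_normal R inferInstance
      exact ⟨⟨x, hx⟩, (Subsingleton.elim R' R) ▸ hR' (Subgroup.mem_zpowers _), rfl⟩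
    have hSP : (S : Subgroup G) ≤ Subgroup.normalizer (P : Set G) := fun s hs =>
      Subgroup.mem_normalizer_fintype fun y hy => hmemP _ (hSn s hs y (hPO hy)) (pow_pos hr.pos _) (by
        have hy1 : y ^ (r ^ m.factorization r) = 1 := by
          rw [← hPcard]
          exact congrArg Subtype.val (pow_card_eq_one' (x := (⟨y, hy⟩ : P)))
        rw [← MulAut.conj_apply, ← map_pow, hy1, map_one])
    have hnP := normalizer_le_of_no_fixed hG S ht htS htZ hL hPO hSP (by
      intro W hW htW hWS hle
      -- `W` would centralise `P`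
      have hdvd : r ^ m.factorization r ∣ Nat.card (coreV W) := hPcard ▸ Subgroup.card_dvd_of_le hle
      have hvr : 0 < m.factorization r := hr.factorization_pos_of_dvd (Nat.card_pos (α := O)).ne' hrm
      have hWa : ∀ w ∈ W, w ≠ 1 → w ≠ t → ¬ (∀ y ∈ O, w * y * w⁻¹ = y⁻¹) := by
        intro w hw _ _ hwinv
        obtain ⟨y, hy, hy1⟩ := P.bot_or_exists_ne_one.resolve_left (fun h => by
          rw [h, Subgroup.card_bot] at hPcard
          exact absurd hPcard.symm (Nat.one_lt_pow hvr.ne' hr.one_lt).ne')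
        have h1 := hwinv y (hPO hy)
        rw [Subgroup.mem_centralizer_iff.1 (coreV_le W (hle hy)) w hw, mul_inv_cancel_right] at h1
        exact hy1 (orderOf_eq_one_iff.1 (Nat.eq_one_of_dvd_coprimes
          (Nat.coprime_two_right.2 (orderOf_odd_of_mem (coreC_odd t) (hPO hy))) dvd_rfl
          (orderOf_dvd_of_pow_eq_one (by rw [sq]; nth_rewrite 1 [h1]; exact inv_mul_cancel y))))
      obtain ⟨w, hw, hw1, hwt⟩ : ∃ w ∈ W, w ≠ 1 ∧ w ≠ t := by
        by_contra hno
        push Not at hno
        have hs : Function.Surjective (fun i : Bool => if i then (⟨t, htW⟩ : W) else 1) := fun x => by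
          by_cases hx : (x : G) = 1
          · exact ⟨false, Subtype.ext hx.symm⟩
          · exact ⟨true, Subtype.ext (hno x x.2 hx).symm⟩
        have := Nat.card_le_card_of_surjective _ hs
        rw [hW.1, Nat.card_eq_fintype_card, Fintype.card_bool] at this
        omega
      -- every four-group of `S` through `t` is conjugate to `Va` or to `Vb`
      rcases classify_reflection hG S (by rw [hcard]; exact Nat.pow_le_pow_right two_pos hn) htS ht htZ
        haS ha hat hbS hb hbt hab (hWS hw) (orderOf_eq_prime (by rw [sq]; exact hW.2 w hw) hw1) hwt with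
        ⟨s, hs, hsw⟩ | ⟨s, hs, hsw⟩
      · -- conjugate to `a`: inverts
        refine hWa w hw hw1 hwt fun y hy => ?_
        obtain ⟨z, hz, rfl⟩ : ∃ z ∈ O, y = s * z * s⁻¹ := ⟨s⁻¹ * y * s, by
          simpa using hSn s⁻¹ (inv_mem hs) y hy, by group⟩
        calc w * (s * z * s⁻¹) * w⁻¹ = s * (a * z * a⁻¹) * s⁻¹ := by rw [← hsw]; group
          _ = (s * z * s⁻¹)⁻¹ := by rw [hainv z hz]; group
      · -- conjugate to `b`: the order is too small
        have heq : coreV W ≤ (coreV Vb).map (MulAut.conj s).toMonoidHom := by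
          intro y hy
          refine ⟨s⁻¹ * y * s, ?_, by simp only [MulEquiv.coe_toMonoidHom, MulAut.conj_apply]; group⟩
          rw [← hG.coreC_inf_eq hVb htVb (ne1 t ht) hbVb (ne1 b hb) hbt.symm]
          have hyO : y ∈ O := by
            rw [hG.coreV_eq hW htW (ne1 t ht)] at hy
            exact hy.1
          refine ⟨by simpa using hSn s⁻¹ (inv_mem hs) y hyO, Subgroup.mem_centralizer_singleton_iff.2 ?_⟩
          have h1 := Subgroup.mem_centralizer_iff.1 (coreV_le W hy) w hw
          calc s⁻¹ * y * s * b = s⁻¹ * (y * (s * b * s⁻¹)) * s := by group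
            _ = s⁻¹ * ((s * b * s⁻¹) * y) * s := by rw [hsw, h1]
            _ = b * (s⁻¹ * y * s) := by group
        have h2 : r ^ m.factorization r ∣ d := by
          refine hdvd.trans ((Subgroup.card_dvd_of_le heq).trans ?_)
          rw [Subgroup.card_map_of_injective (MulAut.conj s).injective]
        have h3 := (hr.pow_dvd_iff_le_factorization (by omega)).1 h2
        rw [he, Nat.factorization_mul (by omega) he0.ne', Finsupp.add_apply] at h3
        have h4 := hr.factorization_pos_of_dvd he0.ne' hre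
        omega)
    -- so `P` is a Sylow subgroup of `G`
    obtain ⟨Q, hQ⟩ := hPp.exists_le_sylow
    have hPQ : P = Q := by
      by_contra hne
      have hlt : P < (Q : Subgroup G) := lt_of_le_of_ne hQ hne
      have hnc : NormalizerCondition ↥(Q : Subgroup G) := by
        haveI := Q.2.isNilpotent
        exact Group.normalizerCondition_of_isNilpotent
      have hlt' : P.subgroupOf (Q : Subgroup G) < ⊤ := lt_top_iff_ne_top.2 fun h =>
        hlt.not_ge (Subgroup.subgroupOf_eq_top.1 h)
      obtain ⟨x, hxN, hxP⟩ := SetLike.exists_of_lt (hnc _ hlt')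
      have hxM : (x : G) ∈ Subgroup.normalizer (P : Set G) := by
        refine Subgroup.mem_normalizer_fintype fun y hy => ?_
        have := (Subgroup.mem_normalizer_iff.1 hxN ⟨y, hQ hy⟩).1 (Subgroup.mem_subgroupOf.2 hy)
        exact Subgroup.mem_subgroupOf.1 this
      have hxodd : Odd (orderOf (x : G)) := by
        obtain ⟨i, hi⟩ := Q.2 x
        exact Odd.of_dvd_nat (hr.odd_of_ne_two hr2).pow (orderOf_dvd_of_pow_eq_one (congrArg Subtype.val hi))
      have hxO : (x : G) ∈ O := hG.mem_coreC ht (hnP hxM) hxodd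
      refine hxP (Subgroup.mem_subgroupOf.2 (hmemP _ hxO (pow_pos hr.pos _) ?_))
      obtain ⟨i, hi⟩ := Q.2 x
      have h1 : orderOf (x : G) ∣ r ^ i := orderOf_dvd_of_pow_eq_one (congrArg Subtype.val hi)
      have h2 : orderOf (x : G) ∣ m := Subgroup.orderOf_dvd_natCard O hxO
      obtain ⟨k, -, hk⟩ := (Nat.dvd_prime_pow hr).1 h1
      rw [hk, hr.pow_dvd_iff_le_factorization (Nat.card_pos (α := O)).ne'] at h2
      exact orderOf_dvd_iff_pow_eq_one.1 (hk ▸ pow_dvd_pow r h2)
    have h1 : Nat.card (Q : Subgroup G) = r ^ m.factorization r := by rw [← hPQ, hPcard]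
    rw [Sylow.card_eq_multiplicity] at h1
    exact Nat.pow_right_injective hr.two_le h1
  rcases harith with ⟨hd3, hn3, hK2⟩ | ⟨hd5, hn3, hK1⟩
  · -- order 2520
    have hgz : (Nat.card G : ℤ) = 2520 * (e : ℤ) ^ 3 := by
      rw [hd3, hn3, hK2, show (m : ℤ) = 3 * e from by rw [he, hd3]; push_cast; ring] at e1
      norm_num at e1
      linarith
    have hg : Nat.card G = 2520 * e ^ 3 := by exact_mod_cast hgz
    have he1 : e = 1 := by
      by_contra hne
      obtain ⟨r, hr, hre⟩ := Nat.exists_prime_and_dvd hne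
      have h := hfac r hr hre
      rw [hg, he, hd3, Nat.factorization_mul (by norm_num) (pow_ne_zero _ he0.ne'),
        Nat.factorization_mul (by norm_num) he0.ne', Nat.factorization_pow, Finsupp.add_apply,
        Finsupp.add_apply, Finsupp.smul_apply, smul_eq_mul] at h
      have h4 := hr.factorization_pos_of_dvd he0.ne' hre
      have h5 : (3 : ℕ).factorization r ≤ (2520 : ℕ).factorization r :=
        (Nat.factorization_le_iff_dvd (by norm_num) (by norm_num)).2 (by norm_num) r
      omega
    rw [he1, one_pow, mul_one] at hg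
    exact Or.inr (Cfsg.Agent.S0984.result hg)
  · exfalso
    have hgz : (Nat.card G : ℤ) = 7560 * (e : ℤ) ^ 3 := by
      rw [hd5, hn3, hK1, show (m : ℤ) = 5 * e from by rw [he, hd5]; push_cast; ring] at e1
      norm_num at e1
      linarith
    have hg : Nat.card G = 7560 * e ^ 3 := by exact_mod_cast hgz
    have he1 : e = 1 := by
      by_contra hne
      obtain ⟨r, hr, hre⟩ := Nat.exists_prime_and_dvd hne
      have h := hfac r hr hre
      rw [hg, he, hd5, Nat.factorization_mul (by norm_num) (pow_ne_zero _ he0.ne'),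
        Nat.factorization_mul (by norm_num) he0.ne', Nat.factorization_pow, Finsupp.add_apply,
        Finsupp.add_apply, Finsupp.smul_apply, smul_eq_mul] at h
      have h4 := hr.factorization_pos_of_dvd he0.ne' hre
      have h5 : (5 : ℕ).factorization r ≤ (7560 : ℕ).factorization r :=
        (Nat.factorization_le_iff_dvd (by norm_num) (by norm_num)).2 (by norm_num) r
      omega
    rw [he1, one_pow, mul_one] at hg
    have hm5 : Nat.card O = 5 := by rw [← hmdef, he, hd5, he1]
    have heq : coreV Vb = O := Subgroup.eq_of_le_of_card_ge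
      (by rw [hG.coreV_eq hVb htVb (ne1 t ht)]; exact inf_le_left) (by rw [← hddef, hm5, hd5])
    exact false_of_order_7560 hG hg S ht htS htZ haS hbS (by rw [hcard, hn3]; rfl) hm5 hL hainv hVb
      hVbS fun v hv y hy => (Subgroup.mem_centralizer_iff.1 (coreV_le Vb (heq.symm ▸ hy)) v hv)

end Cfsg.Agent.Lib.GorensteinWalter
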