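import Cfsg.Agent.Lib.GorensteinWalter.InterfaceF
import Cfsg.Agent.Lib.GorensteinWalter.OneTrivial
import Cfsg.Agent.Lib.Coprime.Glauberman

/-!
# Assembly when some four-group core is trivial

If a four-group `⟨t, a⟩` has trivial core then `a` inverts `O(C(t))`, so no prime is small and, given that the
invariant subgroups at primes without configuration are centralised, `t` centralises every `S`-invariant subgroup
of odd order.  Hence the group is `PSL(2,q)` or `A₇`.
-/

set_option autoImplicit false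
set_option linter.unusedSectionVars false
set_option linter.style.haveILetI false

namespace Cfsg.Agent.Lib.GorensteinWalter

open Cfsg.Agent.Lib.Fusion.Dihedral

universe u

variable {G : Type u} [Group G] [Finite G]

/-- A statement on invariant `r`-subgroups passes to invariant subgroups of odd order. -/
theorem centralized_of_prime {S : Subgroup G} (hS : IsPGroup 2 S) {C : Subgroup G}
    (h : ∀ r : ℕ, r.Prime → r ≠ 2 → ∀ K : Subgroup G, IsPGroup r K →
      S ≤ Subgroup.normalizer (K : Set G) → K ≤ C)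
    {K : Subgroup G} (hK : Odd (Nat.card K)) (hn : S ≤ Subgroup.normalizer (K : Set G)) : K ≤ C := by
  classical
  haveI : Fact (Nat.Prime 2) := ⟨Nat.prime_two⟩
  obtain ⟨k, hk⟩ := hS.exists_card_eq
  have hcop : (Nat.card S).Coprime (Nat.card K) := by
    rw [hk]; exact (Nat.coprime_two_left.2 hK).pow_left k
  have hsolv : Group.IsSolvable S ∨ Group.IsSolvable K :=
    Or.inl (by haveI := hS.isNilpotent; infer_instance)
  have hdvd : Nat.card K ∣ Nat.card ↥(K ⊓ C) := by
    rw [← Nat.factorization_le_iff_dvd Nat.card_pos.ne' Nat.card_pos.ne']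
    intro r
    by_cases hr : r.Prime
    swap
    · rw [Nat.factorization_eq_zero_of_not_prime _ hr]; exact zero_le
    haveI := Fact.mk hr
    by_cases hr2 : r = 2
    · subst hr2
      rw [Nat.factorization_eq_zero_of_not_dvd hK.not_two_dvd_nat]
      exact zero_le
    obtain ⟨P, hP⟩ := Coprime.exists_invariant_sylow hn hcop hsolv r
    have hle : ((P : Subgroup K).map K.subtype) ≤ K ⊓ C :=
      le_inf (Subgroup.map_subtype_le _) (h r hr hr2 _ (P.2.map _) hP)
    exact (hr.pow_dvd_iff_le_factorization Nat.card_pos.ne').1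
      (Coprime.card_sylow_map P ▸ Subgroup.card_dvd_of_le hle)
  exact inf_eq_left.1 (Subgroup.eq_of_le_of_card_ge inf_le_left (Nat.le_of_dvd Nat.card_pos hdvd))

/-- A four-group with trivial core through `t` rules out small primes. -/
theorem not_smallPrime_of_coreV_bot (hG : Hyp G) {t a : G} (ht : orderOf t = 2) (ha : orderOf a = 2)
    (hat : a ≠ t) (hc : a * t = t * a) (hd : ∀ V : Subgroup G, IsFour V → t ∈ V → a ∈ V → coreV V = ⊥)
    (r : ℕ) [Fact r.Prime] (hr : r ≠ 2) : ¬ SmallPrime r G := by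
  intro hsm
  have tt : t * t = 1 := by rw [← sq, ← ht, pow_orderOf_eq_one]
  have aa : a * a = 1 := by rw [← sq, ← ha, pow_orderOf_eq_one]
  have t1 : t ≠ 1 := fun e => by rw [e, orderOf_one] at ht; omega
  have a1 : a ≠ 1 := fun e => by rw [e, orderOf_one] at ha; omega
  obtain ⟨V, hV, htV, haV, -⟩ := exists_isFour tt aa hc.symm t1 a1 hat.symm
  have hn : ∀ y ∈ coreC t, a * y * a⁻¹ ∈ coreC t := fun y hy =>
    (Subgroup.mem_normalizer_iff.1 (centralizer_le_normalizer_coreC t
      (Subgroup.mem_centralizer_singleton_iff.2 hc)) y).1 hy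
  have hinv := inverts_of_fixed_bot (coreC_odd t) aa hn fun y hy hya => by
    have h1 : y ∈ coreV V := by
      rw [← hG.coreC_inf_eq hV htV t1 haV a1 hat.symm]
      exact ⟨hy, Subgroup.mem_centralizer_singleton_iff.2 hya.symm⟩
    rwa [hd V hV htV haV, Subgroup.mem_bot] at h1
  obtain ⟨e, het, heo, hmv⟩ := hsm.moves t ht
  have heC : e ∈ coreC t := hG.mem_coreC ht (Subgroup.mem_centralizer_singleton_iff.2 het)
    (heo ▸ (Fact.out : r.Prime).odd_of_ne_two hr)
  refine hmv fun y hy => Subgroup.mem_centralizer_singleton_iff.2 ?_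
  have hy' : y ∈ coreC t := Subgroup.map_subtype_le _ hy
  have h1 := hinv (y * e) (mul_mem hy' heC)
  have h2 : a * (y * e) * a⁻¹ = (a * y * a⁻¹) * (a * e * a⁻¹) := by group
  rw [h2, hinv y hy', hinv e heC, ← _root_.mul_inv_rev, inv_inj] at h1
  exact h1.symm

/-- Some trivial four-group core gives a known group. -/
theorem known_of_some_trivial (hG : Hyp G) (hNC : PropNoConf.{u})
    (hInv : ∀ (r : ℕ) [Fact r.Prime], r ≠ 2 → (∀ V H : Subgroup G, ¬ Conf r V H) →
      ∀ (S : Sylow 2 G) (t : G) (K : Subgroup G), 4 < Nat.card (S : Subgroup G) → orderOf t = 2 →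
        t ∈ (S : Subgroup G) → (∀ s ∈ (S : Subgroup G), s * t = t * s) → IsPGroup r K →
        (S : Subgroup G) ≤ Subgroup.normalizer (K : Set G) → K ≤ Subgroup.centralizer ({t} : Set G))
    (S : Sylow 2 G) (n : ℕ) (hn : 3 ≤ n) (hcard : Nat.card (S : Subgroup G) = 2 ^ n) (t a b : G)
    (htS : t ∈ (S : Subgroup G)) (haS : a ∈ (S : Subgroup G)) (hbS : b ∈ (S : Subgroup G))
    (ht : orderOf t = 2) (ha : orderOf a = 2) (hb : orderOf b = 2)
    (htZ : ∀ s ∈ (S : Subgroup G), s * t = t * s) (hat : a ≠ t) (hbt : b ≠ t)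
    (hab : ¬ ∃ s ∈ (S : Subgroup G), s * a * s⁻¹ = b)
    (hd₁ : ∀ V : Subgroup G, IsFour V → t ∈ V → a ∈ V → coreV V = ⊥) : IsKnownD G := by
  classical
  haveI : Fact (Nat.Prime 2) := ⟨Nat.prime_two⟩
  by_contra hnk
  have sq1 : ∀ x : G, orderOf x = 2 → x * x = 1 := fun x hx => by rw [← sq, ← hx, pow_orderOf_eq_one]
  have ne1 : ∀ x : G, orderOf x = 2 → x ≠ 1 := fun x hx e => by rw [e, orderOf_one] at hx; omega
  have h8 : 8 ≤ Nat.card (S : Subgroup G) := by rw [hcard]; exact Nat.pow_le_pow_right two_pos hn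
  have hL : ∀ K : Subgroup G, Odd (Nat.card K) → (S : Subgroup G) ≤ Subgroup.normalizer (K : Set G) →
      K ≤ Subgroup.centralizer ({t} : Set G) := fun K hK hKn =>
    centralized_of_prime S.2 (fun r hr hr2 K' hK' hn' => by
      haveI := Fact.mk hr
      exact hInv r hr2 (fun V H hc => not_smallPrime_of_coreV_bot hG ht ha hat (htZ a haS) hd₁ r hr2
        (hNC G hG hnk r hr2 V H hc)) S t K' (by omega) ht htS htZ hK' hn') hK hKn
  by_cases hd₂ : ∃ V : Subgroup G, IsFour V ∧ t ∈ V ∧ b ∈ V ∧ coreV V = ⊥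
  swap
  · push Not at hd₂
    exact hnk (known_of_one_trivial hG S n hn hcard t a b htS haS hbS ht ha hb htZ hat hbt hab hL hd₁ hd₂)
  obtain ⟨Vb, hVb, htVb, hbVb, hVbot⟩ := hd₂
  -- all four-group cores through `t` in `S` are trivial
  have conj : ∀ (x : G), orderOf x = 2 → x ≠ t → x ∈ (S : Subgroup G) →
      (∀ V : Subgroup G, IsFour V → t ∈ V → x ∈ V → coreV V = ⊥) →
      ∀ (W : Subgroup G) (s : G), s ∈ (S : Subgroup G) → IsFour W → t ∈ W → s * x * s⁻¹ ∈ W →
        coreV W = ⊥ := by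
    intro x hx hxt hxS hdx W s hs hW htW hw
    obtain ⟨Vx, hVx, htVx, hxVx, -⟩ := exists_isFour (sq1 t ht) (sq1 x hx) (htZ x hxS).symm (ne1 t ht)
      (ne1 x hx) hxt.symm
    rw [Subgroup.eq_bot_iff_forall]
    intro y hy
    have h1 : s⁻¹ * y * s ∈ coreV Vx := by
      rw [← hG.coreC_inf_eq hVx htVx (ne1 t ht) hxVx (ne1 x hx) hxt.symm]
      have hyO : y ∈ coreC t := by
        rw [hG.coreV_eq hW htW (ne1 t ht)] at hy
        exact hy.1
      refine ⟨(Subgroup.mem_normalizer_iff''.1 (centralizer_le_normalizer_coreC t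
        (Subgroup.mem_centralizer_singleton_iff.2 (htZ s hs))) y).1 hyO,
        Subgroup.mem_centralizer_singleton_iff.2 ?_⟩
      have h := Subgroup.mem_centralizer_iff.1 (coreV_le W hy) _ hw
      calc s⁻¹ * y * s * x = s⁻¹ * (y * (s * x * s⁻¹)) * s := by group
        _ = s⁻¹ * ((s * x * s⁻¹) * y) * s := by rw [h]
        _ = x * (s⁻¹ * y * s) := by group
    rw [hdx Vx hVx htVx hxVx, Subgroup.mem_bot] at h1
    calc y = s * (s⁻¹ * y * s) * s⁻¹ := by group
      _ = 1 := by rw [h1]; group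
  have hb' : ∀ V : Subgroup G, IsFour V → t ∈ V → b ∈ V → coreV V = ⊥ := fun V hV htV hbV => by
    rw [le_antisymm (hV.eq_of_mem htV hbV (ne1 t ht) (ne1 b hb) hbt.symm htVb hbVb)
      (hVb.eq_of_mem htVb hbVb (ne1 t ht) (ne1 b hb) hbt.symm htV hbV)]
    exact hVbot
  obtain ⟨m, hm, he⟩ := hG.dihedral S
  refine hnk (known_of_trivial_cores hG S m hm he t ht htS htZ hL fun W hW htW hWS => ?_)
  obtain ⟨w, hw, hw1, hwt⟩ : ∃ w ∈ W, w ≠ 1 ∧ w ≠ t := by
    by_contra hno
    push Not at hno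
    have hs : Function.Surjective (fun i : Bool => if i then (⟨t, htW⟩ : W) else 1) := fun x => by
      by_cases hx : (x : G) = 1
      · exact ⟨false, Subtype.ext hx.symm⟩
      · exact ⟨true, Subtype.ext (hno x x.2 hx).symm⟩
    have := Nat.card_le_card_of_surjective _ hs
    rw [hW.1, Nat.card_eq_fintype_card, Fintype.card_bool] at this
    omega
  rcases classify_reflection hG S h8 htS ht htZ haS ha hat hbS hb hbt hab (hWS hw)
    (hW.orderOf_eq hw hw1) hwt with ⟨s, hs, hsw⟩ | ⟨s, hs, hsw⟩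
  · exact conj a ha hat haS hd₁ W s hs hW htW (hsw ▸ hw)
  · exact conj b hb hbt hbS hb' W s hs hW htW (hsw ▸ hw)

end Cfsg.Agent.Lib.GorensteinWalter
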