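import Cfsg.Agent.Lib.GorensteinWalter.InterfaceF
import Cfsg.Agent.Lib.GorensteinWalter.TrivialCores
import Cfsg.Agent.Lib.Coprime.Glauberman

/-!
# Gorenstein–Walter, section B: trivial four-group cores

If no four-group centralises a nontrivial element of odd order, `O(C(t))` is abelian, there is no
configuration at any prime, and the hypotheses of `known_of_trivial_cores'` hold: an element `x ≠ 1` of
odd order centralised by `v` and inverted by `t` cannot normalise a nontrivial `Y ≤ O(C(t))`, because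
`C(x)` would contain the Sylow subgroup of `O(C(v))` and an element of `Y` for some prime, while the
`⟨t, v⟩`-invariant Sylow subgroup of `O(C(x))` is unique.
-/

set_option autoImplicit false
set_option linter.unusedSectionVars false
set_option linter.style.haveILetI false

namespace Cfsg.Agent.Lib.GorensteinWalter

open Cfsg.Agent.Lib.Fusion.Dihedral

universe u

variable {G : Type u} [Group G] [Finite G]

theorem Hyp.not_fusedIn_of_no_four {H : Subgroup G} (h : ∀ V : Subgroup G, IsFour V → ¬ V ≤ H)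
    (V : Subgroup G) : ¬ FusedIn V H := fun hV => h V hV.1 hV.2.1

/-- A four-group has an involution different from a given element. -/
theorem exists_mem_ne {V : Subgroup G} (hV : IsFour V) (v : G) : ∃ a ∈ V, a ≠ 1 ∧ a ≠ v := by
  by_contra h
  push Not at h
  have h2 : (V : Set G) ⊆ {1, v} := fun a ha => (eq_or_ne a 1).imp id (h a ha)
  have h3 := Set.ncard_le_ncard h2 (Set.toFinite _)
  rw [← Nat.card_coe_set_eq, show Nat.card ((V : Set G) : Type u) = 4 from hV.1] at h3
  have h4 := Set.ncard_insert_le (1 : G) {v}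
  rw [Set.ncard_singleton] at h4
  omega

/-- With trivial four-group cores `O(C(t))` is inverted by an involution, so abelian. -/
theorem coreC_comm_of_trivial (hG : Hyp G) (hd : ∀ V : Subgroup G, IsFour V → coreV V = ⊥) {v : G}
    (hv : orderOf v = 2) : ∀ x ∈ coreC v, ∀ y ∈ coreC v, x * y = y * x := by
  obtain ⟨V, hV, hvV⟩ := hG.exists_four hv
  have hv1 : v ≠ 1 := fun e => by rw [e, orderOf_one] at hv; omega
  obtain ⟨a, haV, ha1, hav⟩ := exists_mem_ne hV v
  have hn : ∀ y ∈ coreC v, a * y * a⁻¹ ∈ coreC v := fun y hy =>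
    (Subgroup.mem_normalizer_iff.1 (centralizer_le_normalizer_coreC v
      (Subgroup.mem_centralizer_singleton_iff.2 (hV.comm haV hvV))) y).1 hy
  have hinv := inverts_of_fixed_bot (coreC_odd v) (hV.2 a haV) hn fun y hy hc => by
    have h1 : y ∈ coreC v ⊓ Subgroup.centralizer ({a} : Set G) :=
      ⟨hy, Subgroup.mem_centralizer_singleton_iff.2 hc.symm⟩
    rw [hG.coreC_inf_eq hV hvV hv1 haV ha1 hav.symm, hd V hV, Subgroup.mem_bot] at h1
    exact h1
  intro x hx y hy
  have h := hinv _ (mul_mem hx hy)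
  rw [show a * (x * y) * a⁻¹ = a * x * a⁻¹ * (a * y * a⁻¹) by group, hinv x hx, hinv y hy,
    ← _root_.mul_inv_rev, inv_inj] at h
  exact h.symm

/-- With trivial four-group cores no prime is small. -/
theorem not_smallPrime_of_trivial (hG : Hyp G) (hd : ∀ V : Subgroup G, IsFour V → coreV V = ⊥) {r : ℕ}
    [Fact r.Prime] (hr : r ≠ 2) : ¬ SmallPrime r G := by
  intro h
  obtain ⟨S⟩ : Nonempty (Sylow 2 G) := inferInstance
  obtain ⟨m, hm, ⟨e⟩⟩ := hG.dihedral S
  have hS : (S : Subgroup G) ≠ ⊥ := fun hb => by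
    haveI : NeZero m := ⟨by omega⟩
    have := Nat.card_congr e.toEquiv
    rw [DihedralGroup.nat_card, hb, Subgroup.card_bot] at this
    omega
  obtain ⟨t, -, ht, -⟩ := exists_central_involution S.2 hS
  obtain ⟨g, hgt, hgo, hmove⟩ := h.moves t ht
  have hgO : g ∈ coreC t := hG.mem_coreC ht (Subgroup.mem_centralizer_singleton_iff.2 hgt)
    (by rw [hgo]; exact (Fact.out : r.Prime).odd_of_ne_two hr)
  refine hmove fun x hx => Subgroup.mem_centralizer_singleton_iff.2 ?_
  exact coreC_comm_of_trivial hG hd ht x (Subgroup.map_subtype_le _ hx) g hgO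

/-- The hypothesis `hL` of `known_of_trivial_cores'`. -/
theorem le_centralizer_of_trivial (hDich : PropDichotomy.{u}) (hG : Hyp G)
    (hd : ∀ V : Subgroup G, IsFour V → coreV V = ⊥)
    (hno : ∀ r : ℕ, ∀ [Fact r.Prime], r ≠ 2 → ∀ V H : Subgroup G, ¬ Conf r V H)
    {t : G} (ht : orderOf t = 2) {V : Subgroup G} (hV : IsFour V) (htV : t ∈ V) {K Y : Subgroup G}
    (hK : Odd (Nat.card K)) (hVK : V ≤ Subgroup.normalizer (K : Set G)) (hY : Y ≤ coreC t)
    (hY1 : Y ≠ ⊥) (hKY : K ≤ Subgroup.normalizer (Y : Set G)) :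
    K ≤ Subgroup.centralizer ({t} : Set G) := by
  classical
  have ht1 : t ≠ 1 := fun e => by rw [e, orderOf_one] at ht; omega
  refine le_of_four hV hK hVK fun v hv hv1 => ?_
  by_cases hvt : v = t
  · rw [hvt]; exact inf_le_right
  rintro x ⟨hxK, hxv⟩
  by_contra hxt
  have hx1 : x ≠ 1 := fun e => hxt (e ▸ one_mem _)
  have hv2 := hV.orderOf_eq hv hv1
  have hxO : x ∈ coreC v := hG.mem_coreC hv2 hxv (orderOf_odd_of_mem hK hxK)
  -- `t` inverts `x` and `v` inverts `Y`
  have hinv : ∀ {a b : G}, a ∈ V → a ≠ 1 → b ∈ V → b ≠ 1 → a ≠ b → ∀ y ∈ coreC a, b * y * b⁻¹ = y⁻¹ :=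
    fun {a b} ha ha1 hb hb1 hab => inverts_of_fixed_bot (coreC_odd a) (hV.2 b hb)
      (fun y hy => (Subgroup.mem_normalizer_iff.1 (centralizer_le_normalizer_coreC a
        (Subgroup.mem_centralizer_singleton_iff.2 (hV.comm hb ha))) y).1 hy)
      fun y hy hc => by
        have h1 : y ∈ coreC a ⊓ Subgroup.centralizer ({b} : Set G) :=
          ⟨hy, Subgroup.mem_centralizer_singleton_iff.2 hc.symm⟩
        rw [hG.coreC_inf_eq hV ha ha1 hb hb1 hab, hd V hV, Subgroup.mem_bot] at h1
        exact h1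
  have htx : t * x * t⁻¹ = x⁻¹ := hinv hv hv1 htV ht1 hvt x hxO
  obtain ⟨y₀, hy₀, hy₀1⟩ := Y.bot_or_exists_ne_one.resolve_left hY1
  -- `x` centralises `Y`
  have hxY : ∀ y ∈ Y, x * y = y * x := by
    intro y hy
    have h1 : ∀ z ∈ Y, z * t = t * z := fun z hz =>
      Subgroup.mem_centralizer_singleton_iff.1 (coreC_le t (hY hz))
    have hxy : x * y * x⁻¹ ∈ Y := (Subgroup.mem_normalizer_iff.1 (hKY hxK) y).1 hy
    have h2 : x * y * x⁻¹ = x⁻¹ * y * x := by
      calc x * y * x⁻¹ = t * (x * y * x⁻¹) * t⁻¹ := by rw [← h1 _ hxy]; group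
        _ = t * x * t⁻¹ * (t * y * t⁻¹) * (t * x * t⁻¹)⁻¹ := by group
        _ = x⁻¹ * y * x := by rw [htx, ← h1 y hy, inv_inv, mul_inv_cancel_right]
    have h3 : Commute (x ^ 2) y := by
      show x ^ 2 * y = y * x ^ 2
      rw [sq]
      calc x * x * y = x * (x * y * x⁻¹) * x := by group
        _ = y * (x * x) := by rw [h2]; group
    obtain ⟨k, hk⟩ := exists_pow_eq_self_of_coprime
      (Nat.coprime_two_left.2 (orderOf_odd_of_mem hK hxK))
    have h4 := h3.pow_left k
    rwa [hk] at h4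
  -- a prime dividing the order of `Y`
  obtain ⟨r, hr, hrd⟩ := Nat.exists_prime_and_dvd (mt orderOf_eq_one_iff.1 hy₀1)
  haveI : Fact r.Prime := ⟨hr⟩
  have hr2 : r ≠ 2 := fun e => by
    have h1 := orderOf_odd_of_mem (coreC_odd t) (hY hy₀)
    rw [e] at hrd
    exact Nat.not_even_iff_odd.2 h1 (even_iff_two_dvd.2 hrd)
  set y := y₀ ^ (orderOf y₀ / r) with hydef
  have hyY : y ∈ Y := pow_mem hy₀ _
  have hy : orderOf y = r := orderOf_pow_orderOf_div (orderOf_pos y₀).ne' hrd
  -- `O(C(x))`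
  set C := Subgroup.centralizer ({x} : Set G) with hC
  have hCfour : ∀ W : Subgroup G, IsFour W → ¬ W ≤ C := fun W hW hWC => hx1 (by
    have h1 := hG.mem_coreV hW (x := x) (Subgroup.mem_centralizer_iff.2 fun w hw =>
      Subgroup.mem_centralizer_singleton_iff.1 (hWC hw)) (orderOf_odd_of_mem hK hxK)
    rwa [hd W hW, Subgroup.mem_bot] at h1)
  set L := coreOf C with hL
  have hLodd : Odd (Nat.card L) := by
    rw [Subgroup.card_map_of_injective C.subtype_injective]; exact Cores.oddCore_odd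
  have hodd : ∀ g ∈ C, Odd (orderOf g) → g ∈ L :=
    propUnfused G hG C (Hyp.not_fusedIn_of_no_four hCfour)
  haveI : (Cfsg.oddCore C).Characteristic := by unfold Cfsg.oddCore; infer_instance
  have hVC : V ≤ Subgroup.normalizer (C : Set G) := fun a ha => by
    refine Subgroup.mem_normalizer_fintype fun z hz => Subgroup.mem_centralizer_singleton_iff.2 ?_
    have hz' : z * x = x * z := Subgroup.mem_centralizer_singleton_iff.1 hz
    -- `V` fixes or inverts `x`
    have hax : a * x * a⁻¹ = x ∨ a * x * a⁻¹ = x⁻¹ := by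
      by_cases ha1 : a = 1
      · left; rw [ha1]; group
      by_cases hav : a = v
      · left; rw [hav, ← Subgroup.mem_centralizer_singleton_iff.1 hxv]; group
      · exact Or.inr (hinv hv hv1 ha ha1 (Ne.symm hav) x hxO)
    have h2 : Commute (a * z * a⁻¹) (a * x * a⁻¹) := by
      show a * z * a⁻¹ * (a * x * a⁻¹) = a * x * a⁻¹ * (a * z * a⁻¹)
      calc a * z * a⁻¹ * (a * x * a⁻¹) = a * (z * x) * a⁻¹ := by group
        _ = a * x * a⁻¹ * (a * z * a⁻¹) := by rw [hz']; group
    rcases hax with h | h <;> rw [h] at h2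
    · exact h2.eq
    · simpa using h2.inv_right.eq
  have hVL : V ≤ Subgroup.normalizer (L : Set G) :=
    hVC.trans (CharP.normalizer_le_normalizer_map_char (Cfsg.oddCore C))
  have hcop : (Nat.card V).Coprime (Nat.card L) := by
    rw [hV.1]; exact (Nat.coprime_two_left.2 hLodd).pow_left 2
  have hCL : ∀ c ∈ L ⊓ Subgroup.centralizer (V : Set G), c = 1 := fun c hc => by
    have h1 := hG.mem_coreV hV hc.2 (orderOf_odd_of_mem hLodd hc.1)
    rwa [hd V hV, Subgroup.mem_bot] at h1
  -- the Sylow subgroup of `O(C(v))`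
  have hcomm := coreC_comm_of_trivial hG hd hv2
  have hOvL : coreC v ≤ L := fun g hg => hodd g
    (Subgroup.mem_centralizer_singleton_iff.2 (hcomm g hg x hxO)) (orderOf_odd_of_mem (coreC_odd v) hg)
  obtain ⟨Rv⟩ : Nonempty (Sylow r ↥(coreC v)) := inferInstance
  set R := (Rv : Subgroup ↥(coreC v)).map (coreC v).subtype with hR
  have hRO : R ≤ coreC v := Subgroup.map_subtype_le _
  have hRcard : Nat.card R = r ^ (Nat.card (coreC v)).factorization r := by
    rw [hR, Subgroup.card_map_of_injective (coreC v).subtype_injective]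
    exact Rv.card_eq_multiplicity
  have hyv : y ∈ L := hodd y (Subgroup.mem_centralizer_singleton_iff.2 (hxY y hyY).symm)
    (by rw [hy]; exact hr.odd_of_ne_two hr2)
  -- `r` divides `|O(C(v))|`
  have hrO : r ∣ Nat.card (coreC v) := by
    obtain ⟨g, hg⟩ := isConj_iff.1 (hG.isConj ht hv2)
    have h1 := hG.coreC_conj ht g (hY hyY)
    rw [hg] at h1
    refine (dvd_of_eq ?_).trans (Subgroup.orderOf_dvd_natCard _ h1)
    rw [← MulAut.conj_apply, MulEquiv.orderOf_eq (MulAut.conj g) y, hy]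
  have hRG : Nat.card R = r ^ (Nat.card G).factorization r := by
    refine (hDich G hG r hr2 (hno r hr2) v R hv2 (Rv.2.map _) hRO hRcard).resolve_left ?_
    rintro ⟨W, hW, -, hRW⟩
    have h1 : R ≤ coreV W := hG.le_coreV hW hRW ((coreC_odd v).of_dvd_nat (Subgroup.card_dvd_of_le hRO))
    rw [hd W hW, le_bot_iff] at h1
    rw [h1, Subgroup.card_bot] at hRcard
    have := hr.factorization_pos_of_dvd Nat.card_pos.ne' hrO
    exact absurd hRcard.symm (Nat.one_lt_pow this.ne' hr.one_lt).ne'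
  -- the invariant Sylow subgroup of `L` containing `y` is `R`
  have hVy : V ≤ Subgroup.normalizer (Subgroup.zpowers y : Set G) := fun a ha => by
    refine Subgroup.mem_normalizer_fintype fun z hz => ?_
    obtain ⟨i, rfl⟩ := hz
    have hay : a * y * a⁻¹ = y ∨ a * y * a⁻¹ = y⁻¹ := by
      by_cases ha1 : a = 1
      · left; rw [ha1]; group
      by_cases hat : a = t
      · left; rw [hat, ← Subgroup.mem_centralizer_singleton_iff.1 (coreC_le t (hY hyY))]; group
      · exact Or.inr (hinv htV ht1 ha ha1 (Ne.symm hat) y (hY hyY))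
    rw [← conj_zpow]
    rcases hay with h | h <;> rw [h]
    · exact zpow_mem (Subgroup.mem_zpowers y) i
    · exact zpow_mem (inv_mem (Subgroup.mem_zpowers y)) i
  have hVR : V ≤ Subgroup.normalizer (R : Set G) := fun a ha => by
    refine Subgroup.mem_normalizer_fintype fun z hz => ?_
    by_cases ha1 : a = 1
    · simpa [ha1] using hz
    by_cases hav : a = v
    · rw [hav, ← Subgroup.mem_centralizer_singleton_iff.1 (coreC_le v (hRO hz)), mul_inv_cancel_right]
      exact hz
    · rw [hinv hv hv1 ha ha1 (Ne.symm hav) z (hRO hz)]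
      exact inv_mem hz
  have hsolv : Group.IsSolvable V ∨ Group.IsSolvable L := Or.inl (Coprime.isSolvable_of_isPGroup hV.isPGroup)
  obtain ⟨P, hyP, hVP⟩ := Coprime.exists_invariant_sylow_ge hVL hcop hsolv r (Subgroup.zpowers y)
    (Subgroup.zpowers_le.2 hyv) (IsPGroup.of_card (n := 1) (by rw [Nat.card_zpowers, hy, pow_one])) hVy
  obtain ⟨Q, hQ, hVQ⟩ := Coprime.exists_invariant_sylow_ge hVL hcop hsolv r R
    (hRO.trans hOvL) (Rv.2.map _) hVR
  have hQR : R = (Q : Subgroup L).map L.subtype := by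
    refine Subgroup.eq_of_le_of_card_ge hQ ?_
    rw [hRG, Subgroup.card_map_of_injective L.subtype_injective, Q.card_eq_multiplicity]
    exact Nat.pow_le_pow_right hr.pos
      ((Nat.factorization_le_iff_dvd Nat.card_pos.ne' Nat.card_pos.ne').2 L.card_subgroup_dvd_card r)
  obtain ⟨c, hc, hPQ⟩ := Coprime.exists_conj_invariant_sylow hVL hcop hsolv P Q hVP hVQ
  rw [hCL c hc, map_one, one_smul] at hPQ
  have hyR : y ∈ R := by
    rw [hQR, ← hPQ]; exact hyP (Subgroup.mem_zpowers y)
  -- `v` both centralises and inverts `y`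
  have h1 := hinv htV ht1 hv hv1 (Ne.symm hvt) y (hY hyY)
  rw [← Subgroup.mem_centralizer_singleton_iff.1 (coreC_le v (hRO hyR)), mul_inv_cancel_right] at h1
  have h2 : y ^ 2 = 1 := by rw [sq]; exact mul_eq_one_iff_eq_inv.2 h1
  have h3 : r ∣ 2 := hy ▸ orderOf_dvd_of_pow_eq_one h2
  exact hr2 ((Nat.prime_dvd_prime_iff_eq hr Nat.prime_two).1 h3)

/-- `PropTrivialFour` from sections F and L. -/
theorem propTrivialFour (hNo : PropNoConf.{u}) (hDich : PropDichotomy.{u}) : PropTrivialFour.{u} := by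
  intro G _ _ hG hd
  by_contra hk
  have hno : ∀ r : ℕ, ∀ [Fact r.Prime], r ≠ 2 → ∀ V H : Subgroup G, ¬ Conf r V H :=
    fun r _ hr V H hconf => not_smallPrime_of_trivial hG hd hr (hNo G hG hk r hr V H hconf)
  obtain ⟨S⟩ : Nonempty (Sylow 2 G) := inferInstance
  obtain ⟨m, hm, ⟨e⟩⟩ := hG.dihedral S
  have hS : (S : Subgroup G) ≠ ⊥ := fun hb => by
    haveI : NeZero m := ⟨by omega⟩
    have := Nat.card_congr e.toEquiv
    rw [DihedralGroup.nat_card, hb, Subgroup.card_bot] at this
    omega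
  obtain ⟨t, htS, ht, htZ⟩ := exists_central_involution S.2 hS
  obtain ⟨V, hVS, hV, -, -⟩ := (Coords.ofEquiv e).exists_four_of_le hm 0
  have htV : t ∈ V := hG.cd.mem_four_of_central hV hVS (by rw [← sq, ← ht, pow_orderOf_eq_one]) htZ
  refine hk (known_of_trivial_cores' hG S m hm ⟨e⟩ t ht htS htZ ?_ fun W hW _ _ => hd W hW)
  intro K hK hSK Y hY hY1 hKY
  exact le_centralizer_of_trivial hDich hG hd hno ht hV htV hK (hVS.trans hSK) hY hY1 hKY

end Cfsg.Agent.Lib.GorensteinWalter
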