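import Cfsg.Agent.Lib.GorensteinWalter.InterfaceG
import Cfsg.Agent.Lib.GorensteinWalter.SomeTrivial
import Cfsg.Agent.Lib.GorensteinWalter.TrivialFour

/-!
# The Gorenstein–Walter theorem: assembly of sections F, L, B, C
-/

set_option autoImplicit false
set_option linter.unusedSectionVars false
set_option linter.style.haveILetI false

namespace Cfsg.Agent.Lib.GorensteinWalter

open Cfsg.Agent.Lib.Fusion.Dihedral DihedralGroup

universe u

variable {G : Type u} [Group G] [Finite G]

/-- The standard pair of reflections of a Sylow 2-subgroup of order at least eight. -/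
theorem exists_standard (hG : Hyp G) (S : Sylow 2 G) (h8 : 8 ≤ Nat.card (S : Subgroup G)) :
    ∃ (n : ℕ) (t a b : G), 3 ≤ n ∧ Nat.card (S : Subgroup G) = 2 ^ n ∧ Refl S t a b ∧
      Refl S t b a ∧ Subgroup.closure ({a, b} : Set G) = (S : Subgroup G) ∧
      ¬ ∃ s ∈ (S : Subgroup G), s * a * s⁻¹ = b := by
  haveI : Fact (Nat.Prime 2) := ⟨Nat.prime_two⟩
  haveI : Fact (1 < 2) := ⟨one_lt_two⟩
  obtain ⟨m, hm, ⟨e⟩⟩ := hG.dihedral S
  set D := Coords.ofEquiv e
  have hm4 : 4 ≤ m := by have := D.card; omega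
  haveI : NeZero m := ⟨by omega⟩
  obtain ⟨k, hk⟩ := D.exists_pow hm
  have h2 : 2 ∣ m := hk ▸ dvd_pow_self 2 k.succ_ne_zero
  obtain ⟨t, htS, hto, htc⟩ := exists_central_involution S.2 fun h => by
    rw [h, Subgroup.card_bot] at h8
    omega
  have h2ne : (2 : ZMod m) ≠ 0 := by
    intro h
    have h' : ((2 : ℕ) : ZMod m) = 0 := by exact_mod_cast h
    rw [ZMod.natCast_eq_zero_iff] at h'
    exact absurd (Nat.le_of_dvd two_pos h') (by omega)
  have hne : ∀ l : ZMod m, D.φ (sr l) ≠ t := by
    intro l e'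
    have h := htc _ (D.mem (r 1))
    rw [← e', ← map_mul, ← map_mul, r_mul_sr, sr_mul_r] at h
    have h' := sr.inj (D.inj h)
    exact h2ne (by linear_combination -h')
  have ho : ∀ l : ZMod m, orderOf (D.φ (sr l)) = 2 := fun l => by
    rw [orderOf_injective D.φ D.inj, orderOf_sr]
  set a := D.φ (sr 0)
  set b := D.φ (sr 1)
  have hcl : Subgroup.closure ({a, b} : Set G) = (S : Subgroup G) := by
    refine le_antisymm ((Subgroup.closure_le _).2 ?_) fun x hx => ?_
    · rintro x (rfl | rfl) <;> exact D.mem _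
    have ha : a ∈ Subgroup.closure ({a, b} : Set G) := Subgroup.subset_closure (Or.inl rfl)
    have hb : b ∈ Subgroup.closure ({a, b} : Set G) := Subgroup.subset_closure (Or.inr rfl)
    have hr : ∀ i : ZMod m, D.φ (r i) ∈ Subgroup.closure ({a, b} : Set G) := by
      intro i
      have h1 : D.φ (r 1) = a * b := by rw [← map_mul, sr_mul_sr, sub_zero]
      have h3 : D.φ (r i) = D.φ (r 1) ^ i.val := by
        rw [← map_pow, r_one_pow, ZMod.natCast_zmod_val]
      rw [h3, h1]
      exact pow_mem (mul_mem ha hb) _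
    rcases D.cases hx with ⟨i, rfl⟩ | ⟨i, rfl⟩
    · exact hr i
    · rw [show (sr i : DihedralGroup m) = sr 0 * r i by simp, map_mul]
      exact mul_mem ha (hr i)
  have hnc : fourOf t a ≠ fourOf t b := by
    intro h
    have hle : fourOf t a ≤ Subgroup.centralizer ({a} : Set G) := by
      refine (Subgroup.closure_le _).2 ?_
      rintro x (rfl | rfl)
      · exact Subgroup.mem_centralizer_singleton_iff.2 (htc a (D.mem _)).symm
      · exact Subgroup.mem_centralizer_singleton_iff.2 rfl
    have hb : b ∈ fourOf t a := h ▸ Subgroup.subset_closure (Or.inr rfl)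
    have h1 := Subgroup.mem_centralizer_singleton_iff.1 (hle hb)
    rw [← map_mul, ← map_mul, sr_mul_sr, sr_mul_sr] at h1
    have h' := r.inj (D.inj h1)
    exact h2ne (by linear_combination -h')
  refine ⟨k + 2, t, a, b, ?_, ?_,
    ⟨htS, D.mem _, D.mem _, hto, ho _, ho _, htc, hne _, hne _, hnc, hcl ▸ htS⟩,
    ⟨htS, D.mem _, D.mem _, hto, ho _, ho _, htc, hne _, hne _, hnc.symm, ?_⟩, hcl, ?_⟩
  · by_contra hlt
    obtain rfl : k = 0 := by omega
    omega
  · rw [D.card, hk, pow_succ, pow_succ, pow_succ]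
    ring
  · rw [Set.pair_comm, hcl]
    exact htS
  · rintro ⟨s, hs, hsab⟩
    have := D.par_conj h2 hs hsab
    rw [map_zero, map_one] at this
    exact one_ne_zero this

/-- `PropMain` from the sections F, L, B and C. -/
theorem propMain_of_sections (hNC : PropNoConf.{u}) (hInv : PropInvariant.{u})
    (hDich : PropDichotomy.{u}) (hFour : PropFourSylow.{u}) (hRot : PropRotation.{u})
    (hCmp : PropComparable.{u}) (hEq : PropEqual.{u}) (hUne : PropUnequal.{u}) : PropMain.{u} := by
  intro G _ _ hG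
  haveI : Fact (Nat.Prime 2) := ⟨Nat.prime_two⟩
  by_contra hnk
  obtain ⟨S⟩ : Nonempty (Sylow 2 G) := inferInstance
  obtain ⟨m, hm, ⟨e⟩⟩ := hG.dihedral S
  have hcard : Nat.card (S : Subgroup G) = 2 * m := by
    rw [Nat.card_congr e.toEquiv, DihedralGroup.nat_card]
  rcases Nat.lt_or_ge (Nat.card (S : Subgroup G)) 8 with h4 | h8
  · obtain ⟨k, hk⟩ := (Coords.ofEquiv e).exists_pow hm
    have hk0 : k = 0 := by
      by_contra hne
      have : 2 ^ 2 ≤ 2 ^ (k + 1) := Nat.pow_le_pow_right two_pos (by omega)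
      omega
    subst hk0
    refine hnk (propTrivialFour hNC hDich G hG (hFour G hG hnk fun T => ?_))
    rw [Nat.card_congr (Sylow.equiv T S).toEquiv]
    omega
  obtain ⟨n, t, a, b, hn, hc, hab, hba, hcl, hnconj⟩ := exists_standard hG S h8
  have hcl' : Subgroup.closure ({b, a} : Set G) = (S : Subgroup G) := by rw [Set.pair_comm, hcl]
  have hact : ∀ o ∈ coreC t, a * b * a * b * o = o * (a * b * a * b) := by
    intro o ho
    have h := Subgroup.mem_centralizer_singleton_iff.1
      (hRot G hG hnk S t h8 hab.t_mem hab.t_two hab.central (a * b) (mul_mem hab.u_mem hab.v_mem) ho)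
    rw [show a * b * a * b = a * b * (a * b) by group]
    exact h.symm
  have key : ∀ x y : G, Refl S t x y → Subgroup.closure ({x, y} : Set G) = (S : Subgroup G) →
      (¬ ∃ s ∈ (S : Subgroup G), s * x * s⁻¹ = y) →
      coreFix t x ≤ Subgroup.centralizer ({y} : Set G) → False := by
    intro x y hxy hcl hnconj hle
    have hle' : coreFix t x ≤ coreFix t y := le_inf inf_le_left hle
    rcases hle'.lt_or_eq with hlt | heq
    · exact hnk (hUne G hG S t y x ⟨hxy.t_mem, hxy.v_mem, hxy.u_mem, hxy.t_two, hxy.v_two, hxy.u_two,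
        hxy.central, hxy.v_ne, hxy.u_ne, hxy.noncomm.symm, by rw [Set.pair_comm]; exact hxy.t_gen⟩
        (by rw [Set.pair_comm, hcl]) h8 hlt)
    by_cases hbot : coreFix t x = ⊥
    · refine hnk (known_of_some_trivial hG hNC (fun r _ hr hC => hInv G hG r hr hC) S n hn hc t x y
        hxy.t_mem hxy.u_mem hxy.v_mem hxy.t_two hxy.u_two hxy.v_two hxy.central hxy.u_ne hxy.v_ne
        hnconj fun V hV htV hxV => ?_)
      have ht1 : t ≠ 1 := fun h => by
        have := hxy.t_two
        rw [h, orderOf_one] at this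
        omega
      have hx1 : x ≠ 1 := fun h => by
        have := hxy.u_two
        rw [h, orderOf_one] at this
        omega
      rw [← hG.coreC_inf_eq hV htV ht1 hxV hx1 hxy.u_ne.symm]
      exact hbot
    · exact hnk (hEq G hG S t x y hxy hcl h8 heq hbot)
  rcases hCmp G hG hnk S t a b hab hact with h | h
  · exact key a b hab hcl hnconj h
  · refine key b a hba hcl' ?_ h
    rintro ⟨s, hs, rfl⟩
    exact hnconj ⟨s⁻¹, inv_mem hs, by group⟩

end Cfsg.Agent.Lib.GorensteinWalter
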