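import Cfsg.Agent.Lib.DihedralBlock.Order
import Cfsg.Agent.Lib.BrauerMap.SecondMain
import Cfsg.Agent.Lib.BrauerMap.PrincipalSection
import Cfsg.Agent.Lib.BrauerPairs.Local
import Cfsg.Agent.Lib.Brauer.Elementary

/-!
# The block over an invariant linear character of `O(C(t))`

`K = kern σ N` is `O(C(t))`, centralised by the rotation `σ`, and `φ` is a linear character of `K`
invariant under `C(t) = K P`.  With `e = |K|⁻¹ ∑ φ(k)⁻¹ k`, every pair at `⟨t⟩` of the block `ψ`
below which `φ` lies has value one at `e`: the involutions of `P` are fused in the four-groups by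
elements fixing `φ`.  Hence `χ (y k) = φ(k) d(y)` on `ψ` for rotations `y`, and `d = 0` off `ψ`.
-/

set_option autoImplicit false
set_option linter.style.haveILetI false
set_option linter.unusedSectionVars false

namespace Cfsg.Agent.Lib.GorensteinWalter.CoinvariantPairs

open MonoidAlgebra Cfsg.Agent.Lib.BrauerMap.Basic
open Cfsg.Agent.Lib.Blocks
open Cfsg.Agent.Lib.BrauerPairs.Center (Blk ZAlg bidem bidem_mem bidem_isIdem)
open Cfsg.Agent.Lib.BrauerPairs.Trunc Cfsg.Agent.Lib.BrauerPairs.Pairs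
open Cfsg.Agent.Lib.BrauerPairs.Transport
open Cfsg.Agent.Lib.BrauerPairs.Maximal
open Cfsg.Agent.Lib.BrauerPairs.Bridge (Res charP_res blkOf toSet mem_toSet isPBlock_toSet
  blk_toSet blkOf_classSumC exists_blkOf_eq)
open Cfsg.Agent.Lib.BrauerMap.SecondMain (red coeff_red mem_centralizer_zpowers_iff)
open Cfsg.Agent.Lib.Characters.Basic
open Cfsg.Agent.Lib.DihedralBlock.Sections Cfsg.Agent.Lib.DihedralBlock.Order
open scoped ComplexConjugate

universe u

attribute [local instance] Ideal.Quotient.field Classical.propDecidable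

section General

variable {X : Type u} [Group X] [Finite X] {M : Ideal Cfsg.AlgInt} [M.IsMaximal]

/-- Convolution squares of a function multiplicative on a subgroup and zero outside. -/
theorem conv_eq [Fintype X] {R : Type*} [CommRing R] (K : Subgroup X) (c : R) (f : X → R)
    (hf : ∀ g, g ∉ K → f g = 0) (hm : ∀ x ∈ K, ∀ y ∈ K, f x * f y = c * f (x * y)) (g : X) :
    ∑ a, f a * f (a⁻¹ * g) = (Nat.card K : R) * (c * f g) := by
  have h1 : ∀ a : X, f a * f (a⁻¹ * g) = if a ∈ K then c * f g else 0 := by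
    intro a
    split_ifs with ha
    · by_cases hg : g ∈ K
      · rw [hm a ha _ (mul_mem (inv_mem ha) hg), mul_inv_cancel_left]
      · rw [hf g hg, mul_zero, hf (a⁻¹ * g) fun h => hg (by simpa using mul_mem ha h), mul_zero]
    · rw [hf a ha, zero_mul]
  simp only [h1, ← Finset.sum_filter, Finset.sum_const, nsmul_eq_mul]
  congr 2
  rw [Nat.card_eq_fintype_card, Fintype.card_subtype]

/-- The value of the homomorphism of a character on a lifted central element. -/
theorem blkOf_apply (ξ : Cfsg.IrrCharacter X) (z : ZAlg (Res M) X) (f : X → localRing M)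
    (hf : ∀ u g : X, f (u * g * u⁻¹) = f g)
    (hz : ∀ g, (z : MonoidAlgebra (Res M) X).coeff g = residue M (f g)) :
    blkOf M ξ z = residue M (omegaR M ξ (ofClassFun f hf)) := by
  have e : z = mapCenter (residue M) (ofClassFun f hf) := by
    refine Subtype.ext ?_
    ext g
    rw [coeff_mapCenter, coeff_ofClassFun, hz]
  rw [e, blkOf, omegaBar_mapCenter]

theorem coe_omegaR_ofClassFun [Fintype X] (ξ : Cfsg.IrrCharacter X) (f : X → localRing M)
    (hf : ∀ u g : X, f (u * g * u⁻¹) = f g) :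
    (omegaR M ξ (ofClassFun f hf) : ℂ) = (∑ g, (f g : ℂ) * (ξ : X → ℂ) g) / (ξ : X → ℂ) 1 := by
  rw [coe_omegaR, omega_apply, lin_apply]
  congr 1

/-- A natural number that is odd is one in characteristic two. -/
theorem natCast_odd [CharP (Res M) 2] {n : ℕ} (hn : Odd n) : (n : Res M) = 1 := by
  obtain ⟨i, rfl⟩ := hn
  push_cast
  rw [CharTwo.two_eq_zero, zero_mul, zero_add]

/-- An element whose truncation is idempotent and has value zero. -/
theorem val_one_sub {Q : Subgroup X} (ω : Blk (Res M) (Subgroup.centralizer (Q : Set X)))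
    {a : MonoidAlgebra (Res M) X} (ha : IsFixedBy (Subgroup.centralizer (Q : Set X)) a) :
    val Q ω (1 - a) = 1 - val Q ω a := by
  have h1 : IsFixedBy (Subgroup.centralizer (Q : Set X)) (1 - a) := fun u hu g => by
    rw [coeff_sub, Finsupp.sub_apply, Finsupp.sub_apply, ha u hu g,
      isFixedBy_one (Subgroup.centralizer (Q : Set X)) u hu g]
  rw [eq_sub_iff_add_eq, val_eq ω h1, val_eq ω ha, ← map_add]
  refine Eq.trans (congrArg ω (Subtype.ext ?_)) (map_one ω)
  show br Q (1 - a) + br Q a = 1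
  rw [← br_add, sub_add_cancel, br_one]

theorem val_congr {Q : Subgroup X} (ω : Blk (Res M) (Subgroup.centralizer (Q : Set X)))
    {a b : MonoidAlgebra (Res M) X} (ha : IsFixedBy (Subgroup.centralizer (Q : Set X)) a)
    (hb : IsFixedBy (Subgroup.centralizer (Q : Set X)) b)
    (h : ∀ g ∈ Subgroup.centralizer (Q : Set X), a.coeff g = b.coeff g) :
    val Q ω a = val Q ω b := by
  rw [val_eq ω ha, val_eq ω hb]
  refine congrArg ω (Subtype.ext ?_)
  ext g
  rw [coeff_br, coeff_br, h g g.2]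

end General

variable {G : Type u} [Group G]

/-- The setting. -/
structure Ctx [Finite G] (P : Sylow 2 G) (N : ℕ) (σ : G) (φ : ↥(kern σ N) →* ℂˣ) : Prop where
  rot : Rot P N σ
  cent : ∀ k ∈ kern σ N, Commute σ k
  hone : ∀ i : G, orderOf i = 2 → IsConj (σ ^ (N / 2)) i
  fused : ∀ p ∈ (P : Subgroup G), p ∉ Subgroup.zpowers σ →
    ∃ x : G, x ∈ Subgroup.normalizer ((Subgroup.closure {σ ^ (N / 2), p} : Subgroup G) : Set G) ∧
      x * p * x⁻¹ = σ ^ (N / 2)
  invariant : ∀ c ∈ Subgroup.centralizer ({σ ^ (N / 2)} : Set G), ∀ x y : ↥(kern σ N),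
    (y : G) = c * x * c⁻¹ → φ y = φ x

variable {N : ℕ} {σ : G} (φ : ↥(kern σ N) →* ℂˣ)

/-- `φ` extended by zero. -/
noncomputable def fx (g : G) : ℂ := if h : g ∈ kern σ N then (φ ⟨g, h⟩ : ℂ) else 0

theorem fx_of_mem {g : G} (h : g ∈ kern σ N) : fx φ g = φ ⟨g, h⟩ := dif_pos h

theorem fx_of_notMem {g : G} (h : g ∉ kern σ N) : fx φ g = 0 := dif_neg h

theorem fx_mul {x y : G} (hx : x ∈ kern σ N) (hy : y ∈ kern σ N) :
    fx φ (x * y) = fx φ x * fx φ y := by
  rw [fx_of_mem φ (mul_mem hx hy), fx_of_mem φ hx, fx_of_mem φ hy, ← Units.val_mul, ← map_mul]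
  rfl

theorem fx_one : fx φ 1 = 1 := by
  rw [fx_of_mem φ (one_mem _), show (⟨1, one_mem _⟩ : ↥(kern σ N)) = 1 from rfl, map_one]
  rfl

theorem fx_inv_mul {x : G} (hx : x ∈ kern σ N) : fx φ x⁻¹ * fx φ x = 1 := by
  rw [← fx_mul φ (inv_mem hx) hx, inv_mul_cancel, fx_one]

variable [Finite G]

theorem fx_integral (g : G) : IsIntegral ℤ (fx φ g) := by
  by_cases h : g ∈ kern σ N
  · rw [fx_of_mem φ h]
    refine IsIntegral.of_pow (n := Nat.card (kern σ N)) Nat.card_pos ?_
    rw [← Units.val_pow_eq_pow_val, ← map_pow, pow_card_eq_one', map_one, Units.val_one]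
    exact isIntegral_one
  · rw [fx_of_notMem φ h]
    exact isIntegral_zero

theorem card_kern_not_dvd : ¬ 2 ∣ Nat.card (kern σ N) :=
  Nat.two_dvd_ne_zero.2 (Nat.odd_iff.1 card_kern_odd)

variable (M : Ideal Cfsg.AlgInt) [M.IsMaximal] (hM : Cfsg.IsPModular 2 M)

/-- The coefficients of `e`. -/
noncomputable def ec (g : G) : localRing M :=
  ⟨(Nat.card (kern σ N) : ℂ)⁻¹ * fx φ g⁻¹,
    mul_mem (natCast_inv_mem_localRing hM card_kern_not_dvd)
      (mem_localRing_of_isIntegral (fx_integral φ g⁻¹))⟩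

theorem coe_ec (g : G) :
    (ec φ M hM g : ℂ) = (Nat.card (kern σ N) : ℂ)⁻¹ * fx φ g⁻¹ := rfl

theorem ec_of_notMem {g : G} (h : g ∉ kern σ N) : ec φ M hM g = 0 :=
  Subtype.ext (by rw [coe_ec, fx_of_notMem φ (mt (inv_mem_iff (H := kern σ N)).1 h), mul_zero]; rfl)

/-- The idempotent of `φ`. -/
noncomputable def eK : MonoidAlgebra (localRing M) G :=
  ofCoeff (Finsupp.equivFunOnFinite.symm (ec φ M hM))

theorem coeff_eK (g : G) : (eK φ M hM).coeff g = ec φ M hM g := rfl

theorem eK_mul_self : eK φ M hM * eK φ M hM = eK φ M hM := by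
  haveI := Fintype.ofFinite G
  ext g
  simp only [coeff_mul_sum, coeff_eK]
  push_cast
  rw [conv_eq (kern σ N) (Nat.card (kern σ N) : ℂ)⁻¹ (fun a => (ec φ M hM a : ℂ))]
  · rw [← mul_assoc, mul_inv_cancel₀ (Nat.cast_ne_zero.2 Nat.card_pos.ne'), one_mul]
  · intro a ha
    rw [ec_of_notMem φ M hM ha]
    rfl
  · intro x hx y hy
    rw [coe_ec, coe_ec, coe_ec, mul_inv_rev, fx_mul φ (inv_mem hy) (inv_mem hx)]
    ring

/-- `C(⟨t⟩)`. -/
abbrev hz (σ : G) (N : ℕ) : Subgroup G :=
  Subgroup.centralizer ((Subgroup.zpowers (σ ^ (N / 2)) : Subgroup G) : Set G)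

theorem hz_eq : hz σ N = Subgroup.centralizer ({σ ^ (N / 2)} : Set G) := by
  ext g
  rw [mem_centralizer_zpowers_iff, Subgroup.mem_centralizer_singleton_iff]
  rfl

variable {P : Sylow 2 G} {φ} (hX : Ctx P N σ φ)

include hX

theorem fx_conj {c : G} (hc : c ∈ hz σ N) (g : G) : fx φ (c * g * c⁻¹) = fx φ g := by
  rw [hz_eq] at hc
  by_cases hg : g ∈ kern σ N
  · rw [fx_of_mem φ hg, fx_of_mem φ (kern_conj hc hg)]
    exact congrArg Units.val (hX.invariant c hc ⟨g, hg⟩ ⟨_, kern_conj hc hg⟩ rfl)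
  · rw [fx_of_notMem φ hg, fx_of_notMem φ fun h => hg (by
      simpa [mul_assoc] using kern_conj' hc h)]

theorem ec_conj {c : G} (hc : c ∈ hz σ N) (g : G) : ec φ M hM (c * g * c⁻¹) = ec φ M hM g :=
  Subtype.ext (by rw [coe_ec, coe_ec, show (c * g * c⁻¹)⁻¹ = c * g⁻¹ * c⁻¹ by group, fx_conj hX hc])

theorem commute_eK {u : G} (hu : u ∈ hz σ N) : Commute (single u 1) (eK φ M hM) := by
  ext g
  simp only [coeff_single_mul_apply, coeff_mul_single_apply, one_mul, mul_one, coeff_eK]
  rw [← ec_conj M hM hX hu (u⁻¹ * g)]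
  group

theorem isFixedBy_red {Q : Subgroup G} (hQ : Q ≤ hz σ N) :
    IsFixedBy Q (red M (eK φ M hM)) := fun u hu g => by
  rw [coeff_red, coeff_red, coeff_eK, coeff_eK, ec_conj M hM hX (hQ hu)]

theorem isIdem_red : IsIdempotentElem (red M (eK φ M hM)) := by
  rw [red, IsIdempotentElem, ← map_mul, eK_mul_self]

theorem zt_pgroup : IsPGroup 2 (Subgroup.zpowers (σ ^ (N / 2))) :=
  IsPGroup.of_card (n := 1) (by rw [Nat.card_zpowers, hX.rot.orderOf_half, pow_one])

theorem P_le_hz : (P : Subgroup G) ≤ hz σ N := hz_eq (σ := σ) (N := N) ▸ hX.rot.le_centralizer_half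

/-- The part in `P`. -/
noncomputable def rep (h : hz σ N) : G :=
  (exists_coset hX.rot (x := (h : G)) (hz_eq (σ := σ) (N := N) ▸ h.2)).choose

theorem rep_spec (h : hz σ N) : rep hX h ∈ (P : Subgroup G) ∧ (h : G) * (rep hX h)⁻¹ ∈ kern σ N :=
  (exists_coset hX.rot (x := (h : G)) (hz_eq (σ := σ) (N := N) ▸ h.2)).choose_spec

theorem rep_unique {h : hz σ N} {p : G} (hp : p ∈ (P : Subgroup G))
    (hk : (h : G) * p⁻¹ ∈ kern σ N) : rep hX h = p := by
  obtain ⟨h1, h2⟩ := rep_spec hX h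
  exact coset_unique hX.rot h1 hp (by simpa [mul_assoc] using mul_mem (inv_mem h2) hk)

/-- The extension of `φ` to `C(t)`, trivial on `P`. -/
noncomputable def Phi : hz σ N →* ℂˣ where
  toFun h := φ ⟨(h : G) * (rep hX h)⁻¹, (rep_spec hX h).2⟩
  map_one' := by
    rw [← map_one φ]
    congr 1
    refine Subtype.ext ?_
    show (1 : G) * (rep hX 1)⁻¹ = 1
    rw [rep_unique hX (one_mem _) (by simp), inv_one, one_mul]
  map_mul' a b := by
    obtain ⟨ha, hka⟩ := rep_spec hX a
    obtain ⟨hb, hkb⟩ := rep_spec hX b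
    have hp : rep hX a ∈ Subgroup.centralizer ({σ ^ (N / 2)} : Set G) :=
      hX.rot.le_centralizer_half ha
    have hab : rep hX (a * b) = rep hX a * rep hX b :=
      rep_unique hX (mul_mem ha hb) (coset_mul hp hka hkb)
    rw [← hX.invariant _ hp ⟨_, hkb⟩ ⟨_, kern_conj hp hkb⟩ rfl, ← map_mul]
    congr 1
    refine Subtype.ext ?_
    show (a : G) * b * (rep hX (a * b))⁻¹ =
      (a : G) * (rep hX a)⁻¹ * (rep hX a * ((b : G) * (rep hX b)⁻¹) * (rep hX a)⁻¹)
    rw [hab]
    group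

theorem Phi_kern {h : hz σ N} (hk : (h : G) ∈ kern σ N) : (Phi hX h : ℂ) = fx φ h := by
  rw [fx_of_mem φ hk]
  refine congrArg (fun z => (φ z : ℂ)) (Subtype.ext ?_)
  show (h : G) * (rep hX h)⁻¹ = h
  rw [rep_unique hX (one_mem _) (by simpa using hk), inv_one, mul_one]

/-- The restriction of `Φ` to the centralizer of a subgroup containing `t`, as a character. -/
noncomputable def linChar (Q : Subgroup G) (hQ : σ ^ (N / 2) ∈ Q) :
    Cfsg.IrrCharacter (Subgroup.centralizer (Q : Set G)) :=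
  ⟨fun g => (Phi hX (Subgroup.inclusion
      (Subgroup.centralizer_le (Subgroup.zpowers_le.2 hQ)) g) : ℂ),
    isIrrCharacter_of_degree_one
      (Cfsg.Agent.Lib.Brauer.Elementary.isCharacter_hom
        (((Units.coeHom ℂ).comp (Phi hX)).comp (Subgroup.inclusion _)))
      (by simp only [map_one, Units.val_one])⟩

theorem linChar_apply (Q : Subgroup G) (hQ : σ ^ (N / 2) ∈ Q)
    (g : Subgroup.centralizer (Q : Set G)) : (linChar hX Q hQ : _ → ℂ) g =
      (Phi hX ⟨(g : G), Subgroup.centralizer_le (Subgroup.zpowers_le.2 hQ) g.2⟩ : ℂ) := rfl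

/-- The block of `Φ` has value one at `e`. -/
theorem val_lin [CharP (Res M) 2] (Q : Subgroup G) (hQ : σ ^ (N / 2) ∈ Q) :
    val Q (blkOf M (linChar hX Q hQ)) (red M (eK φ M hM)) = 1 := by
  haveI := Fintype.ofFinite G
  haveI := Fintype.ofFinite (Subgroup.centralizer (Q : Set G))
  set C := Subgroup.centralizer (Q : Set G) with hC
  have hCle : C ≤ hz σ N := Subgroup.centralizer_le (Subgroup.zpowers_le.2 hQ)
  rw [val_eq _ (isFixedBy_red M hM hX hCle), blkOf_apply _ _ (fun g : C => ec φ M hM g)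
    (fun u g => by rw [Subgroup.coe_mul, Subgroup.coe_mul, Subgroup.coe_inv, ec_conj M hM hX (hCle u.2)])
    (fun g => by rw [coeff_br, coeff_red, coeff_eK])]
  set r : localRing M := omegaR M (linChar hX Q hQ) _ with hr
  have hcount : (r : ℂ) * (Nat.card (kern σ N) : ℂ) =
      (Nat.card {g : C // (g : G) ∈ kern σ N} : ℂ) := by
    rw [hr, coe_omegaR_ofClassFun]
    have h1 : (linChar hX Q hQ : C → ℂ) 1 = 1 := by
      rw [linChar_apply]
      exact (congrArg Units.val (map_one (Phi hX))).trans Units.val_one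
    have hterm : ∀ g : C, (ec φ M hM g : ℂ) * (linChar hX Q hQ : C → ℂ) g =
        (Nat.card (kern σ N) : ℂ)⁻¹ * if (g : G) ∈ kern σ N then 1 else 0 := by
      intro g
      split_ifs with hg
      · rw [coe_ec, linChar_apply, Phi_kern hX (by exact hg), mul_assoc, fx_inv_mul φ hg]
      · rw [ec_of_notMem φ M hM hg, ZeroMemClass.coe_zero, zero_mul, mul_zero]
    rw [h1, div_one, Finset.sum_congr rfl fun g _ => hterm g, ← Finset.mul_sum, Finset.sum_boole,
      mul_comm, ← mul_assoc, mul_inv_cancel₀ (Nat.cast_ne_zero.2 Nat.card_pos.ne'), one_mul,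
      Nat.card_eq_fintype_card, Fintype.card_subtype]
  have hodd : Odd (Nat.card {g : C // (g : G) ∈ kern σ N}) := by
    refine Odd.of_dvd_nat (card_kern_odd (σ := σ) (N := N)) ?_
    show Nat.card ((kern σ N).subgroupOf C) ∣ _
    exact Subgroup.card_dvd_of_injective
      ((C.subtype.comp ((kern σ N).subgroupOf C).subtype).codRestrict (kern σ N) fun g => g.2)
      fun a b e => Subtype.ext (Subtype.ext (congrArg (fun z : kern σ N => (z : G)) e))
  have hprod : r * (Nat.card (kern σ N) : localRing M) =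
      (Nat.card {g : C // (g : G) ∈ kern σ N} : localRing M) :=
    Subtype.ext (by push_cast; exact hcount)
  have h2 := congrArg (residue M) hprod
  rwa [map_mul, map_natCast, map_natCast, natCast_odd card_kern_odd, natCast_odd hodd,
    mul_one] at h2

/-- The only block of `C(t)` with value one at `e`. -/
theorem eq_lin_of_val [CharP (Res M) 2] (ω : Blk (Res M) (hz σ N))
    (hω : val (Subgroup.zpowers (σ ^ (N / 2))) ω (red M (eK φ M hM)) = 1) :
    ω = blkOf M (linChar hX _ (Subgroup.mem_zpowers _)) := by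
  haveI : Fact (Nat.Prime 2) := ⟨Nat.prime_two⟩
  haveI := Fintype.ofFinite G
  haveI := Fintype.ofFinite (hz σ N)
  obtain ⟨ξ, rfl⟩ := exists_blkOf_eq ω
  have hcl : ∀ u g : hz σ N, ec φ M hM ((u * g * u⁻¹ : hz σ N) : G) = ec φ M hM (g : G) :=
    fun u g => by rw [Subgroup.coe_mul, Subgroup.coe_mul, Subgroup.coe_inv, ec_conj M hM hX u.2]
  rw [val_eq _ (isFixedBy_red M hM hX le_rfl), blkOf_apply ξ _ (fun g : hz σ N => ec φ M hM g)
    hcl (fun g => by rw [coeff_br, coeff_red, coeff_eK])] at hω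
  set z := ofClassFun (fun g : hz σ N => ec φ M hM g) hcl with hzdef
  set K := (kern σ N).subgroupOf (hz σ N) with hK
  have hKle : kern σ N ≤ hz σ N := hz_eq (σ := σ) (N := N) ▸ kern_le
  have hKcard : Nat.card K = Nat.card (kern σ N) :=
    Nat.card_congr (Subgroup.subgroupOfEquivOfLe hKle).toEquiv
  have hzz : z * z = z := by
    refine Subtype.ext ?_
    ext g
    simp only [Subalgebra.coe_mul, coeff_mul_sum, hzdef, coeff_ofClassFun]
    push_cast
    have hconv := conv_eq K (Nat.card (kern σ N) : ℂ)⁻¹ (fun a : hz σ N => (ec φ M hM (a : G) : ℂ))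
      ?_ ?_ g
    · simp only [Subgroup.coe_mul, Subgroup.coe_inv] at hconv
      rw [hconv, hKcard, ← mul_assoc, mul_inv_cancel₀ (Nat.cast_ne_zero.2 Nat.card_pos.ne'), one_mul]
    · intro a ha
      rw [ec_of_notMem φ M hM (fun h : (a : G) ∈ kern σ N => ha (Subgroup.mem_subgroupOf.2 h))]
      rfl
    · intro x hx y hy
      rw [Subgroup.mem_subgroupOf] at hx hy
      rw [coe_ec, coe_ec, coe_ec, Subgroup.coe_mul, mul_inv_rev, fx_mul φ (inv_mem hy) (inv_mem hx)]
      ring
  have hr1 : omegaR M ξ z = 1 := by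
    have hid : IsIdempotentElem (omegaR M ξ z) := by rw [IsIdempotentElem, ← map_mul, hzz]
    rcases IsIdempotentElem.iff_eq_zero_or_one.1 hid with e | e
    · rw [e, map_zero] at hω
      exact absurd hω zero_ne_one
    · exact e
  set f := (ξ : hz σ N → ℂ)
  have hsum : ∑ g : K, fx φ ((g : hz σ N) : G)⁻¹ * f g = (Nat.card K : ℂ) * f 1 := by
    have e : ((omegaR M ξ z : localRing M) : ℂ) = 1 := by rw [hr1]; rfl
    rw [hzdef, coe_omegaR_ofClassFun, div_eq_one_iff_eq (apply_one_ne_zero ξ)] at e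
    have hne : (Nat.card (kern σ N) : ℂ) ≠ 0 := Nat.cast_ne_zero.2 Nat.card_pos.ne'
    show _ = (Nat.card K : ℂ) * (ξ : hz σ N → ℂ) 1
    rw [hKcard, ← e, Finset.mul_sum, ← Finset.sum_subset (Finset.subset_univ
        (Finset.univ.filter fun g : hz σ N => g ∈ K)) (fun g _ hg => by
          rw [ec_of_notMem φ M hM (fun h : (g : G) ∈ kern σ N =>
            hg (Finset.mem_filter.2 ⟨Finset.mem_univ _, Subgroup.mem_subgroupOf.2 h⟩)), ZeroMemClass.coe_zero,
            zero_mul, mul_zero]),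
      Finset.sum_subtype _ (p := fun g => g ∈ K) (fun g => by simp)]
    refine Finset.sum_congr rfl fun g _ => ?_
    rw [coe_ec, ← mul_assoc, ← mul_assoc, mul_inv_cancel₀ hne, one_mul]
  -- each term has absolute value at most the degree
  obtain ⟨n, hn, hξ1⟩ := exists_degree_pos ξ
  have hfx1 : ∀ g : K, ‖fx φ ((g : hz σ N) : G)⁻¹‖ = 1 := by
    intro g
    rw [fx_of_mem φ (inv_mem (Subgroup.mem_subgroupOf.1 g.2))]
    refine Complex.norm_eq_one_of_pow_eq_one (n := Nat.card (kern σ N)) ?_ Nat.card_pos.ne'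
    rw [← Units.val_pow_eq_pow_val, ← map_pow, pow_card_eq_one', map_one, Units.val_one]
  have hnb : ∀ g : K, ‖fx φ ((g : hz σ N) : G)⁻¹ * f g‖ ≤ (n : ℝ) := fun g => by
    rw [norm_mul, hfx1, one_mul]
    refine (norm_apply_le (isCharacter_irr ξ) _).trans_eq ?_
    rw [hξ1, Complex.norm_natCast]
  have hall : ∀ g : K, fx φ ((g : hz σ N) : G)⁻¹ * f g = (n : ℂ) := by
    intro g
    set w := fun g : K => fx φ ((g : hz σ N) : G)⁻¹ * f g
    have hre : ∑ g : K, ((n : ℝ) - (w g).re) = 0 := by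
      rw [Finset.sum_sub_distrib, ← Complex.re_sum, hsum, Finset.sum_const, Finset.card_univ,
        ← Nat.card_eq_fintype_card, show f 1 = (n : ℂ) from hξ1, nsmul_eq_mul]
      simp
    have h0 : (n : ℝ) - (w g).re = 0 := (Finset.sum_eq_zero_iff_of_nonneg fun g _ =>
      sub_nonneg.2 ((Complex.re_le_norm _).trans (hnb g))).1 hre g (Finset.mem_univ _)
    have him : (w g).im = 0 := by
      have h1 : Complex.normSq (w g) ≤ (n : ℝ) * n := by
        rw [Complex.normSq_eq_norm_sq, sq]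
        exact mul_le_mul (hnb g) (hnb g) (norm_nonneg _) (Nat.cast_nonneg _)
      rw [Complex.normSq_apply] at h1
      have h3 : (w g).re = (n : ℝ) := by linarith
      rw [h3] at h1
      exact mul_self_eq_zero.1 (le_antisymm (by linarith) (mul_self_nonneg _))
    refine Complex.ext ?_ ?_
    · show (w g).re = _
      rw [Complex.natCast_re]
      linarith
    · show (w g).im = _
      rw [Complex.natCast_im, him]
  -- the twist is trivial on `K`
  set l : hz σ N →* ℂ := (Units.coeHom ℂ).comp (Phi hX) with hl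
  set l' : hz σ N →* ℂ := (Units.coeHom ℂ).comp (Phi hX)⁻¹ with hl'
  have hl'ch : Cfsg.IsCharacter (hz σ N) fun g => l' g :=
    Cfsg.Agent.Lib.Brauer.Elementary.isCharacter_hom l'
  have hll : ∀ g, l g * l' g = 1 := fun g => by
    show ((Phi hX g : ℂˣ) : ℂ) * (((Phi hX)⁻¹ g : ℂˣ) : ℂ) = 1
    rw [MonoidHom.inv_apply, ← Units.val_mul, mul_inv_cancel, Units.val_one]
  have htw : Cfsg.IsIrrCharacter (hz σ N) fun g => l' g * f g := by
    have hch := isCharacter_mul hl'ch (isCharacter_irr ξ)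
    refine (isIrrCharacter_iff_classInner_self (χ := fun g => l' g * f g) hch).2 ?_
    refine Eq.trans ?_ (classInner_self_irr ξ)
    simp only [Cfsg.classInner]
    congr 1
    refine Finset.sum_congr rfl fun g _ => ?_
    rw [map_mul, mul_mul_mul_comm, ← apply_inv hl'ch g, ← map_mul, mul_inv_cancel, map_one, one_mul]
  set ξ' : Cfsg.IrrCharacter (hz σ N) := ⟨_, htw⟩ with hξ'
  have hfK : ∀ g ∈ K, f g = l g * n := by
    intro g hg
    have h1 := hall ⟨g, hg⟩
    have hl_g : l g = fx φ (g : G) := Phi_kern hX (Subgroup.mem_subgroupOf.1 hg)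
    rw [hl_g, ← h1, ← mul_assoc, mul_comm (fx φ (g : G)),
      fx_inv_mul φ (Subgroup.mem_subgroupOf.1 hg), one_mul]
  have hKn : K.Normal := by
    refine ⟨fun a ha c => ?_⟩
    rw [Subgroup.mem_subgroupOf] at ha ⊢
    rw [Subgroup.coe_mul, Subgroup.coe_mul, Subgroup.coe_inv]
    exact kern_conj (hz_eq (σ := σ) (N := N) ▸ c.2) ha
  haveI := hKn
  have hidx : ∃ i : ℕ, K.index = 2 ^ i := by
    obtain ⟨j, hj⟩ := P.2.exists_card_eq
    refine ⟨j, Nat.eq_of_mul_eq_mul_left (Nat.card_pos (α := K)) ?_⟩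
    rw [Subgroup.card_mul_index, hKcard, ← hj, hX.rot.card, ← card_centralizer_half hX.rot, hz_eq]
  have hprin : ξ' ∈ Cfsg.principalBlock M (hz σ N) := by
    rw [Cfsg.Agent.Lib.BrauerMap.PrincipalSection.principalBlock_eq_trivialOn hM K
      (hKcard ▸ card_kern_not_dvd) hidx]
    intro g hg
    show l' g * f g = l' 1 * f 1
    rw [hfK g hg, ← mul_assoc, mul_comm (l' g), hll, one_mul, map_one, one_mul]
    exact hξ1.symm
  unfold blkOf
  rw [← sameBlock_iff_omegaBar]
  intro g
  have hb := hprin g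
  have hlint : l g ∈ localRing M := by
    refine mem_localRing_of_isIntegral (IsIntegral.of_pow (n := orderOf g) (orderOf_pos g) ?_)
    rw [← map_pow, pow_orderOf_eq_one, map_one]
    exact isIntegral_one
  have hlin1 : (linChar hX _ (Subgroup.mem_zpowers _) : hz σ N → ℂ) g = l g := rfl
  have hlin0 : (linChar hX _ (Subgroup.mem_zpowers _) : hz σ N → ℂ) 1 = 1 := by
    rw [linChar_apply]
    exact (congrArg Units.val (map_one (Phi hX))).trans Units.val_one
  convert memLocalIdeal_mul_left (M := M) (mem_localRing_of_isIntegral (M := M)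
    (isIntegral_one (R := ℤ) (B := ℂ)).neg) (memLocalIdeal_mul_left hlint hb) using 1
  show Cfsg.centralChar f g - Cfsg.centralChar _ g =
    -1 * (l g * (Cfsg.centralChar (fun _ => (1 : ℂ)) g -
      Cfsg.centralChar (fun g => l' g * f g) g))
  simp only [Cfsg.centralChar, hlin1, hlin0, map_one, one_mul, div_one, mul_one]
  linear_combination (((Subgroup.centralizer ({g} : Set (hz σ N))).index : ℂ) * f g / f 1) *
    (-1 : ℂ) * hll g

omit [M.IsMaximal] in
/-- Elements of `K` centralising a reflection centralise `P`. -/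
theorem centralizes {p k : G} (hp : p ∈ (P : Subgroup G)) (hpz : p ∉ Subgroup.zpowers σ)
    (hk : k ∈ kern σ N) (hkp : k * p = p * k) : ∀ q ∈ (P : Subgroup G), q * k = k * q := by
  have hrot : ∀ q ∈ Subgroup.zpowers σ, Commute q k := by
    intro q hq
    obtain ⟨i, rfl⟩ := Subgroup.mem_zpowers_iff.1 hq
    exact (hX.cent k hk).zpow_left i
  intro q hq
  by_cases hqz : q ∈ Subgroup.zpowers σ
  · exact (hrot q hqz).eq
  · have h := hrot _ (hX.rot.prod_mem q hq p hp hqz hpz)
    have hc : Commute p⁻¹ k := (show Commute p k from hkp.symm).inv_left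
    simpa [mul_assoc] using (h.mul_left hc).eq

omit [M.IsMaximal] in
/-- The element moving a reflection to `t` fixes `φ` on the odd part of the centralizer of the
four-group. -/
theorem fx_fused {p x : G} (hp : p ∈ (P : Subgroup G)) (hpz : p ∉ Subgroup.zpowers σ)
    (hxn : x ∈ Subgroup.normalizer
      ((Subgroup.closure {σ ^ (N / 2), p} : Subgroup G) : Set G))
    {e : G} (he : e ∈ kern σ N) (hep : e * p = p * e) :
    x * e * x⁻¹ ∈ kern σ N ∧ x * e * x⁻¹ * p = p * (x * e * x⁻¹) ∧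
      fx φ (x * e * x⁻¹) = fx φ e := by
  haveI : Fact (Nat.Prime 2) := ⟨Nat.prime_two⟩
  set t := σ ^ (N / 2) with ht
  set V := Subgroup.closure ({t, p} : Set G) with hV
  set E : Set G := {k | k ∈ kern σ N ∧ k * p = p * k}
  have hcentV : ∀ {k : G}, k ∈ E → V ≤ Subgroup.centralizer ({k} : Set G) := fun {k} hk => by
    rw [hV, Subgroup.closure_le]
    rintro v (rfl | rfl)
    · exact Subgroup.mem_centralizer_singleton_iff.2
        (Subgroup.mem_centralizer_singleton_iff.1 (kern_le hk.1)).symm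
    · exact Subgroup.mem_centralizer_singleton_iff.2 hk.2.symm
  have hmove : ∀ {y : G}, y ∈ Subgroup.normalizer (V : Set G) → ∀ {k : G}, k ∈ E →
      y * k * y⁻¹ ∈ E := by
    intro y hy k hk
    have hcomm : ∀ v ∈ V, y * k * y⁻¹ * v = v * (y * k * y⁻¹) := by
      intro v hv
      have hw : y⁻¹ * v * y ∈ V := (Subgroup.mem_normalizer_iff''.1 hy v).1 hv
      have := Subgroup.mem_centralizer_singleton_iff.1 (hcentV hk hw)
      calc y * k * y⁻¹ * v = y * (k * (y⁻¹ * v * y)) * y⁻¹ := by group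
        _ = y * ((y⁻¹ * v * y) * k) * y⁻¹ := by rw [this]
        _ = _ := by group
    refine ⟨mem_kern_of_odd hX.rot (Subgroup.mem_centralizer_singleton_iff.2
      (hcomm t (Subgroup.subset_closure (Or.inl rfl)))) ?_,
      hcomm p (Subgroup.subset_closure (Or.inr rfl))⟩
    rw [show orderOf (y * k * y⁻¹) = orderOf k from (MulAut.conj y).orderOf_eq k]
    exact kern_odd hk.1
  have he' := hmove hxn (show e ∈ E from ⟨he, hep⟩)
  refine ⟨he'.1, he'.2, ?_⟩
  -- the Frattini argument in the centralizer of `E`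
  set C := Subgroup.centralizer E with hC
  have hPC : (P : Subgroup G) ≤ C := fun q hq => Subgroup.mem_centralizer_iff.2 fun k hk =>
    (centralizes hX hp hpz hk.1 hk.2 q hq).symm
  have hxPC : (P : Subgroup G).map (MulAut.conj x).toMonoidHom ≤ C := by
    rintro _ ⟨q, hq, rfl⟩
    refine Subgroup.mem_centralizer_iff.2 fun k hk => ?_
    have h1 := hmove (inv_mem hxn) hk
    rw [inv_inv] at h1
    have h2 := centralizes hX hp hpz h1.1 h1.2 q hq
    show k * (x * q * x⁻¹) = x * q * x⁻¹ * k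
    calc k * (x * q * x⁻¹) = x * ((x⁻¹ * k * x) * q) * x⁻¹ := by group
      _ = x * (q * (x⁻¹ * k * x)) * x⁻¹ := by rw [h2]
      _ = _ := by group
  obtain ⟨c, hc⟩ := exists_conj_le
    (A := ((P : Subgroup G).map (MulAut.conj x).toMonoidHom).subgroupOf C)
    ((P.2.map _).comap_of_injective _ C.subtype_injective) (P.subtype hPC)
  set m := (c : G) * x with hm
  have hmP : ∀ q ∈ (P : Subgroup G), m * q * m⁻¹ ∈ (P : Subgroup G) := by
    intro q hq
    have h1 := hc ⟨_, hxPC ⟨q, hq, rfl⟩⟩ ⟨q, hq, rfl⟩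
    rw [Sylow.coe_subtype, Subgroup.mem_subgroupOf] at h1
    change (c : G) * (x * q * x⁻¹) * (c : G)⁻¹ ∈ (P : Subgroup G) at h1
    rw [hm]
    convert h1 using 1
    group
  have hmt : m * t * m⁻¹ = t := by
    have hP' : (P : Subgroup G).map (MulAut.conj m).toMonoidHom = P :=
      Subgroup.eq_of_le_of_card_ge (by rintro _ ⟨q, hq, rfl⟩; exact hmP q hq)
        (le_of_eq (Subgroup.card_map_of_injective (MulAut.conj m).injective).symm)
    have htP : t ∈ (P : Subgroup G) := pow_mem hX.rot.mem _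
    have hu := hmP t htP
    have hcom : ∀ q ∈ (P : Subgroup G), m * t * m⁻¹ * q = q * (m * t * m⁻¹) := by
      intro q hq
      obtain ⟨q', hq', rfl⟩ := hP'.ge hq
      show m * t * m⁻¹ * (m * q' * m⁻¹) = m * q' * m⁻¹ * (m * t * m⁻¹)
      have := Subgroup.mem_centralizer_singleton_iff.1 (hX.rot.le_centralizer_half hq')
      calc m * t * m⁻¹ * (m * q' * m⁻¹) = m * (t * q') * m⁻¹ := by group
        _ = m * (q' * t) * m⁻¹ := by rw [this]
        _ = _ := by group
    refine hX.rot.eq_half ?_ (fun h => hX.rot.half_ne (conj_eq_one_iff.1 h)) ?_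
    · by_contra hn
      have h1 := (hX.rot.inverts _ hu hn).2
      rw [hcom σ hX.rot.mem, mul_inv_cancel_right] at h1
      have h2 : orderOf σ ∣ 2 := orderOf_dvd_of_pow_eq_one (by
        rw [pow_two]; exact mul_eq_one_iff_eq_inv.2 h1)
      rw [hX.rot.order] at h2
      have := Nat.le_of_dvd two_pos h2
      have := hX.rot.four_le
      omega
    · calc m * t * m⁻¹ * (m * t * m⁻¹) = m * (t * t) * m⁻¹ := by group
        _ = 1 := by rw [ht, hX.rot.half_sq]; group
  have hmC : m ∈ hz σ N := by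
    rw [hz_eq, Subgroup.mem_centralizer_singleton_iff]
    exact mul_inv_eq_iff_eq_mul.1 hmt
  have hce : (c : G) * (x * e * x⁻¹) * (c : G)⁻¹ = x * e * x⁻¹ := by
    rw [← Subgroup.mem_centralizer_iff.1 c.2 _ he', mul_inv_cancel_right]
  calc fx φ (x * e * x⁻¹) = fx φ (m * e * m⁻¹) := by rw [← hce, hm]; group
    _ = fx φ e := fx_conj hX hmC e

omit [M.IsMaximal] in
theorem half_mem_zpowers {y : G} (hy : y ∈ Subgroup.zpowers σ) (hy1 : y ≠ 1) :
    σ ^ (N / 2) ∈ Subgroup.zpowers y := by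
  haveI : Fact (Nat.Prime 2) := ⟨Nat.prime_two⟩
  obtain ⟨i, hi⟩ := hX.rot.isPow hy
  rcases i with _ | i
  · rw [pow_zero, orderOf_eq_one_iff] at hi
    exact absurd hi hy1
  have h2 : orderOf (y ^ 2 ^ i) = 2 := by
    rw [orderOf_pow' y (by positivity), hi, Nat.gcd_eq_right (pow_dvd_pow 2 (Nat.le_succ i)),
      pow_succ', Nat.mul_div_cancel _ (by positivity)]
  rw [← hX.rot.eq_half (pow_mem hy _) (fun e => by rw [e, orderOf_one] at h2; omega)
    (by rw [← pow_two]; exact orderOf_dvd_iff_pow_eq_one.1 h2.dvd)]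
  exact Subgroup.npow_mem_zpowers y _

/-- The block of `G` below `φ`. -/
noncomputable def psi [CharP (Res M) 2] : Blk (Res M) G :=
  haveI : Fact (Nat.Prime 2) := ⟨Nat.prime_two⟩
  pairBlk (a := (⟨Subgroup.zpowers (σ ^ (N / 2)),
    blkOf M (linChar hX _ (Subgroup.mem_zpowers _))⟩ : Idx (Res M) G)) (zt_pgroup hX)

/-- A pair at `⟨t⟩` with value one at `e` belongs to `ψ`. -/
theorem pairOf_psi [CharP (Res M) 2] [Fact (Nat.Prime 2)]
    (ω : Blk (Res M) (hz σ N))
    (hω : val (Subgroup.zpowers (σ ^ (N / 2))) ω (red M (eK φ M hM)) = 1) :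
    PairOf 2 (psi M hX) (⟨Subgroup.zpowers (σ ^ (N / 2)), ω⟩ : Idx (Res M) G) := by
  obtain rfl := eq_lin_of_val M hM hX ω hω
  exact pairOf_iff.2 ⟨zt_pgroup hX, rfl⟩

/-- **Every pair at `⟨t⟩` of `ψ` has value one at `e`.** -/
theorem val_of_pairOf [CharP (Res M) 2] [Fact (Nat.Prime 2)] (ω : Blk (Res M) (hz σ N))
    (hω : PairOf 2 (psi M hX) (⟨Subgroup.zpowers (σ ^ (N / 2)), ω⟩ : Idx (Res M) G)) :
    val (Subgroup.zpowers (σ ^ (N / 2))) ω (red M (eK φ M hM)) = 1 := by
  set t := σ ^ (N / 2) with ht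
  set E := red M (eK φ M hM) with hE
  have htP : t ∈ (P : Subgroup G) := pow_mem hX.rot.mem _
  have hP2 : IsPGroup 2 (P : Subgroup G) := P.2
  have hztP : Subgroup.zpowers t ≤ (P : Subgroup G) := Subgroup.zpowers_le.2 htP
  -- the maximal pair
  set c := blkOf M (linChar hX (P : Subgroup G) htP) with hc
  set T : Idx (Res M) G := ⟨(P : Subgroup G), c⟩ with hT
  have hTtop : Top 2 T := ⟨hP2, fun b hb => P.is_maximal' hb.1 hb.2.1⟩
  have hbelow : ∀ {Q : Subgroup G} (ν : Blk (Res M) (Subgroup.centralizer (Q : Set G))), t ∈ Q →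
      Le 2 (⟨Q, ν⟩ : Idx (Res M) G) T → val Q ν E = 1 := fun {Q} ν htQ hle =>
    (val_iff_of_le hle (isIdem_red M hM hX) (isFixedBy_red M hM hX (P_le_hz hX))
      (isFixedBy_red M hM hX (Subgroup.centralizer_le (Subgroup.zpowers_le.2 htQ)))).2
      (val_lin M hM hX _ htP)
  obtain ⟨ω0, hω0, -⟩ := existsUnique_le hP2 c hztP
  have hψT : PairOf 2 (psi M hX) T := (pairOf_iff_of_le hP2 hω0 _).1
    (pairOf_psi M hM hX ω0 (hbelow ω0 (Subgroup.mem_zpowers t) hω0))
  obtain ⟨g, hg⟩ := exists_le_conj_top hω hTtop hψT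
  set u := g * t * g⁻¹ with hu
  have huP : u ∈ (P : Subgroup G) :=
    hg.subgroup_le (conj_mem_map g _ (Subgroup.mem_zpowers t))
  have hu2 : orderOf u = 2 := by
    rw [hu, show orderOf (g * t * g⁻¹) = orderOf t from (MulAut.conj g).orderOf_eq t]
    exact hX.rot.orderOf_half
  have hmem_hz : ∀ {y : G}, y * t * y⁻¹ = t → y ∈ hz σ N := fun {y} hy => by
    rw [hz_eq, Subgroup.mem_centralizer_singleton_iff]
    exact mul_inv_eq_iff_eq_mul.1 hy
  by_cases huz : u ∈ Subgroup.zpowers σ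
  · have hut : u = t := hX.rot.eq_half huz
      (fun e => by rw [e, orderOf_one] at hu2; omega)
      (by rw [← pow_two, ← hu2, pow_orderOf_eq_one])
    rw [cPair_of_mem_centralizer (a := (⟨Subgroup.zpowers t, ω⟩ : Idx (Res M) G))
      (hmem_hz hut)] at hg
    exact hbelow ω (Subgroup.mem_zpowers t) hg
  obtain ⟨x, hxn, hxu⟩ := hX.fused u huP huz
  set V := Subgroup.closure ({t, u} : Set G) with hV
  have htV : t ∈ V := Subgroup.subset_closure (Or.inl rfl)
  have huV : u ∈ V := Subgroup.subset_closure (Or.inr rfl)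
  have hVP : V ≤ (P : Subgroup G) := by
    rw [hV, Subgroup.closure_le]
    rintro v (rfl | rfl)
    exacts [htP, huP]
  have hVpg : IsPGroup 2 V := hP2.to_le hVP
  obtain ⟨ν, hν, -⟩ := existsUnique_le hP2 c hVP
  have hQV : (cPair g (⟨Subgroup.zpowers t, ω⟩ : Idx (Res M) G)).1 ≤ V := by
    rintro _ ⟨z, hz, rfl⟩
    obtain ⟨i, rfl⟩ := Subgroup.mem_zpowers_iff.1 hz
    rw [map_zpow]
    exact zpow_mem huV i
  obtain ⟨ω1, hω1, -⟩ := existsUnique_le hVpg ν hQV
  obtain rfl := le_unique hP2 c (hω1.trans hν) hg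
  have h3 := le_cPair x hω1
  change Le 2 (cPair x (cPair g (⟨Subgroup.zpowers t, ω⟩ : Idx (Res M) G))) _ at h3
  rw [← cPair_mul] at h3
  rw [cPair_of_mem_centralizer (a := (⟨Subgroup.zpowers t, ω⟩ : Idx (Res M) G))
    (hmem_hz (y := x * g) (by
      calc x * g * t * (x * g)⁻¹ = x * (g * t * g⁻¹) * x⁻¹ := by group
        _ = t := hxu))] at h3
  -- the value at the conjugate of `V`
  set T' := cPair x (⟨V, ν⟩ : Idx (Res M) G) with hT'
  have hV' : T'.1 = V := Subgroup.mem_normalizer_iff_map_conj_eq.1 hxn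
  have hCV : Subgroup.centralizer (V : Set G) ≤ hz σ N :=
    Subgroup.centralizer_le (Subgroup.zpowers_le.2 htV)
  have hT'z : Subgroup.centralizer (T'.1 : Set G) ≤ hz σ N := by rw [hV']; exact hCV
  have hfix' : IsFixedBy (Subgroup.centralizer (T'.1 : Set G)) (conjA x E) := by
    have h := isFixedBy_conjA (isFixedBy_red M hM hX hCV) x
    rwa [Cfsg.Agent.Lib.BrauerPairs.Local.map_conj_centralizer] at h
  have hval' : val T'.1 T'.2 E = 1 := by
    rw [val_congr T'.2 (b := conjA x E) (isFixedBy_red M hM hX hT'z) hfix' ?_]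
    · exact (val_cBlk x V _ (mem_centralizer_map_iff x V) ν E
        (isFixedBy_red M hM hX hCV) hfix').trans (hbelow ν htV hν)
    intro h hh
    rw [hV'] at hh
    rw [coeff_conjA, hE, coeff_red, coeff_red, coeff_eK, coeff_eK]
    congr 1
    have hhu : h * u = u * h := (Subgroup.mem_centralizer_iff.1 hh u huV).symm
    by_cases hk : h ∈ kern σ N
    · refine Subtype.ext ?_
      rw [coe_ec, coe_ec, show (x⁻¹ * h * x)⁻¹ = x⁻¹ * h⁻¹ * x⁻¹⁻¹ by group,
        (fx_fused hX huP huz (inv_mem hxn) (inv_mem hk)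
          (show Commute h⁻¹ u from (show Commute h u from hhu).inv_left).eq).2.2]
    · have hn : x⁻¹ * h * x ∉ kern σ N := by
        intro hk'
        refine hk ?_
        have hc : x⁻¹ * h * x * u = u * (x⁻¹ * h * x) := by
          have := Subgroup.mem_centralizer_iff.1 hh _
            ((Subgroup.mem_normalizer_iff.1 hxn u).1 huV)
          calc x⁻¹ * h * x * u = x⁻¹ * (h * (x * u * x⁻¹)) * x := by group
            _ = x⁻¹ * (x * u * x⁻¹ * h) * x := by rw [this]
            _ = _ := by group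
        have := (fx_fused hX huP huz hxn hk' hc).1
        simpa [mul_assoc] using this
      rw [ec_of_notMem φ M hM hk, ec_of_notMem φ M hM hn]
  have hfixV : IsFixedBy T'.1 E :=
    isFixedBy_red M hM hX (by rw [hV']; exact hVP.trans (P_le_hz hX))
  exact (val_iff_of_le h3 (isIdem_red M hM hX) hfixV (isFixedBy_red M hM hX le_rfl)).2 hval'

/-- The averaged value. -/
noncomputable def d [Fintype G] (χ : Cfsg.IrrCharacter G) (y : G) : ℂ :=
  ∑ g : G, (ec φ M hM g : ℂ) * (χ : G → ℂ) (y * g)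

theorem rot_le_hz {y : G} (hy : y ∈ Subgroup.zpowers σ) : y ∈ hz σ N :=
  P_le_hz hX (hX.rot.zpowers_le hy)

theorem centralizer_rot_le {y : G} (hy : y ∈ Subgroup.zpowers σ) (hy1 : y ≠ 1) :
    Subgroup.centralizer ((Subgroup.zpowers y : Subgroup G) : Set G) ≤ hz σ N :=
  Subgroup.centralizer_le (Subgroup.zpowers_le.2 (half_mem_zpowers hX hy hy1))

/-- On `ψ` the values on `y K` are the averaged ones. -/
theorem apply_rot_kern [Fintype G] [CharP (Res M) 2] {χ : Cfsg.IrrCharacter G}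
    (hχ : χ ∈ toSet (psi M hX)) {y : G} (hy : y ∈ Subgroup.zpowers σ) (hy1 : y ≠ 1) {k : G}
    (hk : k ∈ kern σ N) : (χ : G → ℂ) (y * k) = fx φ k * d (φ := φ) M hM χ y := by
  haveI : Fact (Nat.Prime 2) := ⟨Nat.prime_two⟩
  have hyk : Commute y k := by
    obtain ⟨i, rfl⟩ := Subgroup.mem_zpowers_iff.1 hy
    exact (hX.cent k hk).zpow_left i
  have hx : Cfsg.IsPPart 2 (y * k) y := ⟨k, rfl, hyk, hX.rot.isPow hy,
    Nat.two_dvd_ne_zero.2 (Nat.odd_iff.1 (kern_odd hk))⟩
  have hyle := centralizer_rot_le hX hy hy1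
  have hyQ : IsPGroup 2 (Subgroup.zpowers y) := by
    obtain ⟨i, hi⟩ := hX.rot.isPow hy
    exact IsPGroup.of_card (n := i) (by rw [Nat.card_zpowers, hi])
  have key := BrauerMap.SecondMain.apply_eq_sum_of_val_eq_one hM (isPBlock_toSet (psi M hX)) hx
    (eK φ M hM) (eK_mul_self φ M hM)
    (fun v hv => commute_eK M hM hX (hyle (mem_centralizer_zpowers_iff.2 hv))) ?_ hχ
  · rw [key, d, Finset.mul_sum]
    refine Fintype.sum_equiv (Equiv.mulLeft k) _ _ fun g => ?_
    simp only [Equiv.coe_mulLeft, coeff_eK, mul_assoc y k]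
    by_cases hg : g ∈ kern σ N
    · rw [coe_ec, coe_ec, mul_inv_rev, fx_mul φ (inv_mem hg) (inv_mem hk)]
      linear_combination -((Nat.card (kern σ N) : ℂ)⁻¹ * fx φ g⁻¹ *
        (χ : G → ℂ) (y * (k * g))) * fx_inv_mul φ hk
    · rw [ec_of_notMem φ M hM hg, ec_of_notMem φ M hM fun h => hg (by
        simpa using mul_mem (inv_mem hk) h), ZeroMemClass.coe_zero, zero_mul, mul_zero]
  intro ω hω
  rw [blk_toSet] at hω
  obtain ⟨ω', hω', -⟩ := existsUnique_le hyQ ω
    (Subgroup.zpowers_le.2 (half_mem_zpowers hX hy hy1))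
  exact (val_iff_of_le hω' (isIdem_red M hM hX)
    (isFixedBy_red M hM hX (Subgroup.zpowers_le.2 (rot_le_hz hX hy)))
    (isFixedBy_red M hM hX le_rfl)).1 (val_of_pairOf M hM hX ω'
      ((pairOf_iff_of_le hyQ hω' _).2 hω))

/-- Off `ψ` the averaged values vanish. -/
theorem d_eq_zero [Fintype G] [CharP (Res M) 2] {χ : Cfsg.IrrCharacter G}
    (hχ : χ ∉ toSet (psi M hX)) {y : G} (hy : y ∈ Subgroup.zpowers σ) (hy1 : y ≠ 1) :
    d (φ := φ) M hM χ y = 0 := by
  haveI : Fact (Nat.Prime 2) := ⟨Nat.prime_two⟩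
  have hx : Cfsg.IsPPart 2 y y := ⟨1, mul_one y, Commute.one_right y, hX.rot.isPow hy, by simp⟩
  have hyle := centralizer_rot_le hX hy hy1
  have hyQ : IsPGroup 2 (Subgroup.zpowers y) := by
    obtain ⟨i, hi⟩ := hX.rot.isPow hy
    exact IsPGroup.of_card (n := i) (by rw [Nat.card_zpowers, hi])
  have hmem : χ ∈ toSet (blkOf M χ) := mem_toSet.2 rfl
  have hid : (1 - eK φ M hM) * (1 - eK φ M hM) = 1 - eK φ M hM :=
    (show IsIdempotentElem (eK φ M hM) from eK_mul_self φ M hM).one_sub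
  have key := BrauerMap.SecondMain.apply_eq_sum_of_val_eq_one hM (isPBlock_toSet (blkOf M χ)) hx
    (1 - eK φ M hM) hid
    (fun v hv => (Commute.one_right _).sub_right
      (commute_eK M hM hX (hyle (mem_centralizer_zpowers_iff.2 hv)))) ?_ hmem
  · have hco : ∀ g : G, ((1 - eK φ M hM).coeff g : ℂ) =
        (if g = 1 then 1 else 0) - (ec φ M hM g : ℂ) := fun g => by
      rw [coeff_sub, Finsupp.sub_apply, one_def, coeff_single, Finsupp.single_apply, coeff_eK]
      by_cases hg : g = 1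
      · subst hg; simp
      · rw [if_neg (Ne.symm hg), if_neg hg]; simp
    simp only [hco, sub_mul, ite_mul, one_mul, zero_mul, Finset.sum_sub_distrib,
      Finset.sum_ite_eq', Finset.mem_univ, if_true, mul_one] at key
    rw [d]
    linear_combination key
  intro ω hω
  rw [blk_toSet] at hω
  have hredC : IsFixedBy _ (red M (eK φ M hM)) := isFixedBy_red M hM hX hyle
  rw [show red M (1 - eK φ M hM) = 1 - red M (eK φ M hM) by rw [red, map_sub, map_one]; rfl,
    val_one_sub ω hredC]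
  have hfixy := isFixedBy_red M hM hX (Subgroup.zpowers_le.2 (rot_le_hz hX hy))
  rcases val_zero_or_one hyQ ω (isIdem_red M hM hX) hfixy hredC with h0 | h1
  · rw [h0, sub_zero]
  · exfalso
    obtain ⟨ω', hω', -⟩ := existsUnique_le hyQ ω
      (Subgroup.zpowers_le.2 (half_mem_zpowers hX hy hy1))
    have h2 := (val_iff_of_le hω' (isIdem_red M hM hX) hfixy (isFixedBy_red M hM hX le_rfl)).2 h1
    exact hχ (mem_toSet.2 ((existsUnique_pairOf _ (hyQ.to_le hω'.subgroup_le)).unique
      ((pairOf_iff_of_le hyQ hω' _).2 hω) (pairOf_psi M hM hX ω' h2)))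

include hM in
/-- `t` vanishes on no member of `ψ`. -/
theorem half_ne_zero [Fintype G] [CharP (Res M) 2] {χ : Cfsg.IrrCharacter G}
    (hχ : χ ∈ toSet (psi M hX)) : (χ : G → ℂ) (σ ^ (N / 2)) ≠ 0 := by
  haveI : Fact (Nat.Prime 2) := ⟨Nat.prime_two⟩
  haveI := Fintype.ofFinite (hz σ N)
  set t := σ ^ (N / 2) with ht
  intro h0
  have h1 := PairOf.apply_eq (pairOf_psi M hM hX _ (val_lin M hM hX _ (Subgroup.mem_zpowers t)))
    (Cfsg.Agent.Lib.BrauerMap.ClassSum.classSumC (Res M) t)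
  rw [← mem_toSet.1 hχ, blkOf_classSumC] at h1
  have hcc : ccR M χ t = 0 := Subtype.ext (by
    rw [coe_ccR, Cfsg.centralChar, h0, mul_zero, zero_div]; rfl)
  rw [hcc, map_zero, val_eq _ (isFixedBy_of_mem_center _ (Cfsg.Agent.Lib.BrauerMap.ClassSum.classSumC (Res M) t).2),
    blkOf_apply _ _ (fun g : hz σ N => if IsConj t (g : G) then (1 : localRing M) else 0)
      (fun u g => if_congr ⟨fun h => h.trans (isConj_iff.2 ⟨(u : G)⁻¹, by simp [mul_assoc]⟩),
        fun h => h.trans (isConj_iff.2 ⟨(u : G), by simp⟩)⟩ rfl rfl)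
      (fun g => by
        rw [coeff_br]
        show (Cfsg.Agent.Lib.BrauerMap.ClassSum.classSum (Res M) t).coeff _ = _
        rw [Cfsg.Agent.Lib.BrauerMap.ClassSum.coeff_classSum, apply_ite (residue M), map_one, map_zero]
        split_ifs <;> rfl)] at h1
  have htH : t ∈ hz σ N := rot_le_hz hX (pow_mem (Subgroup.mem_zpowers σ) _)
  have hiff : ∀ g : hz σ N, IsConj t (g : G) ↔ g * g = 1 ∧ g ≠ 1 := by
    intro g
    constructor
    · intro hg
      obtain ⟨c, hc⟩ := isConj_iff.1 hg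
      refine ⟨Subtype.ext ?_, fun e => hX.rot.half_ne ?_⟩
      · rw [Subgroup.coe_mul, ← hc, Subgroup.coe_one]
        calc c * t * c⁻¹ * (c * t * c⁻¹) = c * (t * t) * c⁻¹ := by group
          _ = 1 := by rw [ht, hX.rot.half_sq]; group
      · rw [e, Subgroup.coe_one] at hc
        exact conj_eq_one_iff.1 hc
    · rintro ⟨h2, h1'⟩
      refine hX.hone _ (orderOf_eq_prime ?_ fun e => h1' (Subtype.ext e))
      rw [pow_two]
      exact congrArg Subtype.val h2
  set Φ : hz σ N → ℂ := fun g => (Phi hX g : ℂ)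
  have hΦsq : ∀ g : hz σ N, g * g = 1 → Φ g ^ 2 ^ 1 = 1 := by
    intro g hg
    rw [pow_one, pow_two]
    show (Phi hX g : ℂ) * (Phi hX g : ℂ) = 1
    rw [← Units.val_mul, ← map_mul, hg, map_one, Units.val_one]
  set f : hz σ N → localRing M := fun g => if hg : g * g = 1 then
    ⟨Φ g, mem_localRing_of_isIntegral (IsIntegral.of_pow (n := 2 ^ 1) (by norm_num)
      (by rw [hΦsq g hg]; exact isIntegral_one))⟩ else 0
  have hr : omegaR M (linChar hX _ (Subgroup.mem_zpowers t)) (ofClassFun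
      (fun g : hz σ N => if IsConj t (g : G) then (1 : localRing M) else 0)
      (fun u g => if_congr ⟨fun h => h.trans (isConj_iff.2 ⟨(u : G)⁻¹, by simp [mul_assoc]⟩),
        fun h => h.trans (isConj_iff.2 ⟨(u : G), by simp⟩)⟩ rfl rfl)) = ∑ g, f g - 1 := by
    refine Subtype.ext ?_
    rw [coe_omegaR_ofClassFun]
    push_cast
    have hone : (linChar hX _ (Subgroup.mem_zpowers t) : hz σ N → ℂ) 1 = 1 := by
      rw [linChar_apply]
      exact (congrArg Units.val (map_one (Phi hX))).trans Units.val_one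
    rw [hone, div_one, eq_sub_iff_add_eq,
      show (1 : ℂ) = ∑ g : hz σ N, if g = 1 then 1 else 0 by simp]
    refine Finset.sum_add_distrib.symm.trans (Finset.sum_congr rfl fun (g : hz σ N) _ => ?_)
    show ((if IsConj t (g : G) then (1 : localRing M) else 0 : localRing M) : ℂ) * (Phi hX g : ℂ) +
      (if g = 1 then 1 else 0) = (f g : ℂ)
    by_cases hg1 : g = 1
    · subst hg1
      rw [if_neg (fun h => ((hiff 1).1 h).2 rfl), if_pos rfl]
      simp only [f, dif_pos (one_mul (1 : hz σ N)), ZeroMemClass.coe_zero, zero_mul, zero_add]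
      exact ((congrArg Units.val (map_one (Phi hX))).trans Units.val_one).symm
    · rw [if_neg hg1, add_zero]
      by_cases hg : g * g = 1
      · rw [if_pos ((hiff g).2 ⟨hg, hg1⟩)]
        simp only [f, dif_pos hg, OneMemClass.coe_one, one_mul]
        rfl
      · rw [if_neg (fun h => hg ((hiff g).1 h).1)]
        simp only [f, dif_neg hg, ZeroMemClass.coe_zero, zero_mul]
  rw [hr, map_sub, map_one, map_sum] at h1
  have hres : ∀ g : hz σ N, residue M (f g) = if g * g = 1 then (1 : Res M) else 0 := by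
    intro g
    simp only [f]
    split_ifs with hg
    · exact residue_eq_one_of_pow_eq_one hM (k := 1) (Subtype.ext (hΦsq g hg))
    · exact map_zero _
  have hsum : ∑ g : hz σ N, residue M (f g) = 0 := by
    simp only [hres]
    set tH : hz σ N := ⟨t, htH⟩
    have htt : tH * tH = 1 := Subtype.ext hX.rot.half_sq
    have hcomm : ∀ g : hz σ N, tH * g = g * tH := fun g => Subtype.ext (by
      have := (SetLike.ext_iff.1 hz_eq (g : G)).1 g.2
      rw [Subgroup.mem_centralizer_singleton_iff] at this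
      exact this.symm)
    have hsq : ∀ g : hz σ N, g * tH * (g * tH) = g * g := fun g => by
      rw [mul_assoc, ← mul_assoc tH, hcomm, mul_assoc g tH tH, htt, mul_one]
    refine Finset.sum_involution (fun g _ => g * tH) (fun g _ => ?_) (fun g _ _ e => ?_)
      (fun g _ => Finset.mem_univ _) (fun g _ => ?_)
    · rw [hsq]
      exact CharTwo.add_self_eq_zero _
    · exact hX.rot.half_ne (congrArg Subtype.val (mul_eq_left.1 e))
    · rw [mul_assoc, htt, mul_one]
  rw [hsum, zero_sub, neg_eq_zero] at h1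
  exact one_ne_zero h1

end Cfsg.Agent.Lib.GorensteinWalter.CoinvariantPairs
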