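import Cfsg.Agent.Lib.GorensteinWalter.ComparableModel

/-!
# Section C: one reflection moves primes of `F(O)`, the other none

Then `v` inverts `F = F(O)`, and the conjugates of `X = C_{O_p(O)}(u)` meet pairwise trivially, too many of them.
-/

set_option autoImplicit false
set_option linter.unusedSectionVars false
set_option linter.style.haveILetI false

namespace Cfsg.Agent.Lib.GorensteinWalter

open Cfsg.Agent.Lib.Fusion.Dihedral

universe u

variable {G : Type u} [Group G] [Finite G]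

/-- Conjugates of `X` under `O` that meet trivially unless the conjugating elements agree modulo `A`. -/
theorem spread_count {κ : Type*} [Finite κ] {O A X : Subgroup G} (one : κ) (f : G → G → κ)
    (hne : ∀ g ∈ O, ∀ x ∈ X, x ≠ 1 → f g x ≠ one)
    (hf : ∀ g ∈ O, ∀ g' ∈ O, ∀ x ∈ X, ∀ x' ∈ X, x ≠ 1 → x' ≠ 1 → f g x = f g' x' → g'⁻¹ * g ∈ A)
    (hinj : ∀ g ∈ O, ∀ x ∈ X, ∀ x' ∈ X, x ≠ 1 → x' ≠ 1 → f g x = f g x' → x = x') :
    A.relIndex O * (Nat.card X - 1) + 1 ≤ Nat.card κ := by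
  classical
  haveI := Fintype.ofFinite X
  let g : Option ((↥O ⧸ A.subgroupOf O) × {x : X // x ≠ 1}) → κ := fun o =>
    o.elim one fun p => f ((Quotient.out p.1 : ↥O) : G) ((p.2 : X) : G)
  have hx : ∀ x : {x : X // x ≠ 1}, ((x : X) : G) ≠ 1 := fun x e => x.2 (Subtype.ext e)
  have hg : Function.Injective g := by
    rintro (_ | ⟨i, x⟩) (_ | ⟨j, y⟩) h
    · rfl
    · exact absurd h.symm (hne _ (Quotient.out j).2 _ y.1.2 (hx y))
    · exact absurd h (hne _ (Quotient.out i).2 _ x.1.2 (hx x))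
    · have h1 := hf _ (Quotient.out i).2 _ (Quotient.out j).2 _ x.1.2 _ y.1.2 (hx x) (hx y) h
      have hij : i = j := by
        rw [← QuotientGroup.out_eq' i, ← QuotientGroup.out_eq' j]
        exact (QuotientGroup.eq.2 (Subgroup.mem_subgroupOf.2 h1)).symm
      subst hij
      have h2 := hinj _ (Quotient.out i).2 _ x.1.2 _ y.1.2 (hx x) (hx y) h
      rw [show x = y from Subtype.ext (Subtype.ext h2)]
  have h := Nat.card_le_card_of_injective g hg
  rwa [Finite.card_option, Nat.card_prod, Nat.card_eq_fintype_card (α := {x : X // x ≠ 1}),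
    Fintype.card_subtype_compl (fun x : X => x = 1), Fintype.card_subtype_eq,
    ← Nat.card_eq_fintype_card] at h

/-- If the fixed part of a `p`-group is proper, a divisor of its index has `p` as a factor. -/
theorem dvd_of_card_dvd {p T : ℕ} [Fact p.Prime] {N K : Subgroup G} (hN : IsPGroup p N) (hKN : K ≤ N)
    (hne : K ≠ N) (h : Nat.card N ∣ T * Nat.card K) : p ∣ T := by
  have h1 := Subgroup.relIndex_mul_relIndex ⊥ K N bot_le hKN
  rw [Subgroup.relIndex_bot_left, Subgroup.relIndex_bot_left] at h1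
  rw [← h1, mul_comm T] at h
  obtain ⟨k, hk⟩ := hN.exists_card_eq
  obtain ⟨j, -, hj⟩ := (Nat.dvd_prime_pow (Fact.out : p.Prime)).1
    (hk ▸ h1 ▸ dvd_mul_left _ _ : K.relIndex N ∣ p ^ k)
  rcases Nat.eq_zero_or_pos j with rfl | hj0
  · exact absurd (le_antisymm hKN (Subgroup.relIndex_eq_one.1 (by rw [hj, pow_zero]))) hne
  · exact (dvd_pow_self p hj0.ne').trans (hj ▸ Nat.dvd_of_mul_dvd_mul_left Nat.card_pos h)

theorem commute_of_forall_inverted {K : Subgroup G} {s : G} (h : ∀ y ∈ K, s * y * s⁻¹ = y⁻¹) {x y : G}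
    (hx : x ∈ K) (hy : y ∈ K) : x * y = y * x := by
  refine inv_injective ?_
  rw [← h _ (mul_mem hx hy), _root_.mul_inv_rev, ← h x hx, ← h y hy,
    show s * (x * y) * s⁻¹ = s * x * s⁻¹ * (s * y * s⁻¹) by group, h x hx, h y hy]

namespace Pair

variable {S : Sylow 2 G} {t u v : G} (P : Pair S t u v)
include P

/-- `v` inverts `F(O)` and `O = C_O(v) F(O)` if `v` fixes nothing in `F(O)`. -/
theorem fixed_factor (hbot : ∀ s : ℕ, s.Prime → fitP s (coreC t) ⊓ Subgroup.centralizer ({v} : Set G) = ⊥) :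
    (∀ f ∈ fitO (coreC t), v * f * v⁻¹ = f⁻¹) ∧
      ∀ o ∈ coreC t, ∃ l ∈ coreC t, v * l = l * v ∧ ∃ f ∈ fitO (coreC t), o = l * f := by
  have hnF : ∀ f ∈ fitO (coreC t), v * f * v⁻¹ ∈ fitO (coreC t) := fun f hf =>
    conj_mem_of_mem_normalizer (CharP.normalizer_le_normalizer_map_char _ P.symm.u_normalizes) hf
  have hinv := inverts_of_fixed_bot (P.odd.of_dvd_nat (Subgroup.card_dvd_of_le fitO_le)) P.vv hnF
    fun f hf hfv => by
      by_contra hf1
      obtain ⟨s, hs, i, hi, hi1⟩ := exists_pow_mem_fitP hf hf1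
      have h1 : f ^ i ∈ fitP s (coreC t) ⊓ Subgroup.centralizer ({v} : Set G) :=
        Subgroup.mem_inf.2 ⟨hi, Subgroup.mem_centralizer_singleton_iff.2
          ((show Commute f v from hfv.symm).pow_left i).eq⟩
      rw [hbot s hs, Subgroup.mem_bot] at h1
      exact hi1 h1
  refine ⟨hinv, fun o ho => ?_⟩
  obtain ⟨c, hc, hcv, l, hl, hlv, rfl⟩ := exists_fixed_mul_inverted P.odd P.vv
    (fun y hy => P.symm.conj_mem hy) ho
  refine ⟨c, hc, hcv, l, mem_fitO_of_commute (isSolvable_coreC t) hl fun s hs g hg => ?_, rfl⟩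
  haveI := Fact.mk hs
  exact commute_of_inverted (P.odd_of_mem hl) hlv (hinv g (fitP_le_fitO s hg))
    (hinv _ (fitP_le_fitO s (conj_mem_of_mem_normalizer (le_normalizer_fitP s hl) hg)))

/-- Case A is impossible. -/
theorem caseA_false {p : ℕ} [Fact p.Prime]
    (hp : ¬ fitP p (coreC t) ⊓ Subgroup.centralizer ({u} : Set G) ≤ Subgroup.centralizer ({v} : Set G))
    (hA : ∀ s, s.Prime →
      fitP s (coreC t) ⊓ Subgroup.centralizer ({v} : Set G) ≤ Subgroup.centralizer ({u} : Set G)) : False := by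
  classical
  set O := coreC t with hOdef
  set F := fitO O with hF
  have hbot : ∀ s : ℕ, s.Prime → fitP s O ⊓ Subgroup.centralizer ({v} : Set G) = ⊥ := fun s hs => by
    haveI := Fact.mk hs
    rw [← P.fitP_fixed_bot hp (Or.inl hA) s]
    exact (inf_eq_left.2 (hA s hs)).symm
  obtain ⟨hinv, hfac⟩ := P.fixed_factor hbot
  have hab : ∀ x ∈ F, ∀ y ∈ F, x * y = y * x := fun x hx y hy => commute_of_forall_inverted hinv hx hy
  have hFn : O ≤ Subgroup.normalizer (F : Set G) :=
    Subgroup.le_normalizer.trans (CharP.normalizer_le_normalizer_map_char _)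
  have hmovs : ∀ (s : ℕ) [Fact s.Prime], fitP s O ≠ ⊥ →
      ¬ fitP s O ≤ Subgroup.centralizer ({u} : Set G) := by
    intro s _ hne hle
    have hYle : fitP s O ≤ coreFix t u := le_inf (fitP_le s) hle
    have hmov : ¬ fitP s O ≤ Subgroup.centralizer ({v} : Set G) := fun h =>
      hne (le_bot_iff.1 (hbot s Fact.out ▸ le_inf le_rfl h))
    have hfus := P.fused_fix (p := s) (by rw [inf_eq_left.2 hle]; exact hmov) (fitP_isPGroup s) hne hYle
    obtain ⟨q, y, -, hy, hy1, -, hyu⟩ := P.exists_inverted_prime (K := coreFix t v)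
      (fun z hz => P.symm.mem_fix.2 ⟨P.conj_mem hz.1, P.conj_fixed hz.1 (P.symm.mem_fix.1 hz).2⟩) P.movV
    exact hy1 (P.ly_inverted hne hYle (normalizer_le_normalizer_fitP s P.symm.u_normalizes) hmov hfus hy.1
      (le_normalizer_fitP s hy.1) (P.symm.mem_fix.1 hy).2 hyu)
  -- the fixed part `X` and its normaliser
  set X := fitP p O ⊓ Subgroup.centralizer ({u} : Set G) with hX
  have hXne : X ≠ ⊥ := fun e => hp (e ▸ bot_le)
  have hXp : IsPGroup p X := (fitP_isPGroup p).to_le inf_le_left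
  have hXle : X ≤ coreFix t u := P.symm.fitP_inf_le p
  have hvX : v ∈ Subgroup.normalizer (X : Set G) :=
    Subgroup.mem_normalizer_fintype fun z hz => P.symm.conj_mem_fitP_inf hz
  have hXF : X ≤ F := inf_le_left.trans (fitP_le_fitO p)
  obtain ⟨T, T', hT0, hcop, h2T, hT', hN⟩ :=
    P.counting hXne hXle hvX hp (P.fused_fix hp hXp hXne hXle)
  set A := O ⊓ Subgroup.normalizer (X : Set G) with hAdef
  have hFA : F ≤ A := le_inf fitO_le fun f hf => mem_normalizer_of_commute fun z hz => hab f hf z (hXF hz)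
  have hsN : ∀ (s : ℕ) [Fact s.Prime], fitP s O ≠ ⊥ →
      Nat.card (fitP s O) ∣ T * Nat.card ↥(fitP s O ⊓ Subgroup.centralizer ({u} : Set G)) := fun s _ hne =>
    hN s _ (fitP_isPGroup s) ((fitP_le_fitO s).trans hFA)
      (inf_le_left.trans (le_normalizer_fitP s)) (normalizer_le_normalizer_fitP s P.u_normalizes)
      (P.noConf_of_fitP hne)
  have hFT : T'.Coprime (Nat.card F) := Nat.coprime_of_dvd fun s hs h1 h2 => by
    haveI := Fact.mk hs
    have hne := fitP_ne_bot_of_dvd h2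
    have h3 : s ∣ T := dvd_of_card_dvd (fitP_isPGroup s) inf_le_left
      (fun e => hmovs s hne (inf_eq_left.1 e)) (hsN s hne)
    exact hs.not_dvd_one (hcop ▸ Nat.dvd_gcd h3 h1)
  -- `T'` divides the index of `A`
  have hsplit : Nat.card A = Nat.card F * Nat.card ↥(A ⊓ Subgroup.centralizer ({v} : Set G)) :=
    ModelsC.card_fixed_split (P.odd.of_dvd_nat (Subgroup.card_dvd_of_le fitO_le)) hFA P.vv hinv fun x hx => by
      obtain ⟨l, hl, hlv, f, hf, rfl⟩ := hfac x hx.1
      have hvl : v * l⁻¹ * v⁻¹ = l⁻¹ := by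
        rw [((show Commute v l from hlv).inv_right).eq, mul_inv_cancel_right]
      have h1 : l * f * v * (l * f)⁻¹ * v⁻¹ = l * (f * (v * f⁻¹ * v⁻¹)) * (v * l⁻¹ * v⁻¹) := by group
      rw [h1, hvl, hinv _ (inv_mem hf), inv_inv]
      exact conj_mem_of_mem_normalizer (hFn hl) (mul_mem hf hf)
  set N := A.relIndex O with hNdef
  have hT'N : T' ∣ N := by
    have h1 := Subgroup.relIndex_mul_relIndex ⊥ A O bot_le inf_le_left
    rw [Subgroup.relIndex_bot_left, Subgroup.relIndex_bot_left, hsplit] at h1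
    rw [← h1, show Nat.card F * Nat.card ↥(A ⊓ Subgroup.centralizer ({v} : Set G)) * N =
      N * Nat.card F * Nat.card ↥(A ⊓ Subgroup.centralizer ({v} : Set G)) by ring] at hT'
    exact hFT.dvd_of_dvd_mul_right (Nat.dvd_of_mul_dvd_mul_right Nat.card_pos hT')
  -- the count
  have hspread : ∀ o ∈ O, ∀ x ∈ X, x ≠ 1 → o * x * o⁻¹ ∈ X → o ∈ A := by
    intro o ho x hx hx1 hox
    obtain ⟨l, hl, hlv, f, hf, rfl⟩ := hfac o ho
    have hfx : f * x * f⁻¹ = x := by rw [hab f hf x (hXF hx), mul_inv_cancel_right]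
    rw [show l * f * x * (l * f)⁻¹ = l * (f * x * f⁻¹) * l⁻¹ by group, hfx] at hox
    set j := l⁻¹ * (u * l * u⁻¹) with hj
    have hjO : j ∈ O := mul_mem (inv_mem hl) (P.conj_mem hl)
    have hxu : u * x * u⁻¹ = x := by
      rw [← Subgroup.mem_centralizer_singleton_iff.1 hx.2, mul_inv_cancel_right]
    have hjx : j * x = x * j := by
      have h1 : u * (l * x * l⁻¹) * u⁻¹ = l * x * l⁻¹ := by
        rw [← Subgroup.mem_centralizer_singleton_iff.1 hox.2, mul_inv_cancel_right]
      calc j * x = l⁻¹ * (u * (l * (u⁻¹ * (u * x * u⁻¹) * u) * l⁻¹) * u⁻¹) * (u * l * u⁻¹) := by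
            rw [hj]; nth_rewrite 1 [← hxu]; group
        _ = l⁻¹ * (u * (l * x * l⁻¹) * u⁻¹) * (u * l * u⁻¹) := by group
        _ = x * j := by rw [h1, hj]; group
    have hjv : j * v = v * j := ((show Commute l v from hlv.symm).inv_left.mul_left
      (show Commute (u * l * u⁻¹) v from P.conj_fixed hl hlv.symm)).eq
    have hju : u * j * u⁻¹ = j⁻¹ := by
      have hui := inv_eq_of_mul_eq_one_right P.uu
      rw [hj]
      simp only [_root_.mul_inv_rev, inv_inv, hui, mul_assoc, P.uu, mul_one]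
    have hxC : ∀ z ∈ Subgroup.zpowers x, j * z = z * j := fun z hz => by
      obtain ⟨i, rfl⟩ := Subgroup.mem_zpowers_iff.1 hz
      exact ((show Commute j x from hjx).zpow_right i).eq
    have hxi : v * x * v⁻¹ = x⁻¹ := hinv x (hXF hx)
    have hxle : Subgroup.zpowers x ≤ coreFix t u := Subgroup.zpowers_le.2 (hXle hx)
    have hxne : Subgroup.zpowers x ≠ ⊥ := mt Subgroup.zpowers_eq_bot.1 hx1
    have hj1 : j = 1 := P.ly_inverted hxne hxle (mem_normalizer_zpowers_of_inverted hxi)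
      (P.not_le_centralizer_of_inverted (hXle hx).1 hx1 hxi)
      (P.fused_fix hp (hXp.to_le (Subgroup.zpowers_le.2 hx)) hxne hxle) hjO (mem_normalizer_of_commute hxC)
      hjv hju
    have hlu : l * u = u * l := by
      rw [hj, inv_mul_eq_one] at hj1
      calc l * u = u * l * u⁻¹ * u := by rw [← hj1]
        _ = u * l := inv_mul_cancel_right _ _
    refine Subgroup.mem_inf.2 ⟨ho, mul_mem (Subgroup.mem_normalizer_fintype fun z hz =>
      Subgroup.mem_inf.2 ⟨conj_mem_of_mem_normalizer (le_normalizer_fitP p hl) hz.1, ?_⟩)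
      (Subgroup.mem_inf.1 (hFA hf)).2⟩
    have hl' : l ∈ Subgroup.centralizer ({u} : Set G) := Subgroup.mem_centralizer_singleton_iff.2 hlu
    have hz' : z ∈ Subgroup.centralizer ({u} : Set G) := hz.2
    exact mul_mem (mul_mem hl' hz') (inv_mem hl')
  have hcount : N * (Nat.card X - 1) + 1 ≤ Nat.card (fitP p O) := by
    refine spread_count (1 : fitP p O)
      (fun g x => if h : g * x * g⁻¹ ∈ fitP p O then ⟨_, h⟩ else 1) (fun g hg x hx hx1 => ?_)
      (fun g hg g' hg' x hx x' hx' hx1 _ h => ?_) (fun g hg x hx x' hx' _ _ h => ?_)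
    · have hm : g * x * g⁻¹ ∈ fitP p O := conj_mem_of_mem_normalizer (le_normalizer_fitP p hg) hx.1
      simp only [dif_pos hm]
      exact fun e => hx1 (conj_eq_one_iff.1 (congrArg Subtype.val e))
    · have hm : g * x * g⁻¹ ∈ fitP p O := conj_mem_of_mem_normalizer (le_normalizer_fitP p hg) hx.1
      have hm' : g' * x' * g'⁻¹ ∈ fitP p O := conj_mem_of_mem_normalizer (le_normalizer_fitP p hg') hx'.1
      simp only [dif_pos hm, dif_pos hm'] at h
      refine hspread _ (mul_mem (inv_mem hg') hg) x hx hx1 ?_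
      rw [show g'⁻¹ * g * x * (g'⁻¹ * g)⁻¹ = g'⁻¹ * (g * x * g⁻¹) * g' by group,
        show g * x * g⁻¹ = g' * x' * g'⁻¹ from congrArg Subtype.val h]
      simpa [mul_assoc] using hx'
    · have hm : g * x * g⁻¹ ∈ fitP p O := conj_mem_of_mem_normalizer (le_normalizer_fitP p hg) hx.1
      have hm' : g * x' * g⁻¹ ∈ fitP p O := conj_mem_of_mem_normalizer (le_normalizer_fitP p hg) hx'.1
      simp only [dif_pos hm, dif_pos hm'] at h
      exact mul_left_cancel (mul_right_cancel (congrArg Subtype.val h))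
  have hFp : fitP p O ≠ ⊥ := fun e => hXne (le_bot_iff.1 (e ▸ inf_le_left))
  set b := X.relIndex (fitP p O) with hb
  have hXb := Subgroup.relIndex_mul_relIndex ⊥ X (fitP p O) bot_le inf_le_left
  rw [Subgroup.relIndex_bot_left, Subgroup.relIndex_bot_left] at hXb
  have hFodd : Odd (Nat.card (fitP p O)) := P.odd.of_dvd_nat (Subgroup.card_dvd_of_le (fitP_le p))
  have hb3 : 3 ≤ b := by
    have h1 : Odd b := hFodd.of_dvd_nat (hXb ▸ dvd_mul_left _ _)
    have h2 : b ≠ 1 := fun e => hmovs p hFp ((Subgroup.relIndex_eq_one.1 e).trans inf_le_right)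
    obtain ⟨k, hk⟩ := h1
    omega
  have ha3 : 3 ≤ Nat.card X := by
    have h1 : Odd (Nat.card X) := hFodd.of_dvd_nat (hXb ▸ dvd_mul_right _ _)
    have h2 : Nat.card X ≠ 1 := fun e => hXne (Subgroup.card_eq_one.1 e)
    obtain ⟨k, hk⟩ := h1
    omega
  have hbT : b ∣ T := by
    have h1 := hsN p hFp
    rw [← hXb, mul_comm T] at h1
    exact Nat.dvd_of_mul_dvd_mul_left Nat.card_pos h1
  exact count_false ha3 (by omega) le_rfl hb3 (Nat.le_of_dvd hT0 hbT) h2T
    (Nat.le_of_dvd (Nat.pos_of_ne_zero Subgroup.index_ne_zero_of_finite) hT'N) (hXb ▸ hcount)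

end Pair

end Cfsg.Agent.Lib.GorensteinWalter
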