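import Cfsg.Agent.Lib.GorensteinWalter.ComparableA

/-!
# Section C: both reflections move `O_p(O)`: the second centre

`Q`, the second centre of `P = O_p(O)`, is `(Q ∩ C(u)) (Q ∩ C(v)) Z(P)`, and `Z(P)` is inverted by `u` and `v`.
-/

set_option autoImplicit false
set_option linter.unusedSectionVars false
set_option linter.style.haveILetI false

namespace Cfsg.Agent.Lib.GorensteinWalter

open Cfsg.Agent.Lib.Fusion.Dihedral

universe u

variable {G : Type u} [Group G] [Finite G]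

/-- The centre of `O_p(O)`. -/
def fitZ (p : ℕ) (O : Subgroup G) : Subgroup G :=
  fitP p O ⊓ Subgroup.centralizer (fitP p O : Set G)

section

variable {p : ℕ} {O : Subgroup G}

theorem fitZ_le : fitZ p O ≤ fitP p O := inf_le_left

theorem fitZ_comm {z g : G} (hz : z ∈ fitZ p O) (hg : g ∈ fitP p O) : z * g = g * z :=
  (Subgroup.mem_centralizer_iff.1 (Subgroup.mem_inf.1 hz).2 g hg).symm

theorem normalizer_le_normalizer_fitZ :
    Subgroup.normalizer (fitP p O : Set G) ≤ Subgroup.normalizer (fitZ p O : Set G) := fun _ hn =>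
  Subgroup.mem_normalizer_fintype fun _ hz => Subgroup.mem_inf.2
    ⟨conj_mem_of_mem_normalizer hn hz.1,
      conj_mem_of_mem_normalizer (normalizer_le_normalizer_centralizer _ hn) hz.2⟩

end

/-- The second centre of `O_p(O)`. -/
def fitQ (p : ℕ) (O : Subgroup G) : Subgroup G where
  carrier := {q | q ∈ fitP p O ∧ ∀ g ∈ fitP p O, q * g * q⁻¹ * g⁻¹ ∈ fitZ p O}
  one_mem' := ⟨one_mem _, fun g _ => by simp [one_mem]⟩
  mul_mem' := by
    rintro a b ⟨ha, ha'⟩ ⟨hb, hb'⟩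
    refine ⟨mul_mem ha hb, fun g hg => ?_⟩
    have h := fitZ_comm (hb' g hg) ha
    rw [show a * b * g * (a * b)⁻¹ * g⁻¹ = a * (b * g * b⁻¹ * g⁻¹) * a⁻¹ * (a * g * a⁻¹ * g⁻¹) by group,
      ← h, mul_inv_cancel_right]
    exact mul_mem (hb' g hg) (ha' g hg)
  inv_mem' := by
    rintro a ⟨ha, ha'⟩
    refine ⟨inv_mem ha, fun g hg => ?_⟩
    have h := fitZ_comm (inv_mem (ha' g hg)) (inv_mem ha)
    rw [show a⁻¹ * g * a⁻¹⁻¹ * g⁻¹ = a⁻¹ * (a * g * a⁻¹ * g⁻¹)⁻¹ * a by group, ← h, inv_mul_cancel_right]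
    exact inv_mem (ha' g hg)

section

variable {p : ℕ} {O : Subgroup G}

theorem fitQ_le : fitQ p O ≤ fitP p O := fun _ h => h.1

theorem fitZ_le_fitQ : fitZ p O ≤ fitQ p O := fun z hz => ⟨fitZ_le hz, fun g hg => by
  rw [fitZ_comm hz hg, mul_inv_cancel_right, mul_inv_cancel]; exact one_mem _⟩

theorem fitQ_comm_mem {q g : G} (hq : q ∈ fitQ p O) (hg : g ∈ fitP p O) :
    q * g * q⁻¹ * g⁻¹ ∈ fitZ p O := hq.2 g hg

theorem normalizer_le_normalizer_fitQ :
    Subgroup.normalizer (fitP p O : Set G) ≤ Subgroup.normalizer (fitQ p O : Set G) := fun n hn =>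
  Subgroup.mem_normalizer_fintype fun q hq => by
    refine ⟨conj_mem_of_mem_normalizer hn hq.1, fun g hg => ?_⟩
    have h1 := conj_mem_of_mem_normalizer (normalizer_le_normalizer_fitZ hn)
      (hq.2 (n⁻¹ * g * n) ((Subgroup.mem_normalizer_iff''.1 hn g).1 hg))
    convert h1 using 1
    group

theorem exists_fitQ_not_fitZ [Fact p.Prime] (hne : fitZ p O ≠ fitP p O) :
    ∃ q ∈ fitQ p O, q ∉ fitZ p O := by
  set P := fitP p O with hP
  set Z := fitZ p O with hZ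
  haveI : (Z.subgroupOf P).Normal := Subgroup.normal_subgroupOf_of_le_normalizer
    (Subgroup.le_normalizer.trans normalizer_le_normalizer_fitZ)
  have hPp : IsPGroup p P := fitP_isPGroup p
  have hQp : IsPGroup p (P ⧸ Z.subgroupOf P) := hPp.to_quotient _
  haveI : Nontrivial (P ⧸ Z.subgroupOf P) := by
    obtain ⟨x, hx, hxZ⟩ := SetLike.exists_of_lt (lt_of_le_of_ne fitZ_le hne : Z < P)
    exact ⟨⟨QuotientGroup.mk ⟨x, hx⟩, 1, fun h => hxZ
      (Subgroup.mem_subgroupOf.1 ((QuotientGroup.eq_one_iff _).1 h))⟩⟩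
  haveI := hQp.center_nontrivial
  obtain ⟨c, hc1⟩ := exists_ne (1 : Subgroup.center (P ⧸ Z.subgroupOf P))
  obtain ⟨q, hq⟩ := QuotientGroup.mk_surjective (c : P ⧸ Z.subgroupOf P)
  refine ⟨q, ⟨q.2, fun g hg => ?_⟩, fun h => hc1 (Subtype.ext ?_)⟩
  · have h1 : QuotientGroup.mk' (Z.subgroupOf P) (q * ⟨g, hg⟩ * q⁻¹ * (⟨g, hg⟩ : P)⁻¹) = 1 := by
      simp only [map_mul, map_inv, QuotientGroup.mk'_apply, hq]
      rw [← Subgroup.mem_center_iff.1 c.2 _, mul_inv_cancel_right, mul_inv_cancel]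
    exact Subgroup.mem_subgroupOf.1 ((QuotientGroup.eq_one_iff _).1 h1)
  · rw [← hq, Subgroup.coe_one]
    exact (QuotientGroup.eq_one_iff q).2 (Subgroup.mem_subgroupOf.2 h)

end

namespace Pair

variable {S : Sylow 2 G} {t u v : G} (P : Pair S t u v) {p : ℕ} [Fact p.Prime]
  (hu : ¬ fitP p (coreC t) ⊓ Subgroup.centralizer ({u} : Set G) ≤ Subgroup.centralizer ({v} : Set G))
  (hv : ¬ fitP p (coreC t) ⊓ Subgroup.centralizer ({v} : Set G) ≤ Subgroup.centralizer ({u} : Set G))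
include P hu hv

/-- Nothing but `1` in `O_s(O)` is fixed by both. -/
theorem eq_one_of_fixed_both {s : ℕ} [Fact s.Prime] {x : G} (hx : x ∈ fitP s (coreC t))
    (hxu : x * u = u * x) (hxv : x * v = v * x) : x = 1 := by
  have h : x ∈ fitP s (coreC t) ⊓ Subgroup.centralizer ({v} : Set G) ⊓
      Subgroup.centralizer ({u} : Set G) :=
    ⟨⟨hx, Subgroup.mem_centralizer_singleton_iff.2 hxv⟩, Subgroup.mem_centralizer_singleton_iff.2 hxu⟩
  rwa [P.fitP_fixed_bot hu (Or.inr hv) s, Subgroup.mem_bot] at h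

/-- What `u` fixes in `O_p(O)`, `v` inverts. -/
theorem inverted_of_fixed {x : G} (hx : x ∈ fitP p (coreC t)) (hxu : x * u = u * x) :
    v * x * v⁻¹ = x⁻¹ := by
  refine inverts_of_fixed_bot (O := fitP p (coreC t) ⊓ Subgroup.centralizer ({u} : Set G))
    (P.odd.of_dvd_nat (Subgroup.card_dvd_of_le (inf_le_left.trans (fitP_le p)))) P.vv
    (fun y hy => P.symm.conj_mem_fitP_inf hy)
    (fun y hy h => P.eq_one_of_fixed_both hu hv hy.1 (Subgroup.mem_centralizer_singleton_iff.1 hy.2) h.symm)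
    x ⟨hx, Subgroup.mem_centralizer_singleton_iff.2 hxu⟩

/-- A nontrivial element fixed by `u` commutes with none fixed by `v`. -/
theorem eq_one_of_commute {x y : G} (hx : x ∈ fitP p (coreC t)) (hxu : x * u = u * x) (hx1 : x ≠ 1)
    (hy : y ∈ fitP p (coreC t)) (hyv : y * v = v * y) (hxy : x * y = y * x) : y = 1 := by
  have hxle : Subgroup.zpowers x ≤ coreFix t u := Subgroup.zpowers_le.2 (P.mem_fix.2 ⟨fitP_le p hx, hxu⟩)
  have hxi := P.inverted_of_fixed hu hv hx hxu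
  have hne : Subgroup.zpowers x ≠ ⊥ := mt Subgroup.zpowers_eq_bot.1 hx1
  refine P.eq_one_of_fixed_both hu hv hy (P.ly hne hxle (mem_normalizer_zpowers_of_inverted hxi)
    (P.not_le_centralizer_of_inverted (fitP_le p hx) hx1 hxi)
    (P.fused_fix hu ((fitP_isPGroup p).to_le (Subgroup.zpowers_le.2 hx)) hne hxle) (fitP_le p hy)
    (mem_normalizer_of_commute fun z hz => ?_) hyv) hyv
  obtain ⟨i, rfl⟩ := Subgroup.mem_zpowers_iff.1 hz
  exact ((show Commute y x from hxy.symm).zpow_right i).eq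

/-- The primes other than `p` are inverted by `u`. -/
theorem eq_one_of_fixed_other {s : ℕ} [Fact s.Prime] (hsp : s ≠ p) {f : G} (hf : f ∈ fitP s (coreC t))
    (hfu : f * u = u * f) : f = 1 := by
  refine P.eq_one_of_fixed_both hu hv hf hfu ?_
  by_contra hfv
  exact hsp (P.moved_prime_eq (fun h => hfv (Subgroup.mem_centralizer_singleton_iff.1
    (h ⟨hf, Subgroup.mem_centralizer_singleton_iff.2 hfu⟩))) hv)

/-- `u` fixes nothing in the centre. -/
theorem fitZ_fixed {z : G} (hz : z ∈ fitZ p (coreC t)) (hzu : z * u = u * z) : z = 1 := by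
  by_contra hz1
  obtain ⟨y, hy, hyu⟩ := SetLike.not_le_iff_exists.1 hv
  refine hyu ?_
  rw [P.eq_one_of_commute hu hv (fitZ_le hz) hzu hz1 hy.1
    (Subgroup.mem_centralizer_singleton_iff.1 hy.2) (fitZ_comm hz hy.1)]
  exact one_mem _

theorem fitZ_inverted {z : G} (hz : z ∈ fitZ p (coreC t)) : u * z * u⁻¹ = z⁻¹ :=
  inverts_of_fixed_bot (P.odd.of_dvd_nat (Subgroup.card_dvd_of_le (fitZ_le.trans (fitP_le p)))) P.uu
    (fun _ h => conj_mem_of_mem_normalizer
      (normalizer_le_normalizer_fitZ (normalizer_le_normalizer_fitP p P.u_normalizes)) h)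
    (fun _ hy h => P.fitZ_fixed hu hv hy h.symm) z hz

theorem fitZ_ne_bot : fitZ p (coreC t) ≠ ⊥ := by
  set F := fitP p (coreC t) with hF
  have hFp : IsPGroup p F := fitP_isPGroup p
  haveI : Nontrivial F := by
    obtain ⟨x, hx, hxv⟩ := SetLike.not_le_iff_exists.1 hu
    exact ⟨⟨⟨x, hx.1⟩, 1, fun h => hxv (by rw [show x = 1 from congrArg Subtype.val h]; exact one_mem _)⟩⟩
  haveI := hFp.center_nontrivial
  obtain ⟨c, hc⟩ := exists_ne (1 : Subgroup.center F)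
  intro e
  have h1 : ((c : F) : G) ∈ fitZ p (coreC t) := Subgroup.mem_inf.2 ⟨(c : F).2,
    Subgroup.mem_centralizer_iff.2 fun g hg => congrArg Subtype.val (Subgroup.mem_center_iff.1 c.2 ⟨g, hg⟩)⟩
  rw [e, Subgroup.mem_bot] at h1
  exact hc (Subtype.ext (Subtype.ext h1))

/-- What `u v` fixes, `u` inverts. -/
theorem inverted_of_fixed_prod {z : G} (hz : z ∈ fitP p (coreC t)) (hzr : z * (u * v) = u * v * z) :
    u * z * u⁻¹ = z⁻¹ := by
  have hui := inv_eq_of_mul_eq_one_right P.uu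
  have hvi := inv_eq_of_mul_eq_one_right P.vv
  refine inverts_of_fixed_bot (O := fitP p (coreC t) ⊓ Subgroup.centralizer ({u * v} : Set G))
    (P.odd.of_dvd_nat (Subgroup.card_dvd_of_le (inf_le_left.trans (fitP_le p)))) P.uu (fun y hy => ?_)
    (fun y hy h => ?_) z ⟨hz, Subgroup.mem_centralizer_singleton_iff.2 hzr⟩
  · have hc : Commute y (u * v) := Subgroup.mem_centralizer_singleton_iff.1 hy.2
    refine Subgroup.mem_inf.2 ⟨conj_mem_of_mem_normalizer (normalizer_le_normalizer_fitP p P.u_normalizes) hy.1,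
      Subgroup.mem_centralizer_singleton_iff.2 ?_⟩
    have h1 : u * (u * v)⁻¹ * u⁻¹ = u * v := by
      rw [_root_.mul_inv_rev, hui, hvi, show u * (v * u) * u = u * v * (u * u) by group, P.uu, mul_one]
    conv_lhs => rw [← h1]
    conv_rhs => rw [← h1]
    calc u * y * u⁻¹ * (u * (u * v)⁻¹ * u⁻¹) = u * (y * (u * v)⁻¹) * u⁻¹ := by group
      _ = u * ((u * v)⁻¹ * y) * u⁻¹ := by rw [hc.inv_right.eq]
      _ = u * (u * v)⁻¹ * u⁻¹ * (u * y * u⁻¹) := by group
  · have hc : y * (u * v) = u * v * y := Subgroup.mem_centralizer_singleton_iff.1 hy.2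
    refine P.eq_one_of_fixed_both hu hv hy.1 h.symm (mul_left_cancel (a := u) ?_)
    calc u * (y * v) = y * (u * v) := by rw [← mul_assoc, h, mul_assoc]
      _ = u * (v * y) := by rw [hc, mul_assoc]

/-- An element of the second centre fixed by `u v` is central. -/
theorem mem_fitZ_of_fixed_prod {z : G} (hz : z ∈ fitQ p (coreC t)) (hzr : z * (u * v) = u * v * z) :
    z ∈ fitZ p (coreC t) := by
  set F := fitP p (coreC t) with hF
  have hzu := P.inverted_of_fixed_prod hu hv (fitQ_le hz) hzr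
  have hzv : v * z * v⁻¹ = z⁻¹ := by
    have hui := inv_eq_of_mul_eq_one_right P.uu
    calc v * z * v⁻¹ = u⁻¹ * (u * v * z * (u * v)⁻¹) * u := by group
      _ = u⁻¹ * z * u := by rw [← hzr, mul_inv_cancel_right]
      _ = z⁻¹ := by rw [hui]; rwa [hui] at hzu
  set φ : G → G := fun g => z * g * z⁻¹ * g⁻¹ with hφ
  have hφZ : ∀ g ∈ F, φ g ∈ fitZ p (coreC t) := fun g hg => fitQ_comm_mem hz hg
  have hφmul : ∀ g ∈ F, ∀ h ∈ F, φ (g * h) = φ g * φ h := fun g hg h hh => by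
    have h1 := fitZ_comm (hφZ h hh) hg
    calc φ (g * h) = φ g * (g * φ h * g⁻¹) := by simp only [hφ]; group
      _ = φ g * φ h := by rw [← h1, mul_inv_cancel_right]
  have hφodd : ∀ g ∈ F, Odd (orderOf (φ g)) := fun g hg => P.odd_of_mem (fitP_le p (fitZ_le (hφZ g hg)))
  have hφconj : ∀ s : G, s * z * s⁻¹ = z⁻¹ → (∀ y ∈ fitZ p (coreC t), s * y * s⁻¹ = y⁻¹) →
      s ∈ Subgroup.normalizer (F : Set G) → ∀ g ∈ F, φ (s * g * s⁻¹) = φ g := by
    intro s hsz hsZ hsn g hg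
    set g' := s * g * s⁻¹ with hg'
    have hg'F : g' ∈ F := conj_mem_of_mem_normalizer hsn hg
    have h1 : (φ g)⁻¹ = z⁻¹ * g' * z * g'⁻¹ := by
      rw [← hsZ _ (hφZ g hg)]
      calc s * φ g * s⁻¹ = (s * z * s⁻¹) * g' * (s * z * s⁻¹)⁻¹ * g'⁻¹ := by
            simp only [hφ, hg']; group
        _ = z⁻¹ * g' * z * g'⁻¹ := by rw [hsz, inv_inv]
    have h2 : z⁻¹ * g' * z * g'⁻¹ = (φ g')⁻¹ := by
      have h3 := fitZ_comm (inv_mem (hφZ g' hg'F)) (inv_mem (fitQ_le hz))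
      calc z⁻¹ * g' * z * g'⁻¹ = z⁻¹ * (φ g')⁻¹ * z := by simp only [hφ]; group
        _ = (φ g')⁻¹ := by rw [← h3, inv_mul_cancel_right]
    exact (inv_injective (h1.trans h2)).symm
  have hnu := normalizer_le_normalizer_fitP p P.u_normalizes
  have hnv := normalizer_le_normalizer_fitP p P.symm.u_normalizes
  have hFodd : Odd (Nat.card F) := P.odd.of_dvd_nat (Subgroup.card_dvd_of_le (fitP_le p))
  have hinv : ∀ s g : G, g ∈ F → s * g * s⁻¹ = g⁻¹ → φ (s * g * s⁻¹) = φ g → φ g = 1 := fun s g hg hsg h => by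
    rw [hsg] at h
    have h1 : φ g * φ g = 1 := by
      nth_rewrite 2 [← h]
      rw [← hφmul g hg g⁻¹ (inv_mem hg), mul_inv_cancel]
      simp [hφ]
    exact eq_one_of_eq_inv (hφodd g hg) (mul_eq_one_iff_eq_inv.1 h1)
  refine Subgroup.mem_inf.2 ⟨fitQ_le hz, Subgroup.mem_centralizer_iff.2 fun g hg => ?_⟩
  obtain ⟨c, hc, hcu, l, hl, hlu, rfl⟩ := exists_fixed_mul_inverted hFodd P.uu
    (fun y hy => conj_mem_of_mem_normalizer hnu hy) hg
  have h1 : φ c = 1 := hinv v c hc (P.inverted_of_fixed hu hv hc hcu.symm)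
    (hφconj v hzv (fun y hy => P.symm.fitZ_inverted hv hu hy) hnv c hc)
  have h2 : φ l = 1 := hinv u l hl hlu (hφconj u hzu (fun y hy => P.fitZ_inverted hu hv hy) hnu l hl)
  have h3 : φ (c * l) = 1 := by rw [hφmul c hc l hl, h1, h2, one_mul]
  exact (mul_inv_eq_iff_eq_mul.1 (mul_inv_eq_one.1 h3)).symm

/-- The second centre is `(Q ∩ C(u)) (Q ∩ C(v)) Z`. -/
theorem fitQ_factor {q : G} (hq : q ∈ fitQ p (coreC t)) :
    ∃ x ∈ fitQ p (coreC t), x * u = u * x ∧ ∃ y ∈ fitQ p (coreC t), y * v = v * y ∧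
      ∃ z ∈ fitZ p (coreC t), q = x * y * z := by
  set Q := fitQ p (coreC t) with hQ
  have hodd : Odd (Nat.card Q) := P.odd.of_dvd_nat (Subgroup.card_dvd_of_le (fitQ_le.trans (fitP_le p)))
  have hnu := normalizer_le_normalizer_fitQ (normalizer_le_normalizer_fitP p P.u_normalizes)
  have hnv := normalizer_le_normalizer_fitQ (normalizer_le_normalizer_fitP p P.symm.u_normalizes)
  obtain ⟨c, hc, hcu, l, hl, hlu, rfl⟩ := exists_fixed_mul_inverted hodd P.uu
    (fun y hy => conj_mem_of_mem_normalizer hnu hy) hq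
  obtain ⟨d, hd, hdv, e, he, hev, rfl⟩ := exists_fixed_mul_inverted hodd P.vv
    (fun y hy => conj_mem_of_mem_normalizer hnv hy) hl
  have hdu : u * d * u⁻¹ = d⁻¹ := P.symm.inverted_of_fixed hv hu (fitQ_le hd) hdv.symm
  have h1 : u * e * u⁻¹ = d * e⁻¹ * d⁻¹ := by
    calc u * e * u⁻¹ = (u * d * u⁻¹)⁻¹ * (u * (d * e) * u⁻¹) := by group
      _ = d * e⁻¹ * d⁻¹ := by rw [hdu, hlu]; group
  set z1 := e * d * e⁻¹ * d⁻¹ with hz1
  have hz1Z : z1 ∈ fitZ p (coreC t) := fitQ_comm_mem he (fitQ_le hd)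
  have hue : u * e * u⁻¹ = e⁻¹ * z1 := by rw [h1, hz1]; group
  have hz11 : z1 = 1 := by
    have hzc : z1⁻¹ * e = e * z1⁻¹ := fitZ_comm (inv_mem hz1Z) (fitQ_le he)
    have h2 : e = e * (z1⁻¹ * z1⁻¹) := by
      calc e = (u * u) * e * (u * u)⁻¹ := by rw [P.uu]; group
        _ = u * (u * e * u⁻¹) * u⁻¹ := by group
        _ = u * (e⁻¹ * z1) * u⁻¹ := by rw [hue]
        _ = (u * e * u⁻¹)⁻¹ * (u * z1 * u⁻¹) := by group
        _ = z1⁻¹ * e * z1⁻¹ := by rw [hue, P.fitZ_inverted hu hv hz1Z]; group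
        _ = e * (z1⁻¹ * z1⁻¹) := by rw [hzc, mul_assoc]
    have h3 : z1⁻¹ * z1⁻¹ = 1 := mul_eq_left.1 h2.symm
    exact inv_eq_one.1 (eq_one_of_eq_inv (P.odd_of_mem (fitP_le p (fitZ_le (inv_mem hz1Z))))
      (mul_eq_one_iff_eq_inv.1 h3))
  rw [hz11, mul_one] at hue
  refine ⟨c, hc, hcu.symm, d, hd, hdv.symm, e, P.mem_fitZ_of_fixed_prod hu hv he ?_, by group⟩
  have h4 : u * v * e * (u * v)⁻¹ = e := by
    calc u * v * e * (u * v)⁻¹ = u * (v * e * v⁻¹) * u⁻¹ := by group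
      _ = (u * e * u⁻¹)⁻¹ := by rw [hev]; group
      _ = e := by rw [hue, inv_inv]
  exact (mul_inv_eq_iff_eq_mul.1 h4).symm

end Pair

end Cfsg.Agent.Lib.GorensteinWalter
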