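import Cfsg.Agent.Lib.GorensteinWalter.ComparableB1

/-!
# Section C: both reflections move `O_p(O)`: elements of the normaliser of `Y`

Inverted elements of order prime to `p` are trivial on `O_p(O)`, so trivial when their prime does not divide
`|F(O)|`.
-/

set_option autoImplicit false
set_option linter.unusedSectionVars false
set_option linter.style.haveILetI false

namespace Cfsg.Agent.Lib.GorensteinWalter

open Cfsg.Agent.Lib.Fusion.Dihedral

universe u

variable {G : Type u} [Group G] [Finite G]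

/-- `Q ∩ C(u)`. -/
abbrev fitY (p : ℕ) (O : Subgroup G) (u : G) : Subgroup G :=
  fitQ p O ⊓ Subgroup.centralizer ({u} : Set G)

/-- `(Q ∩ C(u)) Z`. -/
abbrev fitW (p : ℕ) (O : Subgroup G) (u : G) : Subgroup G := fitY p O u ⊔ fitZ p O

theorem mem_fitW {p : ℕ} {O : Subgroup G} {u w : G} :
    w ∈ fitW p O u ↔ ∃ y ∈ fitY p O u, ∃ z ∈ fitZ p O, w = y * z := by
  have hn : fitZ p O ≤ Subgroup.normalizer (fitY p O u : Set G) := fun z hz =>
    Subgroup.mem_normalizer_fintype fun y hy => by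
      rw [SetLike.mem_coe, fitZ_comm hz (fitQ_le hy.1), mul_inv_cancel_right]; exact hy
  constructor
  · intro h
    rw [← SetLike.mem_coe, Subgroup.coe_mul_of_right_le_normalizer_left _ _ hn] at h
    obtain ⟨y, hy, z, hz, rfl⟩ := h
    exact ⟨y, hy, z, hz, rfl⟩
  · rintro ⟨y, hy, z, hz, rfl⟩
    exact Subgroup.mul_mem_sup hy hz

theorem fitW_le {p : ℕ} {O : Subgroup G} {u : G} : fitW p O u ≤ fitQ p O :=
  sup_le inf_le_left fitZ_le_fitQ

namespace Pair

variable {S : Sylow 2 G} {t u v : G} (P : Pair S t u v) {p : ℕ} [Fact p.Prime]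
  (hu : ¬ fitP p (coreC t) ⊓ Subgroup.centralizer ({u} : Set G) ≤ Subgroup.centralizer ({v} : Set G))
  (hv : ¬ fitP p (coreC t) ⊓ Subgroup.centralizer ({v} : Set G) ≤ Subgroup.centralizer ({u} : Set G))
include P hu hv

theorem fitY_fixed {w : G} (hw : w ∈ fitW p (coreC t) u) (hwu : w * u = u * w) :
    w ∈ fitY p (coreC t) u := by
  obtain ⟨y, hy, z, hz, rfl⟩ := mem_fitW.1 hw
  have hyu : Commute y u := Subgroup.mem_centralizer_singleton_iff.1 hy.2
  have hzu : Commute z u := by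
    have h := hyu.inv_left.mul_left (show Commute (y * z) u from hwu)
    rwa [inv_mul_cancel_left] at h
  rw [P.fitZ_fixed hu hv hz hzu.eq, mul_one]
  exact hy

theorem fitW_comm {a b : G} (ha : a ∈ fitW p (coreC t) u) (hb : b ∈ fitW p (coreC t) u) : a * b = b * a := by
  obtain ⟨y, hy, z, hz, rfl⟩ := mem_fitW.1 ha
  obtain ⟨y', hy', z', hz', rfl⟩ := mem_fitW.1 hb
  have hyy : Commute y y' := commute_of_forall_inverted (K := fitY p (coreC t) u) (s := v)
    (fun w hw => P.inverted_of_fixed hu hv (fitQ_le hw.1) (Subgroup.mem_centralizer_singleton_iff.1 hw.2)) hy hy'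
  have h1 : Commute z y' := fitZ_comm hz (fitQ_le hy'.1)
  have h2 : Commute z' y := fitZ_comm hz' (fitQ_le hy.1)
  have h3 : Commute z z' := fitZ_comm hz (fitZ_le hz')
  exact ((hyy.mul_right h2.symm).mul_left (h1.mul_right h3)).eq

/-- `C_Q(x) = Y Z` for `x ∈ Y`, `x ≠ 1`. -/
theorem centralizer_fitQ {x q : G} (hx : x ∈ fitY p (coreC t) u) (hx1 : x ≠ 1)
    (hq : q ∈ fitQ p (coreC t)) (hxq : x * q = q * x) : q ∈ fitW p (coreC t) u := by
  obtain ⟨a, ha, hau, b, hb, hbv, z, hz, rfl⟩ := P.fitQ_factor hu hv hq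
  have haY : a ∈ fitY p (coreC t) u := ⟨ha, Subgroup.mem_centralizer_singleton_iff.2 hau⟩
  have hxa : Commute x a := P.fitW_comm hu hv (Subgroup.mem_sup_left hx) (Subgroup.mem_sup_left haY)
  have hxz : Commute x z := (fitZ_comm hz (fitQ_le hx.1)).symm
  have hxb : Commute x b := by
    have h := (hxa.inv_right.mul_right (show Commute x (a * b * z) from hxq)).mul_right hxz.inv_right
    rwa [show a⁻¹ * (a * b * z) * z⁻¹ = b by group] at h
  rw [P.eq_one_of_commute hu hv (fitQ_le hx.1) (Subgroup.mem_centralizer_singleton_iff.1 hx.2) hx1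
    (fitQ_le hb) hbv hxb.eq, mul_one]
  exact Subgroup.mul_mem_sup haY hz

/-- A `u`-inverted element of order prime to `p` normalising `Y Z` normalises `Y`. -/
theorem mem_normalizer_fitY_of_inverted {q : ℕ} [Fact q.Prime] (hqp : q ≠ p) {l : G} (hl : l ∈ coreC t)
    {k : ℕ} (hk : l ^ q ^ k = 1) (hlu : u * l * u⁻¹ = l⁻¹)
    (hn : l ∈ Subgroup.normalizer (fitW p (coreC t) u : Set G)) :
    l ∈ Subgroup.normalizer (fitY p (coreC t) u : Set G) := by
  refine Subgroup.mem_normalizer_fintype fun x hx => ?_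
  obtain ⟨y, hy, z, hz, hlx⟩ := mem_fitW.1 (conj_mem_of_mem_normalizer hn (Subgroup.mem_sup_left hx))
  have hnl : l ∈ Subgroup.normalizer (fitZ p (coreC t) : Set G) :=
    normalizer_le_normalizer_fitZ (le_normalizer_fitP p hl)
  have hlz : Commute l z := commute_of_inverted (P.odd_of_mem hl) hlu (P.fitZ_inverted hu hv hz)
    (P.fitZ_inverted hu hv (conj_mem_of_mem_normalizer hnl hz))
  have hyu : u * y * u⁻¹ = y := by
    rw [← Subgroup.mem_centralizer_singleton_iff.1 hy.2, mul_inv_cancel_right]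
  have hxu : u * x * u⁻¹ = x := by
    rw [← Subgroup.mem_centralizer_singleton_iff.1 hx.2, mul_inv_cancel_right]
  have h2 : l⁻¹ * x * l = y * z⁻¹ := by
    calc l⁻¹ * x * l = (u * l * u⁻¹) * (u * x * u⁻¹) * (u * l * u⁻¹)⁻¹ := by rw [hlu, hxu, inv_inv]
      _ = u * (l * x * l⁻¹) * u⁻¹ := by group
      _ = (u * y * u⁻¹) * (u * z * u⁻¹) := by rw [hlx]; group
      _ = y * z⁻¹ := by rw [hyu, P.fitZ_inverted hu hv hz]
  have h3 : l * l * y * (l * l)⁻¹ = y * (z * z) := by
    have h4 : l * l * z * (l * l)⁻¹ = z := by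
      rw [(hlz.mul_left hlz).eq, mul_inv_cancel_right]
    calc l * l * y * (l * l)⁻¹ = l * l * (y * z⁻¹) * (l * l)⁻¹ * (l * l * z * (l * l)⁻¹) := by group
      _ = l * l * (l⁻¹ * x * l) * (l * l)⁻¹ * z := by rw [h2, h4]
      _ = l * x * l⁻¹ * z := by group
      _ = y * (z * z) := by rw [hlx, mul_assoc]
  obtain ⟨j, hj⟩ := fitP_isPGroup p (⟨_, fitZ_le (mul_mem hz hz)⟩ : fitP p (coreC t))
  have hzz : z * z = 1 := eq_one_of_conj_mul h3
    (((hlz.mul_left hlz).mul_right (hlz.mul_left hlz)).eq) (coprime_orderOf_of_pow hqp (k := k) (l := j)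
      (by rw [(Commute.refl l).mul_pow, hk, one_mul]) (congrArg Subtype.val hj))
  rw [SetLike.mem_coe, hlx, eq_one_of_eq_inv (P.odd_of_mem (fitP_le p (fitZ_le hz)))
    (mul_eq_one_iff_eq_inv.1 hzz), mul_one]
  exact hy

/-- A `v`-inverted element of order prime to `|F(O)|` normalising `Y ≠ 1` is trivial. -/
theorem eq_one_of_inverted {q : ℕ} [Fact q.Prime] (hqp : q ≠ p) (hFq : fitP q (coreC t) = ⊥)
    (hY : fitY p (coreC t) u ≠ ⊥) {l : G} (hl : l ∈ coreC t) {k : ℕ} (hk : l ^ q ^ k = 1)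
    (hlv : v * l * v⁻¹ = l⁻¹) (hn : l ∈ Subgroup.normalizer (fitY p (coreC t) u : Set G)) : l = 1 := by
  set O := coreC t with hO
  have hlodd := P.odd_of_mem hl
  have hnP : l ∈ Subgroup.normalizer (fitP p O : Set G) := le_normalizer_fitP p hl
  have hlY : ∀ x ∈ fitY p O u, l * x = x * l := fun x hx => by
    have h := fun y (hy : y ∈ fitY p O u) =>
      P.inverted_of_fixed hu hv (fitQ_le hy.1) (Subgroup.mem_centralizer_singleton_iff.1 hy.2)
    exact commute_of_inverted hlodd hlv (h x hx) (h _ (conj_mem_of_mem_normalizer hn hx))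
  have hlZ : ∀ z ∈ fitZ p O, l * z = z * l := fun z hz =>
    commute_of_inverted hlodd hlv (P.symm.fitZ_inverted hv hu hz)
      (P.symm.fitZ_inverted hv hu (conj_mem_of_mem_normalizer (normalizer_le_normalizer_fitZ hnP) hz))
  have hlW : ∀ w ∈ fitW p O u, l * w = w * l := fun w hw => by
    obtain ⟨y, hy, z, hz, rfl⟩ := mem_fitW.1 hw
    exact ((show Commute l y from hlY y hy).mul_right (hlZ z hz)).eq
  have hcop : ∀ d ∈ fitP p O, (orderOf l).Coprime (orderOf d) := fun d hd => by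
    obtain ⟨j, hj⟩ := fitP_isPGroup p (⟨d, hd⟩ : fitP p O)
    exact coprime_orderOf_of_pow hqp hk (congrArg Subtype.val hj)
  obtain ⟨x₀, hx₀, hx₀1⟩ := (fitY p O u).bot_or_exists_ne_one.resolve_left hY
  have hnQ := normalizer_le_normalizer_fitQ hnP
  -- `l` centralises the second centre
  have hlQ : ∀ y ∈ fitQ p O, l * y = y * l := by
    intro y hy
    set d := y⁻¹ * (l * y * l⁻¹) with hd
    have hdQ : d ∈ fitQ p O := mul_mem (inv_mem hy) (conj_mem_of_mem_normalizer hnQ hy)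
    have hyx : y * x₀ * y⁻¹ ∈ fitW p O u := mem_fitW.2 ⟨x₀, hx₀, _, fitQ_comm_mem hy (fitQ_le hx₀.1), by
      rw [← fitZ_comm (fitQ_comm_mem hy (fitQ_le hx₀.1)) (fitQ_le hx₀.1)]; group⟩
    have hdx : x₀ * d = d * x₀ := by
      have h2 : l⁻¹ * x₀ * l = x₀ := by rw [mul_assoc, ← hlY x₀ hx₀, inv_mul_cancel_left]
      have h1 : l * y * l⁻¹ * x₀ * (l * y * l⁻¹)⁻¹ = y * x₀ * y⁻¹ := by
        calc l * y * l⁻¹ * x₀ * (l * y * l⁻¹)⁻¹ = l * (y * (l⁻¹ * x₀ * l) * y⁻¹) * l⁻¹ := by group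
          _ = y * x₀ * y⁻¹ := by rw [h2, hlW _ hyx, mul_inv_cancel_right]
      calc x₀ * d = y⁻¹ * (y * x₀ * y⁻¹) * (l * y * l⁻¹) := by rw [hd]; group
        _ = d * x₀ := by rw [← h1, hd]; group
    have hd1 : d = 1 := eq_one_of_conj_mul (l := l) (y := y) (by rw [hd]; group)
      (hlW d (P.centralizer_fitQ hu hv hx₀ hx₀1 hdQ hdx)) (hcop d (fitQ_le hdQ))
    rw [hd, inv_mul_eq_one] at hd1
    calc l * y = l * y * l⁻¹ * l := by group
      _ = y * l := by rw [← hd1]
  -- and what centralises it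
  set K := fitP p O ⊓ Subgroup.centralizer (fitQ p O : Set G) with hK
  have hKfix : ∀ z ∈ K, v * z = z * v → z = 1 := fun z hz h =>
    P.eq_one_of_commute hu hv (fitQ_le hx₀.1) (Subgroup.mem_centralizer_singleton_iff.1 hx₀.2) hx₀1
      (Subgroup.mem_inf.1 hz).1 h.symm (Subgroup.mem_centralizer_iff.1 (Subgroup.mem_inf.1 hz).2 x₀ hx₀.1)
  have hKn : ∀ g ∈ Subgroup.normalizer (fitP p O : Set G), ∀ z ∈ K, g * z * g⁻¹ ∈ K := fun g hg z hz =>
    Subgroup.mem_inf.2 ⟨conj_mem_of_mem_normalizer hg hz.1, conj_mem_of_mem_normalizer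
      (normalizer_le_normalizer_centralizer _ (normalizer_le_normalizer_fitQ hg)) hz.2⟩
  have hKinv := inverts_of_fixed_bot (P.odd.of_dvd_nat
    (Subgroup.card_dvd_of_le ((inf_le_left : K ≤ _).trans (fitP_le p)))) P.vv
    (hKn v (normalizer_le_normalizer_fitP p P.symm.u_normalizes)) hKfix
  have hlK : ∀ z ∈ K, l * z = z * l := fun z hz =>
    commute_of_inverted hlodd hlv (hKinv z hz) (hKinv _ (hKn l hnP z hz))
  have hlP : ∀ h ∈ fitP p O, l * h = h * l := by
    intro h hh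
    set d := h⁻¹ * (l * h * l⁻¹) with hd
    have hdP : d ∈ fitP p O := mul_mem (inv_mem hh) (conj_mem_of_mem_normalizer hnP hh)
    have hdK : d ∈ K := Subgroup.mem_inf.2 ⟨hdP, Subgroup.mem_centralizer_iff.2 fun y hy => by
      have h1 : h * y * h⁻¹ ∈ fitQ p O :=
        conj_mem_of_mem_normalizer (normalizer_le_normalizer_fitQ (Subgroup.le_normalizer hh)) hy
      have h4 : l⁻¹ * y * l = y := by rw [mul_assoc, ← hlQ y hy, inv_mul_cancel_left]
      have h3 : d * y * d⁻¹ = y := by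
        calc d * y * d⁻¹ = h⁻¹ * (l * (h * (l⁻¹ * y * l) * h⁻¹) * l⁻¹) * h := by rw [hd]; group
          _ = y := by rw [h4, hlQ _ h1, mul_inv_cancel_right]; group
      calc y * d = d * y * d⁻¹ * d := by rw [h3]
        _ = d * y := by group⟩
    have hd1 : d = 1 := eq_one_of_conj_mul (l := l) (y := h) (by rw [hd]; group) (hlK d hdK) (hcop d hdP)
    rw [hd, inv_mul_eq_one] at hd1
    calc l * h = l * h * l⁻¹ * l := by group
      _ = h * l := by rw [← hd1]
  have hlF : l ∈ fitO O := mem_fitO_of_commute (isSolvable_coreC t) hl fun s hs f hf => by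
    haveI := Fact.mk hs
    by_cases hsp : s = p
    · subst hsp; exact hlP f hf
    have hinv : ∀ g ∈ fitP s O, v * g * v⁻¹ = g⁻¹ := inverts_of_fixed_bot
      (P.odd.of_dvd_nat (Subgroup.card_dvd_of_le (fitP_le s))) P.vv
      (fun g hg => conj_mem_of_mem_normalizer (normalizer_le_normalizer_fitP s P.symm.u_normalizes) hg)
      (fun g hg h => P.symm.eq_one_of_fixed_other hv hu hsp hg h.symm)
    exact commute_of_inverted hlodd hlv (hinv f hf)
      (hinv _ (conj_mem_of_mem_normalizer (le_normalizer_fitP s hl) hf))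
  have h := mem_fitP_of_pow (p := q) hlF hk
  rwa [hFq, Subgroup.mem_bot] at h

end Pair

end Cfsg.Agent.Lib.GorensteinWalter
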