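import Cfsg.Agent.Lib.GorensteinWalter.InterfaceG
import Cfsg.Agent.Lib.Fusion.DihedralClasses

/-!
# Section C: two reflections in a group with dihedral Sylow 2-subgroups

They generate a Sylow 2-subgroup, or one of them and a third reflection do.
-/

set_option autoImplicit false
set_option linter.unusedSectionVars false
set_option linter.style.haveILetI false

namespace Cfsg.Agent.Lib.GorensteinWalter

open Cfsg.Agent.Lib.Fusion.Dihedral DihedralGroup

universe u

variable {X : Type u} [Group X] [Finite X]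

/-- The Sylow 2-subgroup around two noncommuting involutions whose centre is `⟨t⟩`. -/
theorem exists_reflections (hd : HasDihedralSylow X) {t u v : X} (ht : orderOf t = 2) (hu : orderOf u = 2)
    (hv : orderOf v = 2) (hut : u * t = t * u) (hvt : v * t = t * v) (hune : u ≠ t) (hvne : v ≠ t)
    (huv : u * v ≠ v * u) (htc : t ∈ Subgroup.closure ({u, v} : Set X))
    (hp : IsPGroup 2 (Subgroup.closure ({u, v} : Set X))) :
    ∃ (S : Sylow 2 X) (n : ℕ), 3 ≤ n ∧ Nat.card (S : Subgroup X) = 2 ^ n ∧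
      ((Refl S t u v ∧ Subgroup.closure ({u, v} : Set X) = (S : Subgroup X)) ∨
        ∃ w : X, 4 ≤ n ∧ Refl S t u w ∧ Subgroup.closure ({u, w} : Set X) = (S : Subgroup X) ∧
          (∃ k : ℕ, u * v = ((u * w) ^ 2) ^ k) ∧ ∃ k : ℕ, (u * w) ^ 2 ^ k = 1) := by
  classical
  haveI : Fact (Nat.Prime 2) := ⟨Nat.prime_two⟩
  obtain ⟨S, hS⟩ := hp.exists_le_sylow
  obtain ⟨m, hm, ⟨e⟩⟩ := hd S
  let D := Coords.ofEquiv e
  haveI : NeZero m := ⟨by omega⟩
  obtain ⟨k, hk⟩ := D.exists_pow hm
  have hm2 : 2 ∣ m := D.two_dvd hm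
  set h : ZMod m := ((m / 2 : ℕ) : ZMod m) with hhdef
  have hhh : h + h = 0 := by
    rw [hhdef, ← Nat.cast_add, show m / 2 + m / 2 = m by omega, ZMod.natCast_self]
  set z := D.φ (r h) with hz
  have hzc : ∀ s ∈ (S : Subgroup X), s * z = z * s := by
    intro s hs
    rcases D.cases hs with ⟨a, rfl⟩ | ⟨a, rfl⟩
    · rw [hz, ← map_mul, ← map_mul, r_mul_r, r_mul_r, add_comm]
    · rw [hz, ← map_mul, ← map_mul, r_mul_sr, sr_mul_r]
      congr 2
      linear_combination hhh
  have huS : u ∈ (S : Subgroup X) := hS (Subgroup.subset_closure (Set.mem_insert _ _))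
  have hvS : v ∈ (S : Subgroup X) := hS (Subgroup.subset_closure (Set.mem_insert_of_mem _ rfl))
  have htS : t ∈ (S : Subgroup X) := hS htc
  obtain ⟨i, hi⟩ : ∃ i, u = D.φ (sr i) := (D.invol_cases hm huS hu).resolve_left fun e => huv (by
    rw [e]; exact (hzc v hvS).symm)
  obtain ⟨j, hj⟩ : ∃ j, v = D.φ (sr j) := (D.invol_cases hm hvS hv).resolve_left fun e => huv (by
    rw [e]; exact hzc u huS)
  have htz : t = z := (D.invol_cases hm htS ht).resolve_right fun ⟨a, ha⟩ => by
    have key : ∀ b : ZMod m, D.φ (sr b) * t = t * D.φ (sr b) → D.φ (sr b) ≠ t → b = a + h := by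
      intro b hb hne
      rw [ha, ← map_mul, ← map_mul, D.inj.eq_iff, sr_mul_sr, sr_mul_sr, r.injEq] at hb
      rcases double_eq_zero (j := b - a) (by linear_combination -hb) with h1 | h1
      · exact absurd (by rw [ha, sub_eq_zero.1 h1]) hne
      · linear_combination h1
    have hi' := key i (hi ▸ hut) (hi ▸ hune)
    have hj' := key j (hj ▸ hvt) (hj ▸ hvne)
    exact huv (by rw [hi, hj, hi', hj'])
  have hcent : ∀ s ∈ (S : Subgroup X), s * t = t * s := htz ▸ hzc
  -- a reflection and a generator of the rotations generate `S`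
  have hgen : ∀ (a : ZMod m), IsUnit (a - i) →
      Subgroup.closure ({u, D.φ (sr a)} : Set X) = (S : Subgroup X) := by
    intro a ha
    refine le_antisymm ((Subgroup.closure_le _).2 ?_) fun s hs => ?_
    · rintro y (rfl | rfl)
      exacts [huS, D.mem _]
    set K := Subgroup.closure ({u, D.φ (sr a)} : Set X)
    have h1 : D.φ (r (a - i)) ∈ K := by
      rw [← sr_mul_sr, map_mul, ← hi]
      exact mul_mem (Subgroup.subset_closure (Set.mem_insert _ _))
        (Subgroup.subset_closure (Set.mem_insert_of_mem _ rfl))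
    have h2 : ∀ c : ZMod m, D.φ (r c) ∈ K := fun c => by
      obtain ⟨w, hw⟩ := ha.exists_right_inv
      have h3 := pow_mem h1 (w * c).val
      rw [← map_pow, r_pow, ZMod.natCast_zmod_val] at h3
      rwa [show (a - i) * (w * c) = c by linear_combination c * hw] at h3
    rcases D.cases hs with ⟨c, rfl⟩ | ⟨c, rfl⟩
    · exact h2 c
    · have h4 := mul_mem (Subgroup.subset_closure (Set.mem_insert _ _) : u ∈ K) (h2 (c - i))
      have h5 : u * D.φ (r (c - i)) = D.φ (sr c) := by
        rw [hi, ← map_mul, sr_mul_r, add_sub_cancel]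
      exact h5 ▸ h4
  have hnon : ∀ w ∈ (S : Subgroup X), u * w ≠ w * u → fourOf t u ≠ fourOf t w := by
    intro w hw hne heq
    have hw' : w ∈ fourOf t u := heq ▸ Subgroup.subset_closure (Set.mem_insert_of_mem _ rfl)
    have hle : fourOf t u ≤ Subgroup.centralizer ({u} : Set X) := (Subgroup.closure_le _).2 (by
      rintro y (rfl | rfl)
      · exact Subgroup.mem_centralizer_singleton_iff.2 hut.symm
      · exact Subgroup.mem_centralizer_singleton_iff.2 rfl)
    exact hne (Subgroup.mem_centralizer_singleton_iff.1 (hle hw')).symm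
  have hcard : Nat.card (S : Subgroup X) = 2 ^ (k + 2) := by rw [D.card, hk]; ring
  have hm4 : 1 ≤ k := by
    by_contra hk0
    have h2 : m = 2 := by rw [hk, show k = 0 by omega]; norm_num
    refine huv ?_
    rw [hi, hj, ← map_mul, ← map_mul, sr_mul_sr, sr_mul_sr]
    congr 2
    have h4 : ((2 : ℕ) : ZMod m) = 0 := by rw [← h2]; exact ZMod.natCast_self m
    push_cast at h4
    linear_combination (j - i) * h4
  have hunit : ∀ l : ZMod m, IsUnit (1 + (l + l)) := fun l => by
    refine IsNilpotent.isUnit_one_add ⟨k + 1, ?_⟩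
    rw [← two_mul, mul_pow, show (2 : ZMod m) ^ (k + 1) = ((m : ℕ) : ZMod m) by rw [hk]; push_cast; rfl,
      ZMod.natCast_self, zero_mul]
  by_cases hpar : par hm2 j = par hm2 i
  swap
  · have h1 : par hm2 j = par hm2 (i + 1) := by
      rw [map_add, map_one]
      revert hpar
      generalize par hm2 j = a
      generalize par hm2 i = b
      revert a b
      decide +revert
    obtain ⟨l, hl⟩ := par_surjective_two hm2 h1
    have hcl : Subgroup.closure ({u, v} : Set X) = (S : Subgroup X) := by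
      rw [hj]
      exact hgen j (by rw [show j - i = 1 + (l + l) by rw [hl]; ring]; exact hunit l)
    exact ⟨S, k + 2, by omega, hcard, Or.inl ⟨⟨htS, huS, hvS, ht, hu, hv, hcent, hune, hvne,
      hnon v hvS huv, htc⟩, hcl⟩⟩
  obtain ⟨l, hl⟩ := par_surjective_two hm2 hpar
  set w := D.φ (sr (i + 1)) with hw
  have huw : u * w = D.φ (r 1) := by rw [hi, hw, ← map_mul, sr_mul_sr, add_sub_cancel_left]
  have hwu : u * w ≠ w * u := by
    intro heq
    rw [huw, hi, hw, ← map_mul, D.inj.eq_iff, sr_mul_sr, r.injEq] at heq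
    have h4 : ((2 : ℕ) : ZMod m) = 0 := by push_cast; linear_combination heq
    rw [ZMod.natCast_eq_zero_iff] at h4
    have := Nat.le_of_dvd two_pos h4
    have : 2 ^ 2 ≤ 2 ^ (k + 1) := Nat.pow_le_pow_right two_pos (by omega)
    omega
  have hcl : Subgroup.closure ({u, w} : Set X) = (S : Subgroup X) :=
    hgen _ (by rw [add_sub_cancel_left]; exact isUnit_one)
  have hwt : w ≠ t := fun e => by
    rw [htz, hw, hz] at e
    cases D.inj e
  refine ⟨S, k + 2, by omega, hcard, Or.inr ⟨w, ?_, ⟨htS, huS, D.mem _, ht, hu, D.orderOf_sr' _, hcent,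
    hune, hwt, hnon w (D.mem _) hwu, hcl.symm ▸ htS⟩, hcl, ⟨l.val, ?_⟩, ⟨k + 1, ?_⟩⟩⟩
  · by_contra hk2
    have h2 : m = 4 := by rw [hk, show k = 1 by omega]; norm_num
    refine huv ?_
    rw [hi, hj, ← map_mul, ← map_mul, sr_mul_sr, sr_mul_sr]
    congr 2
    have h4 : ((4 : ℕ) : ZMod m) = 0 := by rw [← h2]; exact ZMod.natCast_self m
    push_cast at h4
    rw [hl]
    linear_combination l * h4
  · rw [huw, hi, hj, ← map_mul, sr_mul_sr, ← map_pow, ← map_pow, r_pow, r_pow, hl]
    congr 2
    rw [ZMod.natCast_zmod_val]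
    push_cast
    ring
  · rw [huw, ← map_pow, r_one_pow, ← hk, ZMod.natCast_self, ← one_def, map_one]

end Cfsg.Agent.Lib.GorensteinWalter
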