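import Cfsg.Agent.Lib.GorensteinWalter.ConfSetup
import Cfsg.Agent.Lib.GorensteinWalter.ActTools
import Cfsg.Agent.Lib.Cores.Basic

/-!
# Section C: the Fitting subgroup of a subgroup, and small commutation lemmas
-/

set_option autoImplicit false
set_option linter.unusedSectionVars false
set_option linter.style.haveILetI false

namespace Cfsg.Agent.Lib.GorensteinWalter

universe u

variable {G : Type u} [Group G] [Finite G]

/-- `O_p(O)`, inside `G`. -/
def fitP (p : ℕ) (O : Subgroup G) : Subgroup G := (Cfsg.pCore p ↥O).map O.subtype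

/-- `F(O)`, inside `G`. -/
def fitO (O : Subgroup G) : Subgroup G := (Cfsg.fittingSubgroup ↥O).map O.subtype

variable {O : Subgroup G}

theorem fitP_le (p : ℕ) : fitP p O ≤ O := Subgroup.map_subtype_le _

theorem fitO_le : fitO O ≤ O := Subgroup.map_subtype_le _

theorem fitP_isPGroup (p : ℕ) : IsPGroup p (fitP p O) := (Cores.pCore_isPGroup p).map _

theorem fitP_le_fitO (p : ℕ) [Fact p.Prime] : fitP p O ≤ fitO O :=
  Subgroup.map_mono (Cores.pCore_le_fittingSubgroup p)

theorem normalizer_le_normalizer_fitP (p : ℕ) :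
    Subgroup.normalizer (O : Set G) ≤ Subgroup.normalizer (fitP p O : Set G) :=
  CharP.normalizer_le_normalizer_map_char _

theorem le_normalizer_fitP (p : ℕ) : O ≤ Subgroup.normalizer (fitP p O : Set G) :=
  Subgroup.le_normalizer.trans (normalizer_le_normalizer_fitP p)

theorem fitP_commute {p q : ℕ} [Fact p.Prime] [Fact q.Prime] (hpq : p ≠ q) {x y : G}
    (hx : x ∈ fitP p O) (hy : y ∈ fitP q O) : x * y = y * x := by
  obtain ⟨a, ha, rfl⟩ := hx
  obtain ⟨b, hb, rfl⟩ := hy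
  have hd : Disjoint (Cfsg.pCore p ↥O) (Cfsg.pCore q ↥O) :=
    (Cores.pCore_isPGroup p).disjoint_of_ne _ _ hpq _ _ (Cores.pCore_isPGroup q)
  exact congrArg O.subtype
    (Subgroup.commute_of_normal_of_disjoint _ _ inferInstance inferInstance hd a b ha hb).eq

/-- What centralises every `O_p(O)` centralises `F(O)`. -/
theorem commute_fitO {g : G} (h : ∀ p : ℕ, p.Prime → ∀ x ∈ fitP p O, g * x = x * g) :
    ∀ x ∈ fitO O, g * x = x * g := by
  have hle : fitO O ≤ Subgroup.centralizer ({g} : Set G) := by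
    rw [fitO, Cores.fittingSubgroup_eq_iSup_pCore, Subgroup.map_iSup]
    exact iSup_le fun p x hx => Subgroup.mem_centralizer_singleton_iff.2 (h p p.2 x hx).symm
  exact fun x hx => (Subgroup.mem_centralizer_singleton_iff.1 (hle hx)).symm

/-- `C_O(F(O)) ≤ F(O)` for a solvable `O`. -/
theorem mem_fitO_of_commute (hO : Group.IsSolvable ↥O) {c : G} (hc : c ∈ O)
    (h : ∀ p : ℕ, p.Prime → ∀ x ∈ fitP p O, c * x = x * c) : c ∈ fitO O := by
  haveI := hO
  refine ⟨⟨c, hc⟩, Cores.centralizer_fittingSubgroup_le (Subgroup.mem_centralizer_iff.2 fun y hy => ?_), rfl⟩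
  exact Subtype.ext (commute_fitO h y ⟨y, hy, rfl⟩).symm

/-- The `p`-elements of `F(O)` lie in `O_p(O)`. -/
theorem mem_fitP_of_pow {p : ℕ} [hp : Fact p.Prime] {x : G} (hx : x ∈ fitO O) {k : ℕ}
    (hk : x ^ p ^ k = 1) : x ∈ fitP p O := by
  obtain ⟨y, hy, rfl⟩ := hx
  set F := Cfsg.fittingSubgroup ↥O with hF
  haveI : Group.IsNilpotent F := Cores.fittingSubgroup_isNilpotent
  have hz : (⟨y, hy⟩ : F) ^ p ^ k = 1 := Subtype.ext (Subtype.ext hk)
  obtain ⟨P, hP⟩ := (isPGroup_zpowers (p := p) hz).exists_le_sylow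
  haveI : (P : Subgroup F).Normal := inferInstance
  haveI := P.characteristic_of_normal this
  haveI := Cores.normal_map_subtype F (P : Subgroup F)
  exact ⟨y, Cores.le_pCore (P.isPGroup'.map F.subtype) ⟨⟨y, hy⟩, hP (Subgroup.mem_zpowers _), rfl⟩, rfl⟩

/-- A nontrivial element of `F(O)` has a nontrivial power in some `O_p(O)`. -/
theorem exists_pow_mem_fitP {x : G} (hx : x ∈ fitO O) (hx1 : x ≠ 1) :
    ∃ p, p.Prime ∧ ∃ i : ℕ, x ^ i ∈ fitP p O ∧ x ^ i ≠ 1 := by
  obtain ⟨p, hp, hdvd⟩ := Nat.exists_prime_and_dvd (mt orderOf_eq_one_iff.1 hx1)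
  haveI := Fact.mk hp
  refine ⟨p, hp, orderOf x / p, ?_, fun h => ?_⟩
  · refine mem_fitP_of_pow (k := 1) (pow_mem hx _) ?_
    rw [pow_one, ← pow_mul, Nat.div_mul_cancel hdvd, pow_orderOf_eq_one]
  · have h1 := Nat.le_of_dvd (Nat.div_pos (Nat.le_of_dvd (orderOf_pos x) hdvd) hp.pos)
      (orderOf_dvd_of_pow_eq_one h)
    exact absurd h1 (not_le.2 (Nat.div_lt_self (orderOf_pos x) hp.one_lt))

/-- A prime dividing `|F(O)|` has nontrivial `O_p(O)`. -/
theorem fitP_ne_bot_of_dvd {p : ℕ} [Fact p.Prime] (h : p ∣ Nat.card (fitO O)) : fitP p O ≠ ⊥ := by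
  obtain ⟨x, hx⟩ := exists_prime_orderOf_dvd_card' p h
  intro e
  have hx' : orderOf (x : G) = p := by rw [Subgroup.orderOf_coe, hx]
  have h1 := mem_fitP_of_pow (p := p) x.2 (k := 1) (by rw [pow_one, ← hx', pow_orderOf_eq_one])
  rw [e, Subgroup.mem_bot] at h1
  rw [h1, orderOf_one] at hx'
  exact (Fact.out : p.Prime).ne_one hx'.symm

/-! ## Commutation -/

/-- If the square of an element of odd order commutes, so does the element. -/
theorem commute_of_sq {l f : G} (hl : Odd (orderOf l)) (h : l * l * f = f * (l * l)) : l * f = f * l := by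
  obtain ⟨k, hk⟩ := hl
  have h1 : (l * l) ^ (k + 1) = l := by
    rw [← sq, ← pow_mul, show 2 * (k + 1) = orderOf l + 1 by omega, pow_succ, pow_orderOf_eq_one, one_mul]
  have h2 : Commute ((l * l) ^ (k + 1)) f := (show Commute (l * l) f from h).pow_left _
  rwa [h1] at h2

theorem commute_of_conj_eq {l f : G} (hl : Odd (orderOf l)) (h : l * f * l⁻¹ = l⁻¹ * f * l) :
    l * f = f * l := by
  refine commute_of_sq hl ?_
  calc l * l * f = l * (l * f * l⁻¹) * l := by group
    _ = l * (l⁻¹ * f * l) * l := by rw [h]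
    _ = f * (l * l) := by group

/-- An element that an automorphism inverts commutes with what it inverts, if it inverts the conjugate. -/
theorem commute_of_inverted {s l f : G} (hl : Odd (orderOf l)) (hsl : s * l * s⁻¹ = l⁻¹)
    (hsf : s * f * s⁻¹ = f⁻¹) (h : s * (l * f * l⁻¹) * s⁻¹ = (l * f * l⁻¹)⁻¹) : l * f = f * l := by
  refine commute_of_conj_eq hl (inv_injective ?_)
  calc (l * f * l⁻¹)⁻¹ = (s * l * s⁻¹) * (s * f * s⁻¹) * (s * l * s⁻¹)⁻¹ := by rw [← h]; group
    _ = l⁻¹ * f⁻¹ * l := by rw [hsl, hsf, inv_inv]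
    _ = (l⁻¹ * f * l)⁻¹ := by group

/-- An inverted element commutes with a fixed one, if the conjugate is fixed. -/
theorem commute_of_fixed {s l f : G} (hl : Odd (orderOf l)) (hsl : s * l * s⁻¹ = l⁻¹)
    (hsf : s * f = f * s) (h : s * (l * f * l⁻¹) = (l * f * l⁻¹) * s) : l * f = f * l := by
  refine commute_of_conj_eq hl ?_
  have hf : s * f * s⁻¹ = f := by rw [hsf, mul_inv_cancel_right]
  calc l * f * l⁻¹ = s * (l * f * l⁻¹) * s⁻¹ := by rw [h, mul_inv_cancel_right]
    _ = (s * l * s⁻¹) * (s * f * s⁻¹) * (s * l * s⁻¹)⁻¹ := by group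
    _ = l⁻¹ * f * l := by rw [hsl, hf, inv_inv]

/-- Coprime orders: `l y l⁻¹ = y d` with `l` fixing `d` forces `d = 1`. -/
theorem eq_one_of_conj_mul {l y d : G} (h : l * y * l⁻¹ = y * d) (hld : l * d = d * l)
    (hcop : (orderOf l).Coprime (orderOf d)) : d = 1 := by
  have hn : ∀ n : ℕ, l ^ n * y * (l ^ n)⁻¹ = y * d ^ n := by
    intro n
    induction n with
    | zero => simp
    | succ n ih =>
      have hd : l ^ n * d = d * l ^ n := (show Commute l d from hld).pow_left n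
      calc l ^ (n + 1) * y * (l ^ (n + 1))⁻¹ = l ^ n * (l * y * l⁻¹) * (l ^ n)⁻¹ := by
            rw [pow_succ]; group
        _ = l ^ n * y * (l ^ n)⁻¹ * (l ^ n * d * (l ^ n)⁻¹) := by rw [h]; group
        _ = y * d ^ n * d := by rw [ih, hd, mul_inv_cancel_right]
        _ = y * d ^ (n + 1) := by rw [pow_succ, mul_assoc]
  have h1 : y * d ^ orderOf l = y := by rw [← hn, pow_orderOf_eq_one]; simp
  exact orderOf_eq_one_iff.1 (Nat.eq_one_of_dvd_coprimes hcop
    (orderOf_dvd_of_pow_eq_one (mul_eq_left.1 h1)) dvd_rfl)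

/-- An element fixed and inverted is trivial. -/
theorem eq_one_of_fixed_inverted {s y : G} (hy : Odd (orderOf y)) (h : s * y * s⁻¹ = y⁻¹)
    (hf : y * s = s * y) : y = 1 := by
  rw [← hf, mul_inv_cancel_right] at h
  exact orderOf_eq_one_iff.1 (Nat.eq_one_of_dvd_coprimes (Nat.coprime_two_right.2 hy) dvd_rfl
    (orderOf_dvd_of_pow_eq_one (by rw [sq]; nth_rewrite 1 [h]; exact inv_mul_cancel y)))

theorem coprime_orderOf_of_pow {p q : ℕ} [Fact p.Prime] [Fact q.Prime] (hpq : p ≠ q) {x y : G} {k l : ℕ}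
    (hx : x ^ p ^ k = 1) (hy : y ^ q ^ l = 1) : (orderOf x).Coprime (orderOf y) :=
  (((Nat.coprime_primes (Fact.out : p.Prime) (Fact.out : q.Prime)).2 hpq).pow k l).coprime_dvd_left
    (orderOf_dvd_of_pow_eq_one hx) |>.coprime_dvd_right (orderOf_dvd_of_pow_eq_one hy)

end Cfsg.Agent.Lib.GorensteinWalter
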