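import Cfsg.Agent.Lib.GorensteinWalter.InterfaceF
import Cfsg.Agent.Lib.Coprime.Glauberman
import Cfsg.Agent.Lib.PSolvable.HallHigman
import Cfsg.Agent.Lib.SolvCent.Setup

/-!
# Gorenstein–Walter, section F6–F8: group theoretic tools

Owner: helper2.
-/

set_option autoImplicit false
set_option linter.unusedSectionVars false
set_option linter.style.haveILetI false

namespace Cfsg.Agent.Lib.GorensteinWalter.ConfSmall

open Cfsg.Agent.Lib.Fusion.Dihedral
open scoped Pointwise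

universe u

variable {G : Type u} [Group G] [Finite G] {r : ℕ} [hr : Fact r.Prime]

theorem mem_cent {x u : G} : x ∈ Subgroup.centralizer ({u} : Set G) ↔ x * u = u * x :=
  Subgroup.mem_centralizer_singleton_iff

theorem conj_mem_cent {x u g : G} (h : x * u = u * x) :
    g * x * g⁻¹ * (g * u * g⁻¹) = g * u * g⁻¹ * (g * x * g⁻¹) := by
  calc g * x * g⁻¹ * (g * u * g⁻¹) = g * (x * u) * g⁻¹ := by group
    _ = _ := by rw [h]; group

/-- The centre of a Sylow subgroup: a normal subgroup of even order contains every fused four-group. -/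
theorem four_le_of_normal (hcd : SylowCD G) {V H N : Subgroup G} (hV : FusedIn V H) (hN : N ≤ H)
    (hn : H ≤ Subgroup.normalizer (N : Set G)) {u : G} (hu : u ∈ N) (ho : orderOf u = 2) :
    V ≤ N := by
  haveI : Fact (Nat.Prime 2) := ⟨Nat.prime_two⟩
  obtain ⟨T, hT⟩ := (hV.1.isPGroup.comap_subtype (K := H)).exists_le_sylow
  have hp : IsPGroup 2 ↥(Subgroup.zpowers (⟨u, hN hu⟩ : H)) :=
    SolvCent.isPGroup_zpowers_invol (Subtype.ext (by
      show u ^ 2 = 1
      rw [← ho, pow_orderOf_eq_one]))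
  obtain ⟨T', hT'⟩ := hp.exists_le_sylow
  obtain ⟨k, hk⟩ := MulAction.exists_smul_eq H T' T
  set P := (T : Subgroup H).map H.subtype with hP
  have hVP : V ≤ P := fun x hx => ⟨⟨x, hV.2.1 hx⟩, hT hx, rfl⟩
  have hu' : (k : G) * u * (k : G)⁻¹ ∈ P := ⟨k * ⟨u, hN hu⟩ * k⁻¹, by
    rw [← hk]
    exact Subgroup.smul_mem_pointwise_smul _ (MulAut.conj k) (T' : Subgroup H)
      (hT' (Subgroup.mem_zpowers _)), rfl⟩
  have hu'N : (k : G) * u * (k : G)⁻¹ ∈ N := (Subgroup.mem_normalizer_iff.1 (hn k.2) u).1 hu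
  have hne : P ⊓ N ≠ ⊥ := fun e => by
    have h1 : (k : G) * u * (k : G)⁻¹ ∈ P ⊓ N := ⟨hu', hu'N⟩
    rw [e, Subgroup.mem_bot] at h1
    rw [conj_eq_one_iff.1 h1, orderOf_one] at ho
    omega
  obtain ⟨w, hw, hwN, hw1⟩ := SolvCent.exists_mem_zc (T.2.map _) (inf_le_left (b := N))
    (fun s hs => Subgroup.mem_normalizer_iff.2 fun x => by
      rw [Subgroup.mem_inf, Subgroup.mem_inf,
        ← Subgroup.mem_normalizer_iff.1 (Subgroup.le_normalizer (H := P) hs) x,
        ← Subgroup.mem_normalizer_iff.1 (hn (Subgroup.map_subtype_le _ hs)) x]) hne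
  have hwV : w ∈ V := hcd.mem_four_of_central hV.1 hVP
    (by rw [← sq]; exact (SolvCent.mem_zc.1 hw).2.2) (fun x hx => SolvCent.zc_comm hw hx)
  intro v hv
  by_cases hv1 : v = 1
  · exact hv1 ▸ one_mem N
  obtain ⟨g, hg, -, rfl⟩ := hV.2.2 w hwV hw1 v hv hv1
  exact (Subgroup.mem_normalizer_iff.1 (hn hg) w).1 hwN.2

/-- A `p`-group acting on a subgroup of coprime order: fixed representatives of cosets. -/
theorem exists_mul_mem_centralizer {X A B : Subgroup G} (hX : IsPGroup r X)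
    (hA : (Nat.card A).Coprime r) (hAn : X ≤ Subgroup.normalizer (A : Set G)) (hXB : X ≤ B)
    {y : G} (hy : y ∈ A) (hyB : ∀ x ∈ X, y⁻¹ * x * y ∈ B) :
    ∃ z, z ∈ A ∧ z ∈ B ∧ y * z ∈ Subgroup.centralizer (X : Set G) := by
  have hstep : ∀ (x : X) (z : ↥(A ⊓ B)), y⁻¹ * ((x : G) * (y * z) * (x : G)⁻¹) ∈ A ⊓ B := by
    intro x z
    refine ⟨A.mul_mem (A.inv_mem hy)
      ((Subgroup.mem_normalizer_iff.1 (hAn x.2) _).1 (A.mul_mem hy z.2.1)), ?_⟩
    rw [show y⁻¹ * ((x : G) * (y * z) * (x : G)⁻¹) = y⁻¹ * x * y * (z * (x : G)⁻¹) by group]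
    exact B.mul_mem (hyB x x.2) (B.mul_mem z.2.2 (B.inv_mem (hXB x.2)))
  letI : MulAction X ↥(A ⊓ B) :=
    { smul := fun x z => ⟨_, hstep x z⟩
      one_smul := fun z => Subtype.ext (by
        change y⁻¹ * (((1 : X) : G) * (y * z) * ((1 : X) : G)⁻¹) = (z : G)
        simp)
      mul_smul := fun a b z => Subtype.ext (by
        change y⁻¹ * (((a * b : X) : G) * (y * z) * ((a * b : X) : G)⁻¹) =
          y⁻¹ * ((a : G) * (y * (y⁻¹ * ((b : G) * (y * z) * (b : G)⁻¹))) * (a : G)⁻¹)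
        rw [Subgroup.coe_mul]
        group) }
  have hnd : ¬ r ∣ Nat.card ↥(A ⊓ B) := fun h =>
    (hr.out.coprime_iff_not_dvd.1 hA.symm) (h.trans (Subgroup.card_dvd_of_le inf_le_left))
  obtain ⟨z, hz⟩ := hX.nonempty_fixed_point_of_prime_not_dvd_card ↥(A ⊓ B) hnd
  refine ⟨z, z.2.1, z.2.2, Subgroup.mem_centralizer_iff.2 fun x hx => ?_⟩
  have h : y⁻¹ * (x * (y * z) * x⁻¹) = (z : G) :=
    congrArg (fun w : ↥(A ⊓ B) => (w : G)) (hz ⟨x, hx⟩)
  calc x * (y * z) = y * (y⁻¹ * (x * (y * z) * x⁻¹)) * x := by group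
    _ = y * z * x := by rw [h]

/-- Every four-group invariant `r`-subgroup of an odd `O` is centralised, if one Sylow subgroup is. -/
theorem centralizes_invariant {O W K : Subgroup G} (hO : Odd (Nat.card O)) (hW : IsFour W)
    (hWO : W ≤ Subgroup.normalizer (O : Set G)) (R : Sylow r O)
    (hR : (R : Subgroup O).map O.subtype ≤ Subgroup.centralizer (W : Set G))
    (hK : IsPGroup r K) (hKO : K ≤ O) (hWK : W ≤ Subgroup.normalizer (K : Set G)) :
    K ≤ Subgroup.centralizer (W : Set G) := by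
  have hcop : (Nat.card W).Coprime (Nat.card O) := by
    rw [hW.1, show (4 : ℕ) = 2 ^ 2 by rfl]
    exact (Nat.coprime_two_left.2 hO).pow_left 2
  have hsolv : Group.IsSolvable W ∨ Group.IsSolvable O := Or.inr (Cfsg.Agent.S0205.result hO)
  obtain ⟨P, hKP, hPW⟩ := Coprime.exists_invariant_sylow_ge hWO hcop hsolv r K hKO hK hWK
  have hRW : W ≤ Subgroup.normalizer (((R : Subgroup O).map O.subtype : Subgroup G) : Set G) :=
    le_trans (Subgroup.le_centralizer_iff.1 hR) (Subgroup.centralizer_le_normalizer _)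
  obtain ⟨c, hc, hcP⟩ := Coprime.exists_conj_invariant_sylow hWO hcop hsolv P R hPW hRW
  intro x hx
  have h1 : c * x * c⁻¹ ∈ Subgroup.centralizer (W : Set G) :=
    hR (hcP ▸ Subgroup.smul_mem_pointwise_smul x (MulAut.conj c) _ (hKP hx))
  have hc2 : c ∈ Subgroup.centralizer (W : Set G) := (Subgroup.mem_inf.1 hc).2
  have h2 := mul_mem (mul_mem (inv_mem hc2) h1) hc2
  simpa [mul_assoc] using h2

/-! ## `O_{r'}` and `O_{r',r}` -/

/-- `O_{r'}(O)`, inside `G`. -/
abbrev primeCore (r : ℕ) (O : Subgroup G) : Subgroup G :=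
  (Cfsg.pPrimeCore r ↥O).map O.subtype

/-- `O_{r',r}(O)`, inside `G`. -/
def fit (r : ℕ) (O : Subgroup G) : Subgroup G :=
  ((Cfsg.pCore r (↥O ⧸ Cfsg.pPrimeCore r ↥O)).comap
    (QuotientGroup.mk' (Cfsg.pPrimeCore r ↥O))).map O.subtype

theorem primeCore_coprime (O : Subgroup G) : (Nat.card (primeCore r O)).Coprime r := by
  rw [Subgroup.card_map_of_injective O.subtype_injective]
  exact Cores.pPrimeCore_coprime r

theorem primeCore_le_fit (O : Subgroup G) : primeCore r O ≤ fit r O :=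
  Subgroup.map_mono fun x hx => by
    rw [Subgroup.mem_comap, QuotientGroup.mk'_apply, (QuotientGroup.eq_one_iff x).2 hx]
    exact one_mem _

theorem fit_le (O : Subgroup G) : fit r O ≤ O := Subgroup.map_subtype_le _

theorem normalizer_le_normalizer_fit (O : Subgroup G) :
    Subgroup.normalizer (O : Set G) ≤ Subgroup.normalizer (fit r O : Set G) := by
  haveI : ((Cfsg.pCore r (↥O ⧸ Cfsg.pPrimeCore r ↥O)).comap
      (QuotientGroup.mk' (Cfsg.pPrimeCore r ↥O))).Characteristic := by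
    rw [Subgroup.characteristic_iff_map_le]
    intro φ
    let ψ := QuotientGroup.congr (Cfsg.pPrimeCore r ↥O) (Cfsg.pPrimeCore r ↥O) φ
      (Cores.map_pPrimeCore_equiv φ)
    rintro _ ⟨x, hx, rfl⟩
    rw [SetLike.mem_coe, Subgroup.mem_comap] at hx
    rw [Subgroup.mem_comap]
    have : ψ (QuotientGroup.mk' _ x) ∈ Cfsg.pCore r (↥O ⧸ Cfsg.pPrimeCore r ↥O) := by
      rw [← Cores.map_pCore_equiv ψ]
      exact ⟨_, hx, rfl⟩
    exact this
  exact CharP.normalizer_le_normalizer_map_char _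

theorem normalizer_le_normalizer_primeCore (O : Subgroup G) :
    Subgroup.normalizer (O : Set G) ≤ Subgroup.normalizer (primeCore r O : Set G) :=
  CharP.normalizer_le_normalizer_map_char _

/-- A Sylow subgroup covers `O_{r',r}` modulo `O_{r'}`. -/
theorem exists_mem_fit {O : Subgroup G} (P : Sylow r O) {x : G} (hx : x ∈ fit r O) :
    ∃ y ∈ primeCore r O, y⁻¹ * x ∈ (P : Subgroup O).map O.subtype ⊓ fit r O := by
  obtain ⟨⟨x, hxO⟩, hx', rfl⟩ := hx
  set π := QuotientGroup.mk' (Cfsg.pPrimeCore r ↥O) with hπ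
  have h1 : π ⟨x, hxO⟩ ∈ (P : Subgroup O).map π := by
    have := (Cores.pCore_isPGroup (G := ↥O ⧸ Cfsg.pPrimeCore r ↥O) r).le_sylow_of_normal
      (P.mapSurjective (QuotientGroup.mk'_surjective _))
    exact this hx'
  obtain ⟨s, hs, hsx⟩ := h1
  refine ⟨x * (s : G)⁻¹, ⟨⟨x, hxO⟩ * s⁻¹, ?_, rfl⟩, ?_, ?_⟩
  · rw [SetLike.mem_coe, ← QuotientGroup.eq_one_iff]
    show π (⟨x, hxO⟩ * s⁻¹) = 1
    rw [map_mul, map_inv, hsx, mul_inv_cancel]
  · refine ⟨s, hs, ?_⟩
    show (s : G) = (x * (s : G)⁻¹)⁻¹ * x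
    group
  · refine ⟨s, ?_, ?_⟩
    · rw [SetLike.mem_coe, Subgroup.mem_comap, hsx]
      exact hx'
    · show (s : G) = (x * (s : G)⁻¹)⁻¹ * x
      group

/-- Solvable constraint: `C_O(P ∩ O_{r',r}(O)) ≤ O_{r',r}(O)`. -/
theorem mem_fit_of_centralizes {O : Subgroup G} (hO : Group.IsSolvable O) (P : Sylow r O) {x : G}
    (hx : x ∈ O) (hc : ∀ y ∈ (P : Subgroup O).map O.subtype ⊓ fit r O, x * y = y * x) :
    x ∈ fit r O := by
  haveI := hO
  set π := QuotientGroup.mk' (Cfsg.pPrimeCore r ↥O) with hπ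
  haveI : Group.IsSolvable (↥O ⧸ Cfsg.pPrimeCore r ↥O) :=
    Group.isSolvable_of_surjective (f := π) (QuotientGroup.mk'_surjective _)
  have h := PSolvable.centralizer_pCore_le (p := r)
    (G := ↥O ⧸ Cfsg.pPrimeCore r ↥O) PSolvable.isPSolvable_of_isSolvable
    (Cores.pPrimeCore_quotient_pPrimeCore r)
  refine ⟨⟨x, hx⟩, ?_, rfl⟩
  rw [SetLike.mem_coe, Subgroup.mem_comap]
  refine h (Subgroup.mem_centralizer_iff.2 fun q hq => ?_)
  obtain ⟨q, rfl⟩ := QuotientGroup.mk'_surjective _ q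
  obtain ⟨y, ⟨y', hy', hyy⟩, hyP⟩ := exists_mem_fit P (x := (q : G)) ⟨q, hq, rfl⟩
  set s : ↥O := y'⁻¹ * q with hs
  have hsq : π q = π s := by
    rw [hs, map_mul, map_inv, show π y' = 1 from (QuotientGroup.eq_one_iff y').2 hy', inv_one,
      one_mul]
  have hsv : (s : G) = y⁻¹ * q := by rw [← hyy]; rfl
  have hc' : ⟨x, hx⟩ * s = s * ⟨x, hx⟩ := Subtype.ext (by
    show x * (s : G) = s * x
    rw [hsv]; exact hc _ hyP)
  show π q * π ⟨x, hx⟩ = π ⟨x, hx⟩ * π q
  rw [hsq, ← map_mul, ← map_mul, hc']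

/-- An involution centralising `R ∩ O_{r',r}(O)` centralises a Sylow subgroup of `O`. -/
theorem exists_sylow_centralized {O : Subgroup G} (hO : Odd (Nat.card O)) {u : G}
    (hu : u * u = 1) (huO : u ∈ Subgroup.normalizer (O : Set G)) (R : Sylow r O)
    (hc : ∀ y ∈ (R : Subgroup O).map O.subtype ⊓ fit r O, u * y = y * u) :
    ∃ P : Sylow r O, ∀ y ∈ (P : Subgroup O).map O.subtype, u * y = y * u := by
  have hsolv : Group.IsSolvable O := Cfsg.Agent.S0205.result hO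
  set R0 := (R : Subgroup O).map O.subtype ⊓ fit r O with hR0
  have hA : IsPGroup 2 (Subgroup.zpowers u) := SolvCent.isPGroup_zpowers_invol (by rw [sq, hu])
  have hcop : (Nat.card (Subgroup.zpowers u)).Coprime (Nat.card O) := by
    obtain ⟨k, hk⟩ := IsPGroup.iff_card.1 hA
    rw [hk]
    exact (Nat.coprime_two_left.2 hO).pow_left k
  obtain ⟨P, hRP, hPu⟩ := Coprime.exists_invariant_sylow_ge (Subgroup.zpowers_le.2 huO) hcop
    (Or.inr hsolv) r R0 (inf_le_left.trans (Subgroup.map_subtype_le _))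
    ((R.2.map _).to_le inf_le_left)
    (Subgroup.zpowers_le.2 (Subgroup.centralizer_le_normalizer _
      (Subgroup.mem_centralizer_iff.2 fun y hy => (hc y hy).symm)))
  set P' := (P : Subgroup O).map O.subtype with hP'
  -- `R0 = P' ∩ F`
  have hR0P : ∀ y ∈ P' ⊓ fit r O, y ∈ R0 := by
    intro y hy
    obtain ⟨w, hw, hwy⟩ := exists_mem_fit R hy.2
    have hwP : w ∈ P' := by
      have := P'.mul_mem hy.1 (P'.inv_mem (hRP hwy))
      simpa [mul_assoc] using this
    obtain ⟨k, hk⟩ := IsPGroup.iff_orderOf.1 (P.2.map O.subtype) ⟨w, hwP⟩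
    rw [Subgroup.orderOf_mk] at hk
    have h1 : r ^ k ∣ Nat.card (primeCore r O) := hk ▸ Subgroup.orderOf_dvd_natCard _ hw
    have h2 : r ^ k = 1 :=
      Nat.eq_one_of_dvd_coprimes ((primeCore_coprime (r := r) O).pow_right k) h1 dvd_rfl
    obtain rfl : w = 1 := orderOf_eq_one_iff.1 (hk.trans h2)
    rwa [inv_one, one_mul] at hwy
  refine ⟨P, fun x hx => ?_⟩
  have hinv : u⁻¹ = u := inv_eq_of_mul_eq_one_right hu
  set d := x⁻¹ * (u * x * u) with hd
  have hux : u * x * u ∈ P' := by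
    have := (Subgroup.mem_normalizer_iff.1 (hPu (Subgroup.mem_zpowers u)) x).1 hx
    rwa [hinv] at this
  have hdP : d ∈ P' := P'.mul_mem (P'.inv_mem hx) hux
  have hdc : ∀ y ∈ R0, d * y = y * d := by
    intro y hy
    have hxO : x ∈ Subgroup.normalizer (fit r O : Set G) :=
      normalizer_le_normalizer_fit O (Subgroup.le_normalizer (Subgroup.map_subtype_le _ hx))
    have hxy : x * y * x⁻¹ ∈ R0 := hR0P _ ⟨P'.mul_mem (P'.mul_mem hx (hRP hy)) (P'.inv_mem hx),
      (Subgroup.mem_normalizer_iff.1 hxO y).1 hy.2⟩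
    have h1 := hc y hy
    have h2 := hc _ hxy
    calc d * y = x⁻¹ * (u * x * (u * y)) := by rw [hd]; group
      _ = x⁻¹ * (u * x * (y * u)) := by rw [h1]
      _ = x⁻¹ * (u * (x * y * x⁻¹)) * (x * u) := by group
      _ = x⁻¹ * ((x * y * x⁻¹) * u) * (x * u) := by rw [h2]
      _ = y * d := by rw [hd]; group
  have hdR : d ∈ R0 := hR0P _ ⟨hdP, mem_fit_of_centralizes hsolv R
    (Subgroup.map_subtype_le _ hdP) hdc⟩
  have hdu := hc d hdR
  have hd2 : d * d = 1 := by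
    calc d * d = x⁻¹ * (u * x * u) * d := by rw [← hd]
      _ = x⁻¹ * (u * x * (u * d)) := by group
      _ = x⁻¹ * (u * x * (d * u)) := by rw [hdu]
      _ = x⁻¹ * (u * x * x⁻¹ * u * x * (u * u)) := by rw [hd]; group
      _ = 1 := by
        rw [hu, show u * x * x⁻¹ * u * x * 1 = u * u * x by group, hu, one_mul, inv_mul_cancel]
  have hdo : Odd (orderOf d) :=
    orderOf_odd_of_mem hO (Subgroup.map_subtype_le _ hdP)
  have hd1 : d = 1 := orderOf_eq_one_iff.1 (Nat.eq_one_of_dvd_coprimes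
    (Nat.coprime_two_left.2 hdo) (orderOf_dvd_of_pow_eq_one (by rw [sq]; exact hd2)) dvd_rfl)
  rw [hd, inv_mul_eq_one] at hd1
  calc u * x = u * (u * x * u) := by rw [← hd1]
    _ = x * u := by rw [← mul_assoc, ← mul_assoc, hu, one_mul]

/-- Frattini for `O_{r',r}`. -/
theorem exists_conj_fit {O : Subgroup G} (R : Sylow r O) {y : G}
    (hy : y ∈ Subgroup.normalizer (O : Set G)) :
    ∃ w ∈ primeCore r O, ∀ x ∈ (R : Subgroup O).map O.subtype ⊓ fit r O,
      w⁻¹ * y * x * (w⁻¹ * y)⁻¹ ∈ (R : Subgroup O).map O.subtype ⊓ fit r O := by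
  set R0 := (R : Subgroup O).map O.subtype ⊓ fit r O with hR0
  have hp : IsPGroup r R0 := (R.2.map _).to_le inf_le_left
  have hn : R0 ≤ Subgroup.normalizer (primeCore r O : Set G) :=
    (inf_le_left.trans (Subgroup.map_subtype_le _)).trans
      (Subgroup.le_normalizer.trans (normalizer_le_normalizer_primeCore O))
  have hcop : (Nat.card R0).Coprime (Nat.card (primeCore r O)) := by
    obtain ⟨k, hk⟩ := IsPGroup.iff_card.1 hp
    rw [hk]
    exact (primeCore_coprime (r := r) O).symm.pow_left k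
  have hB : R0.map (MulAut.conj y).toMonoidHom ≤ R0 ⊔ primeCore r O := by
    rintro _ ⟨x, hx, rfl⟩
    obtain ⟨w, hw, hwx⟩ := exists_mem_fit R
      ((Subgroup.mem_normalizer_iff.1 (normalizer_le_normalizer_fit O hy) x).1 hx.2)
    have := mul_mem (Subgroup.mem_sup_right (S := R0) hw) (Subgroup.mem_sup_left hwx)
    rwa [mul_inv_cancel_left] at this
  haveI : Group.IsNilpotent R0 := hp.isNilpotent
  obtain ⟨k, hk, hkB⟩ := Coprime.exists_conj_eq_of_coprime hn hcop (Or.inl inferInstance) hB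
    (Subgroup.card_map_of_injective (MulAut.conj y).injective)
  refine ⟨k, hk, fun x hx => ?_⟩
  have h1 : y * x * y⁻¹ ∈ MulAut.conj k • R0 := hkB ▸ ⟨x, hx, rfl⟩
  obtain ⟨z, hz, hzx⟩ := h1
  have hzx' : k * z * k⁻¹ = y * x * y⁻¹ := hzx
  rw [show k⁻¹ * y * x * (k⁻¹ * y)⁻¹ = k⁻¹ * (y * x * y⁻¹) * k by group, ← hzx']
  simpa [mul_assoc] using hz

end Cfsg.Agent.Lib.GorensteinWalter.ConfSmall
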