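import Cfsg.Agent.Lib.GorensteinWalter.ComparableLY
import Cfsg.Agent.Lib.GorensteinWalter.ConfTools

/-!
# Section C: which centralisers are fused, in the setting of `PropComparable`

The exception at `3` makes `u` centralise `O₃(O)`, so it does not occur at the primes where `C_{O_p(O)}(u)` is
moved by `v`; and such primes agree for `u` and `v`.
-/

set_option autoImplicit false
set_option linter.unusedSectionVars false
set_option linter.style.haveILetI false

namespace Cfsg.Agent.Lib.GorensteinWalter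

open Cfsg.Agent.Lib.Fusion.Dihedral

universe u

variable {G : Type u} [Group G] [Finite G]

theorem mem_normalizer_zpowers_of_inverted {s w : G} (h : s * w * s⁻¹ = w⁻¹) :
    s ∈ Subgroup.normalizer (Subgroup.zpowers w : Set G) :=
  Subgroup.mem_normalizer_fintype fun z hz => by
    obtain ⟨i, rfl⟩ := Subgroup.mem_zpowers_iff.1 hz
    rw [SetLike.mem_coe, ← MulAut.conj_apply, map_zpow, MulAut.conj_apply, h]
    exact zpow_mem (inv_mem (Subgroup.mem_zpowers w)) i

theorem mem_normalizer_of_commute {K : Subgroup G} {x : G} (h : ∀ y ∈ K, x * y = y * x) :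
    x ∈ Subgroup.normalizer (K : Set G) :=
  Subgroup.mem_normalizer_fintype fun y hy => by rw [SetLike.mem_coe, h y hy, mul_inv_cancel_right]; exact hy

namespace Pair

variable {S : Sylow 2 G} {t u v : G} (P : Pair S t u v)
include P

theorem not_le_centralizer_of_inverted {w : G} (hw : w ∈ coreC t) (hw1 : w ≠ 1)
    (hwi : v * w * v⁻¹ = w⁻¹) : ¬ Subgroup.zpowers w ≤ Subgroup.centralizer ({v} : Set G) := fun h =>
  hw1 (eq_one_of_fixed_inverted (P.odd_of_mem hw) hwi
    (Subgroup.mem_centralizer_singleton_iff.1 (h (Subgroup.mem_zpowers w))))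

/-- Under the exception at `⟨t, u⟩` every `u`-invariant `3`-subgroup of `O` is fixed by `u`. -/
theorem exception_centralizes {p : ℕ} [Fact p.Prime] (hE : Exception p (fourOf t u)) {K : Subgroup G}
    (hK : IsPGroup p K) (hKO : K ≤ coreC t) (hu : u ∈ Subgroup.normalizer (K : Set G)) :
    K ≤ Subgroup.centralizer ({u} : Set G) := by
  obtain ⟨hp, -, hE⟩ := hE
  set V := fourOf t u with hV
  have hcard := (hE t P.t_mem_four P.t1).1
  rw [← hp] at hcard
  have hle : coreV V ≤ coreC t := (P.hyp.coreV_eq P.four P.t_mem_four P.t1).le.trans inf_le_left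
  obtain ⟨Q⟩ : Nonempty (Sylow p ↥(coreV V)) := inferInstance
  have hQc : Nat.card ((Q : Subgroup ↥(coreV V)).map (coreV V).subtype) =
      p ^ (Nat.card (coreC t)).factorization p := by
    rw [Coprime.card_sylow_map Q, hcard]
  obtain ⟨R, hR⟩ := Coprime.exists_sylow_of_card ((Subgroup.map_subtype_le _).trans hle) hQc
  have h1 := ConfSmall.centralizes_invariant P.odd P.four
    (P.four_le_normalizer le_rfl P.u_normalizes) R
    (hR ▸ (Subgroup.map_subtype_le _).trans (coreV_le V)) hK hKO (P.four_le_normalizer hKO hu)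
  exact h1.trans (Subgroup.centralizer_le (by
    intro y hy
    rw [Set.mem_singleton_iff.1 hy]
    exact P.u_mem_four))

/-- The exception at `⟨t, u⟩` does not occur at a prime where `C(u) ∩ O_p(O)` is moved by `v`. -/
theorem exception_fitP {p : ℕ} [Fact p.Prime] (hE : Exception p (fourOf t u)) :
    fitP p (coreC t) ⊓ Subgroup.centralizer ({u} : Set G) ≤ Subgroup.centralizer ({v} : Set G) := by
  set F := fitP p (coreC t) with hF
  have huF : u ∈ Subgroup.normalizer (F : Set G) := normalizer_le_normalizer_fitP p P.u_normalizes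
  have hFu := P.exception_centralizes hE (fitP_isPGroup p) (fitP_le p) huF
  obtain ⟨q, y, hq, hy, hy1, hyq, hyu⟩ := P.exists_inverted_prime (K := coreFix t v)
    (fun z hz => P.symm.mem_fix.2 ⟨P.conj_mem hz.1, P.conj_fixed hz.1 (P.symm.mem_fix.1 hz).2⟩) P.movV
  haveI := Fact.mk hq
  have hyp : IsPGroup q (Subgroup.zpowers y) := isPGroup_zpowers (k := 1) (by rw [pow_one]; exact hyq)
  have hy' := P.symm.mem_fix.1 hy
  have hyle : Subgroup.zpowers y ≤ coreFix t v := Subgroup.zpowers_le.2 hy
  have hne : Subgroup.zpowers y ≠ ⊥ := mt Subgroup.zpowers_eq_bot.1 hy1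
  have hqp : q ≠ p := fun e => by
    subst e
    exact hy1 (eq_one_of_fixed_inverted (P.odd_of_mem hy'.1) hyu (Subgroup.mem_centralizer_singleton_iff.1
      (P.exception_centralizes hE hyp (Subgroup.zpowers_le.2 hy'.1) (mem_normalizer_zpowers_of_inverted hyu)
        (Subgroup.mem_zpowers y))))
  have hfus : FusedIn (fourOf t v) (Subgroup.centralizer (Subgroup.zpowers y : Set G)) := by
    rcases propFusedCentralizer propModelSplit propModelOne G P.hyp P.card8 q
      (P.ne_two hyp (Subgroup.zpowers_le.2 hy'.1) hne) (P.symm.noConf_of_fixed hyp hyle hne) (fourOf t v)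
      (Subgroup.zpowers y) P.symm.four hyp hne (P.symm.le_centralizer_four hyle) with h | h
    · exact h
    · exact absurd (h.1.trans hE.1.symm) hqp
  intro f hf
  rw [Subgroup.mem_centralizer_singleton_iff]
  have hfu : u * f = f * u := (Subgroup.mem_centralizer_singleton_iff.1 hf.2).symm
  have hyf : y * f = f * y := commute_of_fixed (P.odd_of_mem hy'.1) hyu hfu
    (Subgroup.mem_centralizer_singleton_iff.1
      (hFu (conj_mem_of_mem_normalizer (le_normalizer_fitP p hy'.1) hf.1))).symm
  refine P.symm.ly hne hyle (mem_normalizer_zpowers_of_inverted hyu)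
    (P.symm.not_le_centralizer_of_inverted hy'.1 hy1 hyu) hfus (fitP_le p hf.1)
    (mem_normalizer_of_commute fun z hz => ?_) hfu.symm
  obtain ⟨i, rfl⟩ := Subgroup.mem_zpowers_iff.1 hz
  exact ((show Commute f y from hyf.symm).zpow_right i).eq

/-- Centralisers of `p`-subgroups fixed by `u` are fused at `⟨t, u⟩` at the moved primes. -/
theorem fused_fix {p : ℕ} [Fact p.Prime]
    (hmovp : ¬ fitP p (coreC t) ⊓ Subgroup.centralizer ({u} : Set G) ≤ Subgroup.centralizer ({v} : Set G))
    {Y : Subgroup G} (hY : IsPGroup p Y) (hne : Y ≠ ⊥) (hYle : Y ≤ coreFix t u) :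
    FusedIn (fourOf t u) (Subgroup.centralizer (Y : Set G)) := by
  rcases propFusedCentralizer propModelSplit propModelOne G P.hyp P.card8 p
    (P.ne_two hY (hYle.trans inf_le_left) hne) (P.noConf_of_fixed hY hYle hne) (fourOf t u) Y P.four hY hne
    (P.le_centralizer_four hYle) with h | h
  · exact h
  · exact absurd (P.exception_fitP h) hmovp

/-- What both reflections fix has a centraliser fused at one of the two four-groups. -/
theorem fused_either {p : ℕ} [Fact p.Prime] {Y : Subgroup G} (hY : IsPGroup p Y) (hne : Y ≠ ⊥)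
    (hYu : Y ≤ coreFix t u) (hYv : Y ≤ coreFix t v) :
    FusedIn (fourOf t u) (Subgroup.centralizer (Y : Set G)) ∨
      FusedIn (fourOf t v) (Subgroup.centralizer (Y : Set G)) := by
  haveI : Fact (Nat.Prime 2) := ⟨Nat.prime_two⟩
  have hp2 := P.ne_two hY (hYu.trans inf_le_left) hne
  have hNC := P.noConf_of_fixed hY hYu hne
  rcases propFusedCentralizer propModelSplit propModelOne G P.hyp P.card8 p hp2 hNC (fourOf t u) Y P.four hY
    hne (P.le_centralizer_four hYu) with h | hu
  · exact Or.inl h
  rcases propFusedCentralizer propModelSplit propModelOne G P.hyp P.card8 p hp2 hNC (fourOf t v) Y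
    P.symm.four hY hne (P.symm.le_centralizer_four hYv) with h | hv
  · exact Or.inr h
  left
  set W := Subgroup.closure ({u, v} : Set G) with hW
  have hWO : W ≤ Subgroup.normalizer (coreC t : Set G) := (Subgroup.closure_le _).2 (by
    rintro y (rfl | rfl)
    exacts [P.u_normalizes, P.symm.u_normalizes])
  have hWY : W ≤ Subgroup.normalizer (Y : Set G) := (Subgroup.closure_le _).2 (by
    rintro y (rfl | rfl)
    exacts [mem_normalizer_of_commute fun z hz => (P.mem_fix.1 (hYu hz)).2.symm,
      mem_normalizer_of_commute fun z hz => (P.symm.mem_fix.1 (hYv hz)).2.symm])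
  obtain ⟨k, hk⟩ := P.two.exists_card_eq
  have hcop : (Nat.card W).Coprime (Nat.card (coreC t)) := by
    rw [hk]; exact (Nat.coprime_two_left.2 P.odd).pow_left k
  obtain ⟨R, hYR, hWR⟩ := Coprime.exists_invariant_sylow_ge hWO hcop
    (Or.inr (isSolvable_coreC t)) p Y (hYu.trans inf_le_left) hY hWY
  set R' := (R : Subgroup ↥(coreC t)).map (coreC t).subtype with hR'
  have hR'O : R' ≤ coreC t := Subgroup.map_subtype_le _
  have hR'p : IsPGroup p R' := R.2.map _
  have huW : u ∈ W := Subgroup.subset_closure (Set.mem_insert _ _)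
  have hvW : v ∈ W := Subgroup.subset_closure (Set.mem_insert_of_mem _ rfl)
  have hRu := P.exception_centralizes hu hR'p hR'O (hWR huW)
  have hRv := P.symm.exception_centralizes hv hR'p hR'O (hWR hvW)
  have hH := fusedIn_normalizer_fixed P.hyp P.four P.t_mem_four P.u_mem_four P.t1 P.u1 P.refl.u_ne.symm hR'p
    hR'O (Coprime.card_sylow_map R) (P.four_le_normalizer hR'O (hWR huW))
  rw [inf_eq_left.2 hRu] at hH
  have hWC : W ≤ Subgroup.centralizer (R' : Set G) := (Subgroup.closure_le _).2 (by
    rintro y (rfl | rfl)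
    exacts [Subgroup.mem_centralizer_iff.2 fun z hz => Subgroup.mem_centralizer_singleton_iff.1 (hRu hz),
      Subgroup.mem_centralizer_iff.2 fun z hz => Subgroup.mem_centralizer_singleton_iff.1 (hRv hz)])
  have hVW : fourOf t u ≤ W := P.four_le P.refl.t_gen huW
  rcases fused_normal_or_minimal P.hyp hH (hVW.trans hWC) (Subgroup.centralizer_le_normalizer _)
    (normalizer_le_normalizer_centralizer R') with h | h
  · exact h.mono (Subgroup.centralizer_le hYR)
  · exact absurd ((h W P.two hVW hWC).le hvW) P.v_not_mem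

/-- The moved primes of `u` and of `v` agree. -/
theorem moved_prime_eq {p q : ℕ} [Fact p.Prime] [Fact q.Prime]
    (hp : ¬ fitP p (coreC t) ⊓ Subgroup.centralizer ({u} : Set G) ≤ Subgroup.centralizer ({v} : Set G))
    (hq : ¬ fitP q (coreC t) ⊓ Subgroup.centralizer ({v} : Set G) ≤ Subgroup.centralizer ({u} : Set G)) :
    p = q := by
  by_contra hpq
  obtain ⟨x, hx, hxv⟩ := SetLike.not_le_iff_exists.1 hp
  obtain ⟨w, hw, hw1, hwi⟩ := exists_inverted P.vv (fun z hz => Subgroup.mem_inf.2
    ⟨conj_mem_of_mem_normalizer (normalizer_le_normalizer_fitP p P.symm.u_normalizes) hz.1,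
      Subgroup.mem_centralizer_singleton_iff.2 (P.symm.conj_fixed (fitP_le p hz.1)
        (Subgroup.mem_centralizer_singleton_iff.1 hz.2))⟩) hx
    (fun e => hxv (Subgroup.mem_centralizer_singleton_iff.2 e.symm))
  obtain ⟨x', hx', hxu⟩ := SetLike.not_le_iff_exists.1 hq
  obtain ⟨y, hy, hy1, hyi⟩ := exists_inverted P.uu (fun z hz => Subgroup.mem_inf.2
    ⟨conj_mem_of_mem_normalizer (normalizer_le_normalizer_fitP q P.u_normalizes) hz.1,
      Subgroup.mem_centralizer_singleton_iff.2 (P.conj_fixed (fitP_le q hz.1)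
        (Subgroup.mem_centralizer_singleton_iff.1 hz.2))⟩) hx'
    (fun e => hxu (Subgroup.mem_centralizer_singleton_iff.2 e.symm))
  have hwle : Subgroup.zpowers w ≤ coreFix t u := Subgroup.zpowers_le.2 ⟨fitP_le p hw.1, hw.2⟩
  have hne : Subgroup.zpowers w ≠ ⊥ := mt Subgroup.zpowers_eq_bot.1 hw1
  refine hy1 (P.ly_inverted hne hwle (mem_normalizer_zpowers_of_inverted hwi)
    (P.not_le_centralizer_of_inverted (fitP_le p hw.1) hw1 hwi)
    (P.fused_fix hp ((fitP_isPGroup p).to_le (Subgroup.zpowers_le.2 hw.1)) hne hwle) (fitP_le q hy.1)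
    (mem_normalizer_of_commute fun z hz => ?_) (Subgroup.mem_centralizer_singleton_iff.1 hy.2) hyi)
  obtain ⟨i, rfl⟩ := Subgroup.mem_zpowers_iff.1 hz
  exact ((show Commute y w from (fitP_commute hpq hw.1 hy.1).symm).zpow_right i).eq

/-- Some prime is moved. -/
theorem exists_moved_prime : ∃ p, p.Prime ∧
    (¬ fitP p (coreC t) ⊓ Subgroup.centralizer ({u} : Set G) ≤ Subgroup.centralizer ({v} : Set G) ∨
     ¬ fitP p (coreC t) ⊓ Subgroup.centralizer ({v} : Set G) ≤ Subgroup.centralizer ({u} : Set G)) := by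
  by_contra hno
  push Not at hno
  have hfit : ∀ f ∈ fitO (coreC t), u * v * f = f * (u * v) := commute_fitO fun p hp f hf => by
    obtain ⟨hu, hv⟩ := hno p hp
    have hFO := fitP_le p (O := coreC t)
    refine fixed_of_same_fixed (P.odd.of_dvd_nat (Subgroup.card_dvd_of_le hFO)) P.uu P.vv
      (fun z hz => conj_mem_of_mem_normalizer (normalizer_le_normalizer_fitP p P.u_normalizes) hz)
      (fun z hz => conj_mem_of_mem_normalizer (normalizer_le_normalizer_fitP p P.symm.u_normalizes) hz)
      (fun z hz => P.comm z (hFO hz))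
      (fun z hz h => (Subgroup.mem_centralizer_singleton_iff.1
        (hu ⟨hz, Subgroup.mem_centralizer_singleton_iff.2 h.symm⟩)).symm)
      (fun z hz h => (Subgroup.mem_centralizer_singleton_iff.1
        (hv ⟨hz, Subgroup.mem_centralizer_singleton_iff.2 h.symm⟩)).symm) f hf
  refine P.movU fun x hx => Subgroup.mem_centralizer_singleton_iff.2 ?_
  obtain ⟨hxO, hxu⟩ := P.mem_fix.1 hx
  set r := u * v with hr
  set c := r * x * r⁻¹ * x⁻¹ with hc
  have hrn : r ∈ Subgroup.normalizer (coreC t : Set G) := mul_mem P.u_normalizes P.symm.u_normalizes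
  have hcO : c ∈ coreC t := mul_mem (conj_mem_of_mem_normalizer hrn hxO) (inv_mem hxO)
  have hcF : c ∈ fitO (coreC t) := mem_fitO_of_commute (isSolvable_coreC t) hcO fun p hp f hf => by
    haveI := Fact.mk hp
    have h1 : ∀ g ∈ fitP p (coreC t), r * g = g * r := fun g hg => hfit g (fitP_le_fitO p hg)
    have h2 : x⁻¹ * f * x ∈ fitP p (coreC t) :=
      (Subgroup.mem_normalizer_iff''.1 (le_normalizer_fitP p hxO) f).1 hf
    have h3 : c * f * c⁻¹ = f := by
      calc c * f * c⁻¹ = r * x * (r⁻¹ * (x⁻¹ * f * x) * r) * (x⁻¹ * r⁻¹) := by rw [hc]; group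
        _ = r * x * (x⁻¹ * f * x) * (x⁻¹ * r⁻¹) := by
          rw [show r⁻¹ * (x⁻¹ * f * x) * r = x⁻¹ * f * x by rw [mul_assoc, ← h1 _ h2, inv_mul_cancel_left]]
        _ = r * f * r⁻¹ := by group
        _ = f := by rw [h1 f hf, mul_inv_cancel_right]
    calc c * f = c * f * c⁻¹ * c := by group
      _ = f * c := by rw [h3]
  have hrr : r * r * x = x * (r * r) := by
    rw [hr, show u * v * (u * v) = u * v * u * v by group]
    exact P.comm x hxO
  have hci : r * c * r⁻¹ = c⁻¹ := by
    calc r * c * r⁻¹ = r * r * x * (r * r)⁻¹ * (r * x * r⁻¹)⁻¹ := by rw [hc]; group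
      _ = c⁻¹ := by rw [hrr, mul_inv_cancel_right, hc]; group
  have hc1 : c = 1 := eq_one_of_fixed_inverted (P.odd_of_mem hcO) hci (hfit c hcF).symm
  rw [hc, mul_inv_eq_one, mul_inv_eq_iff_eq_mul, hr] at hc1
  refine mul_left_cancel (a := u) ?_
  calc u * (x * v) = x * u * v := by rw [← mul_assoc, hxu]
    _ = u * (v * x) := by rw [mul_assoc, ← hc1, mul_assoc]

end Pair

end Cfsg.Agent.Lib.GorensteinWalter
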