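import Cfsg.Agent.Lib.GorensteinWalter.FusedCentralizerMain

/-!
# Section C: the quotient of a subgroup by its odd core

Injectivity on 2-subgroups, fusion in both directions, dihedral Sylow subgroups, and the lifting of the odd
part of an involution centraliser.
-/

set_option autoImplicit false
set_option linter.unusedSectionVars false
set_option linter.style.haveILetI false

namespace Cfsg.Agent.Lib.GorensteinWalter

open Cfsg.Agent.Lib.Fusion.Dihedral
open scoped Pointwise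

universe u

variable {G : Type u} [Group G] [Finite G]

namespace CoreQuot

/-- The quotient map `H → H ⧸ O(H)`. -/
abbrev proj (H : Subgroup G) : H →* H ⧸ Cfsg.oddCore H := QuotientGroup.mk' _

variable {H : Subgroup G}

theorem proj_eq_one_iff {x : H} : proj H x = 1 ↔ (x : G) ∈ coreOf H := by
  refine (QuotientGroup.eq_one_iff x).trans ⟨fun h => ⟨x, h, rfl⟩, fun ⟨y, hy, hyx⟩ => ?_⟩
  rwa [show y = x from Subtype.ext hyx] at hy

theorem proj_conj {x y : H} : proj H x * proj H y * (proj H x)⁻¹ = proj H (x * y * x⁻¹) := by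
  rw [map_mul, map_mul, map_inv]

theorem proj_surjective : Function.Surjective (proj H) := QuotientGroup.mk'_surjective _

theorem eq_one_of_two {x : H} {k : ℕ} (hk : (x : G) ^ 2 ^ k = 1) (h : proj H x = 1) : x = 1 :=
  Subtype.ext (orderOf_eq_one_iff.1 (Nat.eq_one_of_dvd_coprimes
    ((Nat.coprime_two_left.2 (orderOf_odd_of_mem (coreOf_odd H) (proj_eq_one_iff.1 h))).pow_left k)
    (orderOf_dvd_of_pow_eq_one hk) dvd_rfl))

/-- The quotient map is injective on 2-subgroups. -/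
theorem eq_of_two {P : Subgroup G} (hP : IsPGroup 2 P) {x y : H} (hx : (x : G) ∈ P) (hy : (y : G) ∈ P)
    (h : proj H x = proj H y) : x = y := by
  obtain ⟨k, hk⟩ := hP ⟨_, mul_mem hx (inv_mem hy)⟩
  exact mul_inv_eq_one.1 (eq_one_of_two (x := x * y⁻¹) (congrArg Subtype.val hk)
    (by rw [map_mul, map_inv, h, mul_inv_cancel]))

theorem orderOf_two {z : H} (hz : orderOf (z : G) = 2) : orderOf (proj H z) = 2 := by
  have h2 : z ^ 2 = 1 := Subtype.ext (by
    rw [Subgroup.coe_pow, Subgroup.coe_one, ← hz, pow_orderOf_eq_one])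
  refine orderOf_eq_prime (by rw [← map_pow, h2, map_one]) fun h => ?_
  have h1 := eq_one_of_two (k := 1) (by simpa using congrArg Subtype.val h2) h
  rw [h1] at hz
  simp at hz

theorem odd_proj {z : H} (hz : Odd (orderOf (z : G))) : Odd (orderOf (proj H z)) :=
  Odd.of_dvd_nat hz ((orderOf_map_dvd _ z).trans (Subgroup.orderOf_coe z).symm.dvd)

/-- A four-group maps to a four-group. -/
theorem isFour_image {V : Subgroup G} (hV : IsFour V) (hVH : V ≤ H) :
    IsFour ((V.subgroupOf H).map (proj H)) := by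
  refine ⟨?_, ?_⟩
  · rw [show (V.subgroupOf H).map (proj H) = ((proj H).comp (V.subgroupOf H).subtype).range by
      rw [MonoidHom.range_comp, Subgroup.range_subtype],
      ← Nat.card_congr (MonoidHom.ofInjective (f := (proj H).comp (V.subgroupOf H).subtype) (fun x y hxy =>
        Subtype.ext (eq_of_two hV.isPGroup (Subgroup.mem_subgroupOf.1 x.2) (Subgroup.mem_subgroupOf.1 y.2)
          hxy))).toEquiv,
      Nat.card_congr (Subgroup.subgroupOfEquivOfLe hVH).toEquiv, hV.1]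
  · rintro _ ⟨x, hx, rfl⟩
    rw [← map_mul, show x * x = 1 from Subtype.ext (hV.2 _ hx), map_one]

theorem fourOf_image {V : Subgroup G} (hV : IsFour V) (hVH : V ≤ H) {t a : H} (ht : (t : G) ∈ V)
    (ha : (a : G) ∈ V) (ht1 : t ≠ 1) (ha1 : a ≠ 1) (hne : t ≠ a) :
    fourOf (proj H t) (proj H a) = (V.subgroupOf H).map (proj H) := by
  refine fourOf_eq (isFour_image hV hVH) ⟨t, ht, rfl⟩ ⟨a, ha, rfl⟩ (fun h => ht1 ?_) (fun h => ha1 ?_)
    (fun h => hne (eq_of_two hV.isPGroup ht ha h))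
  · exact eq_of_two hV.isPGroup ht (one_mem V) (by rw [h, map_one])
  · exact eq_of_two hV.isPGroup ha (one_mem V) (by rw [h, map_one])

/-- Fusion passes to the quotient. -/
theorem fused_image {V : Subgroup G} (hV : FusedIn V H) :
    FusedIn ((V.subgroupOf H).map (proj H)) ⊤ := by
  refine ⟨isFour_image hV.1 hV.2.1, le_top, ?_⟩
  rintro _ ⟨v, hv, rfl⟩ hv1 _ ⟨w, hw, rfl⟩ hw1
  obtain ⟨g, hg, hgN, hgv⟩ := hV.2.2 v hv (fun e => hv1 (by rw [show v = 1 from Subtype.ext e, map_one]))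
    w hw (fun e => hw1 (by rw [show w = 1 from Subtype.ext e, map_one]))
  refine ⟨proj H ⟨g, hg⟩, trivial, Subgroup.le_normalizer_map _ ⟨⟨g, hg⟩, ?_, rfl⟩, ?_⟩
  · exact Subgroup.mem_normalizer_fintype fun x hx =>
      Subgroup.mem_subgroupOf.2 (conj_mem_of_mem_normalizer hgN (Subgroup.mem_subgroupOf.1 hx))
  · rw [proj_conj]
    exact congrArg (proj H) (Subtype.ext hgv)

/-- Fusion lifts from the quotient. -/
theorem fused_of_image {V : Subgroup G} (hV : IsFour V) (hVH : V ≤ H)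
    (h : FusedIn ((V.subgroupOf H).map (proj H)) ⊤) : FusedIn V H := by
  refine ⟨hV, hVH, fun v hv hv1 w hw hw1 => ?_⟩
  obtain ⟨g, -, hgN, hgv⟩ := h.2.2 (proj H ⟨v, hVH hv⟩) ⟨⟨v, hVH hv⟩, hv, rfl⟩
    (fun e => hv1 (congrArg Subtype.val
      (eq_of_two hV.isPGroup (x := ⟨v, hVH hv⟩) (y := 1) hv (one_mem V) (by rw [e, map_one]))))
    (proj H ⟨w, hVH hw⟩) ⟨⟨w, hVH hw⟩, hw, rfl⟩
    (fun e => hw1 (congrArg Subtype.val
      (eq_of_two hV.isPGroup (x := ⟨w, hVH hw⟩) (y := 1) hw (one_mem V) (by rw [e, map_one]))))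
  obtain ⟨g, rfl⟩ := proj_surjective g
  set U := V.map (MulAut.conj (g : G)).toMonoidHom with hU
  have hcop : (Nat.card V).Coprime (Nat.card (coreOf H)) := by
    rw [hV.1, show (4 : ℕ) = 2 ^ 2 from rfl]
    exact (Nat.coprime_two_left.2 (coreOf_odd H)).pow_left 2
  have hUle : U ≤ V ⊔ coreOf H := by
    rintro _ ⟨x, hx, rfl⟩
    have hm : proj H g * proj H ⟨x, hVH hx⟩ * (proj H g)⁻¹ ∈ (V.subgroupOf H).map (proj H) :=
      conj_mem_of_mem_normalizer hgN ⟨⟨x, hVH hx⟩, hx, rfl⟩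
    rw [proj_conj] at hm
    obtain ⟨y, hy, hye⟩ := hm
    have h1 : y⁻¹ * (g * ⟨x, hVH hx⟩ * g⁻¹) ∈ Cfsg.oddCore H := by
      rw [← QuotientGroup.eq_one_iff]
      show proj H (y⁻¹ * _) = 1
      rw [map_mul, map_inv, hye, inv_mul_cancel]
    have h2 := mul_mem (Subgroup.mem_sup_left (T := coreOf H) (Subgroup.mem_subgroupOf.1 hy))
      (Subgroup.mem_sup_right (S := V) ⟨_, h1, rfl⟩)
    simpa [mul_assoc] using h2
  obtain ⟨k, hk, hkU⟩ := Coprime.exists_conj_eq_of_coprime (hVH.trans (le_normalizer_coreOf H)) hcop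
    (Or.inl (by haveI := hV.isPGroup.isNilpotent; infer_instance)) hUle
    (Subgroup.card_map_of_injective (MulAut.conj (g : G)).injective)
  have hkg : ∀ x ∈ V, k⁻¹ * g * x * (k⁻¹ * (g : G))⁻¹ ∈ V := fun x hx => by
    have h0 : (g : G) * x * (g : G)⁻¹ ∈ MulAut.conj k • V := hkU.ge ⟨x, hx, rfl⟩
    obtain ⟨y, hy, hye⟩ := h0
    have h1 : k * y * k⁻¹ = (g : G) * x * (g : G)⁻¹ := hye
    rw [show k⁻¹ * g * x * (k⁻¹ * (g : G))⁻¹ = k⁻¹ * ((g : G) * x * (g : G)⁻¹) * k by group, ← h1]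
    simpa [mul_assoc] using hy
  have hkH : k ∈ H := coreOf_le H hk
  refine ⟨k⁻¹ * g, mul_mem (inv_mem hkH) g.2, Subgroup.mem_normalizer_fintype hkg, ?_⟩
  have hk1 : proj H ⟨k, hkH⟩ = 1 := proj_eq_one_iff.2 hk
  have key : proj H (⟨k, hkH⟩⁻¹ * g * ⟨v, hVH hv⟩ * (⟨k, hkH⟩⁻¹ * g)⁻¹) = proj H ⟨w, hVH hw⟩ := by
    rw [← hgv]
    simp [map_mul, map_inv, hk1]
  have heq := eq_of_two hV.isPGroup (x := ⟨k, hkH⟩⁻¹ * g * ⟨v, hVH hv⟩ * (⟨k, hkH⟩⁻¹ * g)⁻¹)
    (y := ⟨w, hVH hw⟩) (hkg v hv) hw key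
  exact congrArg Subtype.val heq

/-- The quotient has dihedral Sylow 2-subgroups. -/
theorem dihedral (hG : Hyp G) {V : Subgroup G} (hV : IsFour V) (hVH : V ≤ H) :
    HasDihedralSylow (H ⧸ Cfsg.oddCore H) := by
  haveI : Fact (Nat.Prime 2) := ⟨Nat.prime_two⟩
  have hcd := (hG.cd.subgroup H).of_surjective (proj H) proj_surjective
  have hW := isFour_image hV hVH
  obtain ⟨T, hT⟩ := hW.isPGroup.exists_le_sylow
  intro T'
  rcases hcd T' with hc | hd
  · exfalso
    haveI := hc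
    haveI : IsCyclic (T : Subgroup (H ⧸ Cfsg.oddCore H)) :=
      isCyclic_of_injective (Sylow.equiv T T').toMonoidHom (MulEquiv.injective _)
    exact not_isCyclic_of_four hW (Subgroup.isCyclic_of_le hT)
  · exact hd

/-- Odd elements of the centraliser of an involution lift. -/
theorem lift {z : H} (hz : orderOf (z : G) = 2) {x : H ⧸ Cfsg.oddCore H}
    (hx : x * proj H z = proj H z * x) (hodd : Odd (orderOf x)) :
    ∃ h : H, proj H h = x ∧ Odd (orderOf (h : G)) ∧ (h : G) * z = z * h := by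
  haveI : Fact (Nat.Prime 2) := ⟨Nat.prime_two⟩
  obtain ⟨g, rfl⟩ := proj_surjective x
  have hzz : (z : G) ^ 2 ^ 1 = 1 := by rw [pow_one, ← hz, pow_orderOf_eq_one]
  obtain ⟨a, ha, hga⟩ := exists_fixed_mul (X := Subgroup.zpowers (z : G)) (U := coreOf H) (w := (g : G))
    (isPGroup_zpowers hzz) (coreOf_odd H).not_two_dvd_nat
    (Subgroup.zpowers_le.2 (le_normalizer_coreOf H z.2)) (fun y hy => by
      obtain ⟨i, rfl⟩ := Subgroup.mem_zpowers_iff.1 hy
      have h1 : proj H (g⁻¹ * z ^ i * g * (z ^ i)⁻¹) = 1 := by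
        have hc : Commute (proj H g) (proj H z ^ i) :=
          (show Commute (proj H g) (proj H z) from hx).zpow_right i
        simp only [map_mul, map_inv, map_zpow]
        rw [mul_assoc _ (proj H z ^ i), ← hc.eq, ← mul_assoc, inv_mul_cancel, one_mul, mul_inv_cancel]
      simpa using proj_eq_one_iff.1 h1)
  set g' : H := g * ⟨a, coreOf_le H ha⟩ with hg'
  have hg'p : proj H g' = proj H g := by
    rw [hg', map_mul, (proj_eq_one_iff (x := ⟨a, coreOf_le H ha⟩)).2 ha, mul_one]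
  obtain ⟨e, m, hm, hn⟩ := Nat.exists_eq_two_pow_mul_odd (orderOf_pos g').ne'
  set j := (2 ^ e) ^ Nat.totient m with hj
  refine ⟨g' ^ j, ?_, ?_, ?_⟩
  · have hd : orderOf (proj H g) ∣ 2 ^ e * m := hn ▸ hg'p ▸ orderOf_map_dvd (proj H) g'
    have hdm : orderOf (proj H g) ∣ m :=
      (Nat.Coprime.pow_right e (Nat.coprime_two_right.2 hodd)).dvd_of_dvd_mul_left hd
    have h1 : j ≡ 1 [MOD orderOf (proj H g)] :=
      (Nat.ModEq.pow_totient ((Nat.coprime_two_left.2 hm).pow_left e)).of_dvd hdm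
    rw [map_pow, hg'p]
    exact (pow_eq_pow_iff_modEq.2 h1).trans (pow_one _)
  · refine Odd.of_dvd_nat hm (orderOf_dvd_of_pow_eq_one ?_)
    have hdiv : orderOf g' ∣ j * m :=
      hn ▸ Nat.mul_dvd_mul_right (dvd_pow_self _ (Nat.totient_pos.2 hm.pos).ne') m
    rw [← Subgroup.coe_pow, ← pow_mul, orderOf_dvd_iff_pow_eq_one.1 hdiv, Subgroup.coe_one]
  · have hc : Commute ((g : G) * a) (z : G) :=
      (Subgroup.mem_centralizer_iff.1 hga (z : G) (Subgroup.mem_zpowers _)).symm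
    rw [Subgroup.coe_pow, hg', Subgroup.coe_mul]
    exact (hc.pow_left j).eq

/-- `O(C(z̄))` is the image of `O(C(z)) ∩ H`. -/
theorem coreC_image (hG : Hyp G) (hX : HasDihedralSylow (H ⧸ Cfsg.oddCore H)) {z : H}
    (hz : orderOf (z : G) = 2) :
    coreC (proj H z) = ((coreC (z : G)).subgroupOf H).map (proj H) := by
  refine le_antisymm (fun x hx => ?_) ?_
  · obtain ⟨h, hhx, hodd, hhz⟩ := lift hz (Subgroup.mem_centralizer_singleton_iff.1 (coreC_le _ hx))
      (orderOf_odd_of_mem (coreC_odd _) hx)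
    exact ⟨h, hG.mem_coreC hz (Subgroup.mem_centralizer_singleton_iff.2 hhz) hodd, hhx⟩
  · rintro _ ⟨h, hh, rfl⟩
    have hh' : (h : G) ∈ coreC (z : G) := hh
    exact hX.sylowCD.odd_mem_coreC (orderOf_two hz)
      (by rw [← map_mul, ← map_mul, show h * z = z * h from
        Subtype.ext (Subgroup.mem_centralizer_singleton_iff.1 (coreC_le _ hh'))])
      (odd_proj (orderOf_odd_of_mem (coreC_odd _) hh'))

end CoreQuot

end Cfsg.Agent.Lib.GorensteinWalter
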