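import Cfsg.Agent.Lib.GorensteinWalter.ComparableSetup
import Cfsg.Agent.Lib.GorensteinWalter.ComparableQuot
import Cfsg.Agent.Lib.GorensteinWalter.ModelsC
import Cfsg.Agent.Lib.GorensteinWalter.SomeTrivial

/-!
# Section C: a fused centraliser of a subgroup fixed by `u` and moved by `v`

`N(Y) / O(N(Y))` is a group with one class of four-groups fused and the other not.  So odd elements fixed by `v`
are fixed by `u`, and the torus of `v` divides the index of their centraliser.
-/

set_option autoImplicit false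
set_option linter.unusedSectionVars false
set_option linter.style.haveILetI false

namespace Cfsg.Agent.Lib.GorensteinWalter

open Cfsg.Agent.Lib.Fusion.Dihedral

universe u

variable {G : Type u} [Group G] [Finite G]

/-- A subgroup normalised by `A` has index in its fixed part dividing that of the fixed part of `A`. -/
theorem relIndex_dvd_of_normalized {A B N : Subgroup G} (hNA : N ≤ A)
    (hn : A ≤ Subgroup.normalizer (N : Set G)) : B.relIndex N ∣ B.relIndex A := by
  haveI : (N.subgroupOf A).Normal := Subgroup.normal_subgroupOf_of_le_normalizer hn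
  have h1 : B.relIndex N = (B.subgroupOf A).relIndex (N.subgroupOf A) :=
    (Subgroup.relIndex_subgroupOf hNA).symm
  set N' := N.subgroupOf A
  set B' := B.subgroupOf A
  have h3 : Nat.card ↥(B' ⊔ N') = Nat.card N' * N'.relIndex (B' ⊔ N') := by
    rw [← Subgroup.relIndex_bot_left N', ← Subgroup.relIndex_bot_left (B' ⊔ N'),
      Subgroup.relIndex_mul_relIndex _ _ _ bot_le le_sup_right]
  have h4 : Nat.card ↥(B' ⊔ N') = Nat.card B' * B'.relIndex (B' ⊔ N') := by
    rw [← Subgroup.relIndex_bot_left B', ← Subgroup.relIndex_bot_left (B' ⊔ N'),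
      Subgroup.relIndex_mul_relIndex _ _ _ bot_le le_sup_left]
  have h5 : N'.relIndex (B' ⊔ N') = N'.relIndex B' := Subgroup.relIndex_sup_right _ _
  have h6 : Nat.card ↥(B' ⊓ N') * N'.relIndex B' = Nat.card B' := by
    rw [← Subgroup.relIndex_bot_left (B' ⊓ N'), ← Subgroup.relIndex_bot_left B',
      ← Subgroup.inf_relIndex_right N' B', inf_comm N' B',
      Subgroup.relIndex_mul_relIndex _ _ _ bot_le inf_le_left]
  have h7 : Nat.card ↥(B' ⊓ N') * B'.relIndex N' = Nat.card N' := by
    rw [← Subgroup.relIndex_bot_left (B' ⊓ N'), ← Subgroup.relIndex_bot_left N',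
      ← Subgroup.inf_relIndex_right B' N', Subgroup.relIndex_mul_relIndex _ _ _ bot_le inf_le_right]
  have h8 : B'.relIndex (B' ⊔ N') = B'.relIndex N' := by
    have e : Nat.card B' * B'.relIndex (B' ⊔ N') = Nat.card B' * B'.relIndex N' := by
      rw [← h4, h3, h5, ← h6, ← h7]; ring
    exact mul_left_cancel₀ Nat.card_pos.ne' e
  rw [h1, ← h8]
  exact Dvd.intro (Subgroup.index (B' ⊔ N')) (Subgroup.relIndex_mul_index le_sup_left)

namespace Pair

variable {S : Sylow 2 G} {t u v : G} (P : Pair S t u v)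
include P

variable {Y : Subgroup G} (hne : Y ≠ ⊥) (hYle : Y ≤ coreFix t u)
  (hvY : v ∈ Subgroup.normalizer (Y : Set G)) (hmov : ¬ Y ≤ Subgroup.centralizer ({v} : Set G))
  (hfus : FusedIn (fourOf t u) (Subgroup.centralizer (Y : Set G)))

include hne hYle in
theorem normalizer_ne_top : Subgroup.normalizer (Y : Set G) ≠ ⊤ :=
  P.hyp.normalizer_ne_top hne (P.hyp.ne_top_of_odd
    (P.odd.of_dvd_nat (Subgroup.card_dvd_of_le (hYle.trans inf_le_left))))

include hvY hmov hfus in
/-- `⟨t, v⟩` is not fused in `N(Y)`. -/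
theorem not_fused : ¬ FusedIn (fourOf t v) (Subgroup.normalizer (Y : Set G)) := by
  intro hfH
  obtain ⟨g, hg, -, hgt⟩ := hfH.2.2 t P.symm.t_mem_four P.t1 v P.symm.u_mem_four P.symm.u1
  refine hmov fun y hy => Subgroup.mem_centralizer_singleton_iff.2 ?_
  have hvC : v ∈ Subgroup.centralizer (Y : Set G) := hgt ▸
    conj_mem_of_mem_normalizer (normalizer_le_normalizer_centralizer Y hg) (hfus.2.1 P.t_mem_four)
  exact (commute_of_mem_centralizer hvC hy).symm

omit hne hYle hvY hmov hfus in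
/-- The model of a subgroup fused at `⟨t, u⟩` and not at `⟨t, v⟩`, modulo its odd core. -/
theorem split_model {H : Subgroup G} (hH : H ≠ ⊤) (hfH : FusedIn (fourOf t u) H) (hvH : v ∈ H)
    (hnf : ¬ FusedIn (fourOf t v) H) : ∀ (t' u' v' : H), (t' : G) = t → (u' : G) = u → (v' : G) = v →
      (∀ x, x * CoreQuot.proj _ t' = CoreQuot.proj _ t' * x → Odd (orderOf x) →
        x * CoreQuot.proj _ v' = CoreQuot.proj _ v' * x → x * CoreQuot.proj _ u' = CoreQuot.proj _ u' * x) ∧
      ∃ T T' : ℕ, Nat.Coprime T T' ∧ 2 * T ≤ T' + 1 ∧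
        Nat.card (coreC (CoreQuot.proj _ t')) =
          T * Nat.card (coreFix (CoreQuot.proj _ t') (CoreQuot.proj _ u')) ∧
        Nat.card (coreC (CoreQuot.proj _ v')) =
          T' * Nat.card (coreFix (CoreQuot.proj _ v') (CoreQuot.proj _ t')) := by
  intro t' u' v' ht' hu' hv'
  haveI : Fact (Nat.Prime 2) := ⟨Nat.prime_two⟩
  have hle : fourOf t u ≤ H := hfH.2.1
  have hleV : fourOf t v ≤ H := P.symm.four_le (hle P.t_mem_four) hvH
  have hcl : ∀ x ∈ Subgroup.closure ({u', v'} : Set H), (x : G) ∈ Subgroup.closure ({u, v} : Set G) :=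
    fun x hx => by
      have h1 : Subgroup.closure ({u', v'} : Set H) ≤
          (Subgroup.closure ({u, v} : Set G)).comap H.subtype := by
        rw [Subgroup.closure_le]
        rintro y (rfl | rfl)
        · exact hu'.symm ▸ Subgroup.subset_closure (Set.mem_insert _ _)
        · exact hv'.symm ▸ Subgroup.subset_closure (Set.mem_insert_of_mem _ rfl)
      exact h1 hx
  have hmap : Subgroup.closure ({CoreQuot.proj H u', CoreQuot.proj H v'} : Set _) =
      (Subgroup.closure ({u', v'} : Set H)).map (CoreQuot.proj H) := by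
    rw [MonoidHom.map_closure, Set.image_pair]
  refine propModelSplit _ (CoreQuot.proj H t') (CoreQuot.proj H u') (CoreQuot.proj H v')
    (Cores.pPrimeCore_quotient_pPrimeCore 2) (CoreQuot.dihedral P.hyp P.four hle)
    (fun L N _ hs hna => known_sections_quotient P.hyp hH _ L N hs hna)
    (CoreQuot.orderOf_two (ht'.symm ▸ P.refl.t_two)) (CoreQuot.orderOf_two (hu'.symm ▸ P.refl.u_two))
    (CoreQuot.orderOf_two (hv'.symm ▸ P.refl.v_two)) ?_ ?_ ?_ ?_ ?_ ?_ ?_
  · rw [← map_mul, ← map_mul, show u' * t' = t' * u' from Subtype.ext (by simp [hu', ht', P.ut])]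
  · rw [← map_mul, ← map_mul, show v' * t' = t' * v' from Subtype.ext (by simp [hv', ht', P.vt])]
  · rw [hmap]
    refine IsPGroup.map ?_ _
    intro x
    obtain ⟨k, hk⟩ := P.two ⟨_, hcl x x.2⟩
    exact ⟨k, Subtype.ext (Subtype.ext (congrArg Subtype.val hk :))⟩
  · rw [hmap]
    have hu2 : u' ∈ Subgroup.closure ({u', v'} : Set H) := Subgroup.subset_closure (Set.mem_insert _ _)
    have hv2 : v' ∈ Subgroup.closure ({u', v'} : Set H) :=
      Subgroup.subset_closure (Set.mem_insert_of_mem _ rfl)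
    have h1 : Subgroup.closure ({u, v} : Set G) ≤ (Subgroup.closure ({u', v'} : Set H)).map H.subtype := by
      rw [Subgroup.closure_le]
      rintro y (rfl | rfl)
      exacts [⟨u', hu2, hu'⟩, ⟨v', hv2, hv'⟩]
    obtain ⟨w, hw, hwt⟩ := h1 P.refl.t_gen
    exact ⟨w, hw, by rw [show w = t' from Subtype.ext (hwt.trans ht'.symm)]⟩
  · rw [CoreQuot.fourOf_image P.four hle (ht'.symm ▸ P.t_mem_four) (hu'.symm ▸ P.u_mem_four)
      (fun e => P.t1 (by rw [← ht', e]; rfl)) (fun e => P.u1 (by rw [← hu', e]; rfl))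
      (fun e => P.refl.u_ne (by rw [← hu', ← e, ht']))]
    exact CoreQuot.fused_image hfH
  · intro e
    refine P.refl.v_ne ?_
    rw [← hv', ← ht']
    exact congrArg Subtype.val (CoreQuot.eq_of_two P.symm.four.isPGroup
      (hv'.symm ▸ P.symm.u_mem_four) (ht'.symm ▸ P.symm.t_mem_four) e)
  · rw [CoreQuot.fourOf_image P.symm.four hleV (ht'.symm ▸ P.symm.t_mem_four) (hv'.symm ▸ P.symm.u_mem_four)
      (fun e => P.t1 (by rw [← ht', e]; rfl)) (fun e => P.symm.u1 (by rw [← hv', e]; rfl))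
      (fun e => P.refl.v_ne (by rw [← hv', ← e, ht']))]
    exact fun hf => hnf (CoreQuot.fused_of_image P.symm.four hleV hf)

include hne hYle hvY hmov hfus in
/-- Lemma LY: in `N(Y)` what `v` fixes, `u` fixes. -/
theorem ly {x : G} (hxO : x ∈ coreC t) (hxY : x ∈ Subgroup.normalizer (Y : Set G)) (hxv : x * v = v * x) :
    x * u = u * x := by
  haveI : Fact (Nat.Prime 2) := ⟨Nat.prime_two⟩
  set H := Subgroup.normalizer (Y : Set G) with hH
  have hfH : FusedIn (fourOf t u) H := hfus.mono (Subgroup.centralizer_le_normalizer _)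
  have htH : t ∈ H := hfH.2.1 P.t_mem_four
  have huH : u ∈ H := hfH.2.1 P.u_mem_four
  set c := u * x * u⁻¹ * x⁻¹ with hc
  have hcO : c ∈ coreC t := mul_mem (P.conj_mem hxO) (inv_mem hxO)
  have hcv : c * v = v * c :=
    ((show Commute (u * x * u⁻¹) v from P.conj_fixed hxO hxv).mul_left
      (show Commute x v from hxv).inv_left).eq
  have hci : u * c * u⁻¹ = c⁻¹ := by
    have hui := inv_eq_of_mul_eq_one_right P.uu
    rw [hc, hui]
    simp only [_root_.mul_inv_rev, inv_inv, hui, mul_assoc]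
    simp only [← mul_assoc, P.uu, one_mul]
  have hccore : c ∈ coreOf H := by
    have hm := (P.split_model (P.normalizer_ne_top hne hYle) hfH hvY (P.not_fused hvY hmov hfus)
      ⟨t, htH⟩ ⟨u, huH⟩ ⟨v, hvY⟩ rfl rfl rfl).1
      (CoreQuot.proj H ⟨x, hxY⟩)
      (by rw [← map_mul, ← map_mul]; exact congrArg _ (Subtype.ext (P.xt hxO)))
      (CoreQuot.odd_proj (P.odd_of_mem hxO))
      (by rw [← map_mul, ← map_mul]; exact congrArg _ (Subtype.ext hxv))
    exact (CoreQuot.proj_eq_one_iff
      (x := ⟨u, huH⟩ * ⟨x, hxY⟩ * ⟨u, huH⟩⁻¹ * (⟨x, hxY⟩ : H)⁻¹)).1 (by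
        rw [map_mul, map_mul, map_mul, map_inv, map_inv, ← hm, mul_inv_cancel_right, mul_inv_cancel])
  have hc1 : c = 1 := by
    by_contra hne1
    obtain ⟨q, w, hq, hw, hw1, hwq, hwi⟩ := P.exists_inverted_prime (K := Subgroup.zpowers c)
      (fun z hz => by
        obtain ⟨i, rfl⟩ := Subgroup.mem_zpowers_iff.1 hz
        rw [← MulAut.conj_apply, map_zpow, MulAut.conj_apply, hci]
        exact zpow_mem (inv_mem (Subgroup.mem_zpowers c)) i)
      (fun h => hne1 (eq_one_of_fixed_inverted (P.odd_of_mem hcO) hci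
        (Subgroup.mem_centralizer_singleton_iff.1 (h (Subgroup.mem_zpowers c)))))
    haveI := Fact.mk hq
    have hwp : IsPGroup q (Subgroup.zpowers w) := isPGroup_zpowers (k := 1) (by rw [pow_one]; exact hwq)
    have hle : Subgroup.zpowers c ≤ coreFix t v :=
      Subgroup.zpowers_le.2 (P.symm.mem_fix.2 ⟨hcO, hcv⟩)
    refine not_mem_coreOf_of_inverted (P.symm.noConf_of_fixed hwp (Subgroup.zpowers_le.2 (hle hw))
      (mt Subgroup.zpowers_eq_bot.1 hw1)) (P.normalizer_ne_top hne hYle) hfH P.t_mem_four P.u_mem_four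
      P.t1 P.u1 P.refl.u_ne.symm hwp (P.odd_of_mem (hle hw).1) hw1 (P.xt (hle hw).1).symm hwi
      (Subgroup.zpowers_le.2 hccore hw)
  rw [hc] at hc1
  exact (mul_inv_eq_iff_eq_mul.1 (mul_inv_eq_one.1 hc1)).symm

include hne hYle hvY hmov hfus in
/-- Nothing in `N(Y)` is inverted by `u` and fixed by `v`. -/
theorem ly_inverted {y : G} (hy : y ∈ coreC t) (hyY : y ∈ Subgroup.normalizer (Y : Set G))
    (hyv : y * v = v * y) (hyu : u * y * u⁻¹ = y⁻¹) : y = 1 :=
  eq_one_of_fixed_inverted (P.odd_of_mem hy) hyu (P.ly hne hYle hvY hmov hfus hy hyY hyv)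

include hne hYle hvY hmov hfus in
/-- The tori of `N(Y)`. -/
theorem counting : ∃ T T' : ℕ, 0 < T ∧ T.Coprime T' ∧ 2 * T ≤ T' + 1 ∧
    T' * Nat.card ↥(coreC t ⊓ Subgroup.normalizer (Y : Set G) ⊓ Subgroup.centralizer ({v} : Set G)) ∣
      Nat.card (coreC t) ∧
    ∀ (q : ℕ) [Fact q.Prime] (N : Subgroup G), IsPGroup q N → N ≤ coreC t ⊓ Subgroup.normalizer (Y : Set G) →
      coreC t ⊓ Subgroup.normalizer (Y : Set G) ≤ Subgroup.normalizer (N : Set G) →
      u ∈ Subgroup.normalizer (N : Set G) → (∀ V H : Subgroup G, ¬ Conf q V H) →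
        Nat.card N ∣ T * Nat.card ↥(N ⊓ Subgroup.centralizer ({u} : Set G)) := by
  classical
  set H := Subgroup.normalizer (Y : Set G) with hH
  have hfH : FusedIn (fourOf t u) H := hfus.mono (Subgroup.centralizer_le_normalizer _)
  have htH : t ∈ H := hfH.2.1 P.t_mem_four
  have huH : u ∈ H := hfH.2.1 P.u_mem_four
  set π := CoreQuot.proj H with hπ
  set t' : H := ⟨t, htH⟩ with ht'
  set u' : H := ⟨u, huH⟩ with hu'
  set v' : H := ⟨v, hvY⟩ with hv'
  obtain ⟨-, T, T', hcop, h2, hcT, hcT'⟩ :=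
    P.split_model (P.normalizer_ne_top hne hYle) hfH hvY (P.not_fused hvY hmov hfus) t' u' v' rfl rfl rfl
  have hX := CoreQuot.dihedral P.hyp P.four hfH.2.1
  have himt := CoreQuot.coreC_image P.hyp hX (z := t') P.refl.t_two
  have himv := CoreQuot.coreC_image P.hyp hX (z := v') P.refl.v_two
  refine ⟨T, T', Nat.pos_of_ne_zero fun h0 => ?_, hcop, h2, ?_, ?_⟩
  · rw [h0, zero_mul] at hcT
    exact Nat.card_pos.ne' hcT
  · set A := coreC t ⊓ H ⊓ Subgroup.centralizer ({v} : Set G) with hA
    set B := (coreC v).subgroupOf H with hB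
    set A' := A.subgroupOf H with hA'
    have hAB : A' ≤ B := fun x hx => Subgroup.mem_subgroupOf.2
      (P.hyp.mem_coreC P.refl.v_two hx.2 (P.odd_of_mem hx.1.1))
    have hAfix : A'.map π ≤ coreFix (π v') (π t') := by
      rintro _ ⟨x, hx, rfl⟩
      refine Subgroup.mem_inf.2 ⟨?_, Subgroup.mem_centralizer_singleton_iff.2 ?_⟩
      · rw [show π = CoreQuot.proj H from rfl, himv]
        exact ⟨x, hAB hx, rfl⟩
      · rw [← map_mul, ← map_mul]
        exact congrArg π (Subtype.ext (P.xt hx.1.1))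
    have hcard : ∀ K : Subgroup H, Nat.card (K.map π) * Nat.card ↥(K ⊓ π.ker) = Nat.card K := fun K => by
      rw [← Subgroup.relIndex_ker, ← Subgroup.relIndex_bot_left, ← Subgroup.relIndex_bot_left K,
        ← Subgroup.inf_relIndex_right π.ker K, inf_comm π.ker K, mul_comm,
        Subgroup.relIndex_mul_relIndex _ _ _ bot_le inf_le_left]
    have h1 : T' * Nat.card A ∣ Nat.card B := by
      rw [show Nat.card A = Nat.card A' from
        (Nat.card_congr (Subgroup.subgroupOfEquivOfLe (inf_le_left.trans inf_le_right)).toEquiv).symm,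
        ← hcard A', ← hcard B, ← mul_assoc]
      refine Nat.mul_dvd_mul ?_ (Subgroup.card_dvd_of_le (inf_le_inf_right _ hAB))
      rw [← himv, hcT']
      exact Nat.mul_dvd_mul_left _ (Subgroup.card_dvd_of_le hAfix)
    refine h1.trans ((Subgroup.card_comap_dvd_of_injective _ _ H.subtype_injective).trans ?_)
    obtain ⟨g, hg⟩ := isConj_iff.1 (P.hyp.isConj P.refl.v_two P.refl.t_two)
    rw [← Subgroup.card_map_of_injective (K := coreC v) (f := (MulAut.conj g).toMonoidHom)
      (MulAut.conj g).injective]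
    refine Subgroup.card_dvd_of_le ?_
    rintro _ ⟨y, hy, rfl⟩
    exact hg ▸ P.hyp.coreC_conj P.refl.v_two g hy
  · intro q _ N hN hNA hAN huN hNC
    set A := coreC t ⊓ H with hA
    set F : A →* H ⧸ Cfsg.oddCore H := π.comp (Subgroup.inclusion inf_le_right) with hF
    have hrange : F.range = coreC (π t') := by
      rw [show π = CoreQuot.proj H from rfl, himt]
      ext x
      constructor
      · rintro ⟨a, rfl⟩
        exact ⟨⟨a, a.2.2⟩, a.2.1, rfl⟩
      · rintro ⟨a, ha, rfl⟩
        exact ⟨⟨a, ha, a.2⟩, rfl⟩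
    set A₁ := ((coreFix (π t') (π u')).comap F).map A.subtype with hA₁
    have hidx : A₁.relIndex A = T := by
      have h1 : A₁.subgroupOf A = (coreFix (π t') (π u')).comap F :=
        Subgroup.comap_map_eq_self_of_injective A.subtype_injective _
      have h3 := Subgroup.relIndex_mul_relIndex ⊥ (coreFix (π t') (π u')) (coreC (π t')) bot_le inf_le_left
      rw [Subgroup.relIndex_bot_left, Subgroup.relIndex_bot_left] at h3
      rw [Subgroup.relIndex, h1, Subgroup.index_comap, hrange]
      exact mul_left_cancel₀ Nat.card_pos.ne' (h3.trans (hcT.trans (mul_comm _ _)))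
    have hdvd := relIndex_dvd_of_normalized (B := A₁) hNA hAN
    rw [hidx] at hdvd
    have hAN₁ : A₁ ⊓ N ≤ N ⊓ Subgroup.centralizer ({u} : Set G) := by
      rintro x ⟨⟨a, ha, rfl⟩, hxN⟩
      have hx : (a : G) * u = u * a := by
        set c := u * (a : G) * u⁻¹ * (a : G)⁻¹ with hc
        have hcN : c ∈ N := mul_mem (conj_mem_of_mem_normalizer huN hxN) (inv_mem hxN)
        have hcO : c ∈ coreC t := (hNA.trans inf_le_left) hcN
        have hci : u * c * u⁻¹ = c⁻¹ := by
          have hui := inv_eq_of_mul_eq_one_right P.uu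
          rw [hc, hui]
          simp only [_root_.mul_inv_rev, inv_inv, hui, mul_assoc]
          simp only [← mul_assoc, P.uu, one_mul]
        have haH : (a : G) ∈ H := a.2.2
        have hfix : π ⟨a, haH⟩ * π u' = π u' * π ⟨a, haH⟩ :=
          Subgroup.mem_centralizer_singleton_iff.1 ha.2
        have hcore : c ∈ coreOf H := (CoreQuot.proj_eq_one_iff
          (x := u' * ⟨a, haH⟩ * u'⁻¹ * (⟨a, haH⟩ : H)⁻¹)).1 (by
            rw [map_mul, map_mul, map_mul, map_inv, map_inv, ← hfix, mul_inv_cancel_right, mul_inv_cancel])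
        have hc1 : c = 1 := by
          by_contra hne1
          obtain ⟨k, hk⟩ := hN ⟨c, hcN⟩
          refine not_mem_coreOf_of_inverted hNC (P.normalizer_ne_top hne hYle) hfH P.t_mem_four P.u_mem_four
            P.t1 P.u1 P.refl.u_ne.symm (isPGroup_zpowers (congrArg Subtype.val hk : c ^ q ^ k = 1))
            (P.odd_of_mem hcO) hne1 (P.xt hcO).symm hci hcore
        rw [hc] at hc1
        exact (mul_inv_eq_iff_eq_mul.1 (mul_inv_eq_one.1 hc1)).symm
      exact Subgroup.mem_inf.2 ⟨hxN, Subgroup.mem_centralizer_singleton_iff.2 hx⟩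
    have h4 := Subgroup.relIndex_mul_relIndex ⊥ (A₁ ⊓ N) N bot_le inf_le_right
    rw [Subgroup.relIndex_bot_left, Subgroup.relIndex_bot_left, Subgroup.inf_relIndex_right] at h4
    rw [← h4, mul_comm T]
    exact Nat.mul_dvd_mul (Subgroup.card_dvd_of_le hAN₁) hdvd

end Pair

end Cfsg.Agent.Lib.GorensteinWalter
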