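import Cfsg.Agent.Lib.GorensteinWalter.ComparableFused
import Cfsg.Agent.Lib.GorensteinWalter.ComparableDihedral

/-!
# Section C: nothing in the Fitting subgroup is fixed by both reflections
-/

set_option autoImplicit false
set_option linter.unusedSectionVars false
set_option linter.style.haveILetI false

namespace Cfsg.Agent.Lib.GorensteinWalter

open Cfsg.Agent.Lib.Fusion.Dihedral

universe u

variable {G : Type u} [Group G] [Finite G]

namespace Pair

variable {S : Sylow 2 G} {t u v : G} (P : Pair S t u v)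
include P

/-- A `u`-inverted element fixed by `v` is nontrivial modulo the odd core of a subgroup fused at `⟨t, u⟩`. -/
theorem inverted_proj_ne_one {H : Subgroup G} (hH : H ≠ ⊤) (hfH : FusedIn (fourOf t u) H) {q : ℕ}
    [Fact q.Prime] {y : H} (hy : (y : G) ∈ coreFix t v) (hyq : IsPGroup q (Subgroup.zpowers (y : G)))
    (hy1 : (y : G) ≠ 1) (hyu : u * (y : G) * u⁻¹ = (y : G)⁻¹) : CoreQuot.proj H y ≠ 1 := fun h =>
  not_mem_coreOf_of_inverted (P.symm.noConf_of_fixed hyq (Subgroup.zpowers_le.2 hy)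
    (mt Subgroup.zpowers_eq_bot.1 hy1)) hH hfH P.t_mem_four P.u_mem_four P.t1 P.u1 P.refl.u_ne.symm hyq
    (P.odd_of_mem hy.1) hy1 (P.xt hy.1).symm hyu (CoreQuot.proj_eq_one_iff.1 h)

/-- The image of a `u`-inverted element that commutes with the image of `u` is trivial. -/
theorem proj_eq_one_of_commute {H : Subgroup G} {y u' : H} (hu' : (u' : G) = u)
    (hy : (y : G) ∈ coreC t) (hyu : u * (y : G) * u⁻¹ = (y : G)⁻¹)
    (hc : CoreQuot.proj H y * CoreQuot.proj H u' = CoreQuot.proj H u' * CoreQuot.proj H y) :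
    CoreQuot.proj H y = 1 := by
  refine eq_one_of_fixed_inverted (CoreQuot.odd_proj (P.odd_of_mem hy)) ?_ hc
  rw [CoreQuot.proj_conj, ← map_inv]
  exact congrArg _ (Subtype.ext (by simpa [hu'] using hyu))

/-- A subgroup fused at `⟨t, u⟩` only has no `u`-inverted element fixed by `v`. -/
theorem no_inverted_of_only {H : Subgroup G} (hH : H ≠ ⊤) (hfH : FusedIn (fourOf t u) H) (hvH : v ∈ H)
    (hnf : ¬ FusedIn (fourOf t v) H) {q : ℕ} [Fact q.Prime] {y : G} (hyH : y ∈ H) (hy : y ∈ coreFix t v)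
    (hyq : IsPGroup q (Subgroup.zpowers y)) (hy1 : y ≠ 1) (hyu : u * y * u⁻¹ = y⁻¹) : False := by
  have htH : t ∈ H := hfH.2.1 P.t_mem_four
  have huH : u ∈ H := hfH.2.1 P.u_mem_four
  refine P.inverted_proj_ne_one hH hfH (y := ⟨y, hyH⟩) hy hyq hy1 hyu
    (P.proj_eq_one_of_commute (u' := ⟨u, huH⟩) rfl hy.1 hyu ?_)
  refine (P.split_model hH hfH hvH hnf ⟨t, htH⟩ ⟨u, huH⟩ ⟨v, hvH⟩ rfl rfl rfl).1 _ ?_
    (CoreQuot.odd_proj (P.odd_of_mem hy.1)) ?_
  · rw [← map_mul, ← map_mul]; exact congrArg _ (Subtype.ext (P.xt hy.1))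
  · rw [← map_mul, ← map_mul]; exact congrArg _ (Subtype.ext (P.symm.mem_fix.1 hy).2)

/-- A subgroup fused at both four-groups has no pair of inverted elements. -/
theorem no_inverted_of_both {H : Subgroup G} (hH : H ≠ ⊤) (hfu : FusedIn (fourOf t u) H)
    (hfv : FusedIn (fourOf t v) H) {p q : ℕ} [Fact p.Prime] [Fact q.Prime] {w y : G} (hwH : w ∈ H)
    (hyH : y ∈ H) (hw : w ∈ coreFix t u) (hwp : IsPGroup p (Subgroup.zpowers w)) (hw1 : w ≠ 1)
    (hwv : v * w * v⁻¹ = w⁻¹) (hy : y ∈ coreFix t v) (hyq : IsPGroup q (Subgroup.zpowers y)) (hy1 : y ≠ 1)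
    (hyu : u * y * u⁻¹ = y⁻¹) : False := by
  classical
  haveI : Fact (Nat.Prime 2) := ⟨Nat.prime_two⟩
  set t' : H := ⟨t, hfu.2.1 P.t_mem_four⟩ with ht'
  set u' : H := ⟨u, hfu.2.1 P.u_mem_four⟩ with hu'
  set v' : H := ⟨v, hfv.2.1 P.symm.u_mem_four⟩ with hv'
  set w' : H := ⟨w, hwH⟩ with hw'
  set y' : H := ⟨y, hyH⟩ with hy'
  set π := CoreQuot.proj H with hπ
  have hX := CoreQuot.dihedral P.hyp P.four hfu.2.1
  have hcomm : ∀ a b : H, (a : G) * b = b * a → π a * π b = π b * π a := fun a b h => by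
    rw [← map_mul, ← map_mul]; exact congrArg π (Subtype.ext h)
  have hWne : π w' ≠ 1 := P.symm.inverted_proj_ne_one hH hfv (y := w') hw hwp hw1 hwv
  have hYne : π y' ≠ 1 := P.inverted_proj_ne_one hH hfu (y := y') hy hyq hy1 hyu
  have hWu : π w' * π u' = π u' * π w' := hcomm _ _ (P.mem_fix.1 hw).2
  have hWt : π w' * π t' = π t' * π w' := hcomm _ _ (P.xt hw.1)
  have hYt : π y' * π t' = π t' * π y' := hcomm _ _ (P.xt hy.1)
  have hWodd := CoreQuot.odd_proj (H := H) (z := w') (P.odd_of_mem hw.1)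
  have hYodd := CoreQuot.odd_proj (H := H) (z := y') (P.odd_of_mem hy.1)
  have hfinish : ¬ (π w' * (π u' * π v') = π u' * π v' * π w') := fun h => hWne
    (P.symm.proj_eq_one_of_commute (u' := v') rfl hw.1 hwv (mul_left_cancel (a := π u') (by
      calc π u' * (π w' * π v') = π w' * (π u' * π v') := by rw [← mul_assoc, ← hWu, mul_assoc]
        _ = π u' * (π v' * π w') := by rw [h, mul_assoc])))
  have hmap : Subgroup.closure ({π u', π v'} : Set _) = (Subgroup.closure ({u', v'} : Set H)).map π := by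
    rw [MonoidHom.map_closure, Set.image_pair]
  have hcl : Subgroup.closure ({u', v'} : Set H) =
      (Subgroup.closure ({u, v} : Set G)).subgroupOf H := by
    have h1 : (Subgroup.closure ({u', v'} : Set H)).map H.subtype = Subgroup.closure ({u, v} : Set G) := by
      rw [MonoidHom.map_closure, Set.image_pair]; rfl
    rw [← h1, Subgroup.subgroupOf, Subgroup.comap_map_eq_self_of_injective H.subtype_injective]
  have huv : π u' * π v' ≠ π v' * π u' := by
    intro h
    rw [← map_mul, ← map_mul] at h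
    have huc : u ∈ Subgroup.closure ({u, v} : Set G) := Subgroup.subset_closure (Set.mem_insert _ _)
    have hvc : v ∈ Subgroup.closure ({u, v} : Set G) := Subgroup.subset_closure (Set.mem_insert_of_mem _ rfl)
    have h1 : u * v = v * u := congrArg Subtype.val (CoreQuot.eq_of_two (x := u' * v') (y := v' * u') P.two
      (mul_mem huc hvc) (mul_mem hvc huc) h)
    obtain ⟨W, hW, huW, hvW, -⟩ := exists_isFour P.uu P.vv h1 P.u1 P.symm.u1
      (fun e => P.v_not_mem (e ▸ P.u_mem_four))
    have htW : t ∈ W := (Subgroup.closure_le W).2 (by rintro x (rfl | rfl) <;> assumption) P.refl.t_gen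
    exact P.v_not_mem ((Subgroup.eq_of_le_of_card_ge (P.four_le htW huW) (by rw [P.four.1, hW.1])).ge hvW)
  obtain ⟨S', n, hn, hcard, hcase⟩ := exists_reflections hX
    (CoreQuot.orderOf_two (z := t') P.refl.t_two) (CoreQuot.orderOf_two (z := u') P.refl.u_two)
    (CoreQuot.orderOf_two (z := v') P.refl.v_two) (hcomm u' t' P.ut) (hcomm v' t' P.vt)
    (fun e => P.refl.u_ne (congrArg Subtype.val (CoreQuot.eq_of_two (x := u') (y := t') P.four.isPGroup
      P.u_mem_four P.t_mem_four e)))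
    (fun e => P.refl.v_ne (congrArg Subtype.val (CoreQuot.eq_of_two (x := v') (y := t') P.symm.four.isPGroup
      P.symm.u_mem_four P.symm.t_mem_four e)))
    huv (by rw [hmap, hcl]; exact ⟨t', P.refl.t_gen, rfl⟩)
    (by rw [hmap, hcl]; exact P.two.comap_subtype.map π)
  have hfu' : FusedIn (fourOf (π t') (π u')) ⊤ := by
    rw [CoreQuot.fourOf_image P.four hfu.2.1 (t := t') (a := u') P.t_mem_four P.u_mem_four
      (fun e => P.t1 (congrArg Subtype.val e)) (fun e => P.u1 (congrArg Subtype.val e))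
      (fun e => P.refl.u_ne (congrArg Subtype.val e).symm)]
    exact CoreQuot.fused_image hfu
  have hfv' : FusedIn (fourOf (π t') (π v')) ⊤ := by
    rw [CoreQuot.fourOf_image P.symm.four hfv.2.1 (t := t') (a := v') P.symm.t_mem_four P.symm.u_mem_four
      (fun e => P.t1 (congrArg Subtype.val e)) (fun e => P.symm.u1 (congrArg Subtype.val e))
      (fun e => P.refl.v_ne (congrArg Subtype.val e).symm)]
    exact CoreQuot.fused_image hfv
  have hsec := fun (L : Subgroup (H ⧸ Cfsg.oddCore H)) (N : Subgroup L) (_ : N.Normal)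
      (hs : IsSimpleGroup (L ⧸ N)) (hna : ¬ IsMulCommutative (L ⧸ N)) =>
    known_sections_quotient P.hyp hH _ L N hs hna
  rcases hcase with ⟨hR, hS'⟩ | ⟨z, hn4, hR, hS', ⟨k, hk⟩, ⟨l, hl⟩⟩
  · rcases propModelOne _ S' (π t') (π u') (π v') n (Cores.pPrimeCore_quotient_pPrimeCore 2) hX hsec hn hcard
      hR hS' hfu' hfv' with ⟨hrot, -⟩ | ⟨-, -, -, hside⟩
    · exact hfinish (hrot _ hWt hWodd)
    rcases hside with hs | hs
    · exact hYne (P.proj_eq_one_of_commute (u' := u') rfl hy.1 hyu (Subgroup.mem_centralizer_singleton_iff.1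
        (hs (hX.sylowCD.odd_mem_coreC hR.t_two hYt hYodd))))
    · exact hWne (P.symm.proj_eq_one_of_commute (u' := v') rfl hw.1 hwv
        (Subgroup.mem_centralizer_singleton_iff.1 (hs (hX.sylowCD.odd_mem_coreC hR.t_two hWt hWodd))))
  by_cases hfz : FusedIn (fourOf (π t') z) ⊤
  · rcases propModelOne _ S' (π t') (π u') z n (Cores.pPrimeCore_quotient_pPrimeCore 2) hX hsec hn hcard
      hR hS' hfu' hfz with ⟨hrot, -⟩ | ⟨h3, -⟩
    · refine hfinish ?_
      rw [hk]
      exact ((show Commute (π w') (π u' * z) from hrot _ hWt hWodd).pow_right 2).pow_right k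
    · omega
  obtain ⟨hsplit, -⟩ := propModelSplit _ (π t') (π u') z (Cores.pPrimeCore_quotient_pPrimeCore 2) hX hsec
    hR.t_two hR.u_two hR.v_two (hR.central _ hR.u_mem) (hR.central _ hR.v_mem)
    (hS'.symm ▸ S'.2) hR.t_gen hfu' hR.v_ne hfz
  have hzz : z * z = 1 := ModelsC.sq_eq hR.v_two
  have huu : π u' * π u' = 1 := ModelsC.sq_eq hR.u_two
  have hui : (π u')⁻¹ = π u' := inv_eq_of_mul_eq_one_right huu
  set D := coreC (π t') with hD
  have hn' : ∀ a ∈ (S' : Subgroup (H ⧸ Cfsg.oddCore H)), ∀ x ∈ D, a * x * a⁻¹ ∈ D := fun a ha x hx =>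
    conj_mem_of_mem_normalizer (centralizer_le_normalizer_coreC _
      (Subgroup.mem_centralizer_singleton_iff.2 (hR.central a ha))) hx
  have hfix : ∀ x ∈ D, z * x = x * z → π u' * x = x * π u' := fun x hx h =>
    (hsplit x (Subgroup.mem_centralizer_singleton_iff.1 (coreC_le _ hx))
      (orderOf_odd_of_mem (coreC_odd _) hx) h.symm).symm
  have hjS : π u' * z * π u' ∈ (S' : Subgroup (H ⧸ Cfsg.oddCore H)) :=
    mul_mem (mul_mem hR.u_mem hR.v_mem) hR.u_mem
  have hsame := fixed_of_same_fixed_pow (coreC_odd (π t')) l z (π u' * z * π u') hzz (by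
      calc π u' * z * π u' * (π u' * z * π u') = π u' * z * (π u' * π u') * z * π u' := by group
        _ = 1 := by rw [huu, mul_one, mul_assoc (π u') z z, hzz, mul_one, huu])
    (hn' _ hR.v_mem) (hn' _ hjS) (fun x _ => by
      have h1 : (z * π u') ^ 2 ^ l = 1 := by
        have h2 : z * π u' = (π u' * z)⁻¹ := by rw [_root_.mul_inv_rev, hui, inv_eq_of_mul_eq_one_right hzz]
        rw [h2, inv_pow, hl, inv_one]
      rw [show z * (π u' * z * π u') = (z * π u') ^ 2 by rw [sq]; group, ← pow_mul, mul_comm, pow_mul, h1,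
        one_pow, one_mul, mul_one])
    (fun x hx => by
      constructor
      · intro h
        have h1 := hfix x hx h
        exact (((show Commute (π u') x from h1).mul_left (show Commute z x from h)).mul_left
          (show Commute (π u') x from h1)).eq
      · intro h
        have hx' : π u' * x * (π u')⁻¹ ∈ D := hn' _ hR.u_mem x hx
        have h1 : z * (π u' * x * (π u')⁻¹) = π u' * x * (π u')⁻¹ * z := by
          rw [hui]
          calc z * (π u' * x * π u') = (π u' * π u') * z * (π u' * x * π u') := by rw [huu, one_mul]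
            _ = π u' * (π u' * z * π u' * x) * π u' := by group
            _ = π u' * (x * (π u' * z * π u')) * π u' := by rw [h]
            _ = π u' * x * π u' * z * (π u' * π u') := by group
            _ = π u' * x * π u' * z := by rw [huu, mul_one]
        have h2 := hfix _ hx' h1
        have h3 : π u' * x * (π u')⁻¹ = x := by
          calc π u' * x * (π u')⁻¹ = π u' * x * (π u')⁻¹ * π u' * (π u')⁻¹ := by group
            _ = π u' * (π u' * x * (π u')⁻¹) * (π u')⁻¹ := by rw [← h2]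
            _ = x := by rw [← mul_assoc, ← mul_assoc, huu, one_mul, mul_assoc, ← _root_.mul_inv_rev, huu,
                  inv_one, mul_one]
        rwa [h3] at h1)
  refine hfinish ?_
  have h4 : Commute (π w') ((π u' * z) ^ 2) := by
    have h5 : Commute (z * (π u' * z * π u')) (π w') := hsame _ (hX.sylowCD.odd_mem_coreC hR.t_two hWt hWodd)
    have h6 : (π u' * z) ^ 2 = (z * (π u' * z * π u'))⁻¹ := by
      rw [sq]
      simp only [_root_.mul_inv_rev, hui, inv_eq_of_mul_eq_one_right hzz, mul_assoc]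
    rw [h6]
    exact h5.symm.inv_right
  rw [hk]
  exact h4.pow_right k

/-- A subgroup fixed by both reflections forbids inverted pairs in its normaliser. -/
theorem no_pair {s : ℕ} [Fact s.Prime] {Y : Subgroup G} (hY : IsPGroup s Y) (hne : Y ≠ ⊥)
    (hYu : Y ≤ coreFix t u) (hYv : Y ≤ coreFix t v) {p q : ℕ} [Fact p.Prime] [Fact q.Prime] {w y : G}
    (hwN : w ∈ Subgroup.normalizer (Y : Set G)) (hyN : y ∈ Subgroup.normalizer (Y : Set G))
    (hw : w ∈ coreFix t u) (hwp : IsPGroup p (Subgroup.zpowers w)) (hw1 : w ≠ 1)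
    (hwv : v * w * v⁻¹ = w⁻¹) (hy : y ∈ coreFix t v) (hyq : IsPGroup q (Subgroup.zpowers y)) (hy1 : y ≠ 1)
    (hyu : u * y * u⁻¹ = y⁻¹) : False := by
  set H := Subgroup.normalizer (Y : Set G) with hH
  have hHtop : H ≠ ⊤ := P.normalizer_ne_top hne hYu
  have huH : u ∈ H := mem_normalizer_of_commute fun z hz => (P.mem_fix.1 (hYu hz)).2.symm
  have hvH : v ∈ H := mem_normalizer_of_commute fun z hz => (P.symm.mem_fix.1 (hYv hz)).2.symm
  by_cases hu : FusedIn (fourOf t u) H
  · by_cases hv : FusedIn (fourOf t v) H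
    · exact P.no_inverted_of_both hHtop hu hv hwN hyN hw hwp hw1 hwv hy hyq hy1 hyu
    · exact P.no_inverted_of_only hHtop hu hvH hv hyN hy hyq hy1 hyu
  · rcases P.fused_either hY hne hYu hYv with h | h
    · exact hu (h.mono (Subgroup.centralizer_le_normalizer _))
    · exact P.symm.no_inverted_of_only hHtop (h.mono (Subgroup.centralizer_le_normalizer _)) huH hu hwN hw
        hwp hw1 hwv

theorem conj_mem_fitP_inf {p : ℕ} {z : G}
    (hz : z ∈ fitP p (coreC t) ⊓ Subgroup.centralizer ({v} : Set G)) :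
    u * z * u⁻¹ ∈ fitP p (coreC t) ⊓ Subgroup.centralizer ({v} : Set G) :=
  Subgroup.mem_inf.2 ⟨conj_mem_of_mem_normalizer (normalizer_le_normalizer_fitP p P.u_normalizes) hz.1,
    Subgroup.mem_centralizer_singleton_iff.2 (P.conj_fixed (fitP_le p hz.1)
      (Subgroup.mem_centralizer_singleton_iff.1 hz.2))⟩

theorem fitP_inf_le (p : ℕ) :
    fitP p (coreC t) ⊓ Subgroup.centralizer ({v} : Set G) ≤ coreFix t v := inf_le_inf_right _ (fitP_le p)

/-- A moved invariant part of `O_p(O)` has an inverted element normalising a given fixed part of `O_s(O)`. -/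
theorem exists_inverted_fitP {p s : ℕ} [Fact p.Prime] [Fact s.Prime]
    (hp : ¬ fitP p (coreC t) ⊓ Subgroup.centralizer ({v} : Set G) ≤ Subgroup.centralizer ({u} : Set G)) :
    ∃ y ∈ coreFix t v, IsPGroup p (Subgroup.zpowers y) ∧ y ≠ 1 ∧ u * y * u⁻¹ = y⁻¹ ∧
      y ∈ Subgroup.normalizer ((fitP s (coreC t) ⊓ Subgroup.centralizer ({v} : Set G) ⊓
        Subgroup.centralizer ({u} : Set G) : Subgroup G) : Set G) := by
  have hK : IsPGroup p ↥(fitP p (coreC t) ⊓ Subgroup.centralizer ({v} : Set G)) :=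
    (fitP_isPGroup p).to_le inf_le_left
  obtain ⟨y, hy, hy1, hyu, hyN⟩ := P.exists_inverted_normalizer hK (fun z hz => P.conj_mem_fitP_inf hz) hp
  refine ⟨y, P.fitP_inf_le p hy, hK.to_le (Subgroup.zpowers_le.2 hy), hy1, hyu, ?_⟩
  by_cases hsp : p = s
  · subst hsp; exact hyN
  · exact mem_normalizer_of_commute fun z hz => fitP_commute hsp hy.1 hz.1.1

/-- No element of `F(O)` other than `1` is fixed by both reflections. -/
theorem fitP_fixed_bot {p : ℕ} [Fact p.Prime]
    (hp : ¬ fitP p (coreC t) ⊓ Subgroup.centralizer ({u} : Set G) ≤ Subgroup.centralizer ({v} : Set G))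
    (hv : (∀ s, s.Prime →
        fitP s (coreC t) ⊓ Subgroup.centralizer ({v} : Set G) ≤ Subgroup.centralizer ({u} : Set G)) ∨
      ¬ fitP p (coreC t) ⊓ Subgroup.centralizer ({v} : Set G) ≤ Subgroup.centralizer ({u} : Set G))
    (s : ℕ) [Fact s.Prime] :
    fitP s (coreC t) ⊓ Subgroup.centralizer ({v} : Set G) ⊓ Subgroup.centralizer ({u} : Set G) = ⊥ := by
  by_contra hne
  set E := fitP s (coreC t) ⊓ Subgroup.centralizer ({v} : Set G) ⊓ Subgroup.centralizer ({u} : Set G) with hE
  have hEs : IsPGroup s E := (fitP_isPGroup s).to_le (inf_le_left.trans inf_le_left)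
  have hEv : E ≤ coreFix t v := inf_le_left.trans (P.fitP_inf_le s)
  have hEu : E ≤ coreFix t u := le_inf ((inf_le_left.trans inf_le_left).trans (fitP_le s)) inf_le_right
  obtain ⟨w, hw, hwp, hw1, hwv, hwN⟩ := P.symm.exists_inverted_fitP (s := s) hp
  rw [inf_right_comm] at hwN
  rcases hv with hA | hB
  · obtain ⟨q, y, hq, hy, hy1, hyq, hyu⟩ := P.exists_inverted_prime (K := coreFix t v)
      (fun z hz => P.symm.mem_fix.2 ⟨P.conj_mem hz.1, P.conj_fixed hz.1 (P.symm.mem_fix.1 hz).2⟩) P.movV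
    haveI := Fact.mk hq
    have hy' := P.symm.mem_fix.1 hy
    refine P.no_pair hEs hne hEu hEv hwN (mem_normalizer_of_commute fun f hf => ?_) hw hwp hw1 hwv hy
      (isPGroup_zpowers (k := 1) (by rw [pow_one]; exact hyq)) hy1 hyu
    have hf' : f ∈ fitP s (coreC t) := hf.1.1
    refine commute_of_fixed (P.odd_of_mem hy'.1) hyu
      (Subgroup.mem_centralizer_singleton_iff.1 hf.2).symm ?_
    refine (Subgroup.mem_centralizer_singleton_iff.1 (hA s Fact.out ⟨?_, ?_⟩)).symm
    · exact conj_mem_of_mem_normalizer (le_normalizer_fitP s hy'.1) hf'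
    · have hyv : y ∈ Subgroup.centralizer ({v} : Set G) := hy.2
      have hfv : f ∈ Subgroup.centralizer ({v} : Set G) := hf.1.2
      show y * f * y⁻¹ ∈ Subgroup.centralizer ({v} : Set G)
      exact mul_mem (mul_mem hyv hfv) (inv_mem hyv)
  · obtain ⟨y, hy, hyq, hy1, hyu, hyN⟩ := P.exists_inverted_fitP (s := s) hB
    exact P.no_pair hEs hne hEu hEv hwN hyN hw hwp hw1 hwv hy hyq hy1 hyu

end Pair

end Cfsg.Agent.Lib.GorensteinWalter
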