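import Cfsg.Agent.Lib.GorensteinWalter.FusedCentralizer
import Cfsg.Agent.Lib.GorensteinWalter.ComparableFit

/-!
# Section C: the setting of `PropComparable`

Two reflections `u`, `v` acting on `O = O(C(t))` as a four-group, neither fixed-point group inside the other.
-/

set_option autoImplicit false
set_option linter.unusedSectionVars false
set_option linter.style.haveILetI false

namespace Cfsg.Agent.Lib.GorensteinWalter

open Cfsg.Agent.Lib.Fusion.Dihedral

universe u

variable {G : Type u} [Group G] [Finite G]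

/-- A counterexample to `PropComparable`. -/
structure Pair (S : Sylow 2 G) (t u v : G) : Prop where
  hyp : Hyp G
  unknown : ¬ IsKnownD G
  refl : Refl S t u v
  comm : ∀ o ∈ coreC t, u * v * u * v * o = o * (u * v * u * v)
  noConf : PropNoConf.{u}
  movU : ¬ coreFix t u ≤ Subgroup.centralizer ({v} : Set G)
  movV : ¬ coreFix t v ≤ Subgroup.centralizer ({u} : Set G)

namespace Pair

variable {S : Sylow 2 G} {t u v : G} (P : Pair S t u v)
include P

theorem tt : t * t = 1 := by rw [← sq, ← P.refl.t_two, pow_orderOf_eq_one]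

theorem uu : u * u = 1 := by rw [← sq, ← P.refl.u_two, pow_orderOf_eq_one]

theorem vv : v * v = 1 := by rw [← sq, ← P.refl.v_two, pow_orderOf_eq_one]

theorem t1 : t ≠ 1 := fun h => by have := P.refl.t_two; rw [h, orderOf_one] at this; omega

theorem u1 : u ≠ 1 := fun h => by have := P.refl.u_two; rw [h, orderOf_one] at this; omega

theorem ut : u * t = t * u := P.refl.central u P.refl.u_mem

theorem vt : v * t = t * v := P.refl.central v P.refl.v_mem

theorem symm : Pair S t v u := by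
  refine ⟨P.hyp, P.unknown, ⟨P.refl.t_mem, P.refl.v_mem, P.refl.u_mem, P.refl.t_two, P.refl.v_two,
    P.refl.u_two, P.refl.central, P.refl.v_ne, P.refl.u_ne, P.refl.noncomm.symm, ?_⟩, fun o ho => ?_,
    P.noConf, P.movV, P.movU⟩
  · rw [Set.pair_comm]; exact P.refl.t_gen
  · have h : v * u * v * u = (u * v * u * v)⁻¹ := by
      simp only [_root_.mul_inv_rev, inv_eq_of_mul_eq_one_right P.uu, inv_eq_of_mul_eq_one_right P.vv,
        mul_assoc]
    rw [h]
    exact ((show Commute (u * v * u * v) o from P.comm o ho).inv_left).eq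

theorem four : IsFour (fourOf t u) := by
  obtain ⟨V, hV, htV, huV, -⟩ := exists_isFour P.tt P.uu P.ut.symm P.t1 P.u1 P.refl.u_ne.symm
  rwa [fourOf_eq hV htV huV P.t1 P.u1 P.refl.u_ne.symm]

theorem t_mem_four : t ∈ fourOf t u := Subgroup.subset_closure (Set.mem_insert _ _)

theorem u_mem_four : u ∈ fourOf t u := Subgroup.subset_closure (Set.mem_insert_of_mem _ rfl)

theorem four_le {K : Subgroup G} (ht : t ∈ K) (hu : u ∈ K) : fourOf t u ≤ K :=
  (Subgroup.closure_le K).2 (by rintro y (rfl | rfl) <;> assumption)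

theorem v_not_mem : v ∉ fourOf t u := fun h => P.refl.noncomm
  ((Subgroup.eq_of_le_of_card_ge (P.symm.four_le P.t_mem_four h) (by rw [P.four.1, P.symm.four.1])).symm)

theorem odd : Odd (Nat.card (coreC t)) := coreC_odd t

theorem odd_of_mem {x : G} (hx : x ∈ coreC t) : Odd (orderOf x) := orderOf_odd_of_mem P.odd hx

theorem xt {x : G} (hx : x ∈ coreC t) : x * t = t * x :=
  Subgroup.mem_centralizer_singleton_iff.1 (coreC_le t hx)

theorem u_normalizes : u ∈ Subgroup.normalizer (coreC t : Set G) :=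
  centralizer_le_normalizer_coreC t (Subgroup.mem_centralizer_singleton_iff.2 P.ut)

theorem conj_mem {y : G} (hy : y ∈ coreC t) : u * y * u⁻¹ ∈ coreC t :=
  conj_mem_of_mem_normalizer P.u_normalizes hy

theorem act {x : G} (hx : x ∈ coreC t) : u * (v * x * v⁻¹) * u⁻¹ = v * (u * x * u⁻¹) * v⁻¹ :=
  act_comm P.uu P.vv (P.comm x hx)

/-- `C_O(v)` is `u`-invariant. -/
theorem conj_fixed {x : G} (hx : x ∈ coreC t) (hv : x * v = v * x) :
    u * x * u⁻¹ * v = v * (u * x * u⁻¹) := by
  have h := P.act hx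
  rw [← hv, mul_inv_cancel_right] at h
  calc u * x * u⁻¹ * v = v * (u * x * u⁻¹) * v⁻¹ * v := by rw [← h]
    _ = v * (u * x * u⁻¹) := inv_mul_cancel_right _ _

/-- `u` inverts what it inverts after applying `v`. -/
theorem conj_inverted {x : G} (hx : x ∈ coreC t) (hu : u * x * u⁻¹ = x⁻¹) :
    u * (v * x * v⁻¹) * u⁻¹ = (v * x * v⁻¹)⁻¹ := by
  rw [P.act hx, hu]; group

theorem mem_fix {x : G} : x ∈ coreFix t u ↔ x ∈ coreC t ∧ x * u = u * x := by
  rw [Subgroup.mem_inf, Subgroup.mem_centralizer_singleton_iff]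

theorem le_centralizer_four {Y : Subgroup G} (hY : Y ≤ coreFix t u) :
    Y ≤ Subgroup.centralizer (fourOf t u : Set G) := fun y hy => by
  rw [← P.four.centralizer_pair P.t_mem_four P.u_mem_four P.t1 P.u1 P.refl.u_ne.symm,
    Subgroup.mem_centralizer_iff]
  have h := P.mem_fix.1 (hY hy)
  rintro z (rfl | rfl)
  · exact (P.xt h.1).symm
  · exact h.2.symm

theorem two : IsPGroup 2 (Subgroup.closure ({u, v} : Set G)) :=
  S.2.to_le ((Subgroup.closure_le _).2 (by rintro y (rfl | rfl); exacts [P.refl.u_mem, P.refl.v_mem]))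

theorem card8 : ∀ T : Sylow 2 G, 8 ≤ Nat.card (T : Subgroup G) := by
  haveI : Fact (Nat.Prime 2) := ⟨Nat.prime_two⟩
  intro T
  rw [T.card_eq_multiplicity, ← S.card_eq_multiplicity]
  have hle : fourOf t u ≤ (S : Subgroup G) := P.four_le P.refl.t_mem P.refl.u_mem
  obtain ⟨k, hk⟩ := S.2.exists_card_eq
  have h1 := Subgroup.card_le_of_le hle
  rw [P.four.1, hk] at h1
  have h2 : 2 ^ k ≠ 4 := fun e => P.v_not_mem
    ((Subgroup.eq_of_le_of_card_ge hle (by rw [P.four.1, hk, e])).ge P.refl.v_mem)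
  rw [hk]
  rcases Nat.lt_or_ge k 3 with hk3 | hk3
  · interval_cases k <;> simp_all
  · exact le_trans (by norm_num) (Nat.pow_le_pow_right two_pos hk3)

theorem ne_two {p : ℕ} [Fact p.Prime] {K : Subgroup G} (hK : IsPGroup p K) (hKO : K ≤ coreC t)
    (hne : K ≠ ⊥) : p ≠ 2 := by
  rintro rfl
  obtain ⟨k, hk⟩ := hK.exists_card_eq
  rcases Nat.eq_zero_or_pos k with rfl | hk0
  · exact hne (Subgroup.card_eq_one.1 (by rw [hk, pow_zero]))
  · exact ((P.odd.of_dvd_nat (Subgroup.card_dvd_of_le hKO)).not_two_dvd_nat) (hk ▸ dvd_pow_self 2 hk0.ne')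

/-- A prime with a nontrivial subgroup fixed by `u` has no configuration. -/
theorem noConf_of_fixed {p : ℕ} [Fact p.Prime] {Y : Subgroup G} (hY : IsPGroup p Y) (hYle : Y ≤ coreFix t u)
    (hne : Y ≠ ⊥) : ∀ V H : Subgroup G, ¬ Conf p V H := fun V H hc =>
  hne ((P.noConf G P.hyp P.unknown p (P.ne_two hY (hYle.trans inf_le_left) hne) V H hc).free _ Y P.four hY
    (P.le_centralizer_four hYle))

/-- A prime dividing `|F(O)|` has no configuration. -/
theorem noConf_of_fitP {p : ℕ} [Fact p.Prime] (hne : fitP p (coreC t) ≠ ⊥) :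
    ∀ V H : Subgroup G, ¬ Conf p V H := fun V H hc => by
  set F := fitP p (coreC t) with hF
  have hp2 := P.ne_two (fitP_isPGroup p) (fitP_le p) hne
  have hsm := P.noConf G P.hyp P.unknown p hp2 V H hc
  obtain ⟨e, het, heo, hmov⟩ := hsm.moves t P.refl.t_two
  have heC : e ∈ coreC t := P.hyp.mem_coreC P.refl.t_two (Subgroup.mem_centralizer_singleton_iff.2 het)
    (heo ▸ (Fact.out : p.Prime).odd_of_ne_two hp2)
  have hE : IsPGroup p (Subgroup.zpowers e) :=
    isPGroup_zpowers (k := 1) (by rw [pow_one, ← heo, pow_orderOf_eq_one])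
  set K := F ⊔ Subgroup.zpowers e with hK
  have hKp : IsPGroup p K :=
    (fitP_isPGroup p).to_sup_of_normal_left' hE (Subgroup.zpowers_le.2 (le_normalizer_fitP p heC))
  have hKC : K ≤ Subgroup.centralizer ({t} : Set G) :=
    (sup_le (fitP_le p) (Subgroup.zpowers_le.2 heC)).trans (coreC_le t)
  haveI := hsm.cyclic t P.refl.t_two K hKp hKC
  obtain ⟨x, hx⟩ : ∃ x : F, orderOf x = p := by
    refine exists_prime_orderOf_dvd_card' p ?_
    obtain ⟨k, hk⟩ := (fitP_isPGroup p : IsPGroup p F).exists_card_eq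
    rw [hk]
    exact dvd_pow_self p fun h0 => hne (Subgroup.card_eq_one.1 (by rw [hk, h0, pow_zero]))
  have heF : e ∈ F := by
    classical
    haveI := Fintype.ofFinite K
    have hxK : (x : G) ∈ K := le_sup_left (b := Subgroup.zpowers e) x.2
    have heK : e ∈ K := le_sup_right (a := F) (Subgroup.mem_zpowers e)
    set x' : K := ⟨x, hxK⟩ with hx'
    have hxo : orderOf x' = p := by rw [hx', Subgroup.orderOf_mk, Subgroup.orderOf_coe, hx]
    by_contra hnot
    have hsub : insert (⟨e, heK⟩ : K) (Finset.univ.filter fun a => a ∈ Subgroup.zpowers x') ⊆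
        Finset.univ.filter fun a : K => a ^ p = 1 := by
      intro a ha
      rw [Finset.mem_filter]
      refine ⟨Finset.mem_univ _, ?_⟩
      rcases Finset.mem_insert.1 ha with rfl | ha
      · exact Subtype.ext (by rw [Subgroup.coe_pow, Subgroup.coe_one, ← heo, pow_orderOf_eq_one])
      · obtain ⟨i, rfl⟩ := Subgroup.mem_zpowers_iff.1 (Finset.mem_filter.1 ha).2
        have h1 : x' ^ p = 1 := by rw [← hxo, pow_orderOf_eq_one]
        rw [← zpow_natCast (x' ^ i) p, ← zpow_mul, mul_comm, zpow_mul, zpow_natCast, h1, one_zpow]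
    have hcard := (Finset.card_le_card hsub).trans
      (IsCyclic.card_pow_eq_one_le (Fact.out : p.Prime).pos)
    rw [Finset.card_insert_of_notMem fun h => hnot ?_, ← Fintype.card_subtype, ← Nat.card_eq_fintype_card,
      show Nat.card {a : K // a ∈ Subgroup.zpowers x'} = Nat.card (Subgroup.zpowers x') from rfl,
      Nat.card_zpowers, hxo] at hcard
    · omega
    · obtain ⟨i, hi⟩ := Subgroup.mem_zpowers_iff.1 (Finset.mem_filter.1 h).2
      have h1 := congrArg Subtype.val hi
      rw [Subgroup.coe_zpow] at h1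
      have h2 : e = (x : G) ^ i := h1.symm
      rw [h2]
      exact zpow_mem x.2 i
  refine hmov fun y hy => Subgroup.mem_centralizer_singleton_iff.2 ?_
  have hyO : y ∈ coreC t := coreR_le_coreC p t hy
  have h1 : y * e * y⁻¹ * e⁻¹ ∈ coreR p t := by
    rw [show y * e * y⁻¹ * e⁻¹ = y * (e * y⁻¹ * e⁻¹) by group]
    exact mul_mem hy (conj_mem_of_mem_normalizer
      (centralizer_le_normalizer_coreR p t (coreC_le t heC)) (inv_mem hy))
  have h2 : y * e * y⁻¹ * e⁻¹ ∈ F :=
    mul_mem (conj_mem_of_mem_normalizer (le_normalizer_fitP p hyO) heF) (inv_mem heF)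
  obtain ⟨k, hk⟩ := fitP_isPGroup p (⟨_, h2⟩ : F)
  have h3 := eq_one_of_pow_of_not_dvd (not_dvd_card_coreR p t) h1 (congrArg Subtype.val hk)
  exact mul_inv_eq_iff_eq_mul.1 (mul_inv_eq_one.1 h3)

theorem four_le_normalizer {K : Subgroup G} (hK : K ≤ coreC t) (hu : u ∈ Subgroup.normalizer (K : Set G)) :
    fourOf t u ≤ Subgroup.normalizer (K : Set G) :=
  P.four_le (Subgroup.mem_normalizer_fintype fun y hy => by
    rw [SetLike.mem_coe, ← P.xt (hK hy), mul_inv_cancel_right]; exact hy) hu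

theorem t_mem_normalizer {K : Subgroup G} (hK : K ≤ coreC t) : t ∈ Subgroup.normalizer (K : Set G) :=
  Subgroup.mem_normalizer_fintype fun y hy => by
    rw [SetLike.mem_coe, ← P.xt (hK hy), mul_inv_cancel_right]; exact hy

/-- A moved invariant subgroup contains an inverted element of prime order. -/
theorem exists_inverted_prime {K : Subgroup G} (hn : ∀ y ∈ K, u * y * u⁻¹ ∈ K)
    (hmov : ¬ K ≤ Subgroup.centralizer ({u} : Set G)) :
    ∃ (q : ℕ) (y : G), q.Prime ∧ y ∈ K ∧ y ≠ 1 ∧ y ^ q = 1 ∧ u * y * u⁻¹ = y⁻¹ := by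
  obtain ⟨x, hx, hxu⟩ := SetLike.not_le_iff_exists.1 hmov
  obtain ⟨y, hy, hy1, hyu⟩ := exists_inverted P.uu hn hx
    (fun e => hxu (Subgroup.mem_centralizer_singleton_iff.2 e.symm))
  obtain ⟨q, hq, hdvd⟩ := Nat.exists_prime_and_dvd (mt orderOf_eq_one_iff.1 hy1)
  refine ⟨q, y ^ (orderOf y / q), hq, pow_mem hy _, fun h => ?_, ?_, ?_⟩
  · exact absurd (Nat.le_of_dvd (Nat.div_pos (Nat.le_of_dvd (orderOf_pos y) hdvd) hq.pos)
      (orderOf_dvd_of_pow_eq_one h)) (not_le.2 (Nat.div_lt_self (orderOf_pos y) hq.one_lt))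
  · rw [← pow_mul, Nat.div_mul_cancel hdvd, pow_orderOf_eq_one]
  · rw [← conj_pow, hyu, inv_pow]

/-- An invariant `p`-group moved by `u` has an inverted element normalising its fixed part. -/
theorem exists_inverted_normalizer {p : ℕ} [Fact p.Prime] {K : Subgroup G} (hKp : IsPGroup p K)
    (hn : ∀ y ∈ K, u * y * u⁻¹ ∈ K)
    (hmov : ¬ K ≤ Subgroup.centralizer ({u} : Set G)) :
    ∃ y ∈ K, y ≠ 1 ∧ u * y * u⁻¹ = y⁻¹ ∧
      y ∈ Subgroup.normalizer ((K ⊓ Subgroup.centralizer ({u} : Set G) : Subgroup G) : Set G) := by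
  haveI : Group.IsNilpotent K := hKp.isNilpotent
  set E := K ⊓ Subgroup.centralizer ({u} : Set G) with hE
  have hlt : E.subgroupOf K < ⊤ := lt_top_iff_ne_top.2 fun h =>
    hmov ((Subgroup.subgroupOf_eq_top.1 h).trans inf_le_right)
  obtain ⟨z, hzN, hzE⟩ := SetLike.exists_of_lt (Group.normalizerCondition_of_isNilpotent _ hlt)
  have huE : u ∈ Subgroup.normalizer (E : Set G) := Subgroup.mem_normalizer_fintype fun y hy => by
    rw [SetLike.mem_coe, ← Subgroup.mem_centralizer_singleton_iff.1 hy.2, mul_inv_cancel_right]; exact hy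
  obtain ⟨y, hy, hy1, hyu⟩ := exists_inverted (K := K ⊓ Subgroup.normalizer (E : Set G)) P.uu
    (fun w hw => Subgroup.mem_inf.2 ⟨hn w hw.1, mul_mem (mul_mem huE hw.2) (inv_mem huE)⟩)
    (Subgroup.mem_inf.2 ⟨z.2, Subgroup.mem_normalizer_fintype fun w hw => Subgroup.mem_subgroupOf.1
      ((Subgroup.mem_normalizer_iff.1 hzN ⟨w, hw.1⟩).1 (Subgroup.mem_subgroupOf.2 hw))⟩)
    (fun e => hzE (Subgroup.mem_subgroupOf.2 ⟨z.2, Subgroup.mem_centralizer_singleton_iff.2 e.symm⟩))
  exact ⟨y, hy.1, hy1, hyu, hy.2⟩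

end Pair

end Cfsg.Agent.Lib.GorensteinWalter
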