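import Cfsg.Agent.Lib.GorensteinWalter.ConfSignal
import Cfsg.Agent.Lib.Transfer.Critical
import Cfsg.Agent.Lib.PGroups.Automorphism
import Cfsg.Agent.Lib.PGroups.MaxAbelian

/-!
# Gorenstein–Walter, section F7: the subgroup `M` containing all `C(x)`, `x ∈ C#`

Owner: helper2.
-/

set_option autoImplicit false
set_option linter.unusedSectionVars false
set_option linter.style.haveILetI false

namespace Cfsg.Agent.Lib.GorensteinWalter.ConfSmall

open Cfsg.Agent.Lib.Fusion.Dihedral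
open scoped commutatorElement

universe u

variable {G : Type u} [Group G] [Finite G] {r : ℕ} [hr : Fact r.Prime]

/-- A characteristic subgroup of `Q` of exponent `r` and class at most two which no involution of
`N(Q)` centralises without centralising `Q`. -/
theorem exists_core (hr2 : r ≠ 2) {Q : Subgroup G} (hQ : IsPGroup r Q) :
    ∃ C : Subgroup G, C ≤ Q ∧ Subgroup.normalizer (Q : Set G) ≤ Subgroup.normalizer (C : Set G) ∧
      (∀ x ∈ C, x ^ r = 1) ∧ (∀ x ∈ C, ∀ y ∈ C, ∀ z ∈ C, Commute ⁅x, y⁆ z) ∧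
      ∀ u ∈ Subgroup.normalizer (Q : Set G), orderOf u = 2 →
        C ≤ Subgroup.centralizer ({u} : Set G) → Q ≤ Subgroup.centralizer ({u} : Set G) := by
  obtain ⟨H, hH, hHC, -, hcomm⟩ := Transfer.Critical.exists_critical hQ
  have hmul : ∀ x ∈ H, ∀ y ∈ H, x ^ r = 1 → y ^ r = 1 → (x * y) ^ r = 1 := by
    intro x hx y hy hxp hyp
    have hc := hcomm y hy x
    have hcx : Commute x ⁅y, x⁆ := Subgroup.mem_centralizer_iff.1 hc.2 x hx
    have hcy : Commute y ⁅y, x⁆ := Subgroup.mem_centralizer_iff.1 hc.2 y hy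
    rw [PGroups.mul_pow_of_central_commutator x y hcx hcy, hxp, hyp, one_mul, one_mul]
    have h1 : ⁅y, x⁆ ^ r = 1 := by
      rw [← PGroups.commutatorElement_pow_left_of_central y x hcy, hyp]
      simp [commutatorElement_def]
    obtain ⟨k, hk⟩ : r ∣ r.choose 2 :=
      hr.out.dvd_choose_self two_ne_zero (lt_of_le_of_ne hr.out.two_le (Ne.symm hr2))
    rw [hk, pow_mul, h1, one_pow]
  let D : Subgroup Q :=
    { carrier := {x | x ∈ H ∧ x ^ r = 1}
      one_mem' := ⟨one_mem _, one_pow _⟩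
      mul_mem' := fun ⟨hx, hxp⟩ ⟨hy, hyp⟩ => ⟨mul_mem hx hy, hmul _ hx _ hy hxp hyp⟩
      inv_mem' := fun ⟨hx, hxp⟩ => ⟨inv_mem hx, by rw [inv_pow, hxp, inv_one]⟩ }
  haveI : D.Characteristic := by
    rw [Subgroup.characteristic_iff_le_comap]
    intro φ x hx
    exact ⟨Subgroup.characteristic_iff_le_comap.1 hH φ hx.1, by
      show (φ x) ^ r = 1
      rw [← map_pow, hx.2, map_one]⟩
  refine ⟨D.map Q.subtype, Subgroup.map_subtype_le _, CharP.normalizer_le_normalizer_map_char _,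
    ?_, ?_, ?_⟩
  · rintro _ ⟨x, hx, rfl⟩
    rw [← map_pow, hx.2, map_one]
  · rintro _ ⟨x, hx, rfl⟩ _ ⟨y, hy, rfl⟩ _ ⟨z, hz, rfl⟩
    rw [← map_commutatorElement]
    exact (show Commute ⁅x, y⁆ z from
      (Subgroup.mem_centralizer_iff.1 (hcomm x hx.1 y).2 z hz.1).symm).map Q.subtype
  · intro u hu huo hDu
    set a : MulAut Q := Q.normalizerMonoidHom ⟨u, hu⟩ with ha
    have hau : ∀ x : Q, ((a x : Q) : G) = u * x * u⁻¹ := fun x => rfl
    have hord : (orderOf a).Coprime r := by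
      refine Nat.Coprime.of_dvd_left (orderOf_map_dvd _ (⟨u, hu⟩ : Subgroup.normalizer (Q : Set G))) ?_
      rw [Subgroup.orderOf_mk, huo]
      exact (Nat.coprime_primes Nat.prime_two hr.out).2 hr2.symm
    have haH : ∀ x ∈ H, a x ∈ H := fun x hx =>
      Subgroup.characteristic_iff_le_comap.1 hH a hx
    -- restrict to `H`
    have hfixH : ∀ x ∈ H, a x = x := by
      let b : MulAut H :=
        { toFun := fun x => ⟨a x, haH x x.2⟩
          invFun := fun x => ⟨a.symm x, Subgroup.characteristic_iff_le_comap.1 hH a.symm x.2⟩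
          left_inv := fun x => Subtype.ext (a.symm_apply_apply _)
          right_inv := fun x => Subtype.ext (a.apply_symm_apply _)
          map_mul' := fun x y => Subtype.ext (map_mul a _ _) }
      have hbn : ∀ (n : ℕ) (x : H), (((b ^ n) x : H) : Q) = (a ^ n) (x : Q) := by
        intro n
        induction n with
        | zero => intro x; rfl
        | succ n ih => intro x; rw [pow_succ', pow_succ', MulAut.mul_apply, MulAut.mul_apply, ← ih x]; rfl
      have hb : (orderOf b).Coprime r := by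
        refine Nat.Coprime.of_dvd_left (orderOf_dvd_of_pow_eq_one ?_) hord
        refine MulEquiv.ext fun x => Subtype.ext ?_
        rw [hbn, pow_orderOf_eq_one]
        rfl
      intro x hx
      have := PGroups.fixed_of_fixed_omega hr2 (hQ.to_subgroup H) b hb (fun y hy => by
        refine Subtype.ext (Subtype.ext ?_)
        show u * ((y : Q) : G) * u⁻¹ = _
        have := mem_cent.1 (hDu ⟨y, ⟨y.2, congrArg Subtype.val hy⟩, rfl⟩)
        rw [← show ((y : Q) : G) * u = u * ((y : Q) : G) from this, mul_inv_cancel_right])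
        ⊤ (fun _ _ => Subgroup.mem_top _) ⟨x, hx⟩ (Subgroup.mem_top _)
      exact congrArg Subtype.val this
    intro g hg
    have hd : (⟨g, hg⟩ : Q)⁻¹ * a ⟨g, hg⟩ ∈ H := hHC (Subgroup.mem_centralizer_iff.2 fun y hy => by
      haveI := hH
      exact (PGroups.commute_of_fixed a ⟨g, hg⟩ y (hfixH y hy)
        (hfixH _ ((inferInstance : H.Normal).conj_mem y hy _))).eq.symm)
    have := congrArg Subtype.val (PGroups.eq_of_fixed_diff hQ a hord ⟨g, hg⟩ (hfixH _ hd))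
    rw [hau] at this
    refine mem_cent.2 ?_
    calc g * u = u * g * u⁻¹ * u := by rw [show u * g * u⁻¹ = g from this]
      _ = u * g := inv_mul_cancel_right _ _

theorem mul_card_le_of_lt {K L : Subgroup G} (hL : IsPGroup r L) (hlt : K < L) :
    r * Nat.card K ≤ Nat.card L := by
  obtain ⟨a, ha⟩ := IsPGroup.iff_card.1 (hL.to_le hlt.le)
  obtain ⟨b, hb⟩ := IsPGroup.iff_card.1 hL
  have h1 : Nat.card K < Nat.card L := lt_of_le_of_ne (Subgroup.card_le_of_le hlt.le)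
    fun e => hlt.ne (Subgroup.eq_of_le_of_card_ge hlt.le e.ge)
  rw [ha, hb] at h1
  rw [ha, hb, ← pow_succ']
  exact Nat.pow_le_pow_right hr.out.pos ((Nat.pow_lt_pow_iff_right hr.out.one_lt).1 h1)

theorem mul_card_le_sup {C L : Subgroup G} (hC : IsPGroup r C) (hL : L ≤ C) {x : G} (hx : x ∈ C)
    (hxL : x ∉ L) : r * Nat.card L ≤ Nat.card ↥(L ⊔ Subgroup.zpowers x) :=
  mul_card_le_of_lt (hC.to_le (sup_le hL (Subgroup.zpowers_le.2 hx)))
    (lt_of_le_of_ne le_sup_left fun e =>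
      hxL (e.ge (Subgroup.mem_sup_right (Subgroup.mem_zpowers x))))

theorem eq_one_of_inverted (hr2 : r ≠ 2) {x : G} (hx : x ^ r = 1) (h : x = x⁻¹) : x = 1 :=
  orderOf_eq_one_iff.1 (Nat.eq_one_of_dvd_coprimes
    ((Nat.coprime_primes Nat.prime_two hr.out).2 hr2.symm)
    (orderOf_dvd_of_pow_eq_one (by rw [sq]; nth_rewrite 1 [h]; exact inv_mul_cancel x))
    (orderOf_dvd_of_pow_eq_one hx))

theorem not_isCyclic_of_exponent {B : Subgroup G} (he : ∀ x ∈ B, x ^ r = 1)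
    (hB : r ^ 2 ≤ Nat.card B) : ¬ IsCyclic B := by
  intro hc
  obtain ⟨g, hg⟩ := IsCyclic.exists_ofOrder_eq_natCard (α := B)
  have h1 : orderOf g ∣ r := orderOf_dvd_of_pow_eq_one (Subtype.ext (he g g.2))
  have h2 := Nat.le_of_dvd hr.out.pos h1
  rw [hg] at h2
  have := Nat.lt_of_lt_of_le (by rw [sq]; exact lt_mul_of_one_lt_left hr.out.pos hr.out.one_lt) (hB.trans h2)
  exact lt_irrefl _ this

theorem zpowers_abelian (x : G) :
    Subgroup.zpowers x ≤ Subgroup.centralizer (Subgroup.zpowers x : Set G) :=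
  (Subgroup.zpowers_le.2 (mem_cent.2 (rfl : x * x = x * x))).trans le_centralizer_zpowers

theorem sup_abelian {A B : Subgroup G} (hA : A ≤ Subgroup.centralizer (A : Set G))
    (hB : B ≤ Subgroup.centralizer (B : Set G)) (hAB : A ≤ Subgroup.centralizer (B : Set G)) :
    A ⊔ B ≤ Subgroup.centralizer ((A ⊔ B : Subgroup G) : Set G) :=
  sup_le (Subgroup.le_centralizer_iff.1 (sup_le hA (Subgroup.le_centralizer_iff.1 hAB)))
    (Subgroup.le_centralizer_iff.1 (sup_le hAB hB))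

theorem zpowers_le_centralizer {x : G} {B : Subgroup G} (h : ∀ b ∈ B, b * x = x * b) :
    Subgroup.zpowers x ≤ Subgroup.centralizer (B : Set G) :=
  Subgroup.zpowers_le.2 (Subgroup.mem_centralizer_iff.2 h)

/-- The centre of a subgroup. -/
abbrev zen (C : Subgroup G) : Subgroup G := C ⊓ Subgroup.centralizer (C : Set G)

theorem zen_abelian (C : Subgroup G) : zen C ≤ Subgroup.centralizer (zen C : Set G) :=
  inf_le_right.trans (Subgroup.centralizer_le fun _ hx => (Subgroup.mem_inf.1 hx).1)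

theorem zen_comm {C : Subgroup G} {x z : G} (hx : x ∈ C) (hz : z ∈ zen C) : z * x = x * z :=
  (Subgroup.mem_centralizer_iff.1 (Subgroup.mem_inf.1 hz).2 x hx).symm

theorem normalizer_le_normalizer_zen {C : Subgroup G} {g : G}
    (hg : g ∈ Subgroup.normalizer (C : Set G)) : g ∈ Subgroup.normalizer (zen C : Set G) := by
  refine Subgroup.mem_normalizer_fintype fun z hz => Subgroup.mem_inf.2
    ⟨conj_mem_of_mem_normalizer hg (Subgroup.mem_inf.1 hz).1, Subgroup.mem_centralizer_iff.2 fun x hx => ?_⟩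
  have h := zen_comm ((Subgroup.mem_normalizer_iff''.1 hg x).1 hx) hz
  calc x * (g * z * g⁻¹) = g * (g⁻¹ * x * g * z) * g⁻¹ := by group
    _ = g * z * g⁻¹ * x := by rw [← h]; group

theorem zen_ne_bot {C : Subgroup G} (hC : IsPGroup r C) (hne : C ≠ ⊥) : zen C ≠ ⊥ := by
  haveI : Nontrivial C := (Subgroup.nontrivial_iff_ne_bot _).2 hne
  haveI := hC.center_nontrivial
  obtain ⟨z, hz, hz1⟩ := (Subgroup.center C).bot_or_exists_ne_one.resolve_left
    ((Subgroup.nontrivial_iff_ne_bot _).1 inferInstance)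
  intro e
  refine hz1 (Subtype.ext (Subgroup.mem_bot.1 ((e.le : zen C ≤ ⊥) ⟨z.2,
    Subgroup.mem_centralizer_iff.2 fun x hx => congrArg Subtype.val (Subgroup.mem_center_iff.1 hz ⟨x, hx⟩)⟩)))

/-- What section F7 needs of `C`. -/
structure Ambient (r : ℕ) (Q N0 C : Subgroup G) : Prop where
  le : C ≤ Q
  pgroup : IsPGroup r C
  normal : N0 ≤ Subgroup.normalizer (C : Set G)
  exp : ∀ x ∈ C, x ^ r = 1
  class_two : ∀ x ∈ C, ∀ y ∈ C, ∀ z ∈ C, Commute ⁅x, y⁆ z
  noInv : ∀ u ∈ N0, orderOf u = 2 → ¬ C ≤ Subgroup.centralizer ({u} : Set G)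

/-- An elementary abelian subgroup of rank at least three. -/
def IsE (r : ℕ) (C E : Subgroup G) : Prop :=
  E ≤ C ∧ E ≤ Subgroup.centralizer (E : Set G) ∧ r ^ 3 ≤ Nat.card E

variable {N Y Q N0 C : Subgroup G}

namespace Ambient

variable (hr2 : r ≠ 2) (hC : Ambient r Q N0 C)
include hr2 hC

theorem moved {V : Subgroup G} (hV : FusedIn V N0) {v : G} (hv : v ∈ V) (hv1 : v ≠ 1) :
    ¬ C ⊓ Subgroup.centralizer ({v} : Set G) ≤ Subgroup.centralizer (V : Set G) := by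
  intro hle
  refine hC.noInv v (hV.2.1 hv) (hV.1.orderOf_eq hv hv1)
    (le_trans ?_ (IsFour.centralizer_le hv))
  refine le_of_four hV.1 (odd_card_of_pgroup hr2 hC.pgroup) (hV.2.1.trans hC.normal) fun w hw hw1 x hx => ?_
  obtain ⟨n, hn, hnV, rfl⟩ := hV.2.2 v hv hv1 w hw hw1
  have hxC := (Subgroup.mem_inf.1 hx).1
  have hxw := mem_cent.1 (Subgroup.mem_inf.1 hx).2
  have h1 : n⁻¹ * x * n ∈ Subgroup.centralizer (V : Set G) := hle (Subgroup.mem_inf.2
    ⟨(Subgroup.mem_normalizer_iff''.1 (hC.normal hn) x).1 hxC, mem_cent.2 (by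
      calc n⁻¹ * x * n * v = n⁻¹ * (x * (n * v * n⁻¹)) * n := by group
        _ = v * (n⁻¹ * x * n) := by rw [hxw]; group)⟩)
  refine Subgroup.mem_centralizer_iff.2 fun a ha => ?_
  have h2 := Subgroup.mem_centralizer_iff.1 h1 _ ((Subgroup.mem_normalizer_iff''.1 hnV a).1 ha)
  calc a * x = n * (n⁻¹ * a * n * (n⁻¹ * x * n)) * n⁻¹ := by group
    _ = x * a := by rw [h2]; group

/-- An element of `C` centralised by one involution of `V` and inverted by the others. -/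
theorem exists_comp {V : Subgroup G} (hV : FusedIn V N0) {v : G} (hv : v ∈ V) (hv1 : v ≠ 1) :
    ∃ x ∈ C, x ≠ 1 ∧ v * x * v⁻¹ = x ∧ ∀ w ∈ V, w ≠ 1 → w ≠ v → w * x * w⁻¹ = x⁻¹ := by
  obtain ⟨x, hx, hxV⟩ := SetLike.not_le_iff_exists.1 (hC.moved hr2 hV hv hv1)
  obtain ⟨hxC, hxv'⟩ := Subgroup.mem_inf.1 hx
  have hxv : x * v = v * x := mem_cent.1 hxv'
  obtain ⟨w0, hw0, hw0x⟩ : ∃ w ∈ V, w * x ≠ x * w := by
    by_contra! hall
    exact hxV (Subgroup.mem_centralizer_iff.2 hall)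
  have hw01 : w0 ≠ 1 := fun e => hw0x (by rw [e, one_mul, mul_one])
  have hw0v : w0 ≠ v := fun e => hw0x (by rw [e, hxv])
  have hsq : ∀ a ∈ V, a⁻¹ = a := fun a ha => inv_eq_of_mul_eq_one_right (hV.1.2 a ha)
  set y := x⁻¹ * (w0 * x * w0⁻¹) with hy
  have hyC : y ∈ C :=
    mul_mem (inv_mem hxC) (conj_mem_of_mem_normalizer (hC.normal (hV.2.1 hw0)) hxC)
  have hy1 : y ≠ 1 := fun e => hw0x (by
    rw [hy, inv_mul_eq_one] at e
    calc w0 * x = w0 * x * w0⁻¹ * w0 := by group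
      _ = x * w0 := by rw [← e])
  have hyv : v * y * v⁻¹ = y := by
    have h1 : v * w0 = w0 * v := hV.1.comm hv hw0
    calc v * y * v⁻¹ = v * x⁻¹ * w0 * x * w0⁻¹ * v⁻¹ := by rw [hy]; group
      _ = (x * v⁻¹)⁻¹ * w0 * x * (v * w0)⁻¹ := by group
      _ = (x * v)⁻¹ * w0 * x * (w0 * v)⁻¹ := by rw [hsq v hv, h1]
      _ = (v * x)⁻¹ * w0 * x * v⁻¹ * w0⁻¹ := by rw [hxv]; group
      _ = x⁻¹ * (v⁻¹ * w0) * x * v⁻¹ * w0⁻¹ := by group
      _ = x⁻¹ * (w0 * v) * x * v⁻¹ * w0⁻¹ := by rw [hsq v hv, h1]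
      _ = x⁻¹ * w0 * (v * x) * v⁻¹ * w0⁻¹ := by group
      _ = y := by rw [← hxv, hy]; group
  have hyw : w0 * y * w0⁻¹ = y⁻¹ := by
    calc w0 * y * w0⁻¹ = w0 * x⁻¹ * w0 * x * (w0 * w0)⁻¹ := by rw [hy]; group
      _ = w0 * x⁻¹ * w0⁻¹ * x := by rw [hV.1.2 w0 hw0, hsq w0 hw0]; group
      _ = y⁻¹ := by rw [hy]; group
  refine ⟨y, hyC, hy1, hyv, fun w hw hw1 hwv => ?_⟩
  by_cases hww : w = w0
  · rw [hww]; exact hyw
  have hle : V ≤ Subgroup.normalizer (Subgroup.zpowers y : Set G) := hV.1.eq_of_mem hv hw0 hv1 hw01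
    hw0v.symm
    (Subgroup.centralizer_le_normalizer _ (le_centralizer_zpowers (mem_cent.2 (by
      rw [← mul_inv_eq_iff_eq_mul]; exact hyv))))
    (Subgroup.mem_normalizer_fintype fun z hz => by
      obtain ⟨i, rfl⟩ := Subgroup.mem_zpowers_iff.1 hz
      rw [← conj_zpow, hyw]
      exact zpow_mem (inv_mem (Subgroup.mem_zpowers y)) i)
  clear hle
  -- `w = v w₀`
  have hwe : w = v * w0 := by
    by_contra hne
    classical
    have := Fintype.ofFinite V
    have hcard : ({(1 : G), v, w0, v * w0, w} : Set G).ncard ≤ 4 := by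
      rw [← hV.1.1, ← SetLike.coe_sort_coe, Nat.card_coe_set_eq]
      refine Set.ncard_le_ncard ?_ (Set.toFinite _)
      rintro a (rfl | rfl | rfl | rfl | rfl)
      exacts [one_mem V, hv, hw0, mul_mem hv hw0, hw]
    have h5 : ({(1 : G), v, w0, v * w0, w} : Set G).ncard = 5 := by
      have e1 : v * w0 ≠ 1 := fun e => hw0v (by
        rw [← hsq v hv]; exact (inv_eq_of_mul_eq_one_right e).symm)
      have e2 : v * w0 ≠ v := fun e => hw01 (mul_eq_left.1 e)
      have e3 : v * w0 ≠ w0 := fun e => hv1 (mul_eq_right.1 e)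
      rw [Set.ncard_insert_of_notMem, Set.ncard_insert_of_notMem, Set.ncard_insert_of_notMem,
        Set.ncard_pair (Ne.symm hne)]
      all_goals simp only [Set.mem_insert_iff, Set.mem_singleton_iff, not_or]
      · exact ⟨e3.symm, fun e => hww e.symm⟩
      · exact ⟨hw0v.symm, e2.symm, fun e => hwv e.symm⟩
      · exact ⟨hv1.symm, hw01.symm, e1.symm, hw1.symm⟩
    omega
  rw [hwe]
  calc v * w0 * y * (v * w0)⁻¹ = v * (w0 * y * w0⁻¹) * v⁻¹ := by group
    _ = (v * y * v⁻¹)⁻¹ := by rw [hyw]; group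
    _ = y⁻¹ := by rw [hyv]

/-- `[C, C] ≤ Z(C)`. -/
theorem comm_mem_zen {x y : G} (hx : x ∈ C) (hy : y ∈ C) : ⁅x, y⁆ ∈ zen C :=
  Subgroup.mem_inf.2 ⟨by rw [commutatorElement_def]; exact mul_mem (mul_mem (mul_mem hx hy) (inv_mem hx)) (inv_mem hy),
    Subgroup.mem_centralizer_iff.2 fun z hz => (hC.class_two x hx y hy z hz).eq.symm⟩

/-- An elementary abelian subgroup of rank at least three, containing the centre. -/
theorem exists_isE (hfused : ∃ V, FusedIn V N0) : ∃ E, IsE r C E ∧ zen C ≤ E := by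
  obtain ⟨V, hV⟩ := hfused
  obtain ⟨a, ha, ha1⟩ := V.bot_or_exists_ne_one.resolve_left hV.1.ne_bot
  obtain ⟨b, hb, hb1, hab⟩ : ∃ b ∈ V, b ≠ 1 ∧ b ≠ a := by
    by_contra hno
    push Not at hno
    have : V ≤ Subgroup.zpowers a := fun x hx => by
      by_cases hx1 : x = 1
      · exact hx1 ▸ one_mem _
      · exact hno x hx hx1 ▸ Subgroup.mem_zpowers a
    exact not_isCyclic_of_four hV.1 (Subgroup.isCyclic_of_le this)
  have hsq : ∀ u ∈ V, u⁻¹ = u := fun u hu => inv_eq_of_mul_eq_one_right (hV.1.2 u hu)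
  set c := a * b with hc
  have hcV : c ∈ V := mul_mem ha hb
  have hc1 : c ≠ 1 := fun e => hab (by rw [← hsq a ha]; exact (inv_eq_of_mul_eq_one_right e).symm)
  have hca : c ≠ a := fun e => hb1 (mul_eq_left.1 e)
  have hcb : c ≠ b := fun e => ha1 (mul_eq_right.1 e)
  obtain ⟨x, hx, hx1, hxa, hxo⟩ := hC.exists_comp hr2 hV ha ha1
  obtain ⟨y, hy, hy1, hyb, hyo⟩ := hC.exists_comp hr2 hV hb hb1
  obtain ⟨z, hz, hz1, hzc, hzo⟩ := hC.exists_comp hr2 hV hcV hc1
  have hZp : IsPGroup r (zen C) := hC.pgroup.to_le inf_le_left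
  have hZle : zen C ≤ C := inf_le_left
  by_cases hall : Commute x y ∧ Commute x z ∧ Commute y z
  · obtain ⟨hxy, hxz, hyz⟩ := hall
    set A := Subgroup.zpowers x ⊔ Subgroup.zpowers y with hA
    have hAab : A ≤ Subgroup.centralizer (A : Set G) :=
      sup_abelian (zpowers_abelian x) (zpowers_abelian y) (zpowers_le_centralizer fun w hw => by
        obtain ⟨i, rfl⟩ := Subgroup.mem_zpowers_iff.1 hw
        exact (hxy.zpow_right i).eq.symm)
    set E := A ⊔ Subgroup.zpowers z with hE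
    have hAC : A ≤ C := sup_le (Subgroup.zpowers_le.2 hx) (Subgroup.zpowers_le.2 hy)
    have hAz : A ≤ Subgroup.centralizer (Subgroup.zpowers z : Set G) :=
      (sup_le (Subgroup.zpowers_le.2 (mem_cent.2 hxz.eq)) (Subgroup.zpowers_le.2 (mem_cent.2 hyz.eq))).trans
        le_centralizer_zpowers
    have hEab := sup_abelian hAab (zpowers_abelian z) hAz
    have h1 : r ≤ Nat.card (Subgroup.zpowers x) := by
      rw [Nat.card_zpowers]
      exact le_of_eq (orderOf_eq_prime (hC.exp x hx) hx1).symm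
    have hyA : y ∉ Subgroup.zpowers x := fun hyx => by
      obtain ⟨i, hi⟩ := Subgroup.mem_zpowers_iff.1 hyx
      refine hy1 (eq_one_of_inverted hr2 (hC.exp y hy) ?_)
      calc y = (a * x * a⁻¹) ^ i := by rw [hxa, hi]
        _ = y⁻¹ := by rw [conj_zpow, hi, hyo a ha ha1 hab.symm]
    have hzA : z ∉ A := fun hzA => by
      obtain ⟨e, he, o, ho, hzeo⟩ := Coprime.exists_mul_of_mem_sup
        (A := Subgroup.zpowers x) (K := Subgroup.zpowers y)
        ((le_sup_left.trans (hAab.trans (Subgroup.centralizer_le fun w hw => le_sup_right (a := Subgroup.zpowers x) hw))).trans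
          (Subgroup.centralizer_le_normalizer _)) hzA
      obtain ⟨i, rfl⟩ := Subgroup.mem_zpowers_iff.1 he
      obtain ⟨j, rfl⟩ := Subgroup.mem_zpowers_iff.1 ho
      refine hz1 (eq_one_of_inverted hr2 (hC.exp z hz) ?_)
      have hxc := hxo c hcV hc1 hca
      have hyc := hyo c hcV hc1 hcb
      calc z = c * (x ^ i * y ^ j) * c⁻¹ := by rw [← hzeo, hzc]
        _ = (c * x * c⁻¹) ^ i * (c * y * c⁻¹) ^ j := by rw [conj_zpow, conj_zpow]; group
        _ = z⁻¹ := by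
          rw [hxc, hyc, inv_zpow, inv_zpow, hzeo, mul_inv_rev]
          exact (((hxy.zpow_zpow i j).inv_inv)).eq
    have h2 := mul_card_le_sup hC.pgroup (Subgroup.zpowers_le.2 hx) hy hyA
    have h3 := mul_card_le_sup hC.pgroup hAC hz hzA
    have hEC : E ≤ C := sup_le hAC (Subgroup.zpowers_le.2 hz)
    refine ⟨E ⊔ zen C, ⟨sup_le hEC hZle, sup_abelian hEab (zen_abelian C)
      (Subgroup.le_centralizer_iff.1 (inf_le_right.trans (Subgroup.centralizer_le hEC))), ?_⟩, le_sup_right⟩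
    calc r ^ 3 = r * (r * r) := by ring
      _ ≤ r * (r * Nat.card (Subgroup.zpowers x)) := Nat.mul_le_mul_left _ (Nat.mul_le_mul_left _ h1)
      _ ≤ r * Nat.card A := Nat.mul_le_mul_left _ h2
      _ ≤ Nat.card E := h3
      _ ≤ _ := Subgroup.card_le_of_le le_sup_left
  -- two components do not commute
  · obtain ⟨p, hp, q, hq, hpq, d, hd, hd1, hdd, e, he, he1, hee, hde, hed⟩ :
        ∃ p ∈ C, ∃ q ∈ C, ¬ Commute p q ∧ ∃ d ∈ V, d ≠ 1 ∧ d * p * d⁻¹ = p ∧
          ∃ e ∈ V, e ≠ 1 ∧ e * q * e⁻¹ = q ∧ d * q * d⁻¹ = q⁻¹ ∧ e * p * e⁻¹ = p⁻¹ := by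
      by_cases hxy : Commute x y
      · by_cases hxz : Commute x z
        · exact ⟨y, hy, z, hz, fun hyz => hall ⟨hxy, hxz, hyz⟩, b, hb, hb1, hyb, c, hcV, hc1, hzc,
            hzo b hb hb1 hcb.symm, hyo c hcV hc1 hcb⟩
        · exact ⟨x, hx, z, hz, hxz, a, ha, ha1, hxa, c, hcV, hc1, hzc,
            hzo a ha ha1 hca.symm, hxo c hcV hc1 hca⟩
      · exact ⟨x, hx, y, hy, hxy, a, ha, ha1, hxa, b, hb, hb1, hyb,
          hyo a ha ha1 hab.symm, hxo b hb hb1 hab⟩
    set w := ⁅p, q⁆ with hw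
    have hwZ : w ∈ zen C := hC.comm_mem_zen hr2 hp hq
    have hw1 : w ≠ 1 := fun h => hpq (commutatorElement_eq_one_iff_commute.1 h)
    have hwd : d * w * d⁻¹ = w⁻¹ := by
      have h1 : d * w * d⁻¹ = ⁅p, q⁻¹⁆ := by
        rw [hw, ← MulAut.conj_apply, map_commutatorElement, MulAut.conj_apply, MulAut.conj_apply, hdd, hde]
      have h2 : q * w = w * q := (hC.class_two p hp q hq q hq).eq.symm
      rw [h1]
      calc ⁅p, q⁻¹⁆ = q⁻¹ * (q * p * q⁻¹ * p⁻¹) * q := by rw [commutatorElement_def]; group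
        _ = q⁻¹ * w⁻¹ * q := by rw [hw, commutatorElement_def]; group
        _ = (q⁻¹ * (w * q))⁻¹ := by group
        _ = w⁻¹ := by rw [← h2]; group
    -- a conjugate of `w` is centralised by `d`
    have hwZC : w ∈ C := hZle hwZ
    obtain ⟨f, hf, hf1, hfw⟩ : ∃ f ∈ V, f ≠ 1 ∧ f * w * f⁻¹ = w := by
      refine ⟨d * e, mul_mem hd he, fun h => ?_, ?_⟩
      · have : e = d := by rw [← hsq d hd]; exact (inv_eq_of_mul_eq_one_right h).symm
        rw [this, hde] at hee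
        exact hpq (((eq_one_of_inverted hr2 (hC.exp q hq) hee.symm) ▸ Commute.one_right p))
      · have h1 : e * w * e⁻¹ = w⁻¹ := by
          have h2 : e * w * e⁻¹ = ⁅p⁻¹, q⁆ := by
            rw [hw, ← MulAut.conj_apply, map_commutatorElement, MulAut.conj_apply, MulAut.conj_apply, hee, hed]
          have h3 : p * w = w * p := (hC.class_two p hp q hq p hp).eq.symm
          rw [h2]
          calc ⁅p⁻¹, q⁆ = p⁻¹ * (q * p * q⁻¹ * p⁻¹) * p := by rw [commutatorElement_def]; group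
            _ = p⁻¹ * w⁻¹ * p := by rw [hw, commutatorElement_def]; group
            _ = (p⁻¹ * (w * p))⁻¹ := by group
            _ = w⁻¹ := by rw [← h3]; group
        calc d * e * w * (d * e)⁻¹ = d * (e * w * e⁻¹) * d⁻¹ := by group
          _ = (d * w * d⁻¹)⁻¹ := by rw [h1]; group
          _ = w := by rw [hwd, inv_inv]
    obtain ⟨n, hn, -, hnf⟩ := hV.2.2 f hf hf1 d hd hd1
    set w' := n * w * n⁻¹ with hw'
    have hw'Z : w' ∈ zen C := conj_mem_of_mem_normalizer (normalizer_le_normalizer_zen (hC.normal hn)) hwZ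
    have hw'd : d * w' * d⁻¹ = w' := by
      rw [hw', ← hnf]
      calc n * f * n⁻¹ * (n * w * n⁻¹) * (n * f * n⁻¹)⁻¹ = n * (f * w * f⁻¹) * n⁻¹ := by group
        _ = _ := by rw [hfw]
    have hw'w : w' ∉ Subgroup.zpowers w := fun h => by
      obtain ⟨i, hi⟩ := Subgroup.mem_zpowers_iff.1 h
      have : w' = w'⁻¹ := by
        conv_lhs => rw [← hw'd, ← hi, ← conj_zpow, hwd, inv_zpow, hi]
      exact hw1 (conj_eq_one_iff.1 (hw' ▸ eq_one_of_inverted hr2 (hC.exp _ (hZle hw'Z)) this))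
    have h1 : r * r ≤ Nat.card (zen C) := by
      have h2 := mul_card_le_sup hC.pgroup (L := Subgroup.zpowers w) (Subgroup.zpowers_le.2 hwZC)
        (hZle hw'Z) hw'w
      rw [Nat.card_zpowers, orderOf_eq_prime (hC.exp w hwZC) hw1] at h2
      exact h2.trans (Subgroup.card_le_of_le (sup_le (Subgroup.zpowers_le.2 hwZ) (Subgroup.zpowers_le.2 hw'Z)))
    have hpZ : p ∉ zen C := fun h => hpq (zen_comm hq h)
    refine ⟨zen C ⊔ Subgroup.zpowers p, ⟨sup_le hZle (Subgroup.zpowers_le.2 hp),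
      sup_abelian (zen_abelian C) (zpowers_abelian p) (fun z' hz' => le_centralizer_zpowers
        (mem_cent.2 (zen_comm hp hz'))), ?_⟩, le_sup_left⟩
    calc r ^ 3 = r * (r * r) := by ring
      _ ≤ r * Nat.card (zen C) := Nat.mul_le_mul_left _ h1
      _ ≤ _ := mul_card_le_sup hC.pgroup hZle hp hpZ

/-- Two commutator maps into `Z(C)`. -/
theorem card_centralizer_le {x : G} (hx : x ∈ C) {K : Subgroup G} (hK : K ≤ C) :
    Nat.card K ≤ Nat.card ↥(K ⊓ Subgroup.centralizer ({x} : Set G)) * Nat.card (zen C) := by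
  let φ : K →* zen C := MonoidHom.mk' (fun y => ⟨⁅x, (y : G)⁆, hC.comm_mem_zen hr2 hx (hK y.2)⟩)
    fun y z => Subtype.ext (by
      show ⁅x, (y : G) * z⁆ = ⁅x, (y : G)⁆ * ⁅x, (z : G)⁆
      have h := (hC.class_two x hx (z : G) (hK z.2) (y : G) (hK y.2)).eq
      calc ⁅x, (y : G) * z⁆ = ⁅x, (y : G)⁆ * ((y : G) * ⁅x, (z : G)⁆ * (y : G)⁻¹) := by
            simp only [commutatorElement_def]; group
        _ = _ := by rw [← h]; group)
  rw [← Subgroup.card_mul_index φ.ker, Subgroup.index_ker]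
  refine Nat.mul_le_mul ?_ (Nat.card_le_card_of_injective _ Subtype.val_injective)
  rw [← Subgroup.card_map_of_injective K.subtype_injective]
  refine Subgroup.card_le_of_le ?_
  rintro _ ⟨y, hy, rfl⟩
  refine Subgroup.mem_inf.2 ⟨y.2, mem_cent.2 ?_⟩
  exact (commutatorElement_eq_one_iff_commute.1 (congrArg Subtype.val (MonoidHom.mem_ker.1 hy))).eq.symm

/-- Any two elementary abelian subgroups may be joined. -/
theorem exists_chain (hfused : ∃ V, FusedIn V N0) :
    ∃ E0, IsE r C E0 ∧ ∀ x ∈ C, ∃ E, IsE r C E ∧ x ∈ E ∧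
      (∀ (R : Subgroup G → Prop), R E0 → (∀ E E' B, IsE r C E → IsE r C E' → B ≤ E → B ≤ E' →
        ¬ IsCyclic B → R E → R E') → R E) := by
  obtain ⟨E0, hE0, hZE0⟩ := hC.exists_isE hr2 hfused
  refine ⟨E0, hE0, ?_⟩
  set Z := zen C with hZ
  have hZle : Z ≤ C := inf_le_left
  have hcyc : ∀ B : Subgroup G, B ≤ C → r ^ 2 ≤ Nat.card B → ¬ IsCyclic B := fun B hB h =>
    not_isCyclic_of_exponent (fun x hx => hC.exp x (hB hx)) h
  have hsup : ∀ {S : Subgroup G}, S ≤ C → S ≤ Subgroup.centralizer (S : Set G) → ∀ z ∈ C,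
      (∀ s ∈ S, s * z = z * s) → S ⊔ Subgroup.zpowers z ≤ C ∧
        S ⊔ Subgroup.zpowers z ≤ Subgroup.centralizer ((S ⊔ Subgroup.zpowers z : Subgroup G) : Set G) :=
    fun hS hSab z hz hsz => ⟨sup_le hS (Subgroup.zpowers_le.2 hz), sup_abelian hSab (zpowers_abelian z)
      (fun s hs => le_centralizer_zpowers (mem_cent.2 (hsz s hs)))⟩
  by_cases hZ2 : r ^ 2 ≤ Nat.card Z
  · intro x hx
    by_cases hxZ : x ∈ Z
    · exact ⟨E0, hE0, hZE0 hxZ, fun R hR _ => hR⟩
    obtain ⟨h1, h2⟩ := hsup hZle (zen_abelian C) x hx (fun s hs => zen_comm hx hs)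
    have hE : IsE r C (Z ⊔ Subgroup.zpowers x) := ⟨h1, h2,
      calc r ^ 3 = r * r ^ 2 := by ring
        _ ≤ r * Nat.card Z := Nat.mul_le_mul_left _ hZ2
        _ ≤ _ := mul_card_le_sup hC.pgroup hZle hx hxZ⟩
    exact ⟨_, hE, Subgroup.mem_sup_right (Subgroup.mem_zpowers x), fun R hR hstep =>
      hstep E0 _ Z hE0 hE hZE0 le_sup_left (hcyc Z hZle hZ2) hR⟩
  -- `|Z(C)| = r`
  have hne : C ≠ ⊥ := fun e => by
    have := hE0.2.2.trans (Subgroup.card_le_of_le (hE0.1.trans e.le))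
    rw [Subgroup.card_bot] at this
    exact absurd this (not_le.2 (Nat.one_lt_pow (by norm_num) hr.out.one_lt))
  have hZr : Nat.card Z = r := by
    obtain ⟨k, hk⟩ := IsPGroup.iff_card.1 (hC.pgroup.to_le hZle)
    change Nat.card Z = r ^ k at hk
    rw [hk] at hZ2 ⊢
    have hk0 : k ≠ 0 := fun e => zen_ne_bot hC.pgroup hne
      (Subgroup.eq_bot_of_card_eq _ (by rw [← hZ, hk, e, pow_zero]))
    have hk1 : k < 2 := by
      by_contra hk2
      exact hZ2 (Nat.pow_le_pow_right hr.out.pos (not_lt.1 hk2))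
    rw [show k = 1 by omega, pow_one]
  have hr23 : r ^ 2 < r ^ 3 := Nat.pow_lt_pow_right hr.out.one_lt (by norm_num)
  have hbigC : r * r ^ 3 ≤ Nat.card C := by
    refine (Nat.mul_le_mul_left r hE0.2.2).trans (mul_card_le_of_lt hC.pgroup (lt_of_le_of_ne hE0.1 ?_))
    intro e
    have hZC : C ≤ Z := le_inf le_rfl (by
      have h2 := hE0.2.1
      rwa [e] at h2)
    have := hE0.2.2.trans (Subgroup.card_le_of_le (hE0.1.trans hZC))
    rw [hZr] at this
    exact absurd this (not_le.2 (lt_self_pow₀ hr.out.one_lt (by norm_num)))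
  have hB : ∀ x ∈ C, x ∉ Z → Z ⊔ Subgroup.zpowers x ≤ C ∧ ¬ IsCyclic ↥(Z ⊔ Subgroup.zpowers x) := by
    intro x hx hxZ
    have h1 : Z ⊔ Subgroup.zpowers x ≤ C := sup_le hZle (Subgroup.zpowers_le.2 hx)
    refine ⟨h1, hcyc _ h1 ?_⟩
    have := mul_card_le_sup hC.pgroup hZle hx hxZ
    rwa [hZr, ← sq] at this
  -- extension to rank three
  have hext : ∀ x ∈ C, x ∉ Z → ∀ z ∈ C, z * x = x * z →
      ∃ E, IsE r C E ∧ Z ⊔ Subgroup.zpowers x ≤ E ∧ z ∈ E := by
    intro x hx hxZ z hz hzx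
    obtain ⟨hSC, hSab⟩ := hsup hZle (zen_abelian C) x hx (fun s hs => zen_comm hx hs)
    set S := Z ⊔ Subgroup.zpowers x with hS
    have hS2 : r ^ 2 ≤ Nat.card S := by
      have := mul_card_le_sup hC.pgroup hZle hx hxZ
      rwa [hZr, ← sq] at this
    have hSz : ∀ s ∈ S, s * z = z * s := fun s hs => mem_cent.1
      ((sup_le (fun t ht => mem_cent.2 (zen_comm hz ht))
        (Subgroup.zpowers_le.2 (mem_cent.2 hzx.symm)) : S ≤ Subgroup.centralizer ({z} : Set G)) hs)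
    by_cases hzS : z ∈ S
    · by_cases h3 : r ^ 3 ≤ Nat.card S
      · exact ⟨S, ⟨hSC, hSab, h3⟩, le_rfl, hzS⟩
      -- some further element commutes with `x`
      set K := C ⊓ Subgroup.centralizer ({x} : Set G) with hK
      obtain ⟨w, hw, hwS⟩ : ∃ w ∈ K, w ∉ S := by
        by_contra! hall
        have h4 := hC.card_centralizer_le hr2 hx (K := C) le_rfl
        rw [← hK, ← hZ, hZr] at h4
        have h5 : Nat.card K * r < r ^ 3 * r :=
          Nat.mul_lt_mul_of_pos_right (lt_of_le_of_lt (Subgroup.card_le_of_le hall) (not_le.1 h3)) hr.out.pos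
        rw [mul_comm r] at hbigC
        omega
      obtain ⟨hwC, hwx⟩ := Subgroup.mem_inf.1 hw
      obtain ⟨h1, h2⟩ := hsup hSC hSab w hwC (fun s hs => mem_cent.1
        ((sup_le (fun t ht => mem_cent.2 (zen_comm hwC ht))
          (Subgroup.zpowers_le.2 (mem_cent.2 (mem_cent.1 hwx).symm)) : S ≤ Subgroup.centralizer ({w} : Set G)) hs))
      refine ⟨_, ⟨h1, h2, ?_⟩, le_sup_left, Subgroup.mem_sup_left hzS⟩
      calc r ^ 3 = r * r ^ 2 := by ring
        _ ≤ r * Nat.card S := Nat.mul_le_mul_left _ hS2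
        _ ≤ _ := mul_card_le_sup hC.pgroup hSC hwC hwS
    · obtain ⟨h1, h2⟩ := hsup hSC hSab z hz hSz
      refine ⟨_, ⟨h1, h2, ?_⟩, le_sup_left, Subgroup.mem_sup_right (Subgroup.mem_zpowers z)⟩
      calc r ^ 3 = r * r ^ 2 := by ring
        _ ≤ r * Nat.card S := Nat.mul_le_mul_left _ hS2
        _ ≤ _ := mul_card_le_sup hC.pgroup hSC hz hzS
  obtain ⟨y, hyE, hyZ⟩ : ∃ y ∈ E0, y ∉ Z := by
    by_contra! hall
    have := hE0.2.2.trans (Subgroup.card_le_of_le hall)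
    rw [hZr] at this
    exact absurd this (not_le.2 (lt_self_pow₀ hr.out.one_lt (by norm_num)))
  intro x hx
  by_cases hxZ : x ∈ Z
  · exact ⟨E0, hE0, hZE0 hxZ, fun R hR _ => hR⟩
  obtain ⟨E, hE, hxE, -⟩ := hext x hx hxZ x hx rfl
  refine ⟨E, hE, hxE (Subgroup.mem_sup_right (Subgroup.mem_zpowers x)), fun R hR hstep => ?_⟩
  have hy := hE0.1 hyE
  -- a non-central element commuting with `x` and `y`
  obtain ⟨z, hz, hzZ⟩ : ∃ z ∈ C ⊓ Subgroup.centralizer ({x} : Set G) ⊓ Subgroup.centralizer ({y} : Set G),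
      z ∉ Z := by
    by_contra! hall
    have h4 := hC.card_centralizer_le hr2 hx (K := C) le_rfl
    have h5 := hC.card_centralizer_le hr2 hy (K := C ⊓ Subgroup.centralizer ({x} : Set G)) inf_le_left
    rw [← hZ, hZr] at h4 h5
    have h6 := Subgroup.card_le_of_le hall
    rw [hZr] at h6
    have h7 : Nat.card C ≤ r * r * r :=
      h4.trans (Nat.mul_le_mul_right _ (h5.trans (Nat.mul_le_mul_right _ h6)))
    rw [show r * r * r = r ^ 3 by ring] at h7
    have : r ^ 3 < r * r ^ 3 := lt_mul_of_one_lt_left (pow_pos hr.out.pos 3) hr.out.one_lt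
    omega
  obtain ⟨hzCx, hzy⟩ := Subgroup.mem_inf.1 hz
  obtain ⟨hzC, hzx⟩ := Subgroup.mem_inf.1 hzCx
  obtain ⟨E1, hE1, hyE1, hzE1⟩ := hext y hy hyZ z hzC (mem_cent.1 hzy)
  obtain ⟨E2, hE2, hxE2, hzE2⟩ := hext x hx hxZ z hzC (mem_cent.1 hzx)
  obtain ⟨hBz, hBzc⟩ := hB z hzC hzZ
  have h1 := hstep E0 E1 _ hE0 hE1 (sup_le hZE0 (Subgroup.zpowers_le.2 hyE)) hyE1 (hB y hy hyZ).2 hR
  have h2 := hstep E1 E2 _ hE1 hE2 (sup_le (le_sup_left.trans hyE1) (Subgroup.zpowers_le.2 hzE1))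
    (sup_le (le_sup_left.trans hxE2) (Subgroup.zpowers_le.2 hzE2)) hBzc h1
  exact hstep E2 E _ hE2 hE hxE2 hxE (hB x hx hxZ).2 h2

end Ambient

namespace Setting

variable (hG : Hyp G) (h : Setting r N Y Q N0) (hFO : PropFourOdd.{u}) (hodd : r ≠ 2)
include hG h hFO hodd

/-- F7. -/
theorem exists_M (hC : Ambient r Q N0 C) :
    ∃ M : Subgroup G, M ≠ ⊤ ∧ N ≤ M ∧
      ∀ x ∈ C, x ≠ 1 → Subgroup.centralizer ({x} : Set G) ≤ M := by
  obtain ⟨E0, hE0, hchain⟩ := hC.exists_chain hodd h.fused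
  set W := wsup r E0 with hW
  have hspec : ∀ E, IsE r C E → (Nat.card (wsup r E)).Coprime r ∧
      ∀ a ∈ E, a ≠ 1 → wsup r E ⊓ Subgroup.centralizer ({a} : Set G) = theta r a := fun E hE =>
    h.wsup_spec hG hFO hodd (hE.1.trans hC.le) hE.2.1 (fun a ha => hC.exp a (hE.1 ha)) hE.2.2
  have hth : ∀ x ∈ C, x ≠ 1 → theta r x ≤ W := by
    intro x hx hx1
    obtain ⟨E, hE, hxE, hR⟩ := hchain x hx
    have : wsup r E = W := hR (fun A => wsup r A = W) rfl fun E E' B hE hE' hBE hBE' hB hEW => by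
      rw [h.wsup_eq hG hFO hodd (hE'.1.trans hC.le) hE'.2.1 hBE' hB,
        ← h.wsup_eq hG hFO hodd (hE.1.trans hC.le) hE.2.1 hBE hB, hEW]
    exact this ▸ theta_le_wsup hxE hx1
  have hcyc : ¬ IsCyclic E0 := not_isCyclic_of_exponent (fun x hx => hC.exp x (hE0.1 hx))
    ((Nat.pow_le_pow_right hr.out.pos (by norm_num)).trans hE0.2.2)
  have hQN : Q ≤ N := h.Q_le.trans h.N0_le
  have hYW : Y ≤ W := le_of_noncyclic (hC.pgroup.to_le hE0.1) hE0.2.1 hcyc
    ((hE0.1.trans (hC.le.trans hQN)).trans h.Y_normal) h.Y_coprime fun b hb hb1 =>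
      (h.Y_le_theta_Q hG hFO hodd (hC.le (hE0.1 hb)) hb1).trans (theta_le_wsup hb hb1)
  have hN0 : N0 ≤ Subgroup.normalizer (W : Set G) := fun n hn => by
    refine Subgroup.mem_normalizer_fintype fun w hw => ?_
    have hle : W.map (MulAut.conj n).toMonoidHom ≤ W := by
      rw [hW, Subgroup.map_iSup]
      refine iSup_le fun a => ?_
      rw [← theta_conj]
      exact hth _ (conj_mem_of_mem_normalizer (hC.normal hn) (hE0.1 a.2.1))
        fun e => a.2.2 (conj_eq_one_iff.1 e)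
    exact hle ⟨w, hw, rfl⟩
  have hN : N ≤ Subgroup.normalizer (W : Set G) := fun n hn => by
    obtain ⟨y, hy, hyn⟩ := h.cover n hn
    simpa using mul_mem (Subgroup.le_normalizer (hYW hy)) (hN0 hyn)
  have hcover : ∀ M : Subgroup G, N ≤ M → W ≤ M → ∀ x ∈ C, x ≠ 1 →
      Subgroup.centralizer ({x} : Set G) ≤ M := by
    intro M hNM hWM x hx hx1 y hy
    obtain ⟨w, hw, hwy⟩ := h.cover_Q hG hFO hodd (hC.le hx) hx1 y hy
    simpa using mul_mem (hWM (hth x hx hx1 hw)) (hNM hwy)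
  by_cases hWbot : W = ⊥
  · exact ⟨N, h.proper, le_rfl, hcover N le_rfl (by rw [hWbot]; exact bot_le)⟩
  refine ⟨Subgroup.normalizer (W : Set G), ?_, hN, hcover _ hN Subgroup.le_normalizer⟩
  refine hG.normalizer_ne_top hWbot fun e => ?_
  obtain ⟨k, hk⟩ := IsPGroup.iff_card.1 (hC.pgroup.to_le hE0.1)
  have h1 : Nat.card E0 ∣ Nat.card W := Subgroup.card_dvd_of_le (e ▸ le_top)
  have h2 : Nat.card E0 = 1 := Nat.eq_one_of_dvd_coprimes ((hspec E0 hE0).1.pow_right k) h1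
    (hk ▸ dvd_rfl)
  have := hE0.2.2
  rw [h2] at this
  exact absurd this (not_le.2 (Nat.one_lt_pow (by norm_num) hr.out.one_lt))

end Setting

end Cfsg.Agent.Lib.GorensteinWalter.ConfSmall
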