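import Cfsg.Agent.Lib.GorensteinWalter.ConfSetup

/-!
# Covering the centraliser of an `r`-element of `N`

`Θ(e) = O_{r'r}(O(C(e)))`, `θ(e) = O_{r'}(O(C(e)))`.  If the elements of `C(e)` acting trivially on
`Θ(e) / θ(e)` form a group of odd order, then `C(e) = θ(e) C_N(e)` for `N = N(Z(J(T)))`.
-/

set_option autoImplicit false
set_option linter.unusedSectionVars false
set_option linter.style.haveILetI false

namespace Cfsg.Agent.Lib.GorensteinWalter

open Cfsg.Agent.Lib.Fusion.Dihedral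

universe u

variable {G : Type u} [Group G] [Finite G]

/-! ## `O_{r'}` and `O_{r'r}` of a solvable subgroup -/

section solvable

variable {r : ℕ} [Fact r.Prime] {M : Subgroup G}

/-- Constraint: what centralises `O_{r'r}(M)` modulo `O_{r'}(M)` lies in `O_{r'r}(M)`. -/
theorem mem_pPrimePCore_of_centralizes (hM : Group.IsSolvable M) {x : G} (hxM : x ∈ M)
    (hx : ∀ y ∈ (Cfsg.pPrimePCore r M).map M.subtype,
      x * y * x⁻¹ * y⁻¹ ∈ (Cfsg.pPrimeCore r M).map M.subtype) :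
    x ∈ (Cfsg.pPrimePCore r M).map M.subtype := by
  haveI := hM
  set f := QuotientGroup.mk' (Cfsg.pPrimeCore r M) with hf
  refine ⟨⟨x, hxM⟩, ?_, rfl⟩
  show f ⟨x, hxM⟩ ∈ Cfsg.pCore r (M ⧸ Cfsg.pPrimeCore r M)
  refine PSolvable.centralizer_pCore_le
    (PSolvable.isPSolvable_of_surjective f (QuotientGroup.mk'_surjective _) PSolvable.isPSolvable_of_isSolvable)
    (Cores.pPrimeCore_quotient_pPrimeCore r) ?_
  rw [Subgroup.mem_centralizer_iff]
  intro d hd
  rw [SetLike.mem_coe, ← PSolvable.map_pPrimePCore] at hd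
  obtain ⟨y, hy, rfl⟩ := hd
  obtain ⟨c, hc, hcv⟩ := hx y ⟨y, hy, rfl⟩
  have h : c = ⟨x, hxM⟩ * y * ⟨x, hxM⟩⁻¹ * y⁻¹ := Subtype.ext hcv
  have h1 : f (⟨x, hxM⟩ * y * ⟨x, hxM⟩⁻¹ * y⁻¹) = 1 := (QuotientGroup.eq_one_iff _).2 (h ▸ hc)
  rw [map_mul, map_mul, map_mul, map_inv, map_inv, mul_inv_eq_one, mul_inv_eq_iff_eq_mul] at h1
  exact h1.symm

/-- A subgroup with the order of a Sylow `r`-subgroup of `O_{r'r}(M)` covers it modulo `O_{r'}(M)`. -/
theorem exists_factor_pPrimePCore {R : Subgroup G} (hR : R ≤ (Cfsg.pPrimePCore r M).map M.subtype)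
    (hcard : Nat.card R = r ^ (Nat.card ((Cfsg.pPrimePCore r M).map M.subtype)).factorization r)
    {x : G} (hx : x ∈ (Cfsg.pPrimePCore r M).map M.subtype) :
    ∃ w ∈ (Cfsg.pPrimeCore r M).map M.subtype, w⁻¹ * x ∈ R := by
  have hRM : R ≤ M := hR.trans (Subgroup.map_subtype_le _)
  have hR' : R.subgroupOf M ≤ Cfsg.pPrimePCore r M := fun a ha => by
    obtain ⟨b, hb, hba⟩ := hR (Subgroup.mem_subgroupOf.1 ha)
    rwa [← Subtype.ext hba]
  obtain ⟨P, hP⟩ := Coprime.exists_sylow_of_card (p := r) hR' (by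
    rw [Nat.card_congr (Subgroup.subgroupOfEquivOfLe hRM).toEquiv, hcard,
      Subgroup.card_map_of_injective M.subtype_injective])
  obtain ⟨z, hz, rfl⟩ := hx
  have hzf : QuotientGroup.mk' (Cfsg.pPrimeCore r M) z ∈
      ((P : Subgroup ↥(Cfsg.pPrimePCore r M)).map (Cfsg.pPrimePCore r M).subtype).map
        (QuotientGroup.mk' (Cfsg.pPrimeCore r M)) := by
    rw [PSolvable.map_sylow_pPrimePCore P, ← PSolvable.map_pPrimePCore]
    exact ⟨z, hz, rfl⟩
  rw [hP] at hzf
  obtain ⟨q, hq, hqz⟩ := hzf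
  have hy : z * q⁻¹ ∈ Cfsg.pPrimeCore r M := by
    rw [← QuotientGroup.eq_one_iff]
    show QuotientGroup.mk' (Cfsg.pPrimeCore r M) (z * q⁻¹) = 1
    rw [map_mul, map_inv, hqz, mul_inv_cancel]
  refine ⟨_, ⟨z * q⁻¹, hy, rfl⟩, ?_⟩
  have h1 : ((z * q⁻¹ : M) : G)⁻¹ * z = (q : G) := by simp
  show (M.subtype (z * q⁻¹))⁻¹ * M.subtype z ∈ R
  rw [Subgroup.coe_subtype, h1]
  exact Subgroup.mem_subgroupOf.1 hq

/-- An element of `O_{r'r}(M)` of order prime to `r` lies in `O_{r'}(M)`. -/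
theorem mem_pPrimeCore_of_not_dvd {x : G} (hx : x ∈ (Cfsg.pPrimePCore r M).map M.subtype)
    (hord : ¬ r ∣ orderOf x) : x ∈ (Cfsg.pPrimeCore r M).map M.subtype := by
  obtain ⟨z, hz, rfl⟩ := hx
  refine ⟨z, ?_, rfl⟩
  obtain ⟨k, hk⟩ := PSolvable.isPGroup_pCore (p := r)
    (⟨QuotientGroup.mk' (Cfsg.pPrimeCore r M) z, hz⟩ : Cfsg.pCore r (M ⧸ Cfsg.pPrimeCore r M))
  have h1 : QuotientGroup.mk' (Cfsg.pPrimeCore r M) z ^ r ^ k = 1 := congrArg Subtype.val hk
  rw [SetLike.mem_coe, ← QuotientGroup.eq_one_iff]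
  refine orderOf_eq_one_iff.1 (Nat.eq_one_of_dvd_coprimes
    (Nat.Coprime.pow_left k ((Fact.out : r.Prime).coprime_iff_not_dvd.2 hord)) (orderOf_dvd_of_pow_eq_one h1) ?_)
  rw [Subgroup.coe_subtype, Subgroup.orderOf_coe]
  exact orderOf_map_dvd (QuotientGroup.mk' _) z

end solvable

/-! ## `Θ(e)` and the kernel of the action on `Θ(e) / θ(e)` -/

/-- `O_{r'r}(O(C(e)))`, inside `G`. -/
abbrev coreRP (r : ℕ) (e : G) : Subgroup G :=
  (Cfsg.pPrimePCore r ↥(coreC e)).map (coreC e).subtype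

theorem coreRP_le (r : ℕ) (e : G) : coreRP r e ≤ coreC e := Subgroup.map_subtype_le _

theorem coreR_le_coreRP (r : ℕ) (e : G) : coreR r e ≤ coreRP r e :=
  Subgroup.map_mono PSolvable.pPrimeCore_le_pPrimePCore

theorem normalizer_zpowers_le_normalizer_centralizer (e : G) :
    Subgroup.normalizer (Subgroup.zpowers e : Set G) ≤
      Subgroup.normalizer (Subgroup.centralizer ({e} : Set G) : Set G) := fun g hg =>
  Subgroup.mem_normalizer_fintype fun c hc => by
    rw [SetLike.mem_coe, Subgroup.mem_centralizer_singleton_iff] at hc ⊢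
    obtain ⟨k, hk⟩ := (Subgroup.mem_normalizer_iff''.1 hg e).1 (Subgroup.mem_zpowers e)
    have h1 : c * (g⁻¹ * e * g) = g⁻¹ * e * g * c := by
      rw [← (hk : e ^ k = g⁻¹ * e * g)]
      exact (show Commute c e from hc).zpow_right k
    calc g * c * g⁻¹ * e = g * (c * (g⁻¹ * e * g)) * g⁻¹ := by group
      _ = e * (g * c * g⁻¹) := by rw [h1]; group

theorem normalizer_le_normalizer_char {H : Subgroup G} (A : Subgroup H) [hA : A.Characteristic] :
    Subgroup.normalizer (H : Set G) ≤ Subgroup.normalizer ((A.map H.subtype : Subgroup G) : Set G) := by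
  intro g hg
  refine Subgroup.mem_normalizer_fintype ?_
  rintro _ ⟨a, ha, rfl⟩
  exact ⟨Subgroup.normalizerMonoidHom H ⟨g, hg⟩ a,
    (Subgroup.characteristic_iff_map_le.mp hA _) ⟨a, ha, rfl⟩, rfl⟩

theorem normalizer_zpowers_le_normalizer_coreC (e : G) :
    Subgroup.normalizer (Subgroup.zpowers e : Set G) ≤ Subgroup.normalizer (coreC e : Set G) := by
  haveI : (Cfsg.pPrimeCore 2 ↥(Subgroup.centralizer ({e} : Set G))).Characteristic :=
    Cores.pPrimeCore_characteristic 2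
  exact (normalizer_zpowers_le_normalizer_centralizer e).trans
    (normalizer_le_normalizer_char _)

theorem normalizer_coreC_le_coreR (r : ℕ) (e : G) :
    Subgroup.normalizer (coreC e : Set G) ≤ Subgroup.normalizer (coreR r e : Set G) := by
  haveI : (Cfsg.pPrimeCore r ↥(coreC e)).Characteristic := Cores.pPrimeCore_characteristic r
  exact normalizer_le_normalizer_char _

theorem pPrimePCore_char {K : Type u} [Group K] [Finite K] (p : ℕ) :
    (Cfsg.pPrimePCore p K).Characteristic := by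
  rw [Subgroup.characteristic_iff_le_comap]
  intro φ x hx
  let ψ : K ⧸ Cfsg.pPrimeCore p K ≃* K ⧸ Cfsg.pPrimeCore p K :=
    QuotientGroup.congr _ _ φ (Cores.map_pPrimeCore_equiv φ)
  show QuotientGroup.mk' _ (φ x) ∈ Cfsg.pCore p (K ⧸ Cfsg.pPrimeCore p K)
  rw [show QuotientGroup.mk' _ (φ x) = ψ (QuotientGroup.mk' _ x) from rfl,
    ← Cores.map_pCore_equiv ψ]
  exact Subgroup.mem_map_of_mem ψ.toMonoidHom hx

theorem normalizer_coreC_le_coreRP (r : ℕ) (e : G) :
    Subgroup.normalizer (coreC e : Set G) ≤ Subgroup.normalizer (coreRP r e : Set G) := by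
  haveI := pPrimePCore_char (K := ↥(coreC e)) r
  exact normalizer_le_normalizer_char _

theorem centralizer_le_normalizer_coreRP (r : ℕ) (e : G) :
    Subgroup.centralizer ({e} : Set G) ≤ Subgroup.normalizer (coreRP r e : Set G) :=
  (centralizer_le_normalizer_coreC e).trans (normalizer_coreC_le_coreRP r e)

/-- The elements of `C(e)` acting trivially on `Θ(e) / θ(e)`. -/
def coverKer (r : ℕ) (e : G) : Subgroup G where
  carrier := {c | c ∈ Subgroup.centralizer ({e} : Set G) ∧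
    ∀ x ∈ coreRP r e, c * x * c⁻¹ * x⁻¹ ∈ coreR r e}
  one_mem' := ⟨one_mem _, fun x _ => by simp [one_mem]⟩
  mul_mem' := fun {c d} hc hd => ⟨mul_mem hc.1 hd.1, fun x hx => by
    rw [show c * d * x * (c * d)⁻¹ * x⁻¹ = c * (d * x * d⁻¹ * x⁻¹) * c⁻¹ * (c * x * c⁻¹ * x⁻¹) by group]
    exact mul_mem (conj_mem_of_mem_normalizer (centralizer_le_normalizer_coreR r e hc.1) (hd.2 x hx))
      (hc.2 x hx)⟩
  inv_mem' := fun {c} hc => ⟨inv_mem hc.1, fun x hx => by
    rw [show c⁻¹ * x * c⁻¹⁻¹ * x⁻¹ = c⁻¹ * (c * x * c⁻¹ * x⁻¹)⁻¹ * c⁻¹⁻¹ by group]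
    exact conj_mem_of_mem_normalizer (centralizer_le_normalizer_coreR r e (inv_mem hc.1)) (inv_mem (hc.2 x hx))⟩

theorem coverKer_le (r : ℕ) (e : G) : coverKer r e ≤ Subgroup.centralizer ({e} : Set G) := fun _ hc => hc.1

theorem normalizer_zpowers_le_normalizer_coverKer (r : ℕ) (e : G) :
    Subgroup.normalizer (Subgroup.zpowers e : Set G) ≤ Subgroup.normalizer (coverKer r e : Set G) :=
  fun g hg => Subgroup.mem_normalizer_fintype fun c hc => by
    have hg' := normalizer_zpowers_le_normalizer_coreC e hg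
    refine ⟨conj_mem_of_mem_normalizer (normalizer_zpowers_le_normalizer_centralizer e hg) hc.1,
      fun x hx => ?_⟩
    have h1 := hc.2 _ ((Subgroup.mem_normalizer_iff''.1 (normalizer_coreC_le_coreRP r e hg') x).1 hx)
    have h2 := conj_mem_of_mem_normalizer (normalizer_coreC_le_coreR r e hg') h1
    convert h2 using 1
    group

variable {r : ℕ} [Fact r.Prime]

/-- Constraint in `O(C(e))`. -/
theorem mem_coreRP_of_mem_coverKer {e c : G} (hc : c ∈ coverKer r e) (hcC : c ∈ coreC e) :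
    c ∈ coreRP r e :=
  mem_pPrimePCore_of_centralizes (isSolvable_coreC e) hcC hc.2

/-- An odd kernel lies in `Θ(e)`. -/
theorem coverKer_le_coreRP {e : G} (hK : Odd (Nat.card (coverKer r e))) : coverKer r e ≤ coreRP r e :=
  fun c hc => mem_coreRP_of_mem_coverKer hc (le_coreOf (coverKer_le r e)
    (fun g hg => normalizer_zpowers_le_normalizer_coverKer r e (Subgroup.mem_normalizer_fintype fun x hx => by
      obtain ⟨k, rfl⟩ := hx
      have h1 : g * e ^ k * g⁻¹ = e ^ k :=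
        mul_inv_eq_iff_eq_mul.2 ((show Commute g e from Subgroup.mem_centralizer_singleton_iff.1 hg).zpow_right k)
      rw [SetLike.mem_coe, h1]
      exact Subgroup.zpow_mem_zpowers e k)) hK hc)

variable (T : Sylow r G)

/-- `Θ(e)` has a Sylow `r`-subgroup in `N` containing `e`. -/
theorem exists_coreRP_sylow_le (hG : Hyp G) (hr : r ≠ 2) {e : G} (he : e ∈ zjNorm (T : Subgroup G))
    {k : ℕ} (hek : e ^ r ^ k = 1) :
    ∃ R : Subgroup G, IsPGroup r R ∧ R ≤ coreRP r e ∧ R ≤ zjNorm (T : Subgroup G) ∧ e ∈ R ∧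
      Nat.card R = r ^ (Nat.card (coreRP r e)).factorization r := by
  classical
  have hzr : IsPGroup r (Subgroup.zpowers e) := isPGroup_zpowers hek
  have hze : Subgroup.zpowers e ≤ Subgroup.centralizer ({e} : Set G) :=
    Subgroup.zpowers_le.2 (Subgroup.mem_centralizer_singleton_iff.2 rfl)
  have heO : e ∈ coreC e := le_coreOf hze (fun c hc => Subgroup.mem_normalizer_fintype fun x hx => by
      obtain ⟨i, rfl⟩ := hx
      have h1 : c * e ^ i * c⁻¹ = e ^ i :=
        mul_inv_eq_iff_eq_mul.2 ((show Commute c e from Subgroup.mem_centralizer_singleton_iff.1 hc).zpow_right i)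
      rw [SetLike.mem_coe, h1]
      exact Subgroup.zpow_mem_zpowers e i) (odd_card_of_pgroup hr hzr) (Subgroup.mem_zpowers e)
  have heΘ : e ∈ coreRP r e := mem_pPrimePCore_of_centralizes (isSolvable_coreC e) heO fun y hy => by
    have h1 : y * e = e * y := Subgroup.mem_centralizer_singleton_iff.1 (coreC_le e (coreRP_le r e hy))
    rw [← h1, mul_inv_cancel_right, mul_inv_cancel]
    exact one_mem _
  obtain ⟨P₀⟩ : Nonempty (Sylow r (coreRP r e)) := inferInstance
  set P := (P₀ : Subgroup ↥(coreRP r e)).map (coreRP r e).subtype with hP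
  have hPΘ : P ≤ coreRP r e := Subgroup.map_subtype_le _
  obtain ⟨c, hc, hcN⟩ := exists_conj_centralizer_le T hG hr hzr (Subgroup.zpowers_le.2 he) (P₀.2.map _)
    (R := P) (fun x hx => Subgroup.mem_centralizer_iff.2 fun z hz => by
      obtain ⟨i, rfl⟩ := hz
      exact ((show Commute x e from Subgroup.mem_centralizer_singleton_iff.1
        (coreC_le e (coreRP_le r e (hPΘ hx)))).zpow_right i).eq.symm)
  have hce : c ∈ Subgroup.centralizer ({e} : Set G) :=
    Subgroup.mem_centralizer_singleton_iff.2 (commute_of_mem_centralizer hc (Subgroup.mem_zpowers e))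
  set R := P.map (MulAut.conj c).toMonoidHom with hR
  have hRΘ : R ≤ coreRP r e := by
    rintro _ ⟨x, hx, rfl⟩
    exact conj_mem_of_mem_normalizer (centralizer_le_normalizer_coreRP r e hce) (hPΘ hx)
  have hRN : R ≤ zjNorm (T : Subgroup G) := by
    rintro _ ⟨x, hx, rfl⟩
    exact hcN x hx
  have hcard : Nat.card R = r ^ (Nat.card (coreRP r e)).factorization r := by
    rw [hR, Subgroup.card_map_of_injective (MulAut.conj c).injective, hP, Coprime.card_sylow_map]
  have hRr : IsPGroup r R := (P₀.2.map _).map _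
  have hsup : IsPGroup r ↥(R ⊔ Subgroup.zpowers e) :=
    hRr.to_sup_of_normal_left' hzr ((Subgroup.zpowers_le.2 (Subgroup.mem_centralizer_iff.2 fun x hx =>
      Subgroup.mem_centralizer_singleton_iff.1 (coreC_le e (coreRP_le r e (hRΘ hx))))).trans
        (Subgroup.centralizer_le_normalizer _))
  have heq : R = R ⊔ Subgroup.zpowers e := Subgroup.eq_of_le_of_card_ge le_sup_left
    (hcard ▸ pgroup_card_le hsup (sup_le hRΘ (Subgroup.zpowers_le.2 heΘ)))
  exact ⟨R, hRr, hRΘ, hRN, heq ▸ (le_sup_right : Subgroup.zpowers e ≤ _) (Subgroup.mem_zpowers e), hcard⟩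

/-- If the kernel on `Θ(e) / θ(e)` is odd then `C(e) = θ(e) C_N(e)`. -/
theorem centralizer_cover (hG : Hyp G) (hr : r ≠ 2) {e : G} (he : e ∈ zjNorm (T : Subgroup G))
    {k : ℕ} (hek : e ^ r ^ k = 1) (hK : Odd (Nat.card (coverKer r e))) {c : G} (hc : c * e = e * c) :
    ∃ w ∈ coreR r e, w⁻¹ * c ∈ zjNorm (T : Subgroup G) := by
  classical
  set Θ := coreRP r e with hΘ
  set θ := coreR r e with hθ
  obtain ⟨R, hRr, hRΘ, hRN, heR, hcard⟩ := exists_coreRP_sylow_le T hG hr he hek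
  have hΘn := centralizer_le_normalizer_coreRP r e
  have hce : c ∈ Subgroup.centralizer ({e} : Set G) := Subgroup.mem_centralizer_singleton_iff.2 hc
  obtain ⟨h, hh, hconj⟩ := exists_conj_le_of_factor (H := Θ) (L := R) (Y := θ)
    (hRr.map (MulAut.conj c).toMonoidHom) (by
      rintro _ ⟨x, hx, rfl⟩
      exact conj_mem_of_mem_normalizer (hΘn hce) (hRΘ hx))
    (coreR_le_coreRP r e) (not_dvd_card_coreR r e)
    (fun x hx => exists_factor_pPrimePCore hRΘ hcard hx)
  have hmem : ∀ x ∈ R, h * c * x * (h * c)⁻¹ ∈ R := fun x hx => by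
    have h1 := hconj _ ⟨x, hx, rfl⟩
    convert h1 using 1
    simp only [MulEquiv.coe_toMonoidHom, MulAut.conj_apply]
    group
  obtain ⟨n, hn, c', hc', hhc⟩ := fusion_control hG hr T hRr hRN (h * c) fun x hx => hRN (hmem x hx)
  have hc'e : c' * e = e * c' := commute_of_mem_centralizer hc' heR
  have hc'Θ : c' ∈ Θ := by
    refine coverKer_le_coreRP hK ⟨Subgroup.mem_centralizer_singleton_iff.2 hc'e, fun x hx => ?_⟩
    obtain ⟨w, hw, hwx⟩ := exists_factor_pPrimePCore hRΘ hcard hx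
    set y := w⁻¹ * x with hy
    have hxy : x = w * y := by rw [hy, mul_inv_cancel_left]
    have h1 : c' * y * c'⁻¹ = y := mul_inv_eq_iff_eq_mul.2 (commute_of_mem_centralizer hc' hwx)
    have h2 : c' * x * c'⁻¹ * x⁻¹ = c' * w * c'⁻¹ * w⁻¹ := by
      calc c' * x * c'⁻¹ * x⁻¹ = c' * w * c'⁻¹ * (c' * y * c'⁻¹) * y⁻¹ * w⁻¹ := by rw [hxy]; group
        _ = _ := by rw [h1]; group
    rw [h2]
    exact mul_mem (conj_mem_of_mem_normalizer
      (centralizer_le_normalizer_coreR r e (Subgroup.mem_centralizer_singleton_iff.2 hc'e)) hw) (inv_mem hw)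
  have hne : n ∈ Subgroup.centralizer ({e} : Set G) := by
    have h1 : n = h * c * c'⁻¹ := by rw [hhc, mul_inv_cancel_right]
    rw [h1]
    exact mul_mem (mul_mem (coreC_le e (coreRP_le r e hh)) hce)
      (inv_mem (Subgroup.mem_centralizer_singleton_iff.2 hc'e))
  have hx : h⁻¹ * (n * c' * n⁻¹) ∈ Θ := mul_mem (inv_mem hh) (conj_mem_of_mem_normalizer (hΘn hne) hc'Θ)
  obtain ⟨w, hw, hwx⟩ := exists_factor_pPrimePCore hRΘ hcard hx
  refine ⟨w, hw, ?_⟩
  have h1 : w⁻¹ * c = w⁻¹ * (h⁻¹ * (n * c' * n⁻¹)) * n := by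
    have h2 : c = h⁻¹ * (n * c') := by rw [← hhc, inv_mul_cancel_left]
    rw [h2]; group
  rw [h1]
  exact mul_mem (hRN hwx) hn

end Cfsg.Agent.Lib.GorensteinWalter
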