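import Cfsg.Agent.Lib.GorensteinWalter.InterfaceF
import Cfsg.Agent.Lib.GorensteinWalter.Structure
import Cfsg.Agent.Lib.ZJ.Constrained
import Cfsg.Agent.Lib.ZJ.StableFree
import Cfsg.Agent.Lib.Coprime.Glauberman

/-!
# Fusion control by `N(Z(J(T)))` and the first step of section F

A configuration at the prime `r` that is maximal for the orders of the Sylow `r`-subgroups of `H` and of `O(H)`
gives a configuration at `N(Z(J(T)))` for a Sylow `r`-subgroup `T` of the whole group.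
-/

set_option autoImplicit false
set_option linter.unusedSectionVars false
set_option linter.style.haveILetI false

namespace Cfsg.Agent.Lib.GorensteinWalter

open Cfsg.Agent.Lib.Fusion.Dihedral

universe u

variable {G : Type u} [Group G] [Finite G]

/-! ## Small tools -/

theorem coreOf_le (H : Subgroup G) : coreOf H ≤ H := Subgroup.map_subtype_le _

theorem coreOf_odd (H : Subgroup G) : Odd (Nat.card (coreOf H)) := by
  rw [Subgroup.card_map_of_injective H.subtype_injective]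
  exact Cores.oddCore_odd

theorem le_normalizer_coreOf (H : Subgroup G) : H ≤ Subgroup.normalizer (coreOf H : Set G) := by
  haveI : (Cfsg.oddCore H).Normal := by unfold Cfsg.oddCore; infer_instance
  intro x hx
  exact Subgroup.le_normalizer_map H.subtype
    ⟨⟨x, hx⟩, by rw [Subgroup.normalizer_eq_top]; trivial, rfl⟩

/-- A subgroup of odd order normalised by `H` lies in `O(H)`. -/
theorem le_coreOf {H K : Subgroup G} (hK : K ≤ H) (hn : H ≤ Subgroup.normalizer (K : Set G))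
    (hodd : Odd (Nat.card K)) : K ≤ coreOf H := by
  haveI : (K.subgroupOf H).Normal := Subgroup.normal_subgroupOf_of_le_normalizer hn
  intro x hx
  exact ⟨⟨x, hK hx⟩, Cores.le_oddCore
    (by rwa [Nat.card_congr (Subgroup.subgroupOfEquivOfLe hK).toEquiv])
    (Subgroup.mem_subgroupOf.2 hx), rfl⟩

/-- A four-group moves a nontrivial subgroup only. -/
theorem ne_bot_of_moved {K V : Subgroup G} (h : ¬ K ≤ Subgroup.centralizer (V : Set G)) : K ≠ ⊥ :=
  fun e => h (by rw [e]; exact bot_le)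

theorem odd_card_of_pgroup {r : ℕ} [Fact r.Prime] (hr : r ≠ 2) {K : Subgroup G} (hK : IsPGroup r K) :
    Odd (Nat.card K) := by
  obtain ⟨k, hk⟩ := hK.exists_card_eq
  rw [hk]
  exact ((Fact.out : r.Prime).odd_of_ne_two hr).pow

theorem conj_mem_of_mem_normalizer {K : Subgroup G} {g x : G} (hg : g ∈ Subgroup.normalizer (K : Set G))
    (hx : x ∈ K) : g * x * g⁻¹ ∈ K := (Subgroup.mem_normalizer_iff.1 hg x).1 hx

theorem map_conj_eq_of_mem_normalizer {K : Subgroup G} {g : G} (hg : g ∈ Subgroup.normalizer (K : Set G)) :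
    K.map (MulAut.conj g).toMonoidHom = K := by
  ext x
  constructor
  · rintro ⟨y, hy, rfl⟩
    exact conj_mem_of_mem_normalizer hg hy
  · intro hx
    refine ⟨g⁻¹ * x * g, (Subgroup.mem_normalizer_iff''.1 hg x).1 hx, ?_⟩
    simp only [MulEquiv.coe_toMonoidHom, MulAut.conj_apply]
    group

theorem mem_normalizer_of_map_conj_eq {K : Subgroup G} {g : G}
    (h : K.map (MulAut.conj g).toMonoidHom = K) : g ∈ Subgroup.normalizer (K : Set G) :=
  Subgroup.mem_normalizer_fintype fun x hx => h.le ⟨x, hx, rfl⟩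

/-- A four-group that is fused in `H` stays fused in a supplement of a normal subgroup of odd order. -/
theorem FusedIn.factor {V H Y L : Subgroup G} (hV : FusedIn V H) (hY : H ≤ Subgroup.normalizer (Y : Set G))
    (hYH : Y ≤ H) (hYodd : Odd (Nat.card Y)) (hLH : L ≤ H) (hVL : V ≤ L)
    (hfac : ∀ h ∈ H, ∃ y ∈ Y, y⁻¹ * h ∈ L) : FusedIn V L := by
  classical
  haveI : Fact (Nat.Prime 2) := ⟨Nat.prime_two⟩
  refine ⟨hV.1, hVL, fun v hv hv1 w hw hw1 => ?_⟩
  obtain ⟨g, hgH, hgN, hgv⟩ := hV.2.2 v hv hv1 w hw hw1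
  obtain ⟨y, hy, hl⟩ := hfac g hgH
  set l := y⁻¹ * g with hldef
  have hgl : g = y * l := by rw [hldef, ← mul_assoc, mul_inv_cancel, one_mul]
  set YL := Y ⊓ L with hYL
  have hnYL : V ≤ Subgroup.normalizer (YL : Set G) := fun u hu =>
    Subgroup.mem_normalizer_fintype fun x hx =>
      Subgroup.mem_inf.2 ⟨conj_mem_of_mem_normalizer (hY (hLH (hVL hu))) hx.1,
        mul_mem (mul_mem (hVL hu) hx.2) (inv_mem (hVL hu))⟩
  set M := YL ⊔ V with hM
  have hMset : ∀ x ∈ M, ∃ a ∈ YL, ∃ u ∈ V, x = a * u := by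
    intro x hx
    rw [hM, ← SetLike.mem_coe, Subgroup.coe_mul_of_right_le_normalizer_left _ _ hnYL] at hx
    obtain ⟨a, ha, u, hu, rfl⟩ := hx
    exact ⟨a, ha, u, hu, rfl⟩
  have hdisj : ∀ x ∈ Y, (∃ k : ℕ, x ^ 2 ^ k = 1) → x = 1 := fun x hx ⟨k, hk⟩ =>
    orderOf_eq_one_iff.1 (Nat.eq_one_of_dvd_coprimes
      ((Nat.coprime_two_left.2 hYodd).pow_left k) (orderOf_dvd_of_pow_eq_one hk)
      (Subgroup.orderOf_dvd_natCard _ hx))
  have hdisj2 : ∀ x ∈ Y, x ∈ V → x = 1 := fun x hx hxV =>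
    hdisj x hx ⟨1, by rw [pow_one, sq]; exact hV.1.2 x hxV⟩
  -- `V` is a Sylow 2-subgroup of `(Y ⊓ L) V`
  have hsyl : ∀ {Q : Subgroup M}, IsPGroup 2 Q → V.subgroupOf M ≤ Q → Q = V.subgroupOf M := by
    intro Q hQ hle
    refine le_antisymm (fun x hx => Subgroup.mem_subgroupOf.2 ?_) hle
    obtain ⟨a, ha, u, hu, hxau⟩ := hMset x x.2
    have haM : (⟨a, (le_sup_left : YL ≤ M) ha⟩ : M) ∈ Q := by
      have h1 := mul_mem hx (inv_mem (hle (show (⟨u, (le_sup_right : V ≤ M) hu⟩ : M) ∈ V.subgroupOf M from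
        Subgroup.mem_subgroupOf.2 hu)))
      convert h1 using 1
      exact Subtype.ext (by rw [Subgroup.coe_mul, Subgroup.coe_inv, hxau, mul_inv_cancel_right])
    obtain ⟨k, hk⟩ := hQ ⟨_, haM⟩
    have h2 : a ^ 2 ^ k = 1 := congrArg (fun z : Q => ((z : M) : G)) hk
    rw [hxau, hdisj a ha.1 ⟨k, h2⟩, one_mul]
    exact hu
  let SV : Sylow 2 M :=
    { toSubgroup := V.subgroupOf M
      isPGroup' := hV.1.isPGroup.comap_subtype
      is_maximal' := hsyl }
  set W := V.map (MulAut.conj l).toMonoidHom with hW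
  have hWM : W ≤ M := by
    rintro _ ⟨u, hu, rfl⟩
    set u' := g * u * g⁻¹ with hu'
    have hu'V : u' ∈ V := conj_mem_of_mem_normalizer hgN hu
    have h1 : l * u * l⁻¹ = y⁻¹ * u' * y := by rw [hu', hgl]; group
    have h2 : y⁻¹ * u' * y * u'⁻¹ ∈ YL := by
      refine Subgroup.mem_inf.2 ⟨?_, ?_⟩
      · have := mul_mem (inv_mem hy) (conj_mem_of_mem_normalizer (hY (hLH (hVL hu'V))) hy)
        simpa [mul_assoc] using this
      · rw [← h1]
        exact mul_mem (mul_mem (mul_mem hl (hVL hu)) (inv_mem hl)) (inv_mem (hVL hu'V))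
    show l * u * l⁻¹ ∈ M
    rw [h1, show y⁻¹ * u' * y = y⁻¹ * u' * y * u'⁻¹ * u' by group]
    exact Subgroup.mul_mem_sup h2 hu'V
  obtain ⟨Q, hQ⟩ := ((hV.1.isPGroup.map (MulAut.conj l).toMonoidHom).comap_subtype (K := M)).exists_le_sylow
  obtain ⟨m, hm⟩ := MulAction.exists_smul_eq M Q SV
  have hmW : ∀ x ∈ W, (m : G) * x * (m : G)⁻¹ ∈ V := fun x hx => by
    have h1 : m * ⟨x, hWM hx⟩ * m⁻¹ ∈ (SV : Subgroup M) := by
      rw [← hm]
      exact Subgroup.smul_mem_pointwise_smul _ (MulAut.conj m) (Q : Subgroup M)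
        (hQ (show (x : G) ∈ W from hx))
    exact h1
  obtain ⟨a, ha, u₀, hu₀, hmau⟩ := hMset (m⁻¹ : G) (inv_mem m.2)
  -- correct by the `Y`-part of `m`
  have haW : ∀ x ∈ W, a⁻¹ * x * a ∈ V := fun x hx => by
    have h1 := hmW x hx
    have h2 := mul_mem (mul_mem hu₀ h1) (inv_mem hu₀)
    have h3 : (m : G) = u₀⁻¹ * a⁻¹ := by rw [← _root_.mul_inv_rev, ← hmau, inv_inv]
    rw [h3] at h2
    have h4 : u₀ * (u₀⁻¹ * a⁻¹ * x * (u₀⁻¹ * a⁻¹)⁻¹) * u₀⁻¹ = a⁻¹ * x * a := by group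
    rwa [h4] at h2
  have hcong : ∀ u ∈ V, a⁻¹ * l * u * (a⁻¹ * l)⁻¹ = g * u * g⁻¹ := by
    intro u hu
    have h1 : a⁻¹ * l * u * (a⁻¹ * l)⁻¹ ∈ V := by
      have := haW _ (⟨u, hu, rfl⟩ : l * u * l⁻¹ ∈ W)
      convert this using 1
      group
    have h2 : g * u * g⁻¹ ∈ V := conj_mem_of_mem_normalizer hgN hu
    refine mul_inv_eq_one.1 (hdisj2 _ ?_ (mul_mem h1 (inv_mem h2)))
    set c := y * a with hc
    have hcY : c ∈ Y := mul_mem hy ha.1
    rw [show a⁻¹ * l * u * (a⁻¹ * l)⁻¹ = c⁻¹ * (g * u * g⁻¹) * c by rw [hc, hgl]; group, mul_assoc, mul_assoc]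
    refine mul_mem (inv_mem hcY) ?_
    rw [← mul_assoc]
    exact conj_mem_of_mem_normalizer (hY (hLH (hVL h2))) hcY
  refine ⟨a⁻¹ * l, mul_mem (inv_mem ha.2) hl, Subgroup.mem_normalizer_fintype fun u hu => ?_, ?_⟩
  · rw [SetLike.mem_coe, hcong u hu]
    exact conj_mem_of_mem_normalizer hgN hu
  · rw [hcong v hv, hgv]

/-! ## The constrained subgroup -/

section constrained

variable {X : Type u} [Group X] [Finite X] {p : ℕ} [Fact p.Prime]

/-- If a normal `p`-subgroup contains the `p`-elements of its centraliser, the centraliser is covered by it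
and `O_{p'}`. -/
theorem centralizer_le_sup_pPrimeCore {P : Subgroup X} [P.Normal] (hP : IsPGroup p P)
    (hel : ∀ x ∈ Subgroup.centralizer (P : Set X), (∃ k : ℕ, x ^ p ^ k = 1) → x ∈ P) :
    Subgroup.centralizer (P : Set X) ≤ P ⊔ Cfsg.pPrimeCore p X := by
  classical
  set C := Subgroup.centralizer (P : Set X) with hC
  set Z := P.subgroupOf C with hZ
  haveI : Z.Normal := by rw [hZ]; infer_instance
  obtain ⟨Q⟩ : Nonempty (Sylow p C) := inferInstance
  have hQZ : (Q : Subgroup C) ≤ Z := fun x hx => by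
    obtain ⟨k, hk⟩ := Q.2 ⟨x, hx⟩
    exact Subgroup.mem_subgroupOf.2 (hel x x.2 ⟨k, congrArg (fun z : (Q : Subgroup C) => ((z : C) : X)) hk⟩)
  have hidx : ¬ p ∣ Z.index := fun h =>
    Q.not_dvd_index (h.trans (Subgroup.index_dvd_of_le hQZ))
  have hZp : IsPGroup p Z := hP.comap_subtype
  have hcop : (Nat.card Z).Coprime Z.index := by
    obtain ⟨k, hk⟩ := hZp.exists_card_eq
    rw [hk]
    exact Nat.Coprime.pow_left _ ((Fact.out : p.Prime).coprime_iff_not_dvd.2 hidx)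
  obtain ⟨K, hK⟩ := Subgroup.exists_right_complement'_of_coprime hcop
  have hcent : ∀ z ∈ Z, ∀ x : C, z * x = x * z := fun z hz x => Subtype.ext
    (Subgroup.mem_centralizer_iff.1 x.2 _ (Subgroup.mem_subgroupOf.1 hz))
  haveI : K.Normal := ⟨fun k hk x => by
    obtain ⟨⟨⟨z, hz⟩, ⟨k', hk'⟩⟩, hzk⟩ := hK.2 x
    have hx : z * k' = x := hzk
    rw [← hx]
    have : z * k' * k * (z * k')⁻¹ = k' * k * k'⁻¹ := by
      rw [_root_.mul_inv_rev, show z * k' * k * (k'⁻¹ * z⁻¹) = z * (k' * k * k'⁻¹) * z⁻¹ by group,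
        hcent z hz, mul_inv_cancel_right]
    rw [this]
    exact mul_mem (mul_mem hk' hk) (inv_mem hk')⟩
  have hKcard : ¬ p ∣ Nat.card K := by
    rwa [← hK.symm.index_eq_card]
  haveI : C.Normal := by rw [hC]; infer_instance
  haveI := Cores.normal_map_subtype C (Cfsg.pPrimeCore p C)
  have hle : (Cfsg.pPrimeCore p C).map C.subtype ≤ Cfsg.pPrimeCore p X := by
    refine Cores.le_pPrimeCore_of_not_dvd ?_
    rw [Subgroup.card_map_of_injective C.subtype_injective]
    exact Cores.not_dvd_card_pPrimeCore p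
  intro x hx
  obtain ⟨⟨⟨z, hz⟩, ⟨k, hk⟩⟩, hzk⟩ := hK.2 ⟨x, hx⟩
  have hx' : (z : X) * (k : X) = x := congrArg Subtype.val hzk
  rw [← hx']
  exact Subgroup.mul_mem_sup (Subgroup.mem_subgroupOf.1 hz)
    (hle ⟨k, Cores.le_pPrimeCore_of_not_dvd hKcard hk, rfl⟩)

/-- The ZJ factorisation without `SL(2,p)`, from a normal `p`-subgroup covering its centraliser. -/
theorem sup_normalizer_zj (hp2 : p ≠ 2) (hSL : PLocal.NoSLTwo p X) (P : Subgroup X) [P.Normal]
    (hP : IsPGroup p P) (hC : Subgroup.centralizer (P : Set X) ≤ P ⊔ Cfsg.pPrimeCore p X) (T : Sylow p X) :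
    Cfsg.pPrimeCore p X ⊔ Subgroup.normalizer (Cfsg.centerThompsonAOf (T : Subgroup X) : Set X) = ⊤ := by
  classical
  set M := Cfsg.pPrimeCore p X with hMdef
  set f := QuotientGroup.mk' M
  have hfs : Function.Surjective f := QuotientGroup.mk'_surjective M
  have hM : ¬ p ∣ Nat.card M := Cores.not_dvd_card_pPrimeCore p
  have hinj : (T : Subgroup X) ⊓ f.ker = ⊥ := by
    rw [QuotientGroup.ker_mk', eq_bot_iff]
    intro x hx
    exact Subgroup.mem_bot.mpr
      (Subgroup.disjoint_def.mp (Transfer.PResidual.disjoint_of_not_dvd hM T.2) hx.2 hx.1)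
  haveI : (P.map f).Normal := Subgroup.Normal.map inferInstance f hfs
  have hPcore : P.map f ≤ Cfsg.pCore p (X ⧸ M) := Cores.le_pCore (hP.map f)
  have hc : Subgroup.centralizer (Cfsg.pCore p (X ⧸ M) : Set (X ⧸ M)) ≤ Cfsg.pCore p (X ⧸ M) := by
    intro q hq
    obtain ⟨x, rfl⟩ := hfs q
    have hx : x ∈ Subgroup.centralizer (P : Set X) := by
      rw [Subgroup.mem_centralizer_iff]
      intro y hy
      have h1 : f y * f x = f x * f y := Subgroup.mem_centralizer_iff.1 hq _ (hPcore ⟨y, hy, rfl⟩)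
      have h2 : y * x * y⁻¹ * x⁻¹ ∈ M := by
        rw [← QuotientGroup.eq_one_iff]
        show f _ = 1
        rw [map_mul, map_mul, map_mul, h1, map_inv, map_inv, mul_inv_cancel_right, mul_inv_cancel]
      have h3 : y * x * y⁻¹ * x⁻¹ ∈ P := by
        rw [show y * x * y⁻¹ * x⁻¹ = y * (x * y⁻¹ * x⁻¹) by group]
        exact mul_mem hy ((inferInstance : P.Normal).conj_mem _ (inv_mem hy) x)
      have h4 := Subgroup.disjoint_def.mp (Transfer.PResidual.disjoint_of_not_dvd hM hP) h2 h3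
      calc y * x = y * x * y⁻¹ * x⁻¹ * (x * y) := by group
        _ = x * y := by rw [h4, one_mul]
    have h5 := hC hx
    rw [← SetLike.mem_coe, Subgroup.normal_mul] at h5
    obtain ⟨a, ha, m, hm, rfl⟩ := h5
    show f (a * m) ∈ _
    rw [map_mul, show f m = 1 from (QuotientGroup.eq_one_iff m).2 hm, mul_one]
    exact hPcore ⟨a, ha, rfl⟩
  have hn := ZJ.centerThompsonAOf_normal hp2 hc
    (ZJ.stable_of_noSLTwo hp2 (PLocal.noSLTwo_of_surjective hSL f hfs)) (T.mapSurjective hfs)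
  rw [Sylow.coe_mapSurjective, ← ZJ.inducedFunctor_zjA,
    ConjFunctor.Section.map_inducedFunctor (ZJ.isCharPFunctor_zjA (p := p)) f _ T.2 hinj, ZJ.inducedFunctor_zjA] at hn
  have h1 := Balance.map_normalizer_eq hfs (by rwa [QuotientGroup.ker_mk'])
    (T.2.to_le (ZJ.centerThompsonAOf_le (T : Subgroup X)))
  rw [Subgroup.normalizer_eq_top_iff.2 hn] at h1
  rw [sup_comm, eq_top_iff]
  intro x _
  have hx : f x ∈ (Subgroup.normalizer (Cfsg.centerThompsonAOf (T : Subgroup X) : Set X)).map f := by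
    rw [h1]; exact Subgroup.mem_top _
  rw [← Subgroup.mem_comap, Subgroup.comap_map_eq, QuotientGroup.ker_mk'] at hx
  exact hx

end constrained

/-! ## Section F: fusion -/

theorem centerThompsonA_ne_bot {r : ℕ} [Fact r.Prime] {T : Subgroup G} (hT : IsPGroup r T) (hne : T ≠ ⊥) :
    Cfsg.centerThompsonAOf T ≠ ⊥ := by
  rw [← ZJ.inducedFunctor_zjA]
  haveI : Nontrivial T := (Subgroup.nontrivial_iff_ne_bot _).2 hne
  intro h
  exact (ZJ.isCharPFunctor_zjA (p := r)).1 T hT inferInstance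
    ((Subgroup.map_eq_bot_iff_of_injective _ T.subtype_injective).1 h)

theorem le_zjNorm (T : Subgroup G) : T ≤ zjNorm T :=
  Subgroup.le_normalizer.trans (ZJ.normalizer_le_normalizer_centerThompsonA T)

theorem zjNorm_ne_top (hG : Hyp G) {r : ℕ} [Fact r.Prime] (hr : r ≠ 2) {T : Subgroup G} (hT : IsPGroup r T)
    (hne : T ≠ ⊥) : zjNorm T ≠ ⊤ := by
  refine hG.normalizer_ne_top (centerThompsonA_ne_bot hT hne) (hG.ne_top_of_odd ?_)
  exact odd_card_of_pgroup hr (hT.to_le (ZJ.centerThompsonAOf_le T))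

/-- An `r`-subgroup of `N(Z(J(T)))` can be moved into `T` inside it. -/
theorem exists_conj_le_sylow {r : ℕ} [Fact r.Prime] (T : Sylow r G) {X : Subgroup G} (hX : IsPGroup r X)
    (hXN : X ≤ zjNorm (T : Subgroup G)) :
    ∃ n ∈ zjNorm (T : Subgroup G), ∀ x ∈ X, n * x * n⁻¹ ∈ (T : Subgroup G) := by
  set N := zjNorm (T : Subgroup G)
  obtain ⟨Q, hQ⟩ := (hX.comap_subtype (K := N)).exists_le_sylow
  obtain ⟨k, hk⟩ := MulAction.exists_smul_eq N Q (T.subtype (le_zjNorm _))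
  refine ⟨k, k.2, fun x hx => ?_⟩
  have h1 : k * ⟨x, hXN hx⟩ * k⁻¹ ∈ ((T.subtype (le_zjNorm _) : Sylow r N) : Subgroup N) := by
    rw [← hk]
    exact Subgroup.smul_mem_pointwise_smul _ (MulAut.conj k) (Q : Subgroup N)
      (hQ (show (x : G) ∈ X from hx))
  exact h1

/-- `N(Z(J(T)))` controls strong fusion. -/
theorem fusion_control (hG : Hyp G) {r : ℕ} [Fact r.Prime] (hr : r ≠ 2) (T : Sylow r G) {X : Subgroup G}
    (hX : IsPGroup r X) (hXN : X ≤ zjNorm (T : Subgroup G)) (g : G)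
    (hg : ∀ x ∈ X, g * x * g⁻¹ ∈ zjNorm (T : Subgroup G)) :
    ∃ n ∈ zjNorm (T : Subgroup G), ∃ c ∈ Subgroup.centralizer (X : Set G), g = n * c := by
  obtain ⟨n₁, hn₁, h₁⟩ := exists_conj_le_sylow T hX hXN
  obtain ⟨n₂, hn₂, h₂⟩ := exists_conj_le_sylow T (hX.map (MulAut.conj g).toMonoidHom)
    (by rintro _ ⟨x, hx, rfl⟩; exact hg x hx)
  obtain ⟨n, hn, hconj⟩ := ZJ.exists_conj_centerThompsonAOf hr (hG.noSLTwo hr) T
    (A := (fun x => n₁ * x * n₁⁻¹) '' (X : Set G)) (g := n₂ * g * n₁⁻¹)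
    (by rintro _ ⟨x, hx, rfl⟩; exact h₁ x hx)
    (by
      rintro _ ⟨_, ⟨x, hx, rfl⟩, rfl⟩
      have := h₂ _ ⟨x, hx, rfl⟩
      show n₂ * g * n₁⁻¹ * (n₁ * x * n₁⁻¹) * (n₂ * g * n₁⁻¹)⁻¹ ∈ (T : Subgroup G)
      convert this using 1
      simp only [MulEquiv.coe_toMonoidHom, MulAut.conj_apply]
      group)
  refine ⟨n₂⁻¹ * n * n₁, mul_mem (mul_mem (inv_mem hn₂) hn) hn₁,
    (n₂⁻¹ * n * n₁)⁻¹ * g, ?_, by group⟩
  rw [Subgroup.mem_centralizer_iff]
  intro x hx
  have h := hconj _ ⟨x, hx, rfl⟩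
  have h' : n₂⁻¹ * n * n₁ * x * (n₂⁻¹ * n * n₁)⁻¹ = g * x * g⁻¹ := by
    calc n₂⁻¹ * n * n₁ * x * (n₂⁻¹ * n * n₁)⁻¹ = n₂⁻¹ * (n * (n₁ * x * n₁⁻¹) * n⁻¹) * n₂ := by group
      _ = _ := by rw [h]; group
  calc x * ((n₂⁻¹ * n * n₁)⁻¹ * g) =
      (n₂⁻¹ * n * n₁)⁻¹ * (n₂⁻¹ * n * n₁ * x * (n₂⁻¹ * n * n₁)⁻¹) * g := by group
    _ = (n₂⁻¹ * n * n₁)⁻¹ * g * x := by rw [h']; group

theorem propFusion : PropFusion.{u} := fun _ _ _ hG _ _ hr T =>
  ⟨fun hne => zjNorm_ne_top hG hr T.2 hne, le_zjNorm _, fun _ hX hXN g hg => fusion_control hG hr T hX hXN g hg⟩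

/-! ## F1 -/

/-- The key maximised among configurations. -/
private noncomputable def confKey (r : ℕ) (H : Subgroup G) : ℕ :=
  r ^ (Nat.card H).factorization r * (Nat.card G + 1) + r ^ (Nat.card (coreOf H)).factorization r

theorem pgroup_card_le {r : ℕ} [Fact r.Prime] {K H : Subgroup G} (hK : IsPGroup r K) (hKH : K ≤ H) :
    Nat.card K ≤ r ^ (Nat.card H).factorization r := by
  obtain ⟨k, hk⟩ := hK.exists_card_eq
  rw [hk]
  refine Nat.pow_le_pow_right (Fact.out : r.Prime).pos ?_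
  exact ((Fact.out : r.Prime).pow_dvd_iff_le_factorization Nat.card_pos.ne').1
    (hk ▸ Subgroup.card_dvd_of_le hKH)

theorem sylow_pow_le_card {r : ℕ} (hr : r.Prime) (H : Subgroup G) :
    r ^ (Nat.card H).factorization r ≤ Nat.card G :=
  (Nat.le_of_dvd Nat.card_pos (Nat.ordProj_dvd (Nat.card H) r)).trans (Subgroup.card_le_card_group H)

/-- F1. -/
theorem propConfSylow (hFO : PropFourOdd.{u}) : PropConfSylow.{u} := by
  intro G _ _ hG r _ hr V₀ H₀ hconf₀
  classical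
  have hrp : r.Prime := Fact.out
  haveI : Fact (Nat.Prime 2) := ⟨Nat.prime_two⟩
  obtain ⟨H, ⟨V, hconf⟩, hmax⟩ := Set.exists_max_image {H : Subgroup G | ∃ V, Conf r V H}
    (confKey r) (Set.toFinite _) ⟨H₀, V₀, hconf₀⟩
  obtain ⟨hHtop, hVH, K, hKO, hKr, hVK, hKV⟩ := hconf
  set O := coreOf H with hO
  have hHO : H ≤ Subgroup.normalizer (O : Set G) := le_normalizer_coreOf H
  have hcop : (Nat.card V).Coprime (Nat.card O) := by
    rw [hVH.1.1]; exact (Nat.coprime_two_left.2 (coreOf_odd H)).pow_left 2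
  have hVsol : Group.IsSolvable V ∨ Group.IsSolvable O :=
    Or.inl (by haveI := hVH.1.isPGroup.isNilpotent; infer_instance)
  obtain ⟨P₀, hKP, hVP⟩ := Coprime.exists_invariant_sylow_ge (hVH.2.1.trans hHO) hcop hVsol r K hKO hKr hVK
  set P := (P₀ : Subgroup O).map O.subtype with hPdef
  have hPO : P ≤ O := Subgroup.map_subtype_le _
  have hPr : IsPGroup r P := P₀.2.map _
  have hPcard : Nat.card P = r ^ (Nat.card O).factorization r := Coprime.card_sylow_map P₀
  have hPV : ¬ P ≤ Subgroup.centralizer (V : Set G) := fun h => hKV (hKP.trans h)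
  have hPne : P ≠ ⊥ := ne_bot_of_moved hPV
  have hPodd : Odd (Nat.card P) := odd_card_of_pgroup hr hPr
  set H' := Subgroup.normalizer (P : Set G) with hH'
  have hPH' : P ≤ H' := Subgroup.le_normalizer
  have hH'top : H' ≠ ⊤ := hG.normalizer_ne_top hPne (hG.ne_top_of_odd hPodd)
  -- `V` stays fused
  have hVH' : FusedIn V H' := by
    refine ⟨hVH.1, hVP, fun v hv hv1 w hw hw1 => ?_⟩
    obtain ⟨g, hgH, hgN, hgv⟩ := hVH.2.2 v hv hv1 w hw hw1
    obtain ⟨P₁, hP₁⟩ := Coprime.exists_sylow_of_card (K := O) (p := r)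
      (H := P.map (MulAut.conj g).toMonoidHom) (by
        rintro _ ⟨x, hx, rfl⟩
        exact conj_mem_of_mem_normalizer (hHO hgH) (hPO hx))
      (by rw [Subgroup.card_map_of_injective (MulAut.conj g).injective, hPcard])
    have hP₁V : V ≤ Subgroup.normalizer (((P₁ : Subgroup O).map O.subtype : Subgroup G) : Set G) := by
      rw [hP₁]
      intro u hu
      refine Subgroup.mem_normalizer_fintype ?_
      rintro _ ⟨x, hx, rfl⟩
      refine ⟨g⁻¹ * u * g * x * (g⁻¹ * u * g)⁻¹, conj_mem_of_mem_normalizer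
        (hVP ((Subgroup.mem_normalizer_iff''.1 hgN u).1 hu)) hx, ?_⟩
      simp only [MulEquiv.coe_toMonoidHom, MulAut.conj_apply]
      group
    obtain ⟨c, hc, hce⟩ := Coprime.exists_conj_invariant_sylow (hVH.2.1.trans hHO) hcop hVsol P₁ P₀ hP₁V hVP
    rw [hP₁] at hce
    have hcV : ∀ u ∈ V, c * u * c⁻¹ = u := fun u hu => by
      rw [← Subgroup.mem_centralizer_iff.1 hc.2 u hu, mul_inv_cancel_right]
    refine ⟨c * g, ?_, mul_mem ?_ hgN, ?_⟩
    · refine Subgroup.mem_normalizer_fintype fun x hx => ?_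
      rw [SetLike.mem_coe, ← hPdef] at *
      rw [← hce]
      refine ⟨g * x * g⁻¹, ⟨x, hx, rfl⟩, ?_⟩
      show c * (g * x * g⁻¹) * c⁻¹ = _
      group
    · exact Subgroup.mem_normalizer_fintype fun u hu => by rw [SetLike.mem_coe, hcV u hu]; exact hu
    · calc c * g * v * (c * g)⁻¹ = c * (g * v * g⁻¹) * c⁻¹ := by group
        _ = w := by rw [hgv, hcV w hw]
  have hPcore : P ≤ coreOf H' := le_coreOf hPH' le_rfl hPodd
  have hconf' : Conf r V H' := ⟨hH'top, hVH', P, hPcore, hPr, hVP, hPV⟩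
  -- the orders
  have hge1 : r ^ (Nat.card H).factorization r ≤ r ^ (Nat.card H').factorization r := by
    obtain ⟨T₀⟩ : Nonempty (Sylow r H) := inferInstance
    set T₁ := (T₀ : Subgroup H).map H.subtype
    have hT₁H : T₁ ≤ H := Subgroup.map_subtype_le _
    have hT₁c : Nat.card T₁ = r ^ (Nat.card H).factorization r := Coprime.card_sylow_map T₀
    haveI : (Cfsg.oddCore H).Normal := by unfold Cfsg.oddCore; infer_instance
    obtain ⟨k, hk, hkP⟩ : ∃ k ∈ O, ∀ x ∈ T₁, k * x * k⁻¹ ∈ H' := by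
      obtain ⟨R, hR⟩ : ∃ R : Sylow r O, (R : Subgroup O).map O.subtype = T₁ ⊓ O := by
        refine Coprime.exists_sylow_of_card inf_le_right ?_
        refine le_antisymm (pgroup_card_le ((T₀.2.map _).to_le inf_le_left) inf_le_right) ?_
        obtain ⟨Q, hQ⟩ := (hPr.comap_subtype (K := H)).exists_le_sylow
        obtain ⟨h, hh⟩ := MulAction.exists_smul_eq H Q T₀
        rw [← hPcard, ← Subgroup.card_map_of_injective (K := P) (f := (MulAut.conj (h : G)).toMonoidHom) (MulAut.conj (h : G)).injective]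
        refine Nat.le_of_dvd Nat.card_pos (Subgroup.card_dvd_of_le ?_)
        rintro _ ⟨x, hx, rfl⟩
        refine ⟨⟨h * ⟨x, coreOf_le H (hPO hx)⟩ * h⁻¹, ?_, rfl⟩,
          conj_mem_of_mem_normalizer (hHO h.2) (hPO hx)⟩
        rw [← hh]
        exact Subgroup.smul_mem_pointwise_smul _ (MulAut.conj h) (Q : Subgroup H)
          (hQ (show (x : G) ∈ P from hx))
      obtain ⟨k, hk, hkR⟩ := Coprime.exists_conj_sylow_map R P₀
      rw [hR] at hkR
      refine ⟨k, hk, fun x hx => Subgroup.mem_normalizer_fintype fun y hy => ?_⟩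
      rw [SetLike.mem_coe, hPdef, ← hkR] at hy ⊢
      obtain ⟨z, hz, rfl⟩ := hy
      refine ⟨x * z * x⁻¹, Subgroup.mem_inf.2 ⟨mul_mem (mul_mem hx hz.1) (inv_mem hx),
        conj_mem_of_mem_normalizer (hHO (hT₁H hx)) hz.2⟩, ?_⟩
      show k * (x * z * x⁻¹) * k⁻¹ = k * x * k⁻¹ * (k * z * k⁻¹) * (k * x * k⁻¹)⁻¹
      group
    rw [← hT₁c, ← Subgroup.card_map_of_injective (K := T₁) (f := (MulAut.conj k).toMonoidHom) (MulAut.conj k).injective]
    exact pgroup_card_le ((T₀.2.map _).map _) (by rintro _ ⟨x, hx, rfl⟩; exact hkP x hx)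
  have hge2 : r ^ (Nat.card O).factorization r ≤ r ^ (Nat.card (coreOf H')).factorization r :=
    hPcard ▸ pgroup_card_le hPr hPcore
  have hkey := hmax H' ⟨V, hconf'⟩
  have hb := sylow_pow_le_card hrp O
  have hb' := sylow_pow_le_card hrp (coreOf H')
  simp only [confKey, ← hO] at hkey
  have heq1 : r ^ (Nat.card H').factorization r = r ^ (Nat.card H).factorization r := by
    by_contra hne
    have hlt := lt_of_le_of_ne hge1 (Ne.symm hne)
    have := Nat.mul_le_mul_right (Nat.card G + 1) hlt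
    rw [Nat.succ_mul] at this
    omega
  have heq2 : r ^ (Nat.card (coreOf H')).factorization r = Nat.card P := by
    rw [heq1] at hkey
    omega
  -- the centraliser of `P` is odd
  set C := Subgroup.centralizer (P : Set G) with hCdef
  have hCH' : C ≤ H' := Subgroup.centralizer_le_normalizer _
  have hH'C : H' ≤ Subgroup.normalizer (C : Set G) := fun g hg =>
    Subgroup.mem_normalizer_fintype fun c hc => by
      rw [SetLike.mem_coe, hCdef, Subgroup.mem_centralizer_iff]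
      intro y hy
      have h1 := Subgroup.mem_centralizer_iff.1 hc _ ((Subgroup.mem_normalizer_iff''.1 hg y).1 hy)
      calc y * (g * c * g⁻¹) = g * (g⁻¹ * y * g * c) * g⁻¹ := by group
        _ = g * c * g⁻¹ * y := by rw [h1]; group
  have hCodd : Odd (Nat.card C) := by
    by_contra hev
    rw [Nat.not_odd_iff_even, even_iff_two_dvd] at hev
    obtain ⟨c, hc⟩ := exists_prime_orderOf_dvd_card' 2 hev
    obtain ⟨T₂, hT₂⟩ := ((hVH'.1.isPGroup).comap_subtype (K := H')).exists_le_sylow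
    set D := (T₂ : Subgroup H').map H'.subtype
    have hVD : V ≤ D := fun x hx => ⟨⟨x, hVH'.2.1 hx⟩, hT₂ (show (x : G) ∈ V from hx), rfl⟩
    have hDH' : D ≤ H' := Subgroup.map_subtype_le _
    haveI : (C.subgroupOf H').Normal := Subgroup.normal_subgroupOf_of_le_normalizer hH'C
    -- a conjugate of `c` lies in `T₂`
    have hc2 : orderOf (⟨c, hCH' c.2⟩ : H') = 2 := by
      rw [← Subgroup.orderOf_coe]
      simpa using hc
    obtain ⟨Q, hQ⟩ := (IsPGroup.of_card (n := 1) (by rw [Nat.card_zpowers, hc2, pow_one]) :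
      IsPGroup 2 (Subgroup.zpowers (⟨c, hCH' c.2⟩ : H'))).exists_le_sylow
    obtain ⟨h, hh⟩ := MulAction.exists_smul_eq H' Q T₂
    have hcT : h * ⟨c, hCH' c.2⟩ * h⁻¹ ∈ (T₂ : Subgroup H') := by
      rw [← hh]
      exact Subgroup.smul_mem_pointwise_smul _ (MulAut.conj h) (Q : Subgroup H') (hQ (Subgroup.mem_zpowers _))
    set CT := (C.subgroupOf H').subgroupOf (T₂ : Subgroup H')
    haveI : CT.Normal := inferInstance
    haveI : Nontrivial CT := by
      refine (Subgroup.nontrivial_iff_exists_ne_one _).2 ⟨⟨_, hcT⟩, ?_, fun e => ?_⟩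
      · exact (inferInstance : (C.subgroupOf H').Normal).conj_mem _ (Subgroup.mem_subgroupOf.2 c.2) h
      · have h1 : h * ⟨c, hCH' c.2⟩ * h⁻¹ = 1 := congrArg Subtype.val e
        rw [conj_eq_one_iff] at h1
        rw [h1, orderOf_one] at hc2
        omega
    haveI : Group.IsNilpotent ↥(T₂ : Subgroup H') := T₂.2.isNilpotent
    obtain ⟨z, hzC', hz1⟩ := (Subgroup.nontrivial_iff_exists_ne_one _).1
      ((Subgroup.nontrivial_iff_ne_bot _).2 (PGroups.normal_inf_center_ne_bot T₂.2 CT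
        ((Subgroup.nontrivial_iff_ne_bot _).1 inferInstance)))
    have hzC := Subgroup.mem_inf.1 hzC'
    obtain ⟨k, hk⟩ := T₂.2 z
    have hzpow : ∃ k : ℕ, orderOf ((z : H') : G) ∣ 2 ^ k :=
      ⟨k, orderOf_dvd_of_pow_eq_one (congrArg (fun w : (T₂ : Subgroup H') => ((w : H') : G)) hk)⟩
    obtain ⟨k, hk⟩ := hzpow
    have hzne : ((z : H') : G) ≠ 1 := fun e => hz1 (Subtype.ext (Subtype.ext e))
    obtain ⟨j, -, hj⟩ := (Nat.dvd_prime_pow Nat.prime_two).1 hk
    have hj1 : 0 < j := by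
      rcases Nat.eq_zero_or_pos j with rfl | h
      · rw [pow_zero, orderOf_eq_one_iff] at hj; exact absurd hj hzne
      · exact h
    set z₂ : G := ((z : H') : G) ^ 2 ^ (j - 1) with hz₂
    have hzo : orderOf z₂ = 2 := by
      rw [hz₂, orderOf_pow_of_dvd (pow_ne_zero _ two_ne_zero) (hj ▸ pow_dvd_pow 2 (Nat.sub_le j 1)), hj,
        Nat.pow_div (Nat.sub_le j 1) two_pos, show j - (j - 1) = 1 by omega, pow_one]
    have hzmem : z₂ ∈ C := pow_mem (Subgroup.mem_subgroupOf.1 (Subgroup.mem_subgroupOf.1 hzC.1)) _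
    have hzV : z₂ ∈ V := hG.cd.mem_four_of_central hVH'.1 hVD (by rw [← sq, ← hzo, pow_orderOf_eq_one]) (by
      rintro _ ⟨s, hs, rfl⟩
      have h1 : (s : G) * ((z : H') : G) = ((z : H') : G) * s :=
        congrArg (fun w : (T₂ : Subgroup H') => ((w : H') : G)) (Subgroup.mem_center_iff.1 hzC.2 ⟨s, hs⟩)
      exact (show Commute (s : G) ((z : H') : G) from h1).pow_right _)
    refine hPV (centralizes_of_fused hVH' le_rfl hzV (fun e => by rw [e, orderOf_one] at hzo; omega) ?_)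
    intro x hx
    rw [Subgroup.mem_centralizer_singleton_iff]
    exact Subgroup.mem_centralizer_iff.1 hzmem x hx
  have hCO : C ≤ coreOf H' := le_coreOf hCH' hH'C hCodd
  -- the factorisation of `H'`
  set P' := P.subgroupOf H' with hP'
  haveI : P'.Normal := Subgroup.normal_subgroupOf_of_le_normalizer le_rfl
  have hel : ∀ x ∈ Subgroup.centralizer (P' : Set H'), (∃ k : ℕ, x ^ r ^ k = 1) → x ∈ P' := by
    rintro x hx ⟨k, hk⟩
    have hxC : (x : G) ∈ C := by
      rw [hCdef, Subgroup.mem_centralizer_iff]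
      intro y hy
      exact congrArg Subtype.val (Subgroup.mem_centralizer_iff.1 hx ⟨y, hPH' hy⟩ hy)
    have hxp : IsPGroup r (Subgroup.zpowers (x : G)) := by
      have h1 : orderOf (x : G) ∣ r ^ k := orderOf_dvd_of_pow_eq_one (congrArg Subtype.val hk)
      exact IsPGroup.of_card_dvd_pow (by rwa [Nat.card_zpowers])
    have hzN : Subgroup.zpowers (x : G) ≤ Subgroup.normalizer (P : Set G) := Subgroup.zpowers_le.2 x.2
    have h2 : Nat.card ↥(P ⊔ Subgroup.zpowers (x : G)) ≤ Nat.card P :=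
      heq2 ▸ pgroup_card_le (hPr.to_sup_of_normal_left' hxp hzN)
        (sup_le hPcore (Subgroup.zpowers_le.2 (hCO hxC)))
    exact Subgroup.mem_subgroupOf.2 ((Subgroup.eq_of_le_of_card_ge le_sup_left h2).ge
      ((le_sup_right : Subgroup.zpowers (x : G) ≤ _) (Subgroup.mem_zpowers _)))
  have hP'r : IsPGroup r P' := hPr.comap_subtype
  obtain ⟨T', hT'P⟩ := hP'r.exists_le_sylow
  have hsup := sup_normalizer_zj (p := r) hr (PLocal.noSLTwo_subgroup (hG.noSLTwo hr) H') P' hP'r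
    (centralizer_le_sup_pPrimeCore hP'r hel) T'
  set Y := (Cfsg.pPrimeCore r H').map H'.subtype with hY
  haveI : (Cfsg.pPrimeCore r H').Normal := by infer_instance
  have hYH' : Y ≤ H' := Subgroup.map_subtype_le _
  have hH'Y : H' ≤ Subgroup.normalizer (Y : Set G) := fun x hx =>
    Subgroup.le_normalizer_map H'.subtype ⟨⟨x, hx⟩, by rw [Subgroup.normalizer_eq_top]; trivial, rfl⟩
  have hYC : Y ≤ C := by
    rintro _ ⟨y, hy, rfl⟩
    rw [hCdef, Subgroup.mem_centralizer_iff]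
    intro x hx
    have h1 := Subgroup.disjoint_def.mp (Transfer.PResidual.disjoint_of_not_dvd (Cores.not_dvd_card_pPrimeCore r) hP'r)
      (show (⟨x, hPH' hx⟩ : H') * y * (⟨x, hPH' hx⟩ : H')⁻¹ * y⁻¹ ∈ Cfsg.pPrimeCore r H' from
        mul_mem ((inferInstance : (Cfsg.pPrimeCore r H').Normal).conj_mem _ hy _) (inv_mem hy))
      (by
        rw [show (⟨x, hPH' hx⟩ : H') * y * (⟨x, hPH' hx⟩ : H')⁻¹ * y⁻¹ =
          ⟨x, hPH' hx⟩ * (y * (⟨x, hPH' hx⟩ : H')⁻¹ * y⁻¹) by group]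
        exact mul_mem hx ((inferInstance : P'.Normal).conj_mem _ (inv_mem hx) y))
    have h2 : (⟨x, hPH' hx⟩ : H') * y = y * ⟨x, hPH' hx⟩ := by
      rw [mul_inv_eq_one, mul_inv_eq_iff_eq_mul] at h1
      exact h1
    exact congrArg Subtype.val h2
  have hYodd : Odd (Nat.card Y) := hCodd.of_dvd_nat (Subgroup.card_dvd_of_le hYC)
  set T₁ := (T' : Subgroup H').map H'.subtype with hT₁
  have hT₁r : IsPGroup r T₁ := T'.2.map _
  have hT₁card : Nat.card T₁ = r ^ (Nat.card H).factorization r := (Coprime.card_sylow_map T').trans heq1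
  have hPT₁ : P ≤ T₁ := fun x hx => ⟨⟨x, hPH' hx⟩, hT'P (show (x : G) ∈ P from hx), rfl⟩
  set N := zjNorm T₁ with hN
  set L := H' ⊓ N with hL
  have hfac : ∀ h ∈ H', ∃ y ∈ Y, y⁻¹ * h ∈ L := by
    intro h hh
    have hmem : (⟨h, hh⟩ : H') ∈ Cfsg.pPrimeCore r H' ⊔
        Subgroup.normalizer (Cfsg.centerThompsonAOf (T' : Subgroup H') : Set H') := by
      rw [hsup]; trivial
    rw [← SetLike.mem_coe, Subgroup.normal_mul] at hmem
    obtain ⟨y, hy, n, hn, hyn⟩ := hmem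
    refine ⟨y, ⟨y, hy, rfl⟩, Subgroup.mem_inf.2 ⟨?_, ?_⟩⟩
    · exact mul_mem (inv_mem y.2) hh
    · have h1 : (y : G)⁻¹ * h = (n : G) := by
        rw [show h = ((y * n : H') : G) from (congrArg Subtype.val hyn).symm, Subgroup.coe_mul, inv_mul_cancel_left]
      show (y : G)⁻¹ * h ∈ Subgroup.normalizer (Cfsg.centerThompsonAOf T₁ : Set G)
      rw [h1, hT₁, ← ZJ.map_centerThompsonAOf H'.subtype H'.subtype_injective]
      exact Subgroup.le_normalizer_map H'.subtype ⟨n, hn, rfl⟩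
  -- a Sylow 2-subgroup of `L` is one of `H'`
  have hidx : Odd (L.subgroupOf H').index := by
    let ψ : Y → H' ⧸ L.subgroupOf H' := fun y => QuotientGroup.mk ⟨y, hYH' y.2⟩
    have hψ : ∀ y y' : Y, ψ y = ψ y' ↔ (y : G)⁻¹ * y' ∈ Y ⊓ L := fun y y' => by
      rw [QuotientGroup.eq, Subgroup.mem_subgroupOf]
      exact ⟨fun h => Subgroup.mem_inf.2 ⟨mul_mem (inv_mem y.2) y'.2, h⟩, fun h => h.2⟩
    have hbij : Function.Bijective (Quotient.lift (s := QuotientGroup.leftRel ((Y ⊓ L).subgroupOf Y)) ψ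
        fun y y' h => (hψ y y').2 (Subgroup.mem_subgroupOf.1 (QuotientGroup.leftRel_apply.1 h))) := by
      refine ⟨fun a b => ?_, fun q => ?_⟩
      · induction a using Quotient.inductionOn with | _ y => ?_
        induction b using Quotient.inductionOn with | _ y' => ?_
        intro h
        exact Quotient.sound (QuotientGroup.leftRel_apply.2 (Subgroup.mem_subgroupOf.2 ((hψ y y').1 h)))
      · obtain ⟨h, rfl⟩ := QuotientGroup.mk_surjective q
        obtain ⟨y, hy, hyl⟩ := hfac h h.2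
        exact ⟨Quotient.mk'' ⟨y, hy⟩, QuotientGroup.eq.2 (Subgroup.mem_subgroupOf.2 hyl)⟩
    rw [Subgroup.index_eq_card, ← Nat.card_eq_of_bijective _ hbij]
    exact hYodd.of_dvd_nat (Subgroup.index_dvd_card ((Y ⊓ L).subgroupOf Y))
  obtain ⟨T₂, hT₂⟩ := ((hVH'.1.isPGroup).comap_subtype (K := H')).exists_le_sylow
  obtain ⟨U⟩ : Nonempty (Sylow 2 (L.subgroupOf H')) := inferInstance
  set U' : Subgroup H' := (U : Subgroup (L.subgroupOf H')).map (L.subgroupOf H').subtype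
  have hU' : ¬ 2 ∣ U'.index := by
    rw [Subgroup.index_map_subtype]
    intro h
    rcases Nat.prime_two.dvd_mul.1 h with h | h
    · exact U.not_dvd_index h
    · exact hidx.not_two_dvd_nat h
  obtain ⟨h, hh⟩ := MulAction.exists_smul_eq H' T₂ ((U.2.map _).toSylow hU')
  set V₁ := V.map (MulAut.conj (h : G)).toMonoidHom with hV₁
  have hV₁L : V₁ ≤ L := by
    rintro _ ⟨x, hx, rfl⟩
    have h1 : h * ⟨x, hVH'.2.1 hx⟩ * h⁻¹ ∈ U' := by
      show h * ⟨x, hVH'.2.1 hx⟩ * h⁻¹ ∈ (((U.2.map _).toSylow hU' : Sylow 2 H') : Subgroup H')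
      rw [← hh]
      exact Subgroup.smul_mem_pointwise_smul _ (MulAut.conj h) (T₂ : Subgroup H')
        (hT₂ (show (x : G) ∈ V from hx))
    exact Subgroup.mem_subgroupOf.1 (Subgroup.map_subtype_le _ h1)
  have hV₁H' : FusedIn V₁ H' := by
    refine ⟨hVH'.1.map _, hV₁L.trans inf_le_left, ?_⟩
    rintro _ ⟨v, hv, rfl⟩ hv1 _ ⟨w, hw, rfl⟩ hw1
    obtain ⟨g, hgH, hgN, hgv⟩ := hVH'.2.2 v hv (fun e => hv1 (by rw [e, map_one])) w hw
      (fun e => hw1 (by rw [e, map_one]))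
    refine ⟨(h : G) * g * (h : G)⁻¹, mul_mem (mul_mem h.2 hgH) (inv_mem h.2), ?_, ?_⟩
    · rw [hV₁, ← MulAut.conj_apply]
      exact Subgroup.le_normalizer_map _ ⟨g, hgN, rfl⟩
    · rw [← hgv]
      simp only [MulEquiv.coe_toMonoidHom, MulAut.conj_apply]
      group
  have hV₁P : ¬ P ≤ Subgroup.centralizer (V₁ : Set G) := by
    intro hle
    refine hPV fun x hx => Subgroup.mem_centralizer_iff.2 fun v hv => ?_
    have h1 := Subgroup.mem_centralizer_iff.1 (hle (conj_mem_of_mem_normalizer h.2 hx)) _ ⟨v, hv, rfl⟩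
    simp only [MulEquiv.coe_toMonoidHom, MulAut.conj_apply] at h1
    calc v * x = (h : G)⁻¹ * ((h : G) * v * (h : G)⁻¹ * ((h : G) * x * (h : G)⁻¹)) * (h : G) := by group
      _ = x * v := by rw [h1]; group
  have hfusL : FusedIn V₁ L := hV₁H'.factor hH'Y hYH' hYodd inf_le_left hV₁L hfac
  have hT₁ne : T₁ ≠ ⊥ := fun e => hPne (le_bot_iff.1 (e ▸ hPT₁))
  have hNtop : N ≠ ⊤ := zjNorm_ne_top hG hr hT₁r hT₁ne
  have hPN : P ≤ N := hPT₁.trans (le_zjNorm _)
  have hV₁N : V₁ ≤ N := hV₁L.trans inf_le_right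
  have hconfN : Conf r V₁ N := by
    refine ⟨hNtop, ⟨hfusL.1, hV₁N, fun v hv hv1 w hw hw1 => ?_⟩, P ⊓ coreOf N, inf_le_right,
      hPr.to_le inf_le_left, fun u hu => Subgroup.mem_normalizer_fintype fun x hx => ?_, ?_⟩
    · obtain ⟨g, hgL, hgN, hgv⟩ := hfusL.2.2 v hv hv1 w hw hw1
      exact ⟨g, hgL.2, hgN, hgv⟩
    · exact ⟨conj_mem_of_mem_normalizer (hV₁H'.2.1 hu) hx.1,
        conj_mem_of_mem_normalizer (le_normalizer_coreOf N (hV₁N hu)) hx.2⟩
    · intro hle
      obtain ⟨v, hv, hv1, hcom⟩ := hFO G hG N hNtop V₁ P hfusL.1 hV₁N hPN hPodd hV₁H'.2.1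
      have hvv : v⁻¹ = v := inv_eq_of_mul_eq_one_right (hfusL.1.2 v hv)
      refine hV₁P (centralizes_of_fused hfusL inf_le_left hv hv1 fun k hk => ?_)
      rw [Subgroup.mem_centralizer_singleton_iff]
      set x := k * v * k⁻¹ * v⁻¹ with hx
      have hxP : x ∈ P := by
        rw [hx, show k * v * k⁻¹ * v⁻¹ = k * (v * k⁻¹ * v⁻¹) by group]
        exact mul_mem hk (conj_mem_of_mem_normalizer (hV₁H'.2.1 hv) (inv_mem hk))
      have hxc := Subgroup.mem_centralizer_iff.1 (hle ⟨hxP, hcom k hk⟩) v hv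
      have hinv : v * x * v⁻¹ = x⁻¹ := by
        rw [hx, hvv]
        simp only [_root_.mul_inv_rev, inv_inv, hvv, mul_assoc, hfusL.1.2 v hv, mul_one]
      rw [hxc, mul_inv_cancel_right] at hinv
      have hx1 : x = 1 := by
        refine orderOf_eq_one_iff.1 (Nat.eq_one_of_dvd_coprimes
          (Nat.coprime_two_right.2 (orderOf_odd_of_mem hPodd hxP)) dvd_rfl
          (orderOf_dvd_of_pow_eq_one ?_))
        rw [sq]; nth_rewrite 1 [hinv]; exact inv_mul_cancel x
      rw [hx, mul_inv_eq_one, mul_inv_eq_iff_eq_mul] at hx1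
      exact hx1
  -- `T₁` is a Sylow subgroup of `G`
  have hmaxN : r ^ (Nat.card N).factorization r ≤ r ^ (Nat.card H).factorization r := by
    have hk := hmax N ⟨V₁, hconfN⟩
    have hb1 := sylow_pow_le_card hrp (coreOf H)
    have hpos : 0 < r ^ (Nat.card (coreOf N)).factorization r := pow_pos hrp.pos _
    simp only [confKey] at hk
    by_contra hlt
    have := Nat.mul_le_mul_right (Nat.card G + 1) (not_le.1 hlt)
    rw [Nat.succ_mul] at this
    omega
  obtain ⟨T, hT⟩ := hT₁r.exists_le_sylow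
  have hTT : T₁ = T := by
    by_contra hne
    have hlt : T₁ < (T : Subgroup G) := lt_of_le_of_ne hT hne
    haveI := T.2.isNilpotent
    have hlt' : T₁.subgroupOf (T : Subgroup G) < ⊤ := lt_top_iff_ne_top.2 fun h =>
      hlt.not_ge (Subgroup.subgroupOf_eq_top.1 h)
    obtain ⟨x, hxN, hxT⟩ := SetLike.exists_of_lt (Group.normalizerCondition_of_isNilpotent _ hlt')
    have hxM : (x : G) ∈ Subgroup.normalizer (T₁ : Set G) := by
      refine Subgroup.mem_normalizer_fintype fun y hy => ?_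
      have := (Subgroup.mem_normalizer_iff.1 hxN ⟨y, hT hy⟩).1 (Subgroup.mem_subgroupOf.2 hy)
      exact Subgroup.mem_subgroupOf.1 this
    have hTN : T₁ ≤ (T : Subgroup G) ⊓ N := le_inf hT (le_zjNorm _)
    have hlt2 : T₁ < (T : Subgroup G) ⊓ N := lt_of_le_of_ne hTN fun e =>
      hxT (Subgroup.mem_subgroupOf.2 (e.ge ⟨x.2, ZJ.normalizer_le_normalizer_centerThompsonA T₁ hxM⟩))
    have h1 := pgroup_card_le (T.2.to_le inf_le_left : IsPGroup r ↥((T : Subgroup G) ⊓ N)) inf_le_right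
    have h2 : Nat.card ↥((T : Subgroup G) ⊓ N) ≤ Nat.card T₁ := hT₁card ▸ h1.trans hmaxN
    exact hlt2.ne (Subgroup.eq_of_le_of_card_ge hTN h2)
  exact ⟨T, V₁, by rw [← hTT]; exact hconfN⟩

end Cfsg.Agent.Lib.GorensteinWalter
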