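import Cfsg.Agent.Lib.GorensteinWalter.ConfTools
import Cfsg.Agent.Lib.GorensteinWalter.Structure
import Cfsg.Agent.Lib.GorensteinWalter.ConfSylow
import Cfsg.Agent.Lib.Balance.LBalance

/-!
# Gorenstein–Walter, section F6: goodness

Owner: helper2.
-/

set_option autoImplicit false
set_option linter.unusedSectionVars false
set_option linter.style.haveILetI false

namespace Cfsg.Agent.Lib.GorensteinWalter.ConfSmall

open Cfsg.Agent.Lib.Fusion.Dihedral
open Cfsg.Agent.Lib.Fusion.Alperin (conjS mem_conjS conj_mem_conjS)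

universe u

variable {G : Type u} [Group G] [Finite G]

/-- `N = N(Z(J(T)))` at a configuration, with `Y = O_{r'}(N)`, `Q = T ∩ O_{r',r}(N)`, `N₀ = N_N(Q)`. -/
structure Setting (r : ℕ) (N Y Q N0 : Subgroup G) : Prop where
  proper : N ≠ ⊤
  Y_le : Y ≤ N
  N0_le : N0 ≤ N
  Q_le : Q ≤ N0
  Y_normal : N ≤ Subgroup.normalizer (Y : Set G)
  Y_odd : Odd (Nat.card Y)
  Y_coprime : (Nat.card Y).Coprime r
  Q_pgroup : IsPGroup r Q
  Q_normal : N0 ≤ Subgroup.normalizer (Q : Set G)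
  cover : ∀ n ∈ N, ∃ y ∈ Y, y⁻¹ * n ∈ N0
  Y_cent : ∀ y ∈ Y, y ∈ N0 → y ∈ Subgroup.centralizer (Q : Set G)
  constrained : ∀ m ∈ N0, m ∈ Subgroup.centralizer (Q : Set G) → (orderOf m).Coprime r → m ∈ Y
  noInv : ∀ u ∈ N, orderOf u = 2 → ¬ Q ≤ Subgroup.centralizer ({u} : Set G)
  fused : ∃ V : Subgroup G, FusedIn V N0
  sf : ∀ X : Subgroup G, IsPGroup r X → X ≤ N → ∀ g : G, (∀ x ∈ X, g * x * g⁻¹ ∈ N) →
    ∃ n ∈ N, ∃ c ∈ Subgroup.centralizer (X : Set G), g = n * c
  sylow : ∃ T : Sylow r G, (T : Subgroup G) ≤ N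
  cover2 : ∀ t ∈ N, orderOf t = 2 → ∀ g : G, g * t = t * g → ∃ w ∈ coreR r t, w⁻¹ * g ∈ N
  oneClass : ∀ s ∈ N, orderOf s = 2 → ∀ t ∈ N, orderOf t = 2 → ∃ n ∈ N, n * s * n⁻¹ = t

variable {r : ℕ} [hr : Fact r.Prime]

/-- A `q`-subgroup of `D ⊆ A·E`, `|A|` prime to `q`, has a conjugate in `E`. -/
theorem exists_conj_le_of_cover {q : ℕ} [hq : Fact q.Prime] {W D E A : Subgroup G}
    (hW : IsPGroup q W) (hWD : W ≤ D) (hA : (Nat.card A).Coprime q) (hAD : A ≤ D) (_hED : E ≤ D)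
    (hcov : ∀ d ∈ D, ∃ a ∈ A, a⁻¹ * d ∈ E) : ∃ d ∈ D, ∀ w ∈ W, d * w * d⁻¹ ∈ E := by
  let f : A ⧸ E.subgroupOf A → D ⧸ E.subgroupOf D :=
    Quotient.map' (Subgroup.inclusion hAD) fun a b h => by
      rw [QuotientGroup.leftRel_apply] at h ⊢
      exact h
  have hf : Function.Bijective f := by
    constructor
    · rintro ⟨a⟩ ⟨b⟩ h
      refine QuotientGroup.eq.2 ?_
      have h' := QuotientGroup.eq.1 h
      exact h'
    · rintro ⟨d⟩
      obtain ⟨a, ha, hae⟩ := hcov d d.2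
      exact ⟨QuotientGroup.mk ⟨a, ha⟩, QuotientGroup.eq.2 hae⟩
  have hnd : ¬ q ∣ Nat.card (D ⧸ E.subgroupOf D) := fun h => by
    rw [← Nat.card_congr (Equiv.ofBijective f hf), ← Subgroup.index_eq_card] at h
    exact (hq.out.coprime_iff_not_dvd.1 hA.symm) (h.trans (Subgroup.index_dvd_card _))
  let W' : Subgroup D := W.subgroupOf D
  have hW' : IsPGroup q W' := hW.comap_subtype
  obtain ⟨x, hx⟩ := hW'.nonempty_fixed_point_of_prime_not_dvd_card (D ⧸ E.subgroupOf D) hnd
  obtain ⟨d, rfl⟩ := QuotientGroup.mk_surjective x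
  refine ⟨(d : G)⁻¹, inv_mem d.2, fun w hw => ?_⟩
  have h1 : QuotientGroup.mk (s := E.subgroupOf D) ((⟨w, hWD hw⟩ : D) * d) = QuotientGroup.mk d :=
    hx ⟨⟨w, hWD hw⟩, hw⟩
  have h2 : ((d : G)⁻¹ * w * d)⁻¹ ∈ E := by
    have := QuotientGroup.eq.1 h1
    rw [Subgroup.mem_subgroupOf] at this
    simp only [Subgroup.coe_mul, Subgroup.coe_inv] at this
    convert this using 1
    group
  rw [inv_inv]
  exact (inv_mem_iff).1 h2

theorem isPGroup_zpowers_of {q k : ℕ} {x : G} (hx : orderOf x = q ^ k) :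
    IsPGroup q (Subgroup.zpowers x) :=
  IsPGroup.of_card (n := k) (by rw [Nat.card_zpowers, hx])

/-- A subgroup generated by two `q'`-parts normal in `C` lies in `O_{q'}(C)`. -/
theorem sup_le_primeCore (q : ℕ) {C A D : Subgroup G} (hA : A ≤ C) (hD : D ≤ C)
    (hAn : C ≤ Subgroup.normalizer (A : Set G))
    (hn : C ≤ Subgroup.normalizer ((A ⊔ D : Subgroup G) : Set G))
    (hA' : (Nat.card A).Coprime q) (hD' : (Nat.card D).Coprime q) :
    A ⊔ D ≤ primeCore q C := by
  haveI : (A.subgroupOf C).Normal := Subgroup.normal_subgroupOf_of_le_normalizer hAn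
  haveI : ((A ⊔ D).subgroupOf C).Normal := Subgroup.normal_subgroupOf_of_le_normalizer hn
  have hc : (Nat.card ((A ⊔ D).subgroupOf C)).Coprime q := by
    rw [Subgroup.subgroupOf_sup hA hD, sup_comm]
    refine Nat.Coprime.of_dvd_left (Cores.card_sup_dvd_mul _ _) ?_
    rw [Nat.card_congr (Subgroup.subgroupOfEquivOfLe hA).toEquiv,
      Nat.card_congr (Subgroup.subgroupOfEquivOfLe hD).toEquiv]
    exact hD'.mul_left hA'
  intro x hx
  exact ⟨⟨x, sup_le hA hD hx⟩, Cores.le_pPrimeCore hc hx, rfl⟩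

/-- A Sylow subgroup of `C` meets a normal subgroup in a Sylow subgroup. -/
theorem exists_sylow_inf {O C : Subgroup G} (hOC : O ≤ C)
    (hn : C ≤ Subgroup.normalizer (O : Set G)) (R : Sylow r C) :
    ∃ R1 : Sylow r O, (R1 : Subgroup O).map O.subtype = (R : Subgroup C).map C.subtype ⊓ O := by
  haveI : (O.subgroupOf C).Normal := Subgroup.normal_subgroupOf_of_le_normalizer hn
  obtain ⟨P, hP⟩ := Balance.exists_sylow_inf_normal R (O.subgroupOf C)
  refine ⟨P.mapSurjective (f := (Subgroup.subgroupOfEquivOfLe hOC).toMonoidHom)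
    (Subgroup.subgroupOfEquivOfLe hOC).surjective, ?_⟩
  ext x
  constructor
  · rintro ⟨_, ⟨y, hy, rfl⟩, rfl⟩
    refine ⟨⟨(y : C), ?_, rfl⟩, Subgroup.mem_subgroupOf.1 y.2⟩
    rw [hP] at hy
    exact hy
  · rintro ⟨⟨y, hy, rfl⟩, hxO⟩
    exact ⟨⟨y, hxO⟩, ⟨⟨y, hxO⟩, by rw [hP]; exact hy, rfl⟩, rfl⟩

theorem FusedIn.conj {V H : Subgroup G} (h : FusedIn V H) {g : G} (hg : g ∈ H) :
    FusedIn (conjS g V) H := by
  refine ⟨h.1.map g, fun x hx => ?_, fun v hv hv1 w hw hw1 => ?_⟩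
  · have := H.mul_mem (H.mul_mem hg (h.2.1 (mem_conjS.1 hx))) (H.inv_mem hg)
    simpa [mul_assoc] using this
  · obtain ⟨n, hn, hnV, hnv⟩ := h.2.2 _ (mem_conjS.1 hv)
      (fun e => hv1 (by
        calc v = g * (g⁻¹ * v * g) * g⁻¹ := by group
          _ = 1 := by rw [e]; group))
      _ (mem_conjS.1 hw) (fun e => hw1 (by
        calc w = g * (g⁻¹ * w * g) * g⁻¹ := by group
          _ = 1 := by rw [e]; group))
    refine ⟨g * n * g⁻¹, H.mul_mem (H.mul_mem hg hn) (H.inv_mem hg),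
      Subgroup.mem_normalizer_iff.2 fun x => ?_, ?_⟩
    · rw [mem_conjS, mem_conjS, Subgroup.mem_normalizer_iff.1 hnV (g⁻¹ * x * g)]
      refine iff_of_eq (congrArg (· ∈ V) ?_)
      group
    · calc g * n * g⁻¹ * v * (g * n * g⁻¹)⁻¹ = g * (n * (g⁻¹ * v * g) * n⁻¹) * g⁻¹ := by group
        _ = w := by rw [hnv]; group

/-- `O_{r'}(O(C(c)))`. -/
abbrev theta (r : ℕ) (c : G) : Subgroup G :=
  primeCore r (coreOf (Subgroup.centralizer ({c} : Set G)))

/-- `c` is good: no involution of `N₀ ∩ C(c)` centralises `C_Q(c)`. -/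
def Good (Q N0 : Subgroup G) (c : G) : Prop :=
  ∀ u ∈ N0, orderOf u = 2 → u * c = c * u → ¬ ∀ x ∈ Q, x * c = c * x → u * x = x * u

variable {N Y Q N0 : Subgroup G}

theorem le_centralizer_zpowers {c : G} :
    Subgroup.centralizer ({c} : Set G) ≤ Subgroup.centralizer (Subgroup.zpowers c : Set G) :=
  fun x hx => Subgroup.mem_centralizer_iff.2 fun y hy => by
    obtain ⟨i, rfl⟩ := Subgroup.mem_zpowers_iff.1 hy
    exact ((show Commute x c from mem_cent.1 hx).zpow_right i).eq.symm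

namespace Setting

variable (hG : Hyp G) (h : Setting r N Y Q N0)
include h

/-- `C_N(X) = C_Y(X) C_{N₀}(X)`. -/
theorem factor {X : Subgroup G} (hX : IsPGroup r X) (hX0 : X ≤ N0) {n : G} (hn : n ∈ N)
    (hnX : n ∈ Subgroup.centralizer (X : Set G)) :
    ∃ y, y ∈ Y ∧ y ∈ Subgroup.centralizer (X : Set G) ∧
      y⁻¹ * n ∈ N0 ∧ y⁻¹ * n ∈ Subgroup.centralizer (X : Set G) := by
  obtain ⟨y, hy, hyn⟩ := h.cover n hn
  obtain ⟨z, hzY, hz0, hz⟩ := exists_mul_mem_centralizer hX h.Y_coprime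
    ((hX0.trans h.N0_le).trans h.Y_normal) hX0 hy (fun x hx => by
      have h1 := N0.mul_mem (N0.mul_mem hyn (hX0 hx)) (N0.inv_mem hyn)
      have h2 := Subgroup.mem_centralizer_iff.1 hnX x hx
      have e : y⁻¹ * n * x * (y⁻¹ * n)⁻¹ = y⁻¹ * x * y := by
        calc y⁻¹ * n * x * (y⁻¹ * n)⁻¹ = y⁻¹ * (n * x) * n⁻¹ * y := by group
          _ = y⁻¹ * x * y := by rw [← h2]; group
      rwa [e] at h1)
  refine ⟨y * z, Y.mul_mem hy hzY, hz, ?_, ?_⟩
  · rw [mul_inv_rev, mul_assoc]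
    exact N0.mul_mem (N0.inv_mem hz0) hyn
  · exact mul_mem (inv_mem hz) hnX

theorem exists_conj_into_N0 {X W : Subgroup G} (hX : IsPGroup r X) (hX0 : X ≤ N0)
    (hW : IsPGroup 2 W) (hWN : W ≤ N) (hWX : W ≤ Subgroup.centralizer (X : Set G)) :
    ∃ d, d ∈ N ∧ d ∈ Subgroup.centralizer (X : Set G) ∧ ∀ w ∈ W, d * w * d⁻¹ ∈ N0 := by
  haveI : Fact (Nat.Prime 2) := ⟨Nat.prime_two⟩
  obtain ⟨d, hd, hd'⟩ := exists_conj_le_of_cover (q := 2) (W := W)
    (D := N ⊓ Subgroup.centralizer (X : Set G)) (E := N0 ⊓ Subgroup.centralizer (X : Set G))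
    (A := Y ⊓ Subgroup.centralizer (X : Set G)) hW (le_inf hWN hWX)
    (Nat.coprime_two_right.2 (Odd.of_dvd_nat h.Y_odd (Subgroup.card_dvd_of_le inf_le_left)))
    (inf_le_inf_right _ h.Y_le) (inf_le_inf_right _ h.N0_le) (fun n hn => by
      obtain ⟨y, h1, h2, h3, h4⟩ := h.factor hX hX0 hn.1 hn.2
      exact ⟨y, ⟨h1, h2⟩, h3, h4⟩)
  exact ⟨d, hd.1, hd.2, fun w hw => (hd' w hw).1⟩

theorem exists_involution : ∃ t ∈ N, orderOf t = 2 := by
  obtain ⟨V, hV⟩ := h.fused
  obtain ⟨v, hv, hv1⟩ := V.bot_or_exists_ne_one.resolve_left hV.1.ne_bot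
  exact ⟨v, h.N0_le (hV.2.1 hv), hV.1.orderOf_eq hv hv1⟩

/-- A Sylow subgroup of `C(e)` inside `N`. -/
theorem exists_sylow_cent {e : G} (he : e ∈ N) {k : ℕ} (hek : orderOf e = r ^ k) {X : Subgroup G}
    (hX : IsPGroup r X) (hXN : X ≤ N) (hXe : X ≤ Subgroup.centralizer ({e} : Set G)) :
    ∃ R : Sylow r ↥(Subgroup.centralizer ({e} : Set G)),
      X ≤ (R : Subgroup ↥(Subgroup.centralizer ({e} : Set G))).map
        (Subgroup.centralizer ({e} : Set G)).subtype ∧
      (R : Subgroup ↥(Subgroup.centralizer ({e} : Set G))).map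
        (Subgroup.centralizer ({e} : Set G)).subtype ≤ N := by
  obtain ⟨T, hT⟩ := h.sylow
  set C := Subgroup.centralizer ({e} : Set G) with hC
  obtain ⟨R', hR'⟩ := (hX.comap_subtype (K := N ⊓ C)).exists_le_sylow
  set M := (R' : Subgroup ↥(N ⊓ C)).map (N ⊓ C).subtype with hM
  have hMle : M ≤ N ⊓ C := Subgroup.map_subtype_le _
  have hMp : IsPGroup r M := R'.2.map _
  have hXM : X ≤ M := fun x hx => ⟨⟨x, hXN hx, hXe hx⟩, hR' hx, rfl⟩
  obtain ⟨P, hP⟩ := (hMp.comap_subtype (K := C)).exists_le_sylow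
  set Pm := (P : Subgroup C).map C.subtype with hPm
  have hcC : e ∈ C := mem_cent.2 rfl
  have hePm : e ∈ Pm := by
    haveI : (Subgroup.comap C.subtype (Subgroup.zpowers e)).Normal := Subgroup.normal_subgroupOf_of_le_normalizer
      (le_centralizer_zpowers.trans (Subgroup.centralizer_le_normalizer _))
    exact ⟨⟨e, hcC⟩, ((isPGroup_zpowers_of hek).comap_subtype (K := C)).le_sylow_of_normal P
      (Subgroup.mem_zpowers e), rfl⟩
  obtain ⟨T', hT'⟩ := (P.2.map C.subtype).exists_le_sylow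
  obtain ⟨g, hg⟩ := MulAction.exists_smul_eq G T' T
  have hgP : ∀ x ∈ Pm, g * x * g⁻¹ ∈ N := fun x hx => hT (hg ▸ ⟨x, hT' hx, rfl⟩)
  obtain ⟨n, hn, c, hc, rfl⟩ := h.sf _ (isPGroup_zpowers_of hek) (Subgroup.zpowers_le.2 he) g
    (fun x hx => hgP x (Subgroup.zpowers_le.2 hePm hx))
  have hce : c ∈ C := mem_cent.2 (Subgroup.mem_centralizer_iff.1 hc e (Subgroup.mem_zpowers e)).symm
  have hcP : Pm.map (MulAut.conj c).toMonoidHom ≤ N ⊓ C := by
    rintro _ ⟨x, hx, rfl⟩
    refine ⟨?_, C.mul_mem (C.mul_mem hce (Subgroup.map_subtype_le _ hx)) (C.inv_mem hce)⟩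
    have := N.mul_mem (N.mul_mem (N.inv_mem hn) (hgP x hx)) hn
    simpa [mul_assoc] using this
  have hcard : Nat.card Pm ≤ Nat.card M := by
    obtain ⟨P2, hP2⟩ := ((P.2.map C.subtype).map (MulAut.conj c).toMonoidHom).comap_subtype
      (K := N ⊓ C) |>.exists_le_sylow
    rw [hM, Subgroup.card_map_of_injective (N ⊓ C).subtype_injective,
      show Nat.card ↥(R' : Subgroup ↥(N ⊓ C)) = Nat.card ↥(P2 : Subgroup ↥(N ⊓ C)) by
        rw [Sylow.card_eq_multiplicity, Sylow.card_eq_multiplicity],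
      ← Subgroup.card_map_of_injective (K := Pm) (f := (MulAut.conj c).toMonoidHom) (MulAut.conj c).injective,
      ← Nat.card_congr (Subgroup.subgroupOfEquivOfLe hcP).toEquiv]
    exact Subgroup.card_le_of_le hP2
  have hMP : M ≤ Pm := fun x hx => ⟨⟨x, (hMle hx).2⟩, hP hx, rfl⟩
  refine ⟨P, hXM.trans hMP, ?_⟩
  show Pm ≤ N
  rw [← Subgroup.eq_of_le_of_card_ge hMP hcard]
  exact hMle.trans inf_le_left

include hG

/-- A 2-subgroup of `C(X)` has a `C(X)`-conjugate in `N`. -/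
theorem exists_conj_into {X W : Subgroup G} (hX : IsPGroup r X) (hXN : X ≤ N) (hW : IsPGroup 2 W)
    (hWne : W ≠ ⊥) (hWX : W ≤ Subgroup.centralizer (X : Set G)) :
    ∃ c ∈ Subgroup.centralizer (X : Set G), ∀ w ∈ W, c * w * c⁻¹ ∈ N := by
  haveI : Fact (Nat.Prime 2) := ⟨Nat.prime_two⟩
  obtain ⟨w, hwW, hwo, hwc⟩ := exists_central_involution hW hWne
  obtain ⟨t, htN, hto⟩ := h.exists_involution
  obtain ⟨g, hg⟩ := isConj_iff.1 (hG.isConj hwo hto)
  have hX' : X.map (MulAut.conj g).toMonoidHom ≤ Subgroup.centralizer ({t} : Set G) := by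
    rintro _ ⟨x, hx, rfl⟩
    refine mem_cent.2 ?_
    rw [← hg]
    exact conj_mem_cent (Subgroup.mem_centralizer_iff.1 (hWX hwW) x hx)
  have hUle : coreR r t ≤ Subgroup.centralizer ({t} : Set G) :=
    (Subgroup.map_subtype_le _).trans (coreC_le t)
  obtain ⟨d, hd, hdX⟩ := exists_conj_le_of_cover (q := r) (hX.map _) hX'
    (A := coreR r t) (E := N ⊓ Subgroup.centralizer ({t} : Set G))
    (primeCore_coprime (r := r) (coreC t)) hUle inf_le_right (fun y hy => by
      obtain ⟨a, ha, hae⟩ := h.cover2 t htN hto y (mem_cent.1 hy)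
      exact ⟨a, ha, Subgroup.mem_inf.2 ⟨hae, mul_mem (inv_mem (hUle ha)) hy⟩⟩)
  obtain ⟨n, hn, c, hc, hnc⟩ := h.sf X hX hXN (d * g) (fun x hx => by
    have := (hdX _ ⟨x, hx, rfl⟩).1
    simpa [mul_assoc] using this)
  set t' := c * w * c⁻¹ with ht'
  have hnt : n * t' * n⁻¹ = t := by
    calc n * t' * n⁻¹ = (n * c) * w * (n * c)⁻¹ := by rw [ht']; group
      _ = d * (g * w * g⁻¹) * d⁻¹ := by rw [← hnc]; group
      _ = t := by rw [hg, mem_cent.1 hd, mul_inv_cancel_right]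
  have ht'N : t' ∈ N := by
    have := N.mul_mem (N.mul_mem (N.inv_mem hn) htN) hn
    rw [← hnt] at this
    simpa [mul_assoc] using this
  have ht'o : orderOf t' = 2 := by rw [ht', Involutions.Basic.orderOf_conj_eq, hwo]
  have ht'X : t' ∈ Subgroup.centralizer (X : Set G) := mul_mem (mul_mem hc (hWX hwW)) (inv_mem hc)
  have hU' : coreR r t' ≤ Subgroup.centralizer ({t'} : Set G) :=
    (Subgroup.map_subtype_le _).trans (coreC_le t')
  have hXU : X ≤ Subgroup.normalizer (coreR r t' : Set G) := fun x hx =>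
    normalizer_le_normalizer_primeCore _ (centralizer_le_normalizer_coreC t' (mem_cent.2
      (Subgroup.mem_centralizer_iff.1 ht'X x hx)))
  set CX := Subgroup.centralizer (X : Set G) with hCX
  set Ct := Subgroup.centralizer ({t'} : Set G) with hCt
  obtain ⟨e, he, he'⟩ := exists_conj_le_of_cover (q := 2) (W := W.map (MulAut.conj c).toMonoidHom)
    (D := CX ⊓ Ct) (A := coreR r t' ⊓ CX) (E := N ⊓ (CX ⊓ Ct)) (hW.map _) (by
      rintro _ ⟨v, hv, rfl⟩
      exact Subgroup.mem_inf.2 ⟨mul_mem (mul_mem hc (hWX hv)) (inv_mem hc), mem_cent.2 (conj_mem_cent (hwc v hv))⟩)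
    (Nat.coprime_two_right.2 (Odd.of_dvd_nat (coreC_odd t') (Subgroup.card_dvd_of_le
      (inf_le_left.trans (Subgroup.map_subtype_le _)))))
    (le_inf inf_le_right (inf_le_left.trans hU')) inf_le_right (fun y hy => by
      obtain ⟨a, ha, hae⟩ := h.cover2 t' ht'N ht'o y (mem_cent.1 hy.2)
      obtain ⟨z, hzU, hzN, hz⟩ := exists_mul_mem_centralizer hX
        (primeCore_coprime (r := r) (coreC t')) hXU hXN ha (fun x hx => by
          have h1 := N.mul_mem (N.mul_mem hae (hXN hx)) (N.inv_mem hae)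
          have h2 := Subgroup.mem_centralizer_iff.1 hy.1 x hx
          have e : a⁻¹ * y * x * (a⁻¹ * y)⁻¹ = a⁻¹ * x * a := by
            calc a⁻¹ * y * x * (a⁻¹ * y)⁻¹ = a⁻¹ * (y * x) * y⁻¹ * a := by group
              _ = a⁻¹ * x * a := by rw [← h2]; group
          rwa [e] at h1)
      refine ⟨a * z, ⟨mul_mem ha hzU, hz⟩, Subgroup.mem_inf.2 ⟨?_, Subgroup.mem_inf.2 ⟨mul_mem (inv_mem hz) hy.1,
        mul_mem (inv_mem (hU' (mul_mem ha hzU))) hy.2⟩⟩⟩
      rw [mul_inv_rev, mul_assoc]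
      exact N.mul_mem (N.inv_mem hzN) hae)
  refine ⟨e * c, mul_mem he.1 hc, fun v hv => ?_⟩
  have := (he' _ ⟨v, hv, rfl⟩).1
  simpa [mul_assoc] using this

/-- F6. -/
theorem cover_good (hFO : PropFourOdd.{u}) {c : G} (hc0 : c ∈ N0) (hc1 : c ≠ 1) {k : ℕ}
    (hck : orderOf c = r ^ k) (hodd : r ≠ 2) (hgood : Good Q N0 c) :
    ∀ y ∈ Subgroup.centralizer ({c} : Set G), ∃ w ∈ theta r c, w⁻¹ * y ∈ N := by
  haveI : Fact (Nat.Prime 2) := ⟨Nat.prime_two⟩
  set C := Subgroup.centralizer ({c} : Set G) with hC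
  set O := coreOf C with hO
  have hOodd : Odd (Nat.card O) := coreOf_odd C
  have hCO : C ≤ Subgroup.normalizer (O : Set G) := le_normalizer_coreOf C
  have hOC : O ≤ C := coreOf_le C
  have hrodd : Odd r := hr.out.odd_of_ne_two hodd
  have hcC : c ∈ C := mem_cent.2 rfl
  have hCtop : C ≠ ⊤ := by
    intro e
    haveI := hG.simple
    have hmem : c ∈ Subgroup.center G := Subgroup.mem_center_iff.2 fun x =>
      mem_cent.1 (show x ∈ C by rw [e]; trivial)
    rcases Subgroup.Normal.eq_bot_or_eq_top (inferInstance : (Subgroup.center G).Normal) with h' | h'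
    · rw [h'] at hmem; exact hc1 (Subgroup.mem_bot.1 hmem)
    · exact hG.nonabelian ⟨⟨fun a b => (Subgroup.mem_center_iff.1
        (show a ∈ Subgroup.center G by rw [h']; trivial) b).symm⟩⟩
  have hcO : c ∈ O := by
    haveI : ((Subgroup.zpowers c).subgroupOf C).Normal := Subgroup.normal_subgroupOf_of_le_normalizer
      (le_centralizer_zpowers.trans (Subgroup.centralizer_le_normalizer _))
    have hz : Subgroup.zpowers c ≤ C := Subgroup.zpowers_le.2 hcC
    exact ⟨⟨c, hcC⟩, Cores.le_oddCore (by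
      rw [Nat.card_congr (Subgroup.subgroupOfEquivOfLe hz).toEquiv, Nat.card_zpowers, hck]
      exact hrodd.pow) (show (⟨c, hcC⟩ : C) ∈ (Subgroup.zpowers c).subgroupOf C from
        Subgroup.mem_zpowers c), rfl⟩
  -- `X₀ = C_Q(c)⟨c⟩`
  set QC := Q ⊓ C with hQC
  have hQCp : IsPGroup r QC := h.Q_pgroup.to_le inf_le_left
  have hzQ : Subgroup.zpowers c ≤ Subgroup.normalizer (QC : Set G) :=
    Subgroup.zpowers_le.2 (Subgroup.centralizer_le_normalizer _
      (Subgroup.mem_centralizer_iff.2 fun x hx => mem_cent.1 hx.2))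
  set X0 := Subgroup.zpowers c ⊔ QC with hX0
  have hX0p : IsPGroup r X0 := (isPGroup_zpowers_of hck).to_sup_of_normal_right' hQCp hzQ
  have hX0N0 : X0 ≤ N0 := sup_le (Subgroup.zpowers_le.2 hc0) (inf_le_left.trans h.Q_le)
  have hX0C : X0 ≤ C := sup_le (Subgroup.zpowers_le.2 hcC) inf_le_right
  obtain ⟨R, hXR, hRN⟩ := h.exists_sylow_cent (h.N0_le hc0) hck hX0p (hX0N0.trans h.N0_le) hX0C
  set Rm := (R : Subgroup C).map C.subtype with hRm
  obtain ⟨R1, hR1⟩ := exists_sylow_inf hOC hCO R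
  set R1m := (R1 : Subgroup O).map O.subtype with hR1m
  have hR1N : R1m ≤ N := by rw [hR1]; exact inf_le_left.trans hRN
  -- no involution of `C(c)` centralises `R₁`
  have key : ∀ u ∈ C, orderOf u = 2 → ¬ ∀ y ∈ R1m, u * y = y * u := by
    intro u huC huo huR
    by_cases hfus : ∃ V, FusedIn V C
    · obtain ⟨V, hV⟩ := hfus
      set E := C ⊓ Subgroup.centralizer (R1m : Set G) with hE
      set K := O ⊔ E with hK
      have hKC : K ≤ C := sup_le hOC inf_le_left
      have hKn : C ≤ Subgroup.normalizer (K : Set G) := by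
        intro z hz
        refine Subgroup.mem_normalizer_iff_map_conj_eq.2 (Subgroup.eq_of_le_of_card_ge ?_
          (Subgroup.card_map_of_injective (MulAut.conj z).injective).ge)
        rw [hK, Subgroup.map_sup]
        refine sup_le ?_ ?_
        · exact ((Subgroup.mem_normalizer_iff_map_conj_eq.1 (hCO hz)).le.trans le_sup_left)
        -- Frattini inside `O`
        obtain ⟨Pz, hPz⟩ : ∃ P : Sylow r O, (P : Subgroup O).map O.subtype =
            R1m.map (MulAut.conj z).toMonoidHom := by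
          have hle : R1m.map (MulAut.conj z).toMonoidHom ≤ O :=
            (Subgroup.map_mono (Subgroup.map_subtype_le _)).trans
              (Subgroup.mem_normalizer_iff_map_conj_eq.1 (hCO hz)).le
          refine ⟨Sylow.ofCard ((R1m.map (MulAut.conj z).toMonoidHom).subgroupOf O) ?_, ?_⟩
          · rw [Nat.card_congr (Subgroup.subgroupOfEquivOfLe hle).toEquiv,
              Subgroup.card_map_of_injective (MulAut.conj z).injective, hR1m,
              Subgroup.card_map_of_injective O.subtype_injective, Sylow.card_eq_multiplicity]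
          · rw [Sylow.coe_ofCard, Subgroup.subgroupOf_map_subtype, inf_eq_left.2 hle]
        obtain ⟨o, ho⟩ := MulAction.exists_smul_eq O R1 Pz
        rintro _ ⟨a, ha, rfl⟩
        show z * a * z⁻¹ ∈ O ⊔ E
        have hzo : ∀ y ∈ R1m, ∃ y' ∈ R1m, z * y' * z⁻¹ = (o : G) * y * (o : G)⁻¹ := by
          rintro _ ⟨y, hy, rfl⟩
          have h1 : o * y * o⁻¹ ∈ (Pz : Subgroup O) := by
            rw [← ho]
            exact Subgroup.smul_mem_pointwise_smul y (MulAut.conj o) (R1 : Subgroup O) hy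
          have h2 : ((o * y * o⁻¹ : O) : G) ∈ R1m.map (MulAut.conj z).toMonoidHom :=
            hPz ▸ ⟨_, h1, rfl⟩
          obtain ⟨y', hy', hyy⟩ := h2
          exact ⟨y', hy', hyy⟩
        have hb : (o : G)⁻¹ * (z * a * z⁻¹) * o ∈ E := by
          refine Subgroup.mem_inf.2 ⟨mul_mem (mul_mem (inv_mem (hOC o.2)) (mul_mem (mul_mem hz ha.1) (inv_mem hz))) (hOC o.2),
            Subgroup.mem_centralizer_iff.2 fun y hy => ?_⟩
          obtain ⟨y', hy', hyy⟩ := hzo y hy
          have h3 := Subgroup.mem_centralizer_iff.1 ha.2 y' hy'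
          calc y * ((o : G)⁻¹ * (z * a * z⁻¹) * o)
              = (o : G)⁻¹ * ((o : G) * y * (o : G)⁻¹) * (z * a * z⁻¹) * o := by group
            _ = (o : G)⁻¹ * (z * (y' * a) * z⁻¹) * o := by rw [← hyy]; group
            _ = (o : G)⁻¹ * (z * a * z⁻¹) * (z * y' * z⁻¹) * o := by rw [h3]; group
            _ = (o : G)⁻¹ * (z * a * z⁻¹) * o * y := by rw [hyy]; group
        have h4 := mul_mem (mul_mem (Subgroup.mem_sup_left (T := E) o.2) (Subgroup.mem_sup_right hb))
          (inv_mem (Subgroup.mem_sup_left (T := E) o.2))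
        simpa [mul_assoc] using h4
      have huE : u ∈ E := ⟨huC, Subgroup.mem_centralizer_iff.2 fun y hy => (huR y hy).symm⟩
      have hVK : V ≤ K := four_le_of_normal hG.cd hV hKC hKn (Subgroup.mem_sup_right huE) huo
      obtain ⟨d, hd, hdV⟩ := exists_conj_le_of_cover (q := 2) (A := O) (E := E) hV.1.isPGroup hVK
        (Nat.coprime_two_right.2 hOodd) le_sup_left le_sup_right (fun x hx => by
          obtain ⟨e, he, o, ho, hxo⟩ := Coprime.exists_mul_of_mem_sup (A := E) (K := O)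
            (inf_le_left.trans hCO) (by rwa [hK, sup_comm] at hx)
          refine ⟨e * o * e⁻¹, (Subgroup.mem_normalizer_iff.1 (hCO he.1) o).1 ho, ?_⟩
          rw [hxo, show (e * o * e⁻¹)⁻¹ * (e * o) = e by group]
          exact he)
      have hdC : d ∈ C := hKC hd
      set W := conjS d V with hW
      have hWf : FusedIn W C := FusedIn.conj hV hdC
      have hWE : W ≤ E := fun x hx => by
        have := hdV _ (mem_conjS.1 hx)
        simpa [mul_assoc] using this
      have hCz : C = Subgroup.centralizer (Subgroup.zpowers c : Set G) :=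
        le_antisymm le_centralizer_zpowers (fun x hx => mem_cent.2
          (Subgroup.mem_centralizer_iff.1 hx c (Subgroup.mem_zpowers c)).symm)
      obtain ⟨g1, hg1, hg1W⟩ := h.exists_conj_into hG (isPGroup_zpowers_of hck)
        (Subgroup.zpowers_le.2 (h.N0_le hc0)) hWf.1.isPGroup hWf.1.ne_bot (hWf.2.1.trans hCz.le)
      rw [← hCz] at hg1
      have hW1 : FusedIn (conjS g1 W) C := FusedIn.conj hWf hg1
      obtain ⟨g2, -, hg2, hg2W⟩ := h.exists_conj_into_N0 (isPGroup_zpowers_of hck)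
        (Subgroup.zpowers_le.2 hc0) hW1.1.isPGroup (fun x hx => by
          have := hg1W _ (mem_conjS.1 hx)
          simpa [mul_assoc] using this) (hW1.2.1.trans hCz.le)
      rw [← hCz] at hg2
      set g := g2 * g1 with hgdef
      have hgC : g ∈ C := mul_mem hg2 hg1
      set W' := conjS g W with hW'
      have hW'f : FusedIn W' C := FusedIn.conj hWf hgC
      have hW'0 : W' ≤ N0 := fun x hx => by
        rw [hW', hgdef, Fusion.Alperin.conjS_mul] at hx
        have := hg2W _ (mem_conjS.1 hx)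
        simpa [mul_assoc] using this
      obtain ⟨v, hv, hv1, hvk⟩ := hFO G hG C hCtop W' QC hW'f.1 hW'f.2.1 inf_le_right
        (by
          obtain ⟨j, hj⟩ := IsPGroup.iff_card.1 hQCp
          rw [hj]; exact hrodd.pow)
        (fun x hx => Subgroup.mem_normalizer_iff.2 fun q => by
          rw [hQC, Subgroup.mem_inf, Subgroup.mem_inf,
            ← Subgroup.mem_normalizer_iff.1 (h.Q_normal (hW'0 hx)) q,
            ← Subgroup.mem_normalizer_iff.1 (Subgroup.le_normalizer (H := C) (hW'f.2.1 hx)) q])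
      -- `W'` centralises the `r`-subgroup `C_Q(c) ∩ O`
      have hRg : ∀ y ∈ R1m, g * y * g⁻¹ ∈ Subgroup.centralizer (W' : Set G) := by
        intro y hy
        refine Subgroup.mem_centralizer_iff.2 fun x hx => ?_
        have h1 := Subgroup.mem_centralizer_iff.1 (hWE (mem_conjS.1 hx)).2 y hy
        calc x * (g * y * g⁻¹) = g * (g⁻¹ * x * g * y) * g⁻¹ := by group
          _ = g * (y * (g⁻¹ * x * g)) * g⁻¹ := by rw [h1]
          _ = g * y * g⁻¹ * x := by group
      have hgO : R1m.map (MulAut.conj g).toMonoidHom ≤ O :=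
        (Subgroup.map_mono (Subgroup.map_subtype_le _)).trans
          (Subgroup.mem_normalizer_iff_map_conj_eq.1 (hCO hgC)).le
      let R1' : Sylow r O := Sylow.ofCard ((R1m.map (MulAut.conj g).toMonoidHom).subgroupOf O) (by
        rw [Nat.card_congr (Subgroup.subgroupOfEquivOfLe hgO).toEquiv,
          Subgroup.card_map_of_injective (MulAut.conj g).injective, hR1m,
          Subgroup.card_map_of_injective O.subtype_injective, Sylow.card_eq_multiplicity])
      have hK' : QC ⊓ O ≤ Subgroup.centralizer (W' : Set G) :=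
        centralizes_invariant hOodd hW'f.1 (hW'f.2.1.trans hCO) R1'
          (by
            rw [Sylow.coe_ofCard, Subgroup.subgroupOf_map_subtype, inf_eq_left.2 hgO]
            rintro _ ⟨y, hy, rfl⟩
            exact hRg y hy)
          (hQCp.to_le inf_le_left) inf_le_right
          (fun x hx => Subgroup.mem_normalizer_iff.2 fun q => by
            rw [Subgroup.mem_inf, Subgroup.mem_inf, hQC, Subgroup.mem_inf, Subgroup.mem_inf,
              ← Subgroup.mem_normalizer_iff.1 (h.Q_normal (hW'0 hx)) q,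
              ← Subgroup.mem_normalizer_iff.1 (Subgroup.le_normalizer (H := C) (hW'f.2.1 hx)) q,
              ← Subgroup.mem_normalizer_iff.1 (hCO (hW'f.2.1 hx)) q])
      refine hgood v (hW'0 hv) (hW'f.1.orderOf_eq hv hv1) (mem_cent.1 (hW'f.2.1 hv))
        fun x hxQ hxc => ?_
      have hxQC : x ∈ QC := ⟨hxQ, mem_cent.2 hxc⟩
      have hvi : v⁻¹ = v := inv_eq_of_mul_eq_one_right (hW'f.1.2 v hv)
      set e := x * v * x⁻¹ * v⁻¹ with he
      have heQ : e ∈ QC ⊓ O := by
        refine ⟨?_, hvk x hxQC⟩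
        have hvQ : v * x⁻¹ * v⁻¹ ∈ QC :=
          ⟨(Subgroup.mem_normalizer_iff.1 (h.Q_normal (hW'0 hv)) _).1 (inv_mem hxQ),
            C.mul_mem (C.mul_mem (hW'f.2.1 hv) (C.inv_mem hxQC.2)) (C.inv_mem (hW'f.2.1 hv))⟩
        have := mul_mem hxQC hvQ
        simpa [he, mul_assoc] using this
      have hev := Subgroup.mem_centralizer_iff.1 (hK' heQ) v hv
      have he2 : e * e = 1 := by
        calc e * e = x * v * x⁻¹ * (v * e) := by rw [he, hvi]; group
          _ = x * v * x⁻¹ * (e * v) := by rw [hev]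
          _ = x * v * x⁻¹ * (x * v * x⁻¹ * v⁻¹ * v) := by rw [he]
          _ = x * (v * v) * x⁻¹ := by group
          _ = 1 := by rw [hW'f.1.2 v hv]; group
      have he1 : e = 1 := orderOf_eq_one_iff.1 (Nat.eq_one_of_dvd_coprimes
        (Nat.coprime_two_left.2 (orderOf_odd_of_mem hOodd heQ.2))
        (orderOf_dvd_of_pow_eq_one (by rw [sq]; exact he2)) dvd_rfl)
      rw [he, hvi] at he1
      calc v * x = x * v * x⁻¹ * v * (v * x) := by rw [he1, one_mul]
        _ = x * v * x⁻¹ * (v * v) * x := by group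
        _ = x * v := by rw [hW'f.1.2 v hv]; group
    · push Not at hfus
      have hRO : Rm ≤ O := by
        rintro _ ⟨x, hx, rfl⟩
        refine propUnfused G hG C hfus (x : G) x.2 ?_
        obtain ⟨j, hj⟩ := IsPGroup.iff_orderOf.1 R.2 ⟨x, hx⟩
        rw [Subgroup.orderOf_coe]
        rw [← Subgroup.orderOf_coe] at hj
        simp only at hj
        rw [hj]; exact hrodd.pow
      have hR1e : X0 ≤ R1m := by
        rw [hR1]
        exact le_inf hXR (hXR.trans hRO)
      obtain ⟨g1, hg1, hg1u⟩ := h.exists_conj_into hG hX0p (hX0N0.trans h.N0_le)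
        (isPGroup_zpowers_of (q := 2) (k := 1) (by rw [huo, pow_one]))
        (fun e => by rw [Subgroup.zpowers_eq_bot] at e; rw [e, orderOf_one] at huo; omega)
        (Subgroup.zpowers_le.2 (Subgroup.mem_centralizer_iff.2 fun y hy => (huR y (hR1e hy)).symm))
      have hu1X : g1 * u * g1⁻¹ ∈ Subgroup.centralizer (X0 : Set G) :=
        mul_mem (mul_mem hg1 (Subgroup.mem_centralizer_iff.2 fun y hy => (huR y (hR1e hy)).symm))
          (inv_mem hg1)
      obtain ⟨g2, -, hg2, hg2u⟩ := h.exists_conj_into_N0 hX0p hX0N0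
        (isPGroup_zpowers_of (q := 2) (k := 1) (x := g1 * u * g1⁻¹)
          (by rw [Involutions.Basic.orderOf_conj_eq, huo, pow_one]))
        (Subgroup.zpowers_le.2 (hg1u u (Subgroup.mem_zpowers u))) (Subgroup.zpowers_le.2 hu1X)
      have hv := mul_mem (mul_mem hg2 hu1X) (inv_mem hg2)
      refine hgood _ (hg2u _ (Subgroup.mem_zpowers _))
        (by rw [Involutions.Basic.orderOf_conj_eq, Involutions.Basic.orderOf_conj_eq, huo])
        (Subgroup.mem_centralizer_iff.1 hv c (Subgroup.mem_sup_left (Subgroup.mem_zpowers c))).symm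
        fun x hxQ hxc => ?_
      exact (Subgroup.mem_centralizer_iff.1 hv x
        (Subgroup.mem_sup_right ⟨hxQ, mem_cent.2 hxc⟩)).symm
  -- Frattini
  set R0 := R1m ⊓ fit r O with hR0
  have hcR0 : c ∈ R0 := by
    have hcR1 : c ∈ R1m := by
      rw [hR1]; exact ⟨hXR (Subgroup.mem_sup_left (Subgroup.mem_zpowers c)), hcO⟩
    exact ⟨hcR1, mem_fit_of_centralizes (Cfsg.Agent.S0205.result hOodd) R1 hcO fun y hy =>
      (mem_cent.1 (hOC (fit_le O hy.2))).symm⟩
  set D := C ⊓ Subgroup.centralizer (R0 : Set G) with hD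
  have hθn : C ≤ Subgroup.normalizer (theta r c : Set G) :=
    hCO.trans (normalizer_le_normalizer_primeCore O)
  have hθC : theta r c ≤ C := (Subgroup.map_subtype_le _).trans hOC
  have hDodd : Odd (Nat.card D) := by
    by_contra hne
    rw [Nat.not_odd_iff_even, even_iff_two_dvd] at hne
    obtain ⟨u, hu⟩ := exists_prime_orderOf_dvd_card' 2 hne
    rw [← Subgroup.orderOf_coe] at hu
    obtain ⟨P, hP⟩ := exists_sylow_centralized hOodd
      (by rw [← sq, ← hu, pow_orderOf_eq_one]) (hCO u.2.1) R1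
      (fun y hy => (Subgroup.mem_centralizer_iff.1 u.2.2 y hy).symm)
    obtain ⟨o, ho⟩ := MulAction.exists_smul_eq O P R1
    refine key ((o : G) * u * (o : G)⁻¹) (mul_mem (mul_mem (hOC o.2) u.2.1) (inv_mem (hOC o.2)))
      (by rw [Involutions.Basic.orderOf_conj_eq, hu]) ?_
    rintro _ ⟨y, hy, rfl⟩
    rw [← ho] at hy
    obtain ⟨z, hz, rfl⟩ := hy
    exact conj_mem_cent (hP z ⟨z, hz, rfl⟩)
  have hconj : ∀ z ∈ C, ∃ w ∈ theta r c, ∀ x ∈ R0, w⁻¹ * z * x * (w⁻¹ * z)⁻¹ ∈ R0 :=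
    fun z hz => exists_conj_fit R1 (hCO hz)
  have hDn : C ≤ Subgroup.normalizer ((theta r c ⊔ D : Subgroup G) : Set G) := by
    intro z hz
    refine Subgroup.mem_normalizer_iff_map_conj_eq.2 (Subgroup.eq_of_le_of_card_ge ?_
      (Subgroup.card_map_of_injective (MulAut.conj z).injective).ge)
    rw [Subgroup.map_sup]
    refine sup_le ((Subgroup.mem_normalizer_iff_map_conj_eq.1 (hθn hz)).le.trans le_sup_left) ?_
    obtain ⟨w, hw, hwz⟩ := hconj z hz
    rintro _ ⟨a, ha, rfl⟩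
    show z * a * z⁻¹ ∈ theta r c ⊔ D
    set z' := w⁻¹ * z with hz'
    have hz'C : z' ∈ C := mul_mem (inv_mem (hθC hw)) hz
    have hmap : R0.map (MulAut.conj z').toMonoidHom = R0 := Subgroup.eq_of_le_of_card_ge
      (by rintro _ ⟨x, hx, rfl⟩; exact hwz x hx)
      (Subgroup.card_map_of_injective (MulAut.conj z').injective).ge
    have hD' : z' * a * z'⁻¹ ∈ D := by
      refine Subgroup.mem_inf.2 ⟨mul_mem (mul_mem hz'C ha.1) (inv_mem hz'C),
        Subgroup.mem_centralizer_iff.2 fun x hx => ?_⟩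
      rw [← hmap] at hx
      obtain ⟨x', hx', rfl⟩ := hx
      exact conj_mem_cent (Subgroup.mem_centralizer_iff.1 ha.2 x' hx')
    have h4 := mul_mem (mul_mem (Subgroup.mem_sup_left (T := D) hw) (Subgroup.mem_sup_right hD'))
      (inv_mem (Subgroup.mem_sup_left (T := D) hw))
    simpa [hz', mul_assoc] using h4
  have hDO : D ≤ O := le_sup_right.trans (sup_le_primeCore 2 hθC inf_le_left hθn hDn
    (Nat.coprime_two_right.2 (Odd.of_dvd_nat hOodd (Subgroup.card_dvd_of_le (Subgroup.map_subtype_le _))))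
    (Nat.coprime_two_right.2 hDodd))
  intro y hy
  obtain ⟨w, hw, hwy⟩ := hconj y hy
  obtain ⟨n, hn, d, hd, hnd⟩ := h.sf R0 ((R1.2.map _).to_le inf_le_left)
    (inf_le_left.trans hR1N) (w⁻¹ * y) (fun x hx => hR1N (hwy x hx).1)
  have hdC : d ∈ C := mem_cent.2 (Subgroup.mem_centralizer_iff.1 hd c hcR0).symm
  have hnC : n ∈ C := by
    have := mul_mem (mul_mem (inv_mem (hθC hw)) hy) (inv_mem hdC)
    rw [hnd] at this
    simpa using this
  obtain ⟨a, ha, hab⟩ := exists_mem_fit R1 (mem_fit_of_centralizes (Cfsg.Agent.S0205.result hOodd) R1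
    (hDO ⟨hdC, hd⟩) fun x hx => (Subgroup.mem_centralizer_iff.1 hd x hx).symm)
  refine ⟨w * (n * a * n⁻¹), mul_mem hw ((Subgroup.mem_normalizer_iff.1 (hθn hnC) a).1 ha), ?_⟩
  rw [show (w * (n * a * n⁻¹))⁻¹ * y = n * a⁻¹ * n⁻¹ * (w⁻¹ * y) by group, hnd,
    show n * a⁻¹ * n⁻¹ * (n * d) = n * (a⁻¹ * d) by group]
  exact N.mul_mem hn (hR1N hab.1)

/-- `C_Y(c) ≤ θ(c)`. -/
theorem Y_le_theta {c : G}
    (hcov : ∀ y ∈ Subgroup.centralizer ({c} : Set G), ∃ w ∈ theta r c, w⁻¹ * y ∈ N) :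
    Y ⊓ Subgroup.centralizer ({c} : Set G) ≤ theta r c := by
  set C := Subgroup.centralizer ({c} : Set G) with hC
  have hθn : C ≤ Subgroup.normalizer (theta r c : Set G) :=
    (le_normalizer_coreOf C).trans (normalizer_le_normalizer_primeCore _)
  have hθC : theta r c ≤ C := (Subgroup.map_subtype_le _).trans (coreOf_le C)
  set A := theta r c ⊔ (Y ⊓ C) with hA
  have hAn : C ≤ Subgroup.normalizer (A : Set G) := by
    intro z hz
    refine Subgroup.mem_normalizer_iff_map_conj_eq.2 (Subgroup.eq_of_le_of_card_ge ?_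
      (Subgroup.card_map_of_injective (MulAut.conj z).injective).ge)
    rw [hA, Subgroup.map_sup]
    refine sup_le ((Subgroup.mem_normalizer_iff_map_conj_eq.1 (hθn hz)).le.trans le_sup_left) ?_
    obtain ⟨w, hw, hwz⟩ := hcov z hz
    rintro _ ⟨a, ha, rfl⟩
    show z * a * z⁻¹ ∈ theta r c ⊔ (Y ⊓ C)
    have hz' : w⁻¹ * z ∈ C := mul_mem (inv_mem (hθC hw)) hz
    have h2 : w⁻¹ * z * a * (w⁻¹ * z)⁻¹ ∈ Y ⊓ C :=
      ⟨(Subgroup.mem_normalizer_iff.1 (h.Y_normal hwz) a).1 ha.1,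
        C.mul_mem (C.mul_mem hz' ha.2) (C.inv_mem hz')⟩
    have h4 := mul_mem (mul_mem (Subgroup.mem_sup_left (T := Y ⊓ C) hw) (Subgroup.mem_sup_right h2))
      (inv_mem (Subgroup.mem_sup_left (T := Y ⊓ C) hw))
    simpa [mul_assoc] using h4
  have h2 : A ≤ coreOf C := sup_le_primeCore 2 hθC inf_le_right hθn hAn
    (Nat.coprime_two_right.2 (Odd.of_dvd_nat (coreOf_odd C)
      (Subgroup.card_dvd_of_le (Subgroup.map_subtype_le _))))
    (Nat.coprime_two_right.2 (Odd.of_dvd_nat h.Y_odd (Subgroup.card_dvd_of_le inf_le_left)))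
  exact le_sup_right.trans (sup_le_primeCore r (Subgroup.map_subtype_le _) (le_sup_right.trans h2)
    ((coreOf_le C).trans hθn) ((coreOf_le C).trans hAn) (primeCore_coprime _)
    (Nat.Coprime.of_dvd_left (Subgroup.card_dvd_of_le inf_le_left) h.Y_coprime))

end Setting

end Cfsg.Agent.Lib.GorensteinWalter.ConfSmall
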