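import Cfsg.Agent.Lib.GorensteinWalter.ConfGood
import Cfsg.Agent.Lib.Balance.Basic
import Cfsg.Agent.S0217

/-!
# Gorenstein–Walter, section F7: the signalizer functor `θ` on `Q`

Owner: helper2.
-/

set_option autoImplicit false
set_option linter.unusedSectionVars false
set_option linter.style.haveILetI false

namespace Cfsg.Agent.Lib.GorensteinWalter.ConfSmall

open Cfsg.Agent.Lib.Fusion.Dihedral

universe u

variable {G : Type u} [Group G] [Finite G]

/-! ## Small tools -/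

theorem map_primeCore (q : ℕ) (φ : G ≃* G) (O : Subgroup G) :
    (primeCore q O).map φ.toMonoidHom = primeCore q (O.map φ.toMonoidHom) := by
  show _ = (Cfsg.pPrimeCore q ↥(O.map φ.toMonoidHom)).map (O.map φ.toMonoidHom).subtype
  rw [← Cores.map_pPrimeCore_equiv (O.equivMapOfInjective φ.toMonoidHom φ.injective),
    Subgroup.map_map, Subgroup.map_map]
  rfl

theorem coreOf_map (φ : G ≃* G) (H : Subgroup G) :
    (coreOf H).map φ.toMonoidHom = coreOf (H.map φ.toMonoidHom) :=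
  map_primeCore 2 φ H

theorem coreR_conj (r : ℕ) (g t : G) :
    coreR r (g * t * g⁻¹) = (coreR r t).map (MulAut.conj g).toMonoidHom := by
  show primeCore r (coreC (g * t * g⁻¹)) = (primeCore r (coreC t)).map _
  rw [map_primeCore, show coreC (g * t * g⁻¹) = (coreC t).map (MulAut.conj g).toMonoidHom from
    Balance.centralizerPPrimeCore_conj g t]

theorem theta_conj (r : ℕ) (g c : G) :
    theta r (g * c * g⁻¹) = (theta r c).map (MulAut.conj g).toMonoidHom := by
  rw [map_primeCore, coreOf_map, Balance.map_centralizer_singleton]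
  rfl

theorem theta_le (r : ℕ) (c : G) : theta r c ≤ Subgroup.centralizer ({c} : Set G) :=
  (Subgroup.map_subtype_le _).trans (coreOf_le _)

theorem theta_odd (r : ℕ) (c : G) : Odd (Nat.card (theta r c)) :=
  Odd.of_dvd_nat (coreOf_odd _) (Subgroup.card_dvd_of_le (Subgroup.map_subtype_le _))

theorem centralizer_le_normalizer_theta (r : ℕ) [Fact r.Prime] (c : G) :
    Subgroup.centralizer ({c} : Set G) ≤ Subgroup.normalizer (theta r c : Set G) :=
  (le_normalizer_coreOf _).trans (normalizer_le_normalizer_primeCore _)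

theorem coprime_sup {q : ℕ} {A B : Subgroup G} (hn : B ≤ Subgroup.normalizer (A : Set G))
    (hA : (Nat.card A).Coprime q) (hB : (Nat.card B).Coprime q) :
    (Nat.card ↥(A ⊔ B)).Coprime q := by
  haveI : (A.subgroupOf (A ⊔ B)).Normal :=
    Subgroup.normal_subgroupOf_of_le_normalizer (sup_le Subgroup.le_normalizer hn)
  rw [← Nat.card_congr (Subgroup.subgroupOfEquivOfLe (le_refl (A ⊔ B))).toEquiv,
    Subgroup.subgroupOf_sup le_sup_left le_sup_right,
    sup_comm (A.subgroupOf (A ⊔ B)) (B.subgroupOf (A ⊔ B))]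
  refine Nat.Coprime.of_dvd_left (Cores.card_sup_dvd_mul _ _) ?_
  rw [Nat.card_congr (Subgroup.subgroupOfEquivOfLe (le_sup_left : A ≤ A ⊔ B)).toEquiv,
    Nat.card_congr (Subgroup.subgroupOfEquivOfLe (le_sup_right : B ≤ A ⊔ B)).toEquiv]
  exact hB.mul_left hA

variable {r : ℕ} [hr : Fact r.Prime]

theorem theta_coprime (c : G) : (Nat.card (theta r c)).Coprime r := primeCore_coprime _

theorem eq_one_of_mem_of_mem {P K : Subgroup G} (hP : IsPGroup r P) (hK : (Nat.card K).Coprime r)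
    {x : G} (hxP : x ∈ P) (hxK : x ∈ K) : x = 1 := by
  obtain ⟨k, hk⟩ := IsPGroup.iff_orderOf.1 hP ⟨x, hxP⟩
  rw [Subgroup.orderOf_mk] at hk
  exact orderOf_eq_one_iff.1 (Nat.eq_one_of_dvd_coprimes (hK.pow_right k)
    (Subgroup.orderOf_dvd_natCard _ hxK) (hk ▸ dvd_refl (orderOf x)))

theorem exists_orderOf_eq_pow {P : Subgroup G} (hP : IsPGroup r P) {x : G} (hx : x ∈ P) :
    ∃ k, orderOf x = r ^ k := by
  obtain ⟨k, hk⟩ := IsPGroup.iff_orderOf.1 hP ⟨x, hx⟩
  exact ⟨k, by rwa [Subgroup.orderOf_mk] at hk⟩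

/-- A noncyclic abelian `r`-group generates an `r'`-group it normalises by fixed subgroups. -/
theorem le_of_noncyclic {B K L : Subgroup G} (hBp : IsPGroup r B)
    (hBc : B ≤ Subgroup.centralizer (B : Set G)) (hB : ¬ IsCyclic B)
    (hn : B ≤ Subgroup.normalizer (K : Set G)) (hK : (Nat.card K).Coprime r)
    (h : ∀ b ∈ B, b ≠ 1 → K ⊓ Subgroup.centralizer ({b} : Set G) ≤ L) : K ≤ L := by
  haveI : IsMulCommutative B :=
    ⟨⟨fun a b => Subtype.ext (Subgroup.mem_centralizer_iff.1 (hBc b.2) a a.2)⟩⟩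
  have hcop : (Nat.card B).Coprime (Nat.card K) := by
    obtain ⟨k, hk⟩ := IsPGroup.iff_card.1 hBp
    rw [hk]
    exact hK.symm.pow_left k
  exact (Coprime.iSup_centralizer_eq hB hn hcop).ge.trans (iSup₂_le fun b hb => h b hb.1 hb.2)

/-- The completion of `θ` on `A`. -/
abbrev wsup (r : ℕ) (A : Subgroup G) : Subgroup G :=
  ⨆ a : {a : G // a ∈ A ∧ a ≠ 1}, theta r a.1

theorem theta_le_wsup {A : Subgroup G} {a : G} (ha : a ∈ A) (ha1 : a ≠ 1) :
    theta r a ≤ wsup r A :=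
  le_iSup (fun b : {b : G // b ∈ A ∧ b ≠ 1} => theta r b.1) ⟨a, ha, ha1⟩

namespace Setting

variable {N Y Q N0 : Subgroup G}
variable (hG : Hyp G) (h : Setting r N Y Q N0) (hFO : PropFourOdd.{u}) (hodd : r ≠ 2)
include hG h hFO hodd

omit hG hFO in
/-- Every element of `Q#` is good. -/
theorem good_of_mem_Q {c : G} (hc : c ∈ Q) : Good Q N0 c := by
  intro u hu huo huc hcent
  refine h.noInv u (h.N0_le hu) huo fun x hx => mem_cent.2 ?_
  exact (CharP.commute_of_axb (B := Subgroup.zpowers c) (h.Q_pgroup.to_le (Subgroup.zpowers_le.2 hc))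
    (x := u) (by rw [huo]; exact (Nat.coprime_primes Nat.prime_two hr.out).2 hodd.symm)
    (fun b hb => by
      obtain ⟨i, rfl⟩ := Subgroup.mem_zpowers_iff.1 hb
      exact (show Commute u c from huc).zpow_right i)
    h.Q_pgroup (Subgroup.zpowers_le.2 (h.Q_normal (h.Q_le hc))) (h.Q_normal hu)
    (fun v hv hvc => hcent v hv (hvc c (Subgroup.mem_zpowers c))) x hx).eq.symm

theorem cover_Q {c : G} (hc : c ∈ Q) (hc1 : c ≠ 1) :
    ∀ y ∈ Subgroup.centralizer ({c} : Set G), ∃ w ∈ theta r c, w⁻¹ * y ∈ N := by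
  obtain ⟨k, hk⟩ := exists_orderOf_eq_pow h.Q_pgroup hc
  exact h.cover_good hG hFO (h.Q_le hc) hc1 hk hodd (h.good_of_mem_Q hodd hc)

theorem Y_le_theta_Q {c : G} (hc : c ∈ Q) (hc1 : c ≠ 1) :
    Y ⊓ Subgroup.centralizer ({c} : Set G) ≤ theta r c :=
  h.Y_le_theta hG (h.cover_Q hG hFO hodd hc hc1)

/-- `C(c) = θ(c) C_{N₀}(c)` for `c ∈ Q#`. -/
theorem cover0 {c : G} (hc : c ∈ Q) (hc1 : c ≠ 1) {y : G}
    (hy : y ∈ Subgroup.centralizer ({c} : Set G)) :
    ∃ w ∈ theta r c, w⁻¹ * y ∈ N0 ∧ w⁻¹ * y ∈ Subgroup.centralizer ({c} : Set G) := by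
  obtain ⟨w, hw, hwy⟩ := h.cover_Q hG hFO hodd hc hc1 y hy
  have hwyC : w⁻¹ * y ∈ Subgroup.centralizer ({c} : Set G) :=
    mul_mem (inv_mem (theta_le r c hw)) hy
  obtain ⟨z, hzY, hzC, hz0, -⟩ := h.factor (h.Q_pgroup.to_le (Subgroup.zpowers_le.2 hc))
    (Subgroup.zpowers_le.2 (h.Q_le hc)) hwy (le_centralizer_zpowers hwyC)
  have hzc : z ∈ Subgroup.centralizer ({c} : Set G) :=
    mem_cent.2 (Subgroup.mem_centralizer_iff.1 hzC c (Subgroup.mem_zpowers c)).symm
  refine ⟨w * z, mul_mem hw (h.Y_le_theta_Q hG hFO hodd hc hc1 ⟨hzY, hzc⟩), ?_, ?_⟩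
  · rwa [mul_inv_rev, mul_assoc]
  · rw [mul_inv_rev, mul_assoc]
    exact mul_mem (inv_mem hzc) hwyC

/-- Balance. -/
theorem balance {A : Subgroup G} (hAQ : A ≤ Q) (hAc : A ≤ Subgroup.centralizer (A : Set G))
    {a b : G} (ha : a ∈ A) (hb : b ∈ A) (hb1 : b ≠ 1) :
    theta r a ⊓ Subgroup.centralizer ({b} : Set G) ≤ theta r b := by
  intro k hk
  have hka : k ∈ theta r a := (Subgroup.mem_inf.1 hk).1
  have hkb := (Subgroup.mem_inf.1 hk).2
  obtain ⟨w, hw, hm0, hmb⟩ := h.cover0 hG hFO hodd (hAQ hb) hb1 hkb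
  set m := w⁻¹ * k with hm
  set K := theta r b ⊔ (theta r a ⊓ Subgroup.centralizer ({b} : Set G)) with hK
  have hKc : (Nat.card K).Coprime r :=
    coprime_sup (inf_le_right.trans (centralizer_le_normalizer_theta r b)) (theta_coprime b)
      (Nat.Coprime.of_dvd_left (Subgroup.card_dvd_of_le inf_le_left) (theta_coprime a))
  have hmK : m ∈ K :=
    mul_mem (inv_mem (Subgroup.mem_sup_left hw)) (Subgroup.mem_sup_right hk)
  have hmo : (orderOf m).Coprime r :=
    Nat.Coprime.of_dvd_left (Subgroup.orderOf_dvd_natCard _ hmK) hKc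
  have hmq : ∀ q ∈ Q, (∀ x ∈ A, Commute q x) → Commute m q := by
    intro q hq hqA
    have hqa : q ∈ Subgroup.centralizer ({a} : Set G) := mem_cent.2 (hqA a ha).eq
    have hqb : q ∈ Subgroup.centralizer ({b} : Set G) := mem_cent.2 (hqA b hb).eq
    have hqK : q ∈ Subgroup.normalizer (K : Set G) := by
      refine mem_normalizer_of_map_conj_eq ?_
      rw [hK, Subgroup.map_sup, Subgroup.map_inf _ _ _ (MulAut.conj q).injective,
        map_conj_eq_of_mem_normalizer (centralizer_le_normalizer_theta r b hqb),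
        map_conj_eq_of_mem_normalizer (centralizer_le_normalizer_theta r a hqa),
        map_conj_eq_of_mem_normalizer (Subgroup.le_normalizer hqb)]
    have h1 : m * q * m⁻¹ * q⁻¹ ∈ Q :=
      mul_mem ((Subgroup.mem_normalizer_iff.1 (h.Q_normal hm0) q).1 hq) (inv_mem hq)
    have h2 : m * q * m⁻¹ * q⁻¹ ∈ K := by
      rw [show m * q * m⁻¹ * q⁻¹ = m * (q * m⁻¹ * q⁻¹) by group]
      exact mul_mem hmK ((Subgroup.mem_normalizer_iff.1 hqK _).1 (inv_mem hmK))
    have h3 := eq_one_of_mem_of_mem h.Q_pgroup hKc h1 h2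
    show m * q = q * m
    calc m * q = m * q * m⁻¹ * q⁻¹ * (q * m) := by group
      _ = q * m := by rw [h3, one_mul]
  have hcm : ∀ x ∈ A, ∀ y ∈ A, Commute x y := fun x hx y hy =>
    (Subgroup.mem_centralizer_iff.1 (hAc hy) x hx : x * y = y * x)
  have hmQ : ∀ q ∈ Q, Commute m q :=
    CharP.commute_of_axb (h.Q_pgroup.to_le hAQ) hmo
      (fun x hx => hmq x (hAQ hx) (hcm x hx)) h.Q_pgroup (hAQ.trans Subgroup.le_normalizer)
      (h.Q_normal hm0) (fun q hq hqA => hmq q hq hqA)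
  have hmY : m ∈ Y := h.constrained m hm0
    (Subgroup.mem_centralizer_iff.2 fun q hq => ((hmQ q hq).eq).symm) hmo
  have hmθ := h.Y_le_theta_Q hG hFO hodd (hAQ hb) hb1 (Subgroup.mem_inf.2 ⟨hmY, hmb⟩)
  have := mul_mem hw hmθ
  rwa [hm, mul_inv_cancel_left] at this

/-- The signalizer functor theorem on an elementary abelian subgroup of rank at least three. -/
theorem wsup_spec {A : Subgroup G} (hAQ : A ≤ Q) (hAc : A ≤ Subgroup.centralizer (A : Set G))
    (hAe : ∀ a ∈ A, a ^ r = 1) (hA3 : r ^ 3 ≤ Nat.card A) :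
    (Nat.card (wsup r A)).Coprime r ∧
      ∀ a ∈ A, a ≠ 1 → wsup r A ⊓ Subgroup.centralizer ({a} : Set G) = theta r a := by
  obtain ⟨h1, h2⟩ := Cfsg.Agent.S0217.result (p := r) A
    (fun a ha b hb => Subgroup.mem_centralizer_iff.1 (hAc hb) a ha) hAe hA3 (theta r)
    (fun a _ _ => theta_le r a)
    (fun a _ _ => hr.out.coprime_iff_not_dvd.1 (theta_coprime a).symm)
    (fun a ha _ b hb x hx => (Subgroup.mem_normalizer_iff.1 (centralizer_le_normalizer_theta r a
      (mem_cent.2 (Subgroup.mem_centralizer_iff.1 (hAc ha) b hb))) x).1 hx)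
    (fun a _ _ => Cfsg.Agent.S0205.result (theta_odd r a))
    (fun a ha _ b hb hb1 => h.balance hG hFO hodd hAQ hAc ha hb hb1)
  exact ⟨(hr.out.coprime_iff_not_dvd.2 h1).symm, h2⟩

/-- The completion is generated on any noncyclic subgroup. -/
theorem wsup_eq {E B : Subgroup G} (hEQ : E ≤ Q) (hEc : E ≤ Subgroup.centralizer (E : Set G))
    (hBE : B ≤ E) (hB : ¬ IsCyclic B) : wsup r E = wsup r B := by
  refine le_antisymm (iSup_le fun a => ?_) (iSup_le fun b => theta_le_wsup (hBE b.2.1) b.2.2)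
  refine le_of_noncyclic (h.Q_pgroup.to_le (hBE.trans hEQ))
    (hBE.trans (hEc.trans (Subgroup.centralizer_le (fun x hx => hBE hx)))) hB
    (fun x hx => centralizer_le_normalizer_theta r a.1
      (mem_cent.2 (Subgroup.mem_centralizer_iff.1 (hEc a.2.1) x (hBE hx))))
    (theta_coprime _) fun b hb hb1 => ?_
  exact (h.balance hG hFO hodd hEQ hEc a.2.1 (hBE hb) hb1).trans (theta_le_wsup hb hb1)

end Setting

end Cfsg.Agent.Lib.GorensteinWalter.ConfSmall
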