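import Cfsg.Agent.Lib.GorensteinWalter.ConfCore
import Cfsg.Agent.Lib.GorensteinWalter.ConfSetup
import Cfsg.Agent.Lib.GorensteinWalter.StronglyEmbedded
import Cfsg.Agent.Lib.PGroups.UniqueInvolution
import Cfsg.Agent.Lib.OddOrder.Cyclic

/-!
# Gorenstein–Walter, sections F6–F8: a configuration leaves strong embedding or a small prime

Owner: helper2.
-/

set_option autoImplicit false
set_option linter.unusedSectionVars false
set_option linter.style.haveILetI false

namespace Cfsg.Agent.Lib.GorensteinWalter.ConfSmall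

open Cfsg.Agent.Lib.Fusion.Dihedral
open Cfsg.Agent.Lib.Fusion.Alperin (conjS mem_conjS)

universe u

variable {G : Type u} [Group G] [Finite G] {r : ℕ} [hr : Fact r.Prime]

/-- An abelian subgroup of order at least `r²`. -/
theorem exists_abelian_sq {K : Subgroup G} (hK : IsPGroup r K) (h2 : r ^ 2 ≤ Nat.card K) :
    ∃ B, B ≤ K ∧ B ≤ Subgroup.centralizer (B : Set G) ∧ r ^ 2 ≤ Nat.card B := by
  have hne : K ≠ ⊥ := fun e => by
    rw [e, Subgroup.card_bot] at h2
    exact absurd h2 (not_le.2 (Nat.one_lt_pow (by norm_num) hr.out.one_lt))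
  by_cases hz : r ^ 2 ≤ Nat.card (zen K)
  · exact ⟨zen K, inf_le_left, zen_abelian K, hz⟩
  obtain ⟨x, hx, hxz⟩ : ∃ x ∈ K, x ∉ zen K := by
    by_contra! hall
    exact hz (h2.trans (Subgroup.card_le_of_le hall))
  refine ⟨zen K ⊔ Subgroup.zpowers x, sup_le inf_le_left (Subgroup.zpowers_le.2 hx),
    sup_abelian (zen_abelian K) (zpowers_abelian x)
      (fun z hz => le_centralizer_zpowers (mem_cent.2 (zen_comm hx hz))), ?_⟩
  refine le_trans ?_ (mul_card_le_sup hK inf_le_left hx hxz)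
  obtain ⟨k, hk⟩ := IsPGroup.iff_card.1 (hK.to_le (inf_le_left : zen K ≤ K))
  rw [hk, sq]
  refine Nat.mul_le_mul_left _ (Nat.le_self_pow (fun e => zen_ne_bot hK hne ?_) r)
  exact Subgroup.eq_bot_of_card_eq _ (by rw [hk, e, pow_zero])

variable {N Y Q N0 C M : Subgroup G}

namespace Setting

variable (hG : Hyp G) (h : Setting r N Y Q N0)
include h

/-- `N ∩ C(t)` moves modulo `Y` into `N₀ ∩ C(t)`. -/
theorem exists_conj_cent {t : G} (ht : t ∈ N0) (hto : orderOf t = 2) {K : Subgroup G}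
    (hK : IsPGroup r K) (hKN : ∀ x ∈ K, x ∈ N ∧ x * t = t * x) :
    ∃ d, d * t = t * d ∧ ∀ x ∈ K, d * x * d⁻¹ ∈ N0 ∧ (d * x * d⁻¹) * t = t * (d * x * d⁻¹) := by
  haveI : Fact (Nat.Prime 2) := ⟨Nat.prime_two⟩
  set Ct := Subgroup.centralizer ({t} : Set G) with hCt
  have hX : IsPGroup 2 (Subgroup.zpowers t) :=
    IsPGroup.of_card (n := 1) (by rw [Nat.card_zpowers, hto, pow_one])
  obtain ⟨d, hd, hd'⟩ := exists_conj_le_of_cover (q := r) (W := K) (D := N ⊓ Ct) (A := Y ⊓ Ct)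
    (E := N0 ⊓ Ct) hK (fun x hx => Subgroup.mem_inf.2 ⟨(hKN x hx).1, mem_cent.2 (hKN x hx).2⟩)
    (Nat.Coprime.of_dvd_left (Subgroup.card_dvd_of_le inf_le_left) h.Y_coprime)
    (inf_le_inf_right _ h.Y_le) (inf_le_inf_right _ h.N0_le) (fun n hn => by
      obtain ⟨hnN, hnt⟩ := Subgroup.mem_inf.1 hn
      obtain ⟨y, hy, hyn⟩ := h.cover n hnN
      obtain ⟨z, hzY, hz0, hz⟩ := exists_mul_mem_centralizer (r := 2) hX
        (Nat.coprime_two_right.2 h.Y_odd)
        ((Subgroup.zpowers_le.2 (h.N0_le ht)).trans h.Y_normal) (Subgroup.zpowers_le.2 ht) hy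
        (fun x hx => by
          have h1 := N0.mul_mem (N0.mul_mem hyn (Subgroup.zpowers_le.2 ht hx)) (N0.inv_mem hyn)
          have h2 := Subgroup.mem_centralizer_iff.1 (le_centralizer_zpowers hnt) x hx
          have e : y⁻¹ * n * x * (y⁻¹ * n)⁻¹ = y⁻¹ * x * y := by
            calc y⁻¹ * n * x * (y⁻¹ * n)⁻¹ = y⁻¹ * (n * x) * n⁻¹ * y := by group
              _ = _ := by rw [← h2]; group
          rwa [e] at h1)
      have hzt : y * z ∈ Ct := mem_cent.2
        (Subgroup.mem_centralizer_iff.1 hz t (Subgroup.mem_zpowers t)).symm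
      refine ⟨y * z, Subgroup.mem_inf.2 ⟨mul_mem hy hzY, hzt⟩, Subgroup.mem_inf.2
        ⟨?_, mul_mem (inv_mem hzt) hnt⟩⟩
      rw [mul_inv_rev, mul_assoc]
      exact mul_mem (inv_mem hz0) hyn)
  exact ⟨d, mem_cent.1 (Subgroup.mem_inf.1 hd).2, fun x hx =>
    ⟨(Subgroup.mem_inf.1 (hd' x hx)).1, mem_cent.1 (Subgroup.mem_inf.1 (hd' x hx)).2⟩⟩

/-- An `r`-subgroup of `C(t)` moves into `N₀ ∩ C(t)`. -/
theorem exists_conj_cent0 {t : G} (ht : t ∈ N0) (hto : orderOf t = 2) {K : Subgroup G}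
    (hK : IsPGroup r K) (hKt : ∀ x ∈ K, x * t = t * x) :
    ∃ d, d * t = t * d ∧ ∀ x ∈ K, d * x * d⁻¹ ∈ N0 ∧ (d * x * d⁻¹) * t = t * (d * x * d⁻¹) := by
  set Ct := Subgroup.centralizer ({t} : Set G) with hCt
  obtain ⟨d, hd, hd'⟩ := exists_conj_le_of_cover (q := r) (W := K) (D := Ct) (A := coreR r t)
    (E := N ⊓ Ct) hK (fun x hx => mem_cent.2 (hKt x hx)) (primeCore_coprime (r := r) (coreC t))
    ((Subgroup.map_subtype_le _).trans (coreC_le t)) inf_le_right (fun y hy => by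
      obtain ⟨a, ha, hae⟩ := h.cover2 t (h.N0_le ht) hto y (mem_cent.1 hy)
      exact ⟨a, ha, Subgroup.mem_inf.2
        ⟨hae, mul_mem (inv_mem (coreC_le t (Subgroup.map_subtype_le _ ha))) hy⟩⟩)
  obtain ⟨d', hd2, hd3⟩ := h.exists_conj_cent ht hto (hK.map (MulAut.conj d).toMonoidHom) (by
    rintro _ ⟨x, hx, rfl⟩
    obtain ⟨h1, h2⟩ := Subgroup.mem_inf.1 (hd' x hx)
    exact ⟨h1, mem_cent.1 h2⟩)
  refine ⟨d' * d, mem_cent.1 (mul_mem (mem_cent.2 hd2) hd : d' * d ∈ Ct), fun x hx => ?_⟩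
  have h1 := hd3 _ ⟨x, hx, rfl⟩
  simp only [MulEquiv.coe_toMonoidHom, MulAut.conj_apply] at h1
  rw [show d' * d * x * (d' * d)⁻¹ = d' * (d * x * d⁻¹) * d'⁻¹ by group]
  exact h1

include hG

theorem exists_sylow_two : ∃ S : Sylow 2 G, (S : Subgroup G) ≤ N := by
  haveI : Fact (Nat.Prime 2) := ⟨Nat.prime_two⟩
  obtain ⟨S⟩ : Nonempty (Sylow 2 G) := inferInstance
  obtain ⟨t, -, hto⟩ := h.exists_involution
  obtain ⟨c, -, hc⟩ := h.exists_conj_into hG (IsPGroup.of_bot : IsPGroup r (⊥ : Subgroup G)) bot_le S.2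
    (S.ne_bot_of_dvd_card (hto ▸ orderOf_dvd_natCard t))
    (fun x _ => Subgroup.mem_centralizer_iff.2 fun y hy => by
      rw [Subgroup.mem_bot.1 hy, one_mul, mul_one])
  refine ⟨c • S, ?_⟩
  rintro _ ⟨x, hx, rfl⟩
  exact hc x hx

/-- Strong embedding. -/
theorem known_of_cent_le (hP : BenderConsumers23.PropPartOne.{u}) (hMain : BenderSuzuki.PropMain.{u, u})
    (hM : M ≠ ⊤) (hNM : N ≤ M) {t : G} (htN : t ∈ N) (hto : orderOf t = 2)
    (htM : Subgroup.centralizer ({t} : Set G) ≤ M) : IsKnownD G := by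
  haveI : Fact (Nat.Prime 2) := ⟨Nat.prime_two⟩
  obtain ⟨S, hS⟩ := h.exists_sylow_two hG
  have hconj : ∀ s ∈ M, orderOf s = 2 → ∃ m ∈ M, m * t * m⁻¹ = s := by
    intro s hs hso
    obtain ⟨P, hP'⟩ := ((IsPGroup.of_card (n := 1) (by rw [Nat.card_zpowers, hso, pow_one]) :
      IsPGroup 2 (Subgroup.zpowers s)).comap_subtype (K := M)).exists_le_sylow
    obtain ⟨k, hk⟩ := MulAction.exists_smul_eq M P (S.subtype (hS.trans hNM))
    have h1 : k * ⟨s, hs⟩ * k⁻¹ ∈ ((S.subtype (hS.trans hNM) : Sylow 2 M) : Subgroup M) := by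
      rw [← hk]
      exact Subgroup.smul_mem_pointwise_smul _ (MulAut.conj k) (P : Subgroup M)
        (hP' (Subgroup.mem_zpowers s))
    have h2 : (k : G) * s * (k : G)⁻¹ ∈ N := hS h1
    obtain ⟨n, hn, hnt⟩ := h.oneClass t htN hto _ h2 (by rw [Involutions.Basic.orderOf_conj_eq, hso])
    refine ⟨(k : G)⁻¹ * n, mul_mem (inv_mem k.2) (hNM hn), ?_⟩
    calc (k : G)⁻¹ * n * t * ((k : G)⁻¹ * n)⁻¹ = (k : G)⁻¹ * (n * t * n⁻¹) * k := by group
      _ = s := by rw [hnt]; group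
  refine known_of_stronglyEmbedded hP hMain hG ((Involutions.StronglyEmbedded.isStronglyEmbedded_iff_fusion
    hM ?_).2 ⟨fun s hs hso => ?_, fun s hs u hu hso huo _ => ?_⟩)
  · rw [even_iff_two_dvd, ← hto]
    exact Subgroup.orderOf_dvd_natCard _ (hNM htN)
  · obtain ⟨m, hm, rfl⟩ := hconj s hs hso
    intro x hx
    have h1 : m⁻¹ * x * m ∈ M := htM (mem_cent.2 (by
      calc m⁻¹ * x * m * t = m⁻¹ * (x * (m * t * m⁻¹)) * m := by group
        _ = t * (m⁻¹ * x * m) := by rw [mem_cent.1 hx]; group))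
    have := mul_mem (mul_mem hm h1) (inv_mem hm)
    simpa [mul_assoc] using this
  · obtain ⟨m, hm, rfl⟩ := hconj s hs hso
    obtain ⟨m', hm', rfl⟩ := hconj u hu huo
    exact ⟨m' * m⁻¹, mul_mem hm' (inv_mem hm), by group⟩

variable (hFO : PropFourOdd.{u}) (hodd : r ≠ 2)
include hFO hodd

/-- F8. -/
theorem smallPrime (hC : Ambient r Q N0 C) (hNM : N ≤ M)
    (hCM : ∀ x ∈ C, x ≠ 1 → Subgroup.centralizer ({x} : Set G) ≤ M)
    (hnot : ∀ t ∈ N, orderOf t = 2 → ¬ Subgroup.centralizer ({t} : Set G) ≤ M) :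
    SmallPrime r G := by
  haveI : Fact (Nat.Prime 2) := ⟨Nat.prime_two⟩
  obtain ⟨V, hV⟩ := h.fused
  have hcentM : ∀ t ∈ N, orderOf t = 2 → ∀ B : Subgroup G, IsPGroup r B →
      B ≤ Subgroup.centralizer (B : Set G) → ¬ IsCyclic B → (∀ b ∈ B, b * t = t * b) →
      (∀ b ∈ B, b ≠ 1 → Subgroup.centralizer ({b} : Set G) ≤ M) → False := by
    intro t ht hto B hBp hBc hB hBt hBM
    refine hnot t ht hto fun y hy => ?_
    obtain ⟨w, hw, hwy⟩ := h.cover2 t ht hto y (mem_cent.1 hy)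
    have hU : coreR r t ≤ M := le_of_noncyclic hBp hBc hB
      (fun b hb => normalizer_le_normalizer_primeCore _
        (centralizer_le_normalizer_coreC t (mem_cent.2 (hBt b hb))))
      (primeCore_coprime (r := r) (coreC t)) fun b hb hb1 => inf_le_right.trans (hBM b hb hb1)
    simpa using mul_mem (hU hw) (hNM hwy)
  -- involutions of `N₀` fix at most `r` elements of `C`
  have hfix : ∀ u ∈ N0, orderOf u = 2 →
      Nat.card ↥(C ⊓ Subgroup.centralizer ({u} : Set G)) ≤ r := by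
    intro u hu huo
    by_contra hgt
    obtain ⟨k, hk⟩ := IsPGroup.iff_card.1 (hC.pgroup.to_le
      (inf_le_left : C ⊓ Subgroup.centralizer ({u} : Set G) ≤ C))
    have h2 : r ^ 2 ≤ Nat.card ↥(C ⊓ Subgroup.centralizer ({u} : Set G)) := by
      rw [hk] at hgt ⊢
      refine Nat.pow_le_pow_right hr.out.pos ?_
      by_contra hk2
      exact hgt ((Nat.pow_le_pow_right hr.out.pos (by omega : k ≤ 1)).trans (pow_one r).le)
    obtain ⟨B, hB, hBc, hB2⟩ := exists_abelian_sq (hC.pgroup.to_le inf_le_left) h2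
    exact hcentM u (h.N0_le hu) huo B (hC.pgroup.to_le (hB.trans inf_le_left)) hBc
      (not_isCyclic_of_exponent (fun x hx => hC.exp x (Subgroup.mem_inf.1 (hB hx)).1) hB2)
      (fun b hb => mem_cent.1 (Subgroup.mem_inf.1 (hB hb)).2)
      (fun b hb => hCM b (Subgroup.mem_inf.1 (hB hb)).1)
  have hfix1 : ∀ u ∈ N0, orderOf u = 2 → ∀ x ∈ C, x ≠ 1 → x * u = u * x →
      C ⊓ Subgroup.centralizer ({u} : Set G) = Subgroup.zpowers x := by
    intro u hu huo x hx hx1 hxu
    refine (Subgroup.eq_of_le_of_card_ge (Subgroup.zpowers_le.2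
      (Subgroup.mem_inf.2 ⟨hx, mem_cent.2 hxu⟩)) ?_).symm
    rw [Nat.card_zpowers, orderOf_eq_prime (hC.exp x hx) hx1]
    exact hfix u hu huo
  obtain ⟨t, ht, ht1⟩ := V.bot_or_exists_ne_one.resolve_left hV.1.ne_bot
  have hto := hV.1.orderOf_eq ht ht1
  have ht0 : t ∈ N0 := hV.2.1 ht
  -- `C` is abelian
  have hCab : C ≤ Subgroup.centralizer (C : Set G) := by
    have hzodd := odd_card_of_pgroup hodd (hC.pgroup.to_le (inf_le_left : zen C ≤ C))
    have hCne : C ≠ ⊥ := fun e => hC.noInv t ht0 hto (e.le.trans bot_le)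
    have hVZ : V ≤ Subgroup.normalizer (zen C : Set G) := fun v hv =>
      normalizer_le_normalizer_zen (hC.normal (hV.2.1 hv))
    obtain ⟨v, hv, hv1, z, hz, hz1⟩ : ∃ v ∈ V, v ≠ 1 ∧
        ∃ z ∈ zen C ⊓ Subgroup.centralizer ({v} : Set G), z ≠ 1 := by
      by_contra! hall
      exact zen_ne_bot hC.pgroup hCne (eq_bot_iff.2 (le_of_four hV.1 hzodd hVZ fun v hv hv1 z hz =>
        Subgroup.mem_bot.2 (hall v hv hv1 z hz)))
    obtain ⟨hzZ, hzv⟩ := Subgroup.mem_inf.1 hz
    have hle : C ⊓ Subgroup.centralizer ({v} : Set G) ≤ zen C := by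
      rw [hfix1 v (hV.2.1 hv) (hV.1.orderOf_eq hv hv1) z (Subgroup.mem_inf.1 hzZ).1 hz1 (mem_cent.1 hzv)]
      exact Subgroup.zpowers_le.2 hzZ
    refine le_trans (le_of_four hV.1 (odd_card_of_pgroup hodd hC.pgroup) (hV.2.1.trans hC.normal)
      (L := zen C) fun w hw hw1 x hx => ?_) inf_le_right
    obtain ⟨n, hn, -, rfl⟩ := hV.2.2 v hv hv1 w hw hw1
    obtain ⟨hxC, hxw⟩ := Subgroup.mem_inf.1 hx
    have h1 : n⁻¹ * x * n ∈ zen C := hle (Subgroup.mem_inf.2
      ⟨(Subgroup.mem_normalizer_iff''.1 (hC.normal hn) x).1 hxC, mem_cent.2 (by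
        calc n⁻¹ * x * n * v = n⁻¹ * (x * (n * v * n⁻¹)) * n := by group
          _ = v * (n⁻¹ * x * n) := by rw [mem_cent.1 hxw]; group)⟩)
    have := conj_mem_of_mem_normalizer (normalizer_le_normalizer_zen (hC.normal hn)) h1
    simpa [mul_assoc] using this
  -- `C_C(t) = ⟨e₀⟩`
  obtain ⟨e0, he0, he01, he0t', he0w⟩ := hC.exists_comp hodd hV ht ht1
  have he0t : e0 * t = t * e0 := by
    calc e0 * t = t * e0 * t⁻¹ * t := by rw [he0t']
      _ = t * e0 := by group
  have he0o : orderOf e0 = r := orderOf_eq_prime (hC.exp e0 he0) he01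
  have hCt := hfix1 t ht0 hto e0 he0 he01 he0t
  obtain ⟨w, hw, hw1, hwt⟩ : ∃ w ∈ V, w ≠ 1 ∧ w ≠ t := by
    by_contra hno
    push Not at hno
    have : V ≤ Subgroup.zpowers t := fun x hx => by
      by_cases hx1 : x = 1
      · exact hx1 ▸ one_mem _
      · exact hno x hx hx1 ▸ Subgroup.mem_zpowers t
    exact not_isCyclic_of_four hV.1 (Subgroup.isCyclic_of_le this)
  obtain ⟨a, ha, ha1, -, hat⟩ := hC.exists_comp hodd hV hw hw1
  have hat' : t * a * t⁻¹ = a⁻¹ := hat t ht ht1 hwt.symm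
  -- F6 at `f`
  have hf : ∀ f ∈ N0, f ≠ 1 → (∃ k, orderOf f = r ^ k) → f * t = t * f → f * e0 = e0 * f →
      Subgroup.centralizer ({f} : Set G) ≤ M := by
    rintro f hf hf1 ⟨k, hk⟩ hft hfe
    let I : Subgroup G :=
      { carrier := {x | x ∈ C ∧ t * x * t⁻¹ = x⁻¹}
        one_mem' := ⟨one_mem _, by group⟩
        mul_mem' := fun {x y} hx hy => ⟨mul_mem hx.1 hy.1, by
          calc t * (x * y) * t⁻¹ = (t * x * t⁻¹) * (t * y * t⁻¹) := by group
            _ = (y * x)⁻¹ := by rw [hx.2, hy.2, mul_inv_rev]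
            _ = _ := by rw [Subgroup.mem_centralizer_iff.1 (hCab hx.1) y hy.1]⟩
        inv_mem' := fun {x} hx => ⟨inv_mem hx.1, by
          calc t * x⁻¹ * t⁻¹ = (t * x * t⁻¹)⁻¹ := by group
            _ = _ := by rw [hx.2]⟩ }
    have hIne : I ≠ ⊥ := fun e => ha1 (Subgroup.mem_bot.1 (e ▸ (⟨ha, hat'⟩ : a ∈ I)))
    have hfI : Subgroup.zpowers f ≤ Subgroup.normalizer (I : Set G) := Subgroup.zpowers_le.2
      (Subgroup.mem_normalizer_fintype fun x hx => ⟨conj_mem_of_mem_normalizer (hC.normal hf) hx.1, by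
        calc t * (f * x * f⁻¹) * t⁻¹ = (t * f) * x * (t * f)⁻¹ := by group
          _ = (f * t) * x * (f * t)⁻¹ := by rw [hft]
          _ = f * (t * x * t⁻¹) * f⁻¹ := by group
          _ = _ := by rw [hx.2]; group⟩)
    set P := I ⊔ Subgroup.zpowers f with hP
    have hPp : IsPGroup r P := (hC.pgroup.to_le (show I ≤ C from fun x hx => hx.1)).to_sup_of_normal_left'
      (isPGroup_zpowers_of hk) hfI
    haveI : (I.subgroupOf P).Normal :=
      Subgroup.normal_subgroupOf_of_le_normalizer (sup_le Subgroup.le_normalizer hfI)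
    have hne : I.subgroupOf P ≠ ⊥ := fun e => hIne (by
      rw [eq_bot_iff]
      intro x hx
      have : (⟨x, Subgroup.mem_sup_left hx⟩ : P) ∈ I.subgroupOf P := hx
      rw [e, Subgroup.mem_bot] at this
      exact Subgroup.mem_bot.2 (congrArg Subtype.val this))
    obtain ⟨⟨x, hxP⟩, hxI', hx1'⟩ := (Subgroup.bot_or_exists_ne_one _).resolve_left
      (PGroups.normal_inf_center_ne_bot hPp _ hne)
    obtain ⟨hxI, hxc⟩ := Subgroup.mem_inf.1 hxI'
    have hx1 : x ≠ 1 := fun e => hx1' (Subtype.ext e)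
    have hxI0 : x ∈ I := Subgroup.mem_subgroupOf.1 hxI
    have hxf : x * f = f * x := (congrArg Subtype.val (Subgroup.mem_center_iff.1 hxc
      ⟨f, Subgroup.mem_sup_right (Subgroup.mem_zpowers f)⟩)).symm
    set B := C ⊓ Subgroup.centralizer ({f} : Set G) with hB
    have hxe : x ∉ Subgroup.zpowers e0 := fun hxe => by
      obtain ⟨i, hi⟩ := Subgroup.mem_zpowers_iff.1 hxe
      refine hx1 (eq_one_of_inverted hodd (hC.exp x hxI0.1) ?_)
      calc x = (t * e0 * t⁻¹) ^ i := by rw [he0t', hi]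
        _ = x⁻¹ := by rw [conj_zpow, hi, hxI0.2]
    have hB2 : r ^ 2 ≤ Nat.card B := by
      have h1 := mul_card_le_sup hC.pgroup (Subgroup.zpowers_le.2 he0) hxI0.1 hxe
      rw [Nat.card_zpowers, he0o, ← sq] at h1
      exact h1.trans (Subgroup.card_le_of_le (sup_le
        (Subgroup.zpowers_le.2 (Subgroup.mem_inf.2 ⟨he0, mem_cent.2 hfe.symm⟩))
        (Subgroup.zpowers_le.2 (Subgroup.mem_inf.2 ⟨hxI0.1, mem_cent.2 hxf⟩))))
    have hgood : Good Q N0 f := by
      intro u hu huo huf hall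
      have h1 : B ≤ C ⊓ Subgroup.centralizer ({u} : Set G) := fun y hy => by
        obtain ⟨hyC, hyf⟩ := Subgroup.mem_inf.1 hy
        exact Subgroup.mem_inf.2 ⟨hyC, mem_cent.2 (hall y (hC.le hyC) (mem_cent.1 hyf)).symm⟩
      have h2 := (hB2.trans (Subgroup.card_le_of_le h1)).trans (hfix u hu huo)
      exact absurd h2 (not_le.2 (by rw [sq]; exact lt_mul_of_one_lt_left hr.out.pos hr.out.one_lt))
    intro y hy
    obtain ⟨v, hv, hvy⟩ := h.cover_good hG hFO hf hf1 hk hodd hgood y hy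
    have hθ : theta r f ≤ M := le_of_noncyclic (hC.pgroup.to_le inf_le_left)
      (inf_le_left.trans (hCab.trans (Subgroup.centralizer_le fun z hz => (Subgroup.mem_inf.1 hz).1)))
      (not_isCyclic_of_exponent (fun z hz => hC.exp z (Subgroup.mem_inf.1 hz).1) hB2)
      (inf_le_right.trans (centralizer_le_normalizer_theta r f)) (theta_coprime f)
      fun b hb hb1 => inf_le_right.trans (hCM b (Subgroup.mem_inf.1 hb).1 hb1)
    simpa using mul_mem (hθ hv) (hNM hvy)
  -- `e₀` is central in the `r`-subgroups of `N₀ ∩ C(t)`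
  have hcentral : ∀ K : Subgroup G, IsPGroup r K → (∀ x ∈ K, x ∈ N0 ∧ x * t = t * x) →
      ∀ x ∈ K, x * e0 = e0 * x := by
    intro K hK hKt x hx
    have hKn : K ≤ Subgroup.normalizer (Subgroup.zpowers e0 : Set G) := fun y hy =>
      Subgroup.mem_normalizer_fintype fun z hz => by
        rw [SetLike.mem_coe, ← hCt, Subgroup.mem_inf] at hz ⊢
        exact ⟨conj_mem_of_mem_normalizer (hC.normal (hKt y hy).1) hz.1,
          mul_mem (mul_mem (mem_cent.2 (hKt y hy).2) hz.2) (inv_mem (mem_cent.2 (hKt y hy).2))⟩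
    set P := Subgroup.zpowers e0 ⊔ K with hP
    have hPp : IsPGroup r P :=
      (isPGroup_zpowers_of (k := 1) (by rw [pow_one, he0o])).to_sup_of_normal_left' hK hKn
    haveI : ((Subgroup.zpowers e0).subgroupOf P).Normal :=
      Subgroup.normal_subgroupOf_of_le_normalizer (sup_le Subgroup.le_normalizer hKn)
    have hne : (Subgroup.zpowers e0).subgroupOf P ≠ ⊥ := fun e => he01 (by
      have : (⟨e0, Subgroup.mem_sup_left (Subgroup.mem_zpowers e0)⟩ : P) ∈
          (Subgroup.zpowers e0).subgroupOf P := Subgroup.mem_zpowers e0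
      rw [e, Subgroup.mem_bot] at this
      exact congrArg Subtype.val this)
    obtain ⟨⟨z, hzP⟩, hz', hz1'⟩ := (Subgroup.bot_or_exists_ne_one _).resolve_left
      (PGroups.normal_inf_center_ne_bot hPp _ hne)
    obtain ⟨hzI, hzc⟩ := Subgroup.mem_inf.1 hz'
    have hz1 : z ≠ 1 := fun e => hz1' (Subtype.ext e)
    have hze : z ∈ Subgroup.zpowers e0 := Subgroup.mem_subgroupOf.1 hzI
    have he : e0 ∈ Subgroup.zpowers z := by
      have h1 : Subgroup.zpowers z = Subgroup.zpowers e0 :=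
        Subgroup.eq_of_le_of_card_ge (Subgroup.zpowers_le.2 hze) (by
          have hzC : z ∈ C := Subgroup.zpowers_le.2 he0 hze
          rw [Nat.card_zpowers, Nat.card_zpowers, he0o, orderOf_eq_prime (hC.exp z hzC) hz1])
      exact h1 ▸ Subgroup.mem_zpowers e0
    obtain ⟨i, hi⟩ := Subgroup.mem_zpowers_iff.1 he
    rw [← hi]
    exact (show Commute x z from congrArg Subtype.val
      (Subgroup.mem_center_iff.1 hzc ⟨x, Subgroup.mem_sup_right hx⟩)).zpow_right i
  -- the Sylow subgroups of `C(t)` are cyclic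
  have hcyc : ∀ K : Subgroup G, IsPGroup r K → (∀ x ∈ K, x ∈ N0 ∧ x * t = t * x) → IsCyclic K := by
    intro K hK hKt
    by_contra hncyc
    obtain ⟨f, hfK, hfo, hfe⟩ : ∃ f ∈ K, orderOf f = r ∧ f ∉ Subgroup.zpowers e0 := by
      by_contra! hall
      refine hncyc (PGroups.isCyclic_of_unique_prime hodd hK fun x y hx hy => ?_)
      have hsub : ∀ z : K, orderOf z = r → Subgroup.zpowers (z : G) = Subgroup.zpowers e0 :=
        fun z hz => Subgroup.eq_of_le_of_card_ge
          (Subgroup.zpowers_le.2 (hall z z.2 (by rw [Subgroup.orderOf_coe, hz])))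
          (by rw [Nat.card_zpowers, Nat.card_zpowers, Subgroup.orderOf_coe, hz, he0o])
      have h1 : (y : G) ∈ Subgroup.zpowers (x : G) := by
        rw [hsub x hx, ← hsub y hy]
        exact Subgroup.mem_zpowers _
      obtain ⟨i, hi⟩ := Subgroup.mem_zpowers_iff.1 h1
      exact Subgroup.mem_zpowers_iff.2 ⟨i, Subtype.ext hi⟩
    have hfe' : f * e0 = e0 * f := hcentral K hK hKt f hfK
    set B := Subgroup.zpowers e0 ⊔ Subgroup.zpowers f with hB
    have hzef : Subgroup.zpowers e0 ≤ Subgroup.centralizer (Subgroup.zpowers f : Set G) :=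
      (Subgroup.zpowers_le.2 (mem_cent.2 hfe'.symm)).trans le_centralizer_zpowers
    have hBp : IsPGroup r B := (isPGroup_zpowers_of (k := 1) (by rw [pow_one, he0o])).to_sup_of_normal_right'
      (isPGroup_zpowers_of (k := 1) (by rw [pow_one, hfo])) (hzef.trans (Subgroup.centralizer_le_normalizer _))
    have hBc := sup_abelian (zpowers_abelian e0) (zpowers_abelian f) hzef
    have hBexp : ∀ b ∈ B, b ^ r = 1 := by
      intro b hb
      obtain ⟨p, hp, q, hq, rfl⟩ := Coprime.exists_mul_of_mem_sup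
        (hzef.trans (Subgroup.centralizer_le_normalizer _)) hb
      have hcm : Commute p q := (Subgroup.mem_centralizer_iff.1 (hzef hp) q hq).symm
      rw [hcm.mul_pow, orderOf_dvd_iff_pow_eq_one.1, orderOf_dvd_iff_pow_eq_one.1, one_mul]
      · exact hfo ▸ (Subgroup.orderOf_dvd_natCard _ hq).trans (Nat.card_zpowers f).dvd
      · exact he0o ▸ (Subgroup.orderOf_dvd_natCard _ hp).trans (Nat.card_zpowers e0).dvd
    have hB2 : r ^ 2 ≤ Nat.card B := by
      have h1 : Subgroup.zpowers e0 < B := lt_of_le_of_ne le_sup_left fun e =>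
        hfe (e.ge (Subgroup.mem_sup_right (Subgroup.mem_zpowers f)))
      have h2 := mul_card_le_of_lt hBp h1
      rwa [Nat.card_zpowers, he0o, ← sq] at h2
    have hBle : B ≤ N0 ⊓ (Subgroup.centralizer ({t} : Set G) ⊓ Subgroup.centralizer ({e0} : Set G)) :=
      sup_le (Subgroup.zpowers_le.2 (Subgroup.mem_inf.2 ⟨h.Q_le (hC.le he0),
          Subgroup.mem_inf.2 ⟨mem_cent.2 he0t, mem_cent.2 rfl⟩⟩))
        (Subgroup.zpowers_le.2 (Subgroup.mem_inf.2 ⟨(hKt f hfK).1,
          Subgroup.mem_inf.2 ⟨mem_cent.2 (hKt f hfK).2, mem_cent.2 hfe'⟩⟩))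
    refine hcentM t (h.N0_le ht0) hto B hBp hBc (not_isCyclic_of_exponent hBexp hB2)
      (fun b hb => mem_cent.1 (Subgroup.mem_inf.1 (Subgroup.mem_inf.1 (hBle hb)).2).1) fun b hb hb1 => ?_
    obtain ⟨hb0, hb'⟩ := Subgroup.mem_inf.1 (hBle hb)
    obtain ⟨hbt, hbe⟩ := Subgroup.mem_inf.1 hb'
    exact hf b hb0 hb1 (exists_orderOf_eq_pow hBp hb) (mem_cent.1 hbt) (mem_cent.1 hbe)
  refine ⟨fun s hs K hK hKs => ?_, fun V' K hV' hK hKV => ?_, fun s hs => ?_⟩
  · obtain ⟨g, hg⟩ := isConj_iff.1 (hG.isConj hs hto)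
    have hK1 : ∀ x ∈ K.map (MulAut.conj g).toMonoidHom, x * t = t * x := by
      rintro _ ⟨x, hx, rfl⟩
      rw [← hg]
      exact conj_mem_cent (mem_cent.1 (hKs hx))
    obtain ⟨d, -, hd⟩ := h.exists_conj_cent0 ht0 hto (hK.map _) hK1
    haveI := hcyc ((K.map (MulAut.conj g).toMonoidHom).map (MulAut.conj d).toMonoidHom)
      ((hK.map _).map _) (by rintro _ ⟨x, hx, rfl⟩; exact hd x hx)
    exact isCyclic_of_surjective ((K.equivMapOfInjective (MulAut.conj g).toMonoidHom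
      (MulAut.conj g).injective).trans ((K.map (MulAut.conj g).toMonoidHom).equivMapOfInjective
        (MulAut.conj d).toMonoidHom (MulAut.conj d).injective)).symm
      (MulEquiv.surjective _)
  · by_contra hKne
    obtain ⟨k, hk, hk1, hkr⟩ : ∃ k ∈ K, k ≠ 1 ∧ orderOf k = r := by
      obtain ⟨j, hj⟩ := IsPGroup.iff_card.1 hK
      have hj0 : j ≠ 0 := fun e => hKne (Subgroup.eq_bot_of_card_eq _ (by rw [hj, e, pow_zero]))
      obtain ⟨k, hk⟩ := exists_prime_orderOf_dvd_card' (G := K) r (hj ▸ dvd_pow_self r hj0)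
      rw [← Subgroup.orderOf_coe] at hk
      exact ⟨k, k.2, fun e => hr.out.ne_one (by rw [← hk, e, orderOf_one]), hk⟩
    obtain ⟨v, hv, hv1⟩ := V'.bot_or_exists_ne_one.resolve_left hV'.ne_bot
    obtain ⟨g, hg⟩ := isConj_iff.1 (hG.isConj (hV'.orderOf_eq hv hv1) hto)
    have hkV : ∀ x ∈ V', x * k = k * x := Subgroup.mem_centralizer_iff.1 (hKV hk)
    obtain ⟨d, hd, hd'⟩ := h.exists_conj_cent0 ht0 hto
      (isPGroup_zpowers_of (k := 1) (x := g * k * g⁻¹)
        (by rw [pow_one, Involutions.Basic.orderOf_conj_eq, hkr]))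
      (fun x hx => mem_cent.1 (Subgroup.zpowers_le.2
        (mem_cent.2 (by rw [← hg]; exact conj_mem_cent (hkV v hv).symm)) hx))
    set k2 := d * (g * k * g⁻¹) * d⁻¹ with hk2
    obtain ⟨hk20, hk2t⟩ := hd' _ (Subgroup.mem_zpowers _)
    have hk2o : orderOf k2 = r := by
      rw [hk2, Involutions.Basic.orderOf_conj_eq, Involutions.Basic.orderOf_conj_eq, hkr]
    -- `⟨k₂⟩ = ⟨e₀⟩`
    have hK2 : IsPGroup r (Subgroup.zpowers k2) := isPGroup_zpowers_of (k := 1) (by rw [pow_one, hk2o])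
    have hk2e : k2 * e0 = e0 * k2 := hcentral _ hK2 (fun x hx =>
      ⟨Subgroup.zpowers_le.2 hk20 hx, mem_cent.1 (Subgroup.zpowers_le.2 (mem_cent.2 hk2t) hx)⟩) k2
      (Subgroup.mem_zpowers k2)
    set S := Subgroup.zpowers k2 ⊔ Subgroup.zpowers e0 with hS
    have hSp : IsPGroup r S := hK2.to_sup_of_normal_right' (isPGroup_zpowers_of (k := 1) (by rw [pow_one, he0o]))
      ((Subgroup.zpowers_le.2 (mem_cent.2 hk2e)).trans
        (le_centralizer_zpowers.trans (Subgroup.centralizer_le_normalizer _)))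
    have hSle : S ≤ N0 ⊓ Subgroup.centralizer ({t} : Set G) :=
      sup_le (Subgroup.zpowers_le.2 (Subgroup.mem_inf.2 ⟨hk20, mem_cent.2 hk2t⟩))
        (Subgroup.zpowers_le.2 (Subgroup.mem_inf.2 ⟨h.Q_le (hC.le he0), mem_cent.2 he0t⟩))
    haveI : IsCyclic S := hcyc S hSp fun x hx =>
      ⟨(Subgroup.mem_inf.1 (hSle hx)).1, mem_cent.1 (Subgroup.mem_inf.1 (hSle hx)).2⟩
    have hek : e0 ∈ Subgroup.zpowers k2 := by
      rw [OddOrder.Cyclic.eq_of_card_eq_of_isCyclic (W := S) (A := Subgroup.zpowers k2)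
        (B := Subgroup.zpowers e0) le_sup_left le_sup_right
        (by rw [Nat.card_zpowers, Nat.card_zpowers, hk2o, he0o])]
      exact Subgroup.mem_zpowers e0
    -- a four-group centralising `e₀`
    set W := V'.map (MulAut.conj (d * g)).toMonoidHom with hW
    have hWf : IsFour W := hV'.map _
    have hWe : W ≤ Subgroup.centralizer (Subgroup.zpowers e0 : Set G) := by
      rintro _ ⟨x, hx, rfl⟩
      refine le_centralizer_zpowers (mem_cent.2 ?_)
      obtain ⟨i, hi⟩ := Subgroup.mem_zpowers_iff.1 hek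
      have h1 : Commute (MulAut.conj (d * g) x) k2 := by
        have h2 : k2 = MulAut.conj (d * g) k := by rw [hk2, MulAut.conj_apply]; group
        rw [h2]
        exact (show Commute x k from hkV x hx).map (MulAut.conj (d * g))
      rw [← hi]
      exact (h1.zpow_right i).eq
    have hXp : IsPGroup r (Subgroup.zpowers e0) := isPGroup_zpowers_of (k := 1) (by rw [pow_one, he0o])
    have hX0 : Subgroup.zpowers e0 ≤ N0 := Subgroup.zpowers_le.2 (h.Q_le (hC.le he0))
    obtain ⟨c1, hc1, hc1W⟩ := h.exists_conj_into hG hXp (hX0.trans h.N0_le) hWf.isPGroup hWf.ne_bot hWe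
    obtain ⟨c2, -, hc2, hc2W⟩ := h.exists_conj_into_N0 (W := W.map (MulAut.conj c1).toMonoidHom) hXp hX0
      (hWf.map _).isPGroup (by rintro _ ⟨x, hx, rfl⟩; exact hc1W x hx)
      (by rintro _ ⟨x, hx, rfl⟩; exact mul_mem (mul_mem hc1 (hWe hx)) (inv_mem hc1))
    set W' := (W.map (MulAut.conj c1).toMonoidHom).map (MulAut.conj c2).toMonoidHom with hW'
    have hW'f : IsFour W' := (hWf.map _).map _
    have hW'0 : W' ≤ N0 := by rintro _ ⟨x, hx, rfl⟩; exact hc2W x hx
    have hW'e : ∀ x ∈ W', e0 * x = x * e0 := by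
      rintro _ ⟨_, ⟨x, hx, rfl⟩, rfl⟩
      exact Subgroup.mem_centralizer_iff.1 (mul_mem (mul_mem hc2 (mul_mem (mul_mem hc1 (hWe hx))
        (inv_mem hc1))) (inv_mem hc2)) e0 (Subgroup.mem_zpowers e0)
    refine hC.noInv t ht0 hto (le_trans (le_of_four hW'f (odd_card_of_pgroup hodd hC.pgroup)
      (hW'0.trans hC.normal) (L := Subgroup.zpowers e0) fun x hx hx1 => ?_)
      (Subgroup.zpowers_le.2 (mem_cent.2 he0t)))
    exact (hfix1 x (hW'0 hx) (hW'f.orderOf_eq hx hx1) e0 he0 he01 (hW'e x hx)).le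
  · obtain ⟨g, hg⟩ := isConj_iff.1 (hG.isConj hto hs)
    refine ⟨g * e0 * g⁻¹, ?_, by rw [Involutions.Basic.orderOf_conj_eq, he0o], fun hle => ?_⟩
    · rw [← hg]; exact conj_mem_cent he0t
    · refine hnot t (h.N0_le ht0) hto fun y hy => ?_
      obtain ⟨u, hu, huy⟩ := h.cover2 t (h.N0_le ht0) hto y (mem_cent.1 hy)
      have h1 : g * u * g⁻¹ ∈ coreR r s := by
        rw [← hg, coreR_conj]
        exact ⟨u, hu, rfl⟩
      have h2 := mem_cent.1 (hle h1)
      have h3 : u * e0 = e0 * u := by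
        calc u * e0 = g⁻¹ * (g * u * g⁻¹ * (g * e0 * g⁻¹)) * g := by group
          _ = e0 * u := by rw [h2]; group
      simpa using mul_mem (hCM e0 he0 he01 (mem_cent.2 h3)) (hNM huy)

/-- F6–F8 in the setting. -/
theorem known_or_small (hP : BenderConsumers23.PropPartOne.{u}) (hMain : BenderSuzuki.PropMain.{u, u}) :
    IsKnownD G ∨ SmallPrime r G := by
  obtain ⟨C, hCQ, hCn, hCe, hC2, hCu⟩ := exists_core hodd h.Q_pgroup
  have hC : Ambient r Q N0 C := ⟨hCQ, h.Q_pgroup.to_le hCQ, h.Q_normal.trans hCn, hCe, hC2,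
    fun u hu huo hle => h.noInv u (h.N0_le hu) huo (hCu u (h.Q_normal hu) huo hle)⟩
  obtain ⟨M, hM, hNM, hCM⟩ := h.exists_M hG hFO hodd hC
  by_cases hex : ∃ t ∈ N, orderOf t = 2 ∧ Subgroup.centralizer ({t} : Set G) ≤ M
  · obtain ⟨t, ht, hto, htM⟩ := hex
    exact Or.inl (h.known_of_cent_le hG hP hMain hM hNM ht hto htM)
  push Not at hex
  exact Or.inr (h.smallPrime hG hFO hodd hC hNM hCM hex)

end Setting

end Cfsg.Agent.Lib.GorensteinWalter.ConfSmall

namespace Cfsg.Agent.Lib.GorensteinWalter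

universe u

open ConfSmall in
/-- The setting of a configuration. -/
theorem confSetting (hB : PropConfBase.{u}) {G : Type u} [Group G] [Finite G] (hG : Hyp G) {r : ℕ}
    [hr : Fact r.Prime] (hodd : r ≠ 2) (T : Sylow r G) {V : Subgroup G}
    (hV : Conf r V (zjNorm (T : Subgroup G))) :
    Setting r (zjNorm (T : Subgroup G)) (confY r (T : Subgroup G)) (confQ r (T : Subgroup G))
      (confN0 r (T : Subgroup G)) := by
  obtain ⟨W, -, hW, -⟩ := exists_conf_fused_confN0 hG hV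
  obtain ⟨hB1, hB2⟩ := hB G hG r hodd T V hV
  exact
    { proper := hV.1
      Y_le := confY_le _
      N0_le := confN0_le _
      Q_le := confQ_le_confN0 _
      Y_normal := le_normalizer_confY _
      Y_odd := confY_odd hG hV
      Y_coprime := (hr.out.coprime_iff_not_dvd.2 (not_dvd_card_confY _)).symm
      Q_pgroup := T.2.to_le (confQ_le _)
      Q_normal := confN0_le_normalizer _
      cover := fun _ hn => conf_factor T hn
      Y_cent := fun y hy hy0 => confY_inf_le_centralizer T (Subgroup.mem_inf.2 ⟨hy, hy0⟩)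
      constrained := by
        intro m hm hmQ hmo
        obtain ⟨y, hy, hyQ, q, hq, -, rfl⟩ := centralizer_confQ_factor hG hV (confN0_le _ hm) hmQ
        have hc : Commute y q := (Subgroup.mem_centralizer_iff.1 hyQ q hq).symm
        have h1 := pow_orderOf_eq_one (y * q)
        rw [hc.mul_pow] at h1
        have h2 : q ^ orderOf (y * q) = 1 :=
          eq_one_of_mem_of_mem (T.2.to_le (confQ_le _))
            ((hr.out.coprime_iff_not_dvd.2 (not_dvd_card_confY _)).symm)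
            (pow_mem hq _) (by
              have h3 : q ^ orderOf (y * q) = (y ^ orderOf (y * q))⁻¹ := eq_inv_of_mul_eq_one_right h1
              rw [h3]
              exact inv_mem (pow_mem hy _))
        obtain ⟨k, hk⟩ := exists_orderOf_eq_pow (T.2.to_le (confQ_le _) : IsPGroup r (confQ r (T : Subgroup G))) hq
        have h4 : orderOf q = 1 := Nat.eq_one_of_dvd_coprimes (hmo.pow_right k)
          (orderOf_dvd_of_pow_eq_one h2) (hk ▸ dvd_rfl)
        rwa [orderOf_eq_one_iff.1 h4, mul_one]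
      noInv := fun u _ hu => confQ_not_centralized hG hV hu
      fused := ⟨W, hW⟩
      sf := fun X hX hXN g hg => fusion_control hG hodd T hX hXN g hg
      sylow := ⟨T, le_zjNorm _⟩
      cover2 := hB1
      oneClass := hB2 }

/-- Sections F6–F8. -/
theorem propConfSmall (hFO : PropFourOdd.{u}) (hB : PropConfBase.{u})
    (hP : BenderConsumers23.PropPartOne.{u}) (hMain : BenderSuzuki.PropMain.{u, u}) :
    PropConfSmall.{u} :=
  fun _ _ _ hG _ _ hodd T _ hV => (confSetting hB hG hodd T hV).known_or_small hG hFO hodd hP hMain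

/-- Section F: a configuration makes the prime small. -/
theorem propNoConf (hFO : PropFourOdd.{u}) (hB : PropConfBase.{u})
    (hP : BenderConsumers23.PropPartOne.{u}) (hMain : BenderSuzuki.PropMain.{u, u}) :
    PropNoConf.{u} := fun G _ _ hG hnk r _ hr V H hc => by
  obtain ⟨T, W, hTW⟩ := propConfSylow hFO G hG r hr V H hc
  exact (propConfSmall hFO hB hP hMain G hG r hr T W hTW).resolve_left hnk

end Cfsg.Agent.Lib.GorensteinWalter
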