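import Cfsg.Agent.Lib.GorensteinWalter.CoreSylow
import Cfsg.Agent.Lib.GorensteinWalter.FusedCentralizerMain
import Cfsg.Agent.Lib.GorensteinWalter.ModelsC.Cyclic

/-!
# Section C: a local subgroup modulo its odd core

`H` contains `S`, is fused at `⟨t, b⟩`, and `S` centralises `O(H)`.  Then centralisers of `t` and of the
reflections lift exactly, and the models of the core-free quotient become statements about `H`.
-/

set_option autoImplicit false
set_option linter.unusedSectionVars false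
set_option linter.style.haveILetI false

namespace Cfsg.Agent.Lib.GorensteinWalter

open Cfsg.Agent.Lib.Fusion.Dihedral

universe u

variable {G : Type u} [Group G] [Finite G]

/-- The hypotheses on `H`, apart from the action on its core. -/
structure CoreBase (S : Sylow 2 G) (t a b : G) (H : Subgroup G) : Prop where
  hyp : Hyp G
  refl : Refl S t a b
  cl : Subgroup.closure ({a, b} : Set G) = (S : Subgroup G)
  ne_top : H ≠ ⊤
  sylow_le : (S : Subgroup G) ≤ H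
  fused : FusedIn (fourOf t b) H

/-- The hypotheses on `H`. -/
structure CoreSetting (S : Sylow 2 G) (t a b : G) (H : Subgroup G) : Prop extends CoreBase S t a b H where
  fix : ∀ d ∈ coreOf H, ∀ s ∈ (S : Subgroup G), s * d = d * s

/-- A subgroup is centralised by `S` if `a` and `b` centralise it. -/
theorem centralized_of_gens {S : Subgroup G} {a b : G} (hcl : Subgroup.closure ({a, b} : Set G) = S)
    {K : Subgroup G} (ha : ∀ d ∈ K, a * d = d * a) (hb : ∀ d ∈ K, b * d = d * b) :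
    ∀ d ∈ K, ∀ s ∈ S, s * d = d * s := by
  intro d hd s hs
  have hle : S ≤ Subgroup.centralizer ({d} : Set G) := by
    rw [← hcl, Subgroup.closure_le]
    rintro x (rfl | rfl)
    · exact Subgroup.mem_centralizer_singleton_iff.2 (ha d hd)
    · exact Subgroup.mem_centralizer_singleton_iff.2 (hb d hd)
  exact Subgroup.mem_centralizer_singleton_iff.1 (hle hs)

/-- The order of the image of a subgroup containing the kernel. -/
theorem card_map_mul_card {H : Subgroup G} (N : Subgroup H) [N.Normal] {K : Subgroup G} (hKH : K ≤ H)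
    (hNK : N.map H.subtype ≤ K) :
    Nat.card ((K.subgroupOf H).map (QuotientGroup.mk' N)) * Nat.card N = Nat.card K := by
  set f := QuotientGroup.mk' N
  have hle : f.ker ≤ K.subgroupOf H := by
    rw [QuotientGroup.ker_mk']
    exact fun x hx => Subgroup.mem_subgroupOf.2 (hNK ⟨x, hx, rfl⟩)
  have h1 := Subgroup.index_map_eq _ (QuotientGroup.mk'_surjective N) hle
  have h2 := ((K.subgroupOf H).map f).card_mul_index
  have h3 := (K.subgroupOf H).card_mul_index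
  rw [h1] at h2
  have h4 := Subgroup.card_eq_card_quotient_mul_card_subgroup N
  rw [Nat.card_congr (Subgroup.subgroupOfEquivOfLe hKH).toEquiv, h4, ← h2] at h3
  have hi : 0 < (K.subgroupOf H).index := Nat.pos_of_ne_zero Subgroup.index_ne_zero_of_finite
  exact (Nat.eq_of_mul_eq_mul_right hi (by rw [h3]; ring)).symm

/-- The map to the quotient by the odd core. -/
abbrev qm (H : Subgroup G) : ↥H →* ↥H ⧸ Cfsg.oddCore ↥H := QuotientGroup.mk' _

namespace CoreBase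

variable {S : Sylow 2 G} {t a b : G} {H : Subgroup G}

theorem mem_core_iff {x : H} : (qm H) x = 1 ↔ (x : G) ∈ coreOf H :=
  (QuotientGroup.eq_one_iff x).trans ⟨fun h => ⟨x, h, rfl⟩, fun ⟨y, hy, e⟩ => Subtype.ext e ▸ hy⟩

section
variable (h : CoreBase S t a b H)
include h

theorem eq_one_of_sylow {w : H} (hw : (w : G) ∈ (S : Subgroup G)) (hw1 : (qm H) w = 1) : w = 1 := by
  obtain ⟨k, hk⟩ := S.2 ⟨_, hw⟩
  exact Subtype.ext (orderOf_eq_one_iff.1 (Nat.eq_one_of_dvd_coprimes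
    ((Nat.coprime_two_left.2 (orderOf_odd_of_mem (coreOf_odd H) (mem_core_iff.1 hw1))).pow_left k)
    (orderOf_dvd_of_pow_eq_one (congrArg Subtype.val hk)) dvd_rfl))

theorem map_inj {v w : H} (hv : (v : G) ∈ (S : Subgroup G)) (hw : (w : G) ∈ (S : Subgroup G))
    (he : (qm H) v = (qm H) w) : v = w :=
  mul_inv_eq_one.1 (h.eq_one_of_sylow (mul_mem hv (inv_mem hw))
    (by rw [map_mul, map_inv, he, mul_inv_cancel]))

theorem order_two {w : H} (hw : (w : G) ∈ (S : Subgroup G)) (h2 : orderOf (w : G) = 2) :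
    orderOf ((qm H) w) = 2 :=
  orderOf_eq_prime (by
    rw [← map_pow, show w ^ 2 = 1 from Subtype.ext (by simpa [sq] using mul_self_of_two h2), map_one])
    fun he => ne_one_of_two h2 (congrArg Subtype.val (h.eq_one_of_sylow hw he))

theorem hasDihedral : HasDihedralSylow (↥H ⧸ Cfsg.oddCore ↥H) := by
  haveI : Fact (Nat.Prime 2) := ⟨Nat.prime_two⟩
  have hcd := (h.hyp.cd.subgroup H).of_surjective (qm H) (QuotientGroup.mk'_surjective _)
  have hVS : fourOf t b ≤ (S : Subgroup G) := by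
    rw [fourOf, Subgroup.closure_le]
    rintro x (rfl | rfl)
    exacts [h.refl.t_mem, h.refl.v_mem]
  have hinj : Function.Injective (((qm H)).comp ((fourOf t b).subgroupOf H).subtype) := fun u v huv =>
    Subtype.ext (h.map_inj (hVS (Subgroup.mem_subgroupOf.1 u.2)) (hVS (Subgroup.mem_subgroupOf.1 v.2)) huv)
  have hW : IsFour (((fourOf t b).subgroupOf H).map (qm H)) := ⟨by
    rw [show ((fourOf t b).subgroupOf H).map (qm H) = (((qm H)).comp ((fourOf t b).subgroupOf H).subtype).range by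
        rw [MonoidHom.range_comp, Subgroup.range_subtype],
      ← Nat.card_congr (MonoidHom.ofInjective hinj).toEquiv,
      Nat.card_congr (Subgroup.subgroupOfEquivOfLe h.fused.2.1).toEquiv]
    exact h.fused.1.1, by
    rintro _ ⟨u, hu, rfl⟩
    rw [← map_mul, show u * u = 1 from Subtype.ext (h.fused.1.2 _ hu), map_one]⟩
  obtain ⟨T, hT⟩ := hW.isPGroup.exists_le_sylow
  intro T'
  rcases hcd T' with hc | hd
  · exfalso
    haveI := hc
    haveI : IsCyclic (T : Subgroup (↥H ⧸ Cfsg.oddCore ↥H)) :=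
      isCyclic_of_injective (Sylow.equiv T T').toMonoidHom (MulEquiv.injective _)
    exact not_isCyclic_of_four hW (Subgroup.isCyclic_of_le hT)
  · exact hd

theorem sections (L : Subgroup (↥H ⧸ Cfsg.oddCore ↥H)) (N : Subgroup L) [N.Normal] (hs : IsSimpleGroup (L ⧸ N))
    (hna : ¬ IsMulCommutative (L ⧸ N)) : IsKnownD (L ⧸ N) :=
  known_sections_quotient h.hyp h.ne_top _ L N hs hna

theorem fused_map {u v : G} (huH : u ∈ H) (hvH : v ∈ H) (hu : u ∈ (S : Subgroup G))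
    (hv : v ∈ (S : Subgroup G)) (hu2 : orderOf u = 2) (hv2 : orderOf v = 2) (huv : v ≠ u)
    (hc : v * u = u * v) (hf : FusedIn (fourOf u v) H) :
    FusedIn (fourOf ((qm H) ⟨u, huH⟩) ((qm H) ⟨v, hvH⟩)) ⊤ := by
  obtain ⟨W, hW, huW, hvW, hWle⟩ := exists_isFour (mul_self_of_two hu2) (mul_self_of_two hv2) hc.symm
    (ne_one_of_two hu2) (ne_one_of_two hv2) huv.symm
  rw [fourOf_eq hW huW hvW (ne_one_of_two hu2) (ne_one_of_two hv2) huv.symm] at hf
  have hWS : W ≤ (S : Subgroup G) := hWle _ hu hv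
  have hinj : Function.Injective (((qm H)).comp (W.subgroupOf H).subtype) := fun x y hxy =>
    Subtype.ext (h.map_inj (hWS (Subgroup.mem_subgroupOf.1 x.2)) (hWS (Subgroup.mem_subgroupOf.1 y.2)) hxy)
  have hW' : IsFour ((W.subgroupOf H).map (qm H)) := ⟨by
    rw [show (W.subgroupOf H).map (qm H) = (((qm H)).comp (W.subgroupOf H).subtype).range by
        rw [MonoidHom.range_comp, Subgroup.range_subtype],
      ← Nat.card_congr (MonoidHom.ofInjective hinj).toEquiv,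
      Nat.card_congr (Subgroup.subgroupOfEquivOfLe hf.2.1).toEquiv]
    exact hW.1, by
    rintro _ ⟨x, hx, rfl⟩
    rw [← map_mul, show x * x = 1 from Subtype.ext (hW.2 _ hx), map_one]⟩
  rw [fourOf_eq hW' ⟨⟨u, huH⟩, huW, rfl⟩ ⟨⟨v, hvH⟩, hvW, rfl⟩
    (ne_one_of_two (h.order_two (w := ⟨u, huH⟩) hu hu2)) (ne_one_of_two (h.order_two (w := ⟨v, hvH⟩) hv hv2))
    (fun e => huv.symm (congrArg Subtype.val (h.map_inj (v := ⟨u, huH⟩) (w := ⟨v, hvH⟩) hu hv e)))]
  refine ⟨hW', le_top, ?_⟩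
  rintro _ ⟨x, hx, rfl⟩ hx1 _ ⟨y, hy, rfl⟩ hy1
  obtain ⟨g, hg, hgN, hgx⟩ := hf.2.2 x hx (fun e => hx1 (by rw [show x = 1 from Subtype.ext e, map_one]))
    y hy (fun e => hy1 (by rw [show y = 1 from Subtype.ext e, map_one]))
  refine ⟨(qm H) ⟨g, hg⟩, trivial, Subgroup.le_normalizer_map (qm H) ⟨⟨g, hg⟩, ?_, rfl⟩, ?_⟩
  · exact Subgroup.mem_normalizer_fintype fun z hz =>
      Subgroup.mem_subgroupOf.2 (conj_mem_of_mem_normalizer hgN (Subgroup.mem_subgroupOf.1 hz))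
  · rw [← map_inv, ← map_mul, ← map_mul]
    exact congrArg (qm H) (Subtype.ext hgx)

/-- The image of `S` with its pair of reflections. -/
theorem exists_sylow {n : ℕ} (hS : Nat.card (S : Subgroup G) = 2 ^ n) (ht : t ∈ H) (ha : a ∈ H)
    (hb : b ∈ H) :
    ∃ T : Sylow 2 (↥H ⧸ Cfsg.oddCore ↥H), Nat.card (T : Subgroup (↥H ⧸ Cfsg.oddCore ↥H)) = 2 ^ n ∧
      Refl T ((qm H) ⟨t, ht⟩) ((qm H) ⟨a, ha⟩) ((qm H) ⟨b, hb⟩) ∧
      Subgroup.closure ({(qm H) ⟨a, ha⟩, (qm H) ⟨b, hb⟩} : Set (↥H ⧸ Cfsg.oddCore ↥H)) = (T : Subgroup (↥H ⧸ Cfsg.oddCore ↥H)) := by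
  haveI : Fact (Nat.Prime 2) := ⟨Nat.prime_two⟩
  set S' := ((S : Subgroup G).subgroupOf H).map (qm H) with hS'
  have hinj : Function.Injective (((qm H)).comp ((S : Subgroup G).subgroupOf H).subtype) := fun x y hxy =>
    Subtype.ext (h.map_inj (Subgroup.mem_subgroupOf.1 x.2) (Subgroup.mem_subgroupOf.1 y.2) hxy)
  have hcard : Nat.card S' = 2 ^ n := by
    rw [hS', show ((S : Subgroup G).subgroupOf H).map (qm H) =
        (((qm H)).comp ((S : Subgroup G).subgroupOf H).subtype).range by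
      rw [MonoidHom.range_comp, Subgroup.range_subtype],
      ← Nat.card_congr (MonoidHom.ofInjective hinj).toEquiv,
      Nat.card_congr (Subgroup.subgroupOfEquivOfLe h.sylow_le).toEquiv, hS]
  have hfac : (Nat.card (↥H ⧸ Cfsg.oddCore ↥H)).factorization 2 = n := by
    refine le_antisymm ?_ ((Nat.prime_two.pow_dvd_iff_le_factorization Nat.card_pos.ne').1
      (hcard ▸ Subgroup.card_subgroup_dvd_card S'))
    have h1 := (Nat.factorization_le_iff_dvd Nat.card_pos.ne' Nat.card_pos.ne').2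
      ((Subgroup.card_quotient_dvd_card (Cfsg.oddCore H)).trans (Subgroup.card_subgroup_dvd_card H)) 2
    refine h1.trans (le_of_eq (Nat.pow_right_injective (le_refl 2) ?_))
    show 2 ^ (Nat.card G).factorization 2 = 2 ^ n
    rw [← S.card_eq_multiplicity, hS]
  let T : Sylow 2 (↥H ⧸ Cfsg.oddCore ↥H) := Sylow.ofCard S' (by rw [hcard, hfac])
  have hT : (T : Subgroup (↥H ⧸ Cfsg.oddCore ↥H)) = S' := Sylow.coe_ofCard _ _
  have hmem : ∀ w : H, (w : G) ∈ (S : Subgroup G) → (qm H) w ∈ (T : Subgroup (↥H ⧸ Cfsg.oddCore ↥H)) :=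
    fun w hw => hT.symm ▸ ⟨w, hw, rfl⟩
  refine ⟨T, by rw [hT, hcard], ⟨hmem _ h.refl.t_mem, hmem _ h.refl.u_mem, hmem _ h.refl.v_mem,
    h.order_two (w := ⟨t, ht⟩) h.refl.t_mem h.refl.t_two,
    h.order_two (w := ⟨a, ha⟩) h.refl.u_mem h.refl.u_two,
    h.order_two (w := ⟨b, hb⟩) h.refl.v_mem h.refl.v_two, ?_, ?_, ?_, ?_, ?_⟩, ?_⟩
  · rw [hT]
    rintro _ ⟨s, hs, rfl⟩
    rw [← map_mul, ← map_mul, show s * (⟨t, ht⟩ : H) = ⟨t, ht⟩ * s from Subtype.ext (h.refl.central s hs)]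
  · exact fun e => h.refl.u_ne (congrArg Subtype.val
      (h.map_inj (v := ⟨a, ha⟩) (w := ⟨t, ht⟩) h.refl.u_mem h.refl.t_mem e))
  · exact fun e => h.refl.v_ne (congrArg Subtype.val
      (h.map_inj (v := ⟨b, hb⟩) (w := ⟨t, ht⟩) h.refl.v_mem h.refl.t_mem e))
  · intro e
    obtain ⟨hV, htV, haV, -⟩ := h.hyp.four_coreFix h.refl.t_two h.refl.u_two h.refl.u_ne
      (h.refl.central a h.refl.u_mem)
    have key : ∀ V : Subgroup G, V ≤ (S : Subgroup G) → ∀ x : H, (x : G) ∈ (S : Subgroup G) →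
        (qm H) x ∈ (V.subgroupOf H).map (qm H) → (x : G) ∈ V := by
      rintro V hV x hx ⟨y, hy, hxy⟩
      exact (h.map_inj (hV hy) hx hxy) ▸ (hy : (y : G) ∈ V)
    have hVaS : fourOf t a ≤ (S : Subgroup G) := by
      rw [fourOf, Subgroup.closure_le]
      rintro x (rfl | rfl)
      exacts [h.refl.t_mem, h.refl.u_mem]
    have hbV : b ∈ fourOf t a := key _ hVaS ⟨b, hb⟩ h.refl.v_mem (by
      have h1 : fourOf ((qm H) ⟨t, ht⟩) ((qm H) ⟨b, hb⟩) ≤ ((fourOf t a).subgroupOf H).map (qm H) := by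
        rw [← e, Subgroup.closure_le]
        rintro x (rfl | rfl)
        exacts [⟨⟨t, ht⟩, htV, rfl⟩, ⟨⟨a, ha⟩, haV, rfl⟩]
      exact h1 (Subgroup.subset_closure (Or.inr rfl)))
    exact h.refl.noncomm (by
      rw [fourOf_eq hV htV hbV (ne_one_of_two h.refl.t_two) (ne_one_of_two h.refl.v_two) h.refl.v_ne.symm])
  · have h1 : t ∈ ((Subgroup.closure ({(qm H) ⟨a, ha⟩, (qm H) ⟨b, hb⟩} : Set (↥H ⧸ Cfsg.oddCore ↥H))).comap (qm H)).map H.subtype := by
      refine (Subgroup.closure_le _).2 ?_ h.refl.t_gen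
      rintro x (rfl | rfl)
      · exact ⟨⟨x, ha⟩, Subgroup.subset_closure (Or.inl rfl), rfl⟩
      · exact ⟨⟨x, hb⟩, Subgroup.subset_closure (Or.inr rfl), rfl⟩
    obtain ⟨y, hy, hyt⟩ := h1
    exact (Subtype.ext hyt : y = ⟨t, ht⟩) ▸ hy
  · refine le_antisymm ?_ ?_
    · rw [Subgroup.closure_le]
      rintro x (rfl | rfl)
      exacts [hmem _ h.refl.u_mem, hmem _ h.refl.v_mem]
    · rw [hT]
      rintro _ ⟨s, hs, rfl⟩
      have h1 : (s : G) ∈ ((Subgroup.closure ({(qm H) ⟨a, ha⟩, (qm H) ⟨b, hb⟩} : Set (↥H ⧸ Cfsg.oddCore ↥H))).comap (qm H)).map H.subtype := by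
        refine (Subgroup.closure_le _).2 ?_ (h.cl.symm ▸ hs : (s : G) ∈ Subgroup.closure ({a, b} : Set G))
        rintro x (rfl | rfl)
        · exact ⟨⟨x, ha⟩, Subgroup.subset_closure (Or.inl rfl), rfl⟩
        · exact ⟨⟨x, hb⟩, Subgroup.subset_closure (Or.inr rfl), rfl⟩
      obtain ⟨y, hy, hys⟩ := h1
      exact (Subtype.ext hys : y = s) ▸ hy

/-- The inverted odd elements of `C(t) ∩ H` generate a cyclic group modulo the core. -/
theorem inverted_cyclic (hMC : PropModelCyclic.{u}) {n : ℕ} (hn : 3 ≤ n)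
    (hS : Nat.card (S : Subgroup G) = 2 ^ n) (hfa : FusedIn (fourOf t a) H) :
    ∃ w : (↥H ⧸ Cfsg.oddCore ↥H), ∀ x : H, (x : G) * t = t * x → Odd (orderOf (x : G)) →
      a * (x : G) * a⁻¹ = (x : G)⁻¹ → (qm H) x ∈ Subgroup.zpowers w := by
  have ht := h.sylow_le h.refl.t_mem
  have ha := h.sylow_le h.refl.u_mem
  have hb := h.sylow_le h.refl.v_mem
  obtain ⟨T, hTcard, hTR, hTcl⟩ := h.exists_sylow hS ht ha hb
  obtain ⟨w, -, hw⟩ := hMC (↥H ⧸ Cfsg.oddCore ↥H) T ((qm H) ⟨t, ht⟩) ((qm H) ⟨a, ha⟩) ((qm H) ⟨b, hb⟩) n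
    (Cores.pPrimeCore_quotient_pPrimeCore 2) h.hasDihedral (fun L N _ hs hna => h.sections L N hs hna) hn
    hTcard hTR hTcl (h.fused_map ht ha h.refl.t_mem h.refl.u_mem h.refl.t_two h.refl.u_two h.refl.u_ne
      (h.refl.central a h.refl.u_mem) hfa)
    (h.fused_map ht hb h.refl.t_mem h.refl.v_mem h.refl.t_two h.refl.v_two h.refl.v_ne
      (h.refl.central b h.refl.v_mem) h.fused)
  refine ⟨w, fun x hxt hxo hxa => hw _ ?_ ?_ ?_⟩
  · rw [← map_mul, ← map_mul, show x * (⟨t, ht⟩ : H) = ⟨t, ht⟩ * x from Subtype.ext hxt]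
  · have h1 := orderOf_map_dvd (qm H) x
    rw [← Subgroup.orderOf_coe] at h1
    exact Odd.of_dvd_nat hxo h1
  · rw [← map_inv, ← map_inv, ← map_mul, ← map_mul]
    exact congrArg (qm H) (Subtype.ext hxa)

end

end CoreBase

namespace CoreSetting

variable {S : Sylow 2 G} {t a b : G} {H : Subgroup G}

open CoreBase (mem_core_iff)

section
variable (h : CoreSetting S t a b H)
include h

/-- Commuting with an involution of `S` modulo the core is commuting with it. -/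
theorem commute_lift {x s : H} (hs : (s : G) ∈ (S : Subgroup G)) (hs2 : (s : G) * s = 1)
    (hc : (qm H) x * (qm H) s = (qm H) s * (qm H) x) : (x : G) * s = (s : G) * x := by
  set d := (s : G) * x * (s : G)⁻¹ * (x : G)⁻¹ with hd
  have hdD : d ∈ coreOf H := by
    have h1 : (qm H) (s * x * s⁻¹ * x⁻¹) = 1 := by
      rw [map_mul, map_mul, map_mul, map_inv, map_inv, ← hc]; group
    exact mem_core_iff.1 h1
  have hsi : (s : G)⁻¹ = s := inv_eq_of_mul_eq_one_right hs2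
  have h1 : (s : G) * d * (s : G)⁻¹ = d := by rw [h.fix d hdD s hs, mul_inv_cancel_right]
  have h2 : (s : G) * d * (s : G)⁻¹ = d⁻¹ := by
    rw [hd, hsi]
    calc (s : G) * ((s : G) * x * s * (x : G)⁻¹) * s = ((s : G) * s) * x * s * (x : G)⁻¹ * s := by group
      _ = ((s : G) * x * s * (x : G)⁻¹)⁻¹ := by
        rw [hs2, one_mul]; simp only [_root_.mul_inv_rev, inv_inv, hsi, mul_assoc]
  have h3 := eq_one_of_eq_inv (orderOf_odd_of_mem (coreOf_odd H) hdD) (h1.symm.trans h2)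
  rw [hd] at h3
  calc (x : G) * s = ((s : G) * x * (s : G)⁻¹ * (x : G)⁻¹)⁻¹ * ((s : G) * x) := by group
    _ = (s : G) * x := by rw [h3, inv_one, one_mul]

theorem core_le_coreC : coreOf H ≤ coreC t := fun d hd =>
  h.hyp.mem_coreC h.refl.t_two
    (Subgroup.mem_centralizer_singleton_iff.2 (h.fix d hd t h.refl.t_mem).symm)
    (orderOf_odd_of_mem (coreOf_odd H) hd)

theorem core_le_coreFix {s : G} (hs : s ∈ (S : Subgroup G)) : coreOf H ≤ coreFix t s := fun d hd =>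
  Subgroup.mem_inf.2 ⟨h.core_le_coreC hd, Subgroup.mem_centralizer_singleton_iff.2 (h.fix d hd s hs).symm⟩

/-- Odd elements of the centraliser of the image of `t` come from `O(C(t)) ∩ H`. -/
theorem map_coreC (ht : t ∈ H) :
    ((coreC t ⊓ H).subgroupOf H).map (qm H) = coreC ((qm H) ⟨t, ht⟩) := by
  haveI : Fact (Nat.Prime 2) := ⟨Nat.prime_two⟩
  have htS : ((⟨t, ht⟩ : H) : G) ∈ (S : Subgroup G) := h.refl.t_mem
  refine le_antisymm ?_ fun y hy => ?_
  · rintro _ ⟨x, hx, rfl⟩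
    refine ModelsC.mem_coreC h.hasDihedral.sylowCD (h.order_two htS h.refl.t_two) ?_ ?_
    · rw [← map_mul, ← map_mul, show x * (⟨t, ht⟩ : H) = ⟨t, ht⟩ * x from
        Subtype.ext (Subgroup.mem_centralizer_singleton_iff.1 (coreC_le t hx.1))]
    · have h1 := orderOf_map_dvd (qm H) x
      rw [← Subgroup.orderOf_coe] at h1
      exact Odd.of_dvd_nat (orderOf_odd_of_mem (coreC_odd t) hx.1) h1
  · obtain ⟨x, rfl⟩ := QuotientGroup.mk'_surjective (Cfsg.oddCore H) y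
    have hxt := h.commute_lift htS (mul_self_of_two h.refl.t_two)
      (Subgroup.mem_centralizer_singleton_iff.1 (coreC_le _ hy))
    obtain ⟨k, m, hm, hkm⟩ := Nat.exists_eq_two_pow_mul_odd (n := orderOf (x : G)) (orderOf_pos _).ne'
    have hodd := orderOf_odd_of_mem (coreC_odd _) hy
    obtain ⟨c, hc⟩ := exists_pow_eq_self_of_coprime (n := 2 ^ k) (x := (qm H) x)
      ((Nat.coprime_two_left.2 hodd).pow_left k)
    refine ⟨(x ^ 2 ^ k) ^ c, Subgroup.mem_subgroupOf.2 (Subgroup.mem_inf.2 ⟨?_, Subtype.coe_prop _⟩), ?_⟩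
    · rw [Subgroup.coe_pow, Subgroup.coe_pow]
      refine pow_mem (h.hyp.mem_coreC h.refl.t_two (pow_mem
        (Subgroup.mem_centralizer_singleton_iff.2 hxt) _) ?_) c
      rw [orderOf_pow' _ (by positivity), hkm, Nat.gcd_eq_right (dvd_mul_right _ _),
        Nat.mul_div_cancel_left _ (by positivity)]
      exact hm
    · rw [map_pow, map_pow, hc]

theorem map_coreFix (ht : t ∈ H) {s : G} (hsH : s ∈ H) (hsS : s ∈ (S : Subgroup G)) (hs2 : s * s = 1) :
    ((coreFix t s ⊓ H).subgroupOf H).map (qm H) = coreFix ((qm H) ⟨t, ht⟩) ((qm H) ⟨s, hsH⟩) := by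
  refine le_antisymm ?_ fun y hy => ?_
  · rintro _ ⟨x, hx, rfl⟩
    refine Subgroup.mem_inf.2 ⟨h.map_coreC ht ▸ ⟨x, Subgroup.mem_inf.2 ⟨hx.1.1, hx.2⟩, rfl⟩,
      Subgroup.mem_centralizer_singleton_iff.2 ?_⟩
    rw [← map_mul, ← map_mul, show x * (⟨s, hsH⟩ : H) = ⟨s, hsH⟩ * x from
      Subtype.ext (Subgroup.mem_centralizer_singleton_iff.1 hx.1.2)]
  · obtain ⟨x, hx, rfl⟩ : y ∈ ((coreC t ⊓ H).subgroupOf H).map (qm H) := (h.map_coreC ht).symm ▸ hy.1
    exact ⟨x, Subgroup.mem_subgroupOf.2 (Subgroup.mem_inf.2 ⟨Subgroup.mem_inf.2 ⟨hx.1,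
      Subgroup.mem_centralizer_singleton_iff.2 (h.commute_lift hsS hs2
        (Subgroup.mem_centralizer_singleton_iff.1 hy.2))⟩, hx.2⟩), rfl⟩

theorem map_centralizer (ht : t ∈ H) :
    ((Subgroup.centralizer ({t} : Set G) ⊓ H).subgroupOf H).map (qm H) =
      Subgroup.centralizer ({(qm H) ⟨t, ht⟩} : Set (↥H ⧸ Cfsg.oddCore ↥H)) := by
  refine le_antisymm ?_ fun y hy => ?_
  · rintro _ ⟨x, hx, rfl⟩
    rw [Subgroup.mem_centralizer_singleton_iff, ← map_mul, ← map_mul,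
      show x * (⟨t, ht⟩ : H) = ⟨t, ht⟩ * x from
        Subtype.ext (Subgroup.mem_centralizer_singleton_iff.1 hx.1)]
  · obtain ⟨x, rfl⟩ := QuotientGroup.mk'_surjective (Cfsg.oddCore H) y
    exact ⟨x, Subgroup.mem_subgroupOf.2 (Subgroup.mem_inf.2 ⟨Subgroup.mem_centralizer_singleton_iff.2
      (h.commute_lift (s := ⟨t, ht⟩) h.refl.t_mem (mul_self_of_two h.refl.t_two)
        (Subgroup.mem_centralizer_singleton_iff.1 hy)), x.2⟩), rfl⟩

theorem card_coreC (ht : t ∈ H) :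
    Nat.card (coreC ((qm H) ⟨t, ht⟩)) * Nat.card (Cfsg.oddCore H) = Nat.card ↥(coreC t ⊓ H) :=
  h.map_coreC ht ▸ card_map_mul_card _ inf_le_right
    (le_inf h.core_le_coreC (Subgroup.map_subtype_le _))

theorem card_coreFix (ht : t ∈ H) {s : G} (hsH : s ∈ H) (hsS : s ∈ (S : Subgroup G)) (hs2 : s * s = 1) :
    Nat.card (coreFix ((qm H) ⟨t, ht⟩) ((qm H) ⟨s, hsH⟩)) * Nat.card (Cfsg.oddCore H) =
      Nat.card ↥(coreFix t s ⊓ H) :=
  h.map_coreFix ht hsH hsS hs2 ▸ card_map_mul_card _ inf_le_right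
    (le_inf (h.core_le_coreFix hsS) (Subgroup.map_subtype_le _))

theorem card_centralizer (ht : t ∈ H) :
    Nat.card (Subgroup.centralizer ({(qm H) ⟨t, ht⟩} : Set (↥H ⧸ Cfsg.oddCore ↥H))) * Nat.card (Cfsg.oddCore H) =
      Nat.card ↥(Subgroup.centralizer ({t} : Set G) ⊓ H) :=
  h.map_centralizer ht ▸ card_map_mul_card _ inf_le_right
    (le_inf (h.core_le_coreC.trans (coreC_le t)) (Subgroup.map_subtype_le _))

/-- The models, in `H`. -/
theorem models (hMS : PropModelSplit.{u}) (hMO : PropModelOne.{u}) {n : ℕ} (hn : 3 ≤ n)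
    (hS : Nat.card (S : Subgroup G) = 2 ^ n) :
    (¬ FusedIn (fourOf t a) H ∧
      ∀ x ∈ H, x * t = t * x → Odd (orderOf x) → x * a = a * x → x * b = b * x) ∨
    ((∀ x ∈ H, x * t = t * x → Odd (orderOf x) → x * a = a * x → x * b = b * x) ∧
      ∃ (T q : ℕ) (ε : ℤ), (ε = 1 ∨ ε = -1) ∧ IsPrimePow q ∧ Nat.Coprime q T ∧
        Nat.card ↥(coreC t ⊓ H) = T * Nat.card ↥(coreFix t a ⊓ H) ∧ (q : ℤ) = 2 ^ n * (T : ℤ) + ε ∧
        2 * (Nat.card H : ℤ) =
          (q : ℤ) * ((q : ℤ) + ε) * Nat.card ↥(Subgroup.centralizer ({t} : Set G) ⊓ H)) ∨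
    (n = 3 ∧ Nat.card H = 2520 * Nat.card (coreOf H) ∧ Nat.card ↥(coreC t ⊓ H) = 3 * Nat.card (coreOf H) ∧
      (coreC t ⊓ H ≤ Subgroup.centralizer ({a} : Set G) ∨
        coreC t ⊓ H ≤ Subgroup.centralizer ({b} : Set G))) := by
  have ht := h.sylow_le h.refl.t_mem
  have ha := h.sylow_le h.refl.u_mem
  have hb := h.sylow_le h.refl.v_mem
  obtain ⟨T, hTcard, hTR, hTcl⟩ := h.exists_sylow hS ht ha hb
  have hfb := h.fused_map ht hb h.refl.t_mem h.refl.v_mem h.refl.t_two h.refl.v_two h.refl.v_ne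
    (h.refl.central b h.refl.v_mem) h.fused
  have hat' : (qm H) ⟨a, ha⟩ * (qm H) ⟨t, ht⟩ = (qm H) ⟨t, ht⟩ * (qm H) ⟨a, ha⟩ := by
    rw [← map_mul, ← map_mul, show (⟨a, ha⟩ : H) * ⟨t, ht⟩ = ⟨t, ht⟩ * ⟨a, ha⟩ from
      Subtype.ext (h.refl.central a h.refl.u_mem)]
  have hbt' : (qm H) ⟨b, hb⟩ * (qm H) ⟨t, ht⟩ = (qm H) ⟨t, ht⟩ * (qm H) ⟨b, hb⟩ := by
    rw [← map_mul, ← map_mul, show (⟨b, hb⟩ : H) * ⟨t, ht⟩ = ⟨t, ht⟩ * ⟨b, hb⟩ from
      Subtype.ext (h.refl.central b h.refl.v_mem)]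
  have himg : ∀ x : H, (x : G) * t = t * x → (qm H) x * (qm H) ⟨t, ht⟩ = (qm H) ⟨t, ht⟩ * (qm H) x := fun x hx => by
    rw [← map_mul, ← map_mul, show x * (⟨t, ht⟩ : H) = ⟨t, ht⟩ * x from Subtype.ext hx]
  have hodd : ∀ x : H, Odd (orderOf (x : G)) → Odd (orderOf ((qm H) x)) := fun x hx => by
    have h1 := orderOf_map_dvd (qm H) x
    rw [← Subgroup.orderOf_coe] at h1
    exact Odd.of_dvd_nat hx h1
  have hca : ∀ x : H, (x : G) * a = a * x → (qm H) x * (qm H) ⟨a, ha⟩ = (qm H) ⟨a, ha⟩ * (qm H) x := fun x hx => by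
    rw [← map_mul, ← map_mul, show x * (⟨a, ha⟩ : H) = ⟨a, ha⟩ * x from Subtype.ext hx]
  by_cases hfa : FusedIn (fourOf ((qm H) ⟨t, ht⟩) ((qm H) ⟨a, ha⟩)) ⊤
  swap
  · left
    refine ⟨fun hf => hfa (h.fused_map ht ha h.refl.t_mem h.refl.u_mem h.refl.t_two h.refl.u_two
      h.refl.u_ne (h.refl.central a h.refl.u_mem) hf), fun x hx hxt hxo hxa => ?_⟩
    obtain ⟨hsplit, -⟩ := hMS (↥H ⧸ Cfsg.oddCore ↥H) ((qm H) ⟨t, ht⟩) ((qm H) ⟨b, hb⟩) ((qm H) ⟨a, ha⟩)
      (Cores.pPrimeCore_quotient_pPrimeCore 2) h.hasDihedral (fun L N _ hs hna => h.sections L N hs hna)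
      hTR.t_two hTR.v_two hTR.u_two hbt' hat' (by rw [Set.pair_comm, hTcl]; exact T.2)
      (by rw [Set.pair_comm]; exact hTR.t_gen) hfb hTR.u_ne hfa
    exact h.commute_lift (x := ⟨x, hx⟩) (s := ⟨b, hb⟩) h.refl.v_mem (mul_self_of_two h.refl.v_two)
      (hsplit _ (himg ⟨x, hx⟩ hxt) (hodd ⟨x, hx⟩ hxo) (hca ⟨x, hx⟩ hxa))
  right
  have hD0 : Nat.card (coreOf H) = Nat.card (Cfsg.oddCore H) :=
    Subgroup.card_map_of_injective H.subtype_injective
  have hH : Nat.card H = Nat.card (↥H ⧸ Cfsg.oddCore ↥H) * Nat.card (Cfsg.oddCore H) :=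
    Subgroup.card_eq_card_quotient_mul_card_subgroup _
  rcases hMO (↥H ⧸ Cfsg.oddCore ↥H) T ((qm H) ⟨t, ht⟩) ((qm H) ⟨a, ha⟩) ((qm H) ⟨b, hb⟩) n (Cores.pPrimeCore_quotient_pPrimeCore 2)
    h.hasDihedral (fun L N _ hs hna => h.sections L N hs hna) hn hTcard hTR hTcl hfa hfb with
    ⟨hrot, T', q, ε, hε, hq, hqT, hc, hqe, hX⟩ | ⟨hn3, hX, hc, hfix⟩
  · left
    refine ⟨fun x hx hxt hxo hxa => ?_, T', q, ε, hε, hq, hqT, ?_, hqe, ?_⟩
    · refine h.commute_lift (x := ⟨x, hx⟩) (s := ⟨b, hb⟩) h.refl.v_mem (mul_self_of_two h.refl.v_two) ?_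
      refine mul_left_cancel (a := (qm H) ⟨a, ha⟩) ?_
      rw [← mul_assoc, ← hca ⟨x, hx⟩ hxa, mul_assoc, hrot _ (himg ⟨x, hx⟩ hxt) (hodd ⟨x, hx⟩ hxo),
        mul_assoc]
    · rw [← h.card_coreC ht, ← h.card_coreFix ht ha h.refl.u_mem (mul_self_of_two h.refl.u_two), hc,
        mul_assoc]
    · rw [hH, ← h.card_centralizer ht]
      push_cast
      linear_combination (Nat.card (Cfsg.oddCore H) : ℤ) * hX
  · right
    refine ⟨hn3, by rw [hH, hX, hD0], by rw [← h.card_coreC ht, hc, hD0], ?_⟩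
    have key : ∀ {s : G} (hsH : s ∈ H), s ∈ (S : Subgroup G) → s * s = 1 →
        coreC ((qm H) ⟨t, ht⟩) ≤ Subgroup.centralizer ({(qm H) ⟨s, hsH⟩} : Set (↥H ⧸ Cfsg.oddCore ↥H)) →
        coreC t ⊓ H ≤ Subgroup.centralizer ({s} : Set G) := by
      intro s hsH hsS hs2 hle x hx
      exact Subgroup.mem_centralizer_singleton_iff.2 (h.commute_lift (x := ⟨x, hx.2⟩) (s := ⟨s, hsH⟩) hsS hs2
        (Subgroup.mem_centralizer_singleton_iff.1 (hle (h.map_coreC ht ▸ ⟨⟨x, hx.2⟩, hx, rfl⟩))))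
    exact hfix.imp (key ha h.refl.u_mem (mul_self_of_two h.refl.u_two))
      (key hb h.refl.v_mem (mul_self_of_two h.refl.v_two))

end

end CoreSetting

end Cfsg.Agent.Lib.GorensteinWalter
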