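import Cfsg.Agent.Lib.GorensteinWalter.InterfaceG
import Cfsg.Agent.Lib.GorensteinWalter.SomeTrivial
import Cfsg.Agent.Lib.GorensteinWalter.FusedCentralizer

/-!
# Section C: Sylow subgroups of the core `O(C(t))`

At a prime `r` without configuration a Sylow `r`-subgroup of `O = O(C(t))` is a Sylow subgroup of the group or
has the size of the `r`-part of one of `C_O(a)`, `C_O(b)`.  A small prime provides a prime `s` without
configuration and an `a`-invariant `s`-subgroup of `O` in which `a` has fixed points and moves something.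
-/

set_option autoImplicit false
set_option linter.unusedSectionVars false
set_option linter.style.haveILetI false

namespace Cfsg.Agent.Lib.GorensteinWalter

open Cfsg.Agent.Lib.Fusion.Dihedral
open scoped Pointwise

universe u

variable {G : Type u} [Group G] [Finite G]

theorem mul_self_of_two {x : G} (hx : orderOf x = 2) : x * x = 1 := by rw [← sq, ← hx, pow_orderOf_eq_one]

theorem ne_one_of_two {x : G} (hx : orderOf x = 2) : x ≠ 1 := fun e => by
  rw [e, orderOf_one] at hx; omega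

/-! ## The two four-groups of a pair of reflections -/

/-- `⟨t, u⟩` is a four-group with core `C_O(u)`. -/
theorem Hyp.four_coreFix (hG : Hyp G) {t u : G} (ht : orderOf t = 2) (hu : orderOf u = 2)
    (hut : u ≠ t) (hc : u * t = t * u) :
    IsFour (fourOf t u) ∧ t ∈ fourOf t u ∧ u ∈ fourOf t u ∧ coreV (fourOf t u) = coreFix t u := by
  obtain ⟨V, hV, htV, huV, -⟩ := exists_isFour (mul_self_of_two ht) (mul_self_of_two hu) hc.symm
    (ne_one_of_two ht) (ne_one_of_two hu) hut.symm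
  rw [fourOf_eq hV htV huV (ne_one_of_two ht) (ne_one_of_two hu) hut.symm]
  exact ⟨hV, htV, huV, (hG.coreC_inf_eq hV htV (ne_one_of_two ht) huV (ne_one_of_two hu) hut.symm).symm⟩

/-- A four-group through `t` and `u` has core `C_O(u)`. -/
theorem Hyp.coreV_eq_coreFix (hG : Hyp G) {t u : G} (ht : orderOf t = 2) (hu : orderOf u = 2)
    (hut : u ≠ t) {V : Subgroup G} (hV : IsFour V) (htV : t ∈ V) (huV : u ∈ V) :
    coreV V = coreFix t u :=
  (hG.coreC_inf_eq hV htV (ne_one_of_two ht) huV (ne_one_of_two hu) hut.symm).symm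

/-- Elements centralising `t` conjugate the fixed points. -/
theorem conj_mem_coreC {t g y : G} (hg : g * t = t * g) (hy : y ∈ coreC t) : g * y * g⁻¹ ∈ coreC t :=
  (Subgroup.mem_normalizer_iff.1 (centralizer_le_normalizer_coreC t
    (Subgroup.mem_centralizer_singleton_iff.2 hg)) y).1 hy

theorem map_coreFix {t g : G} (hg : g * t = t * g) (u : G) :
    (coreFix t u).map (MulAut.conj g).toMonoidHom = coreFix t (g * u * g⁻¹) := by
  ext x
  constructor
  · rintro ⟨y, hy, rfl⟩
    have h1 := Subgroup.mem_centralizer_singleton_iff.1 hy.2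
    refine ⟨conj_mem_coreC hg hy.1, Subgroup.mem_centralizer_singleton_iff.2 ?_⟩
    simp only [MulEquiv.coe_toMonoidHom, MulAut.conj_apply]
    calc g * y * g⁻¹ * (g * u * g⁻¹) = g * (y * u) * g⁻¹ := by group
      _ = g * u * g⁻¹ * (g * y * g⁻¹) := by rw [h1]; group
  · intro hx
    have hg' : g⁻¹ * t = t * g⁻¹ := by
      calc g⁻¹ * t = g⁻¹ * (t * g) * g⁻¹ := by group
        _ = t * g⁻¹ := by rw [← hg]; group
    refine ⟨g⁻¹ * x * g, ⟨?_, Subgroup.mem_centralizer_singleton_iff.2 ?_⟩, by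
      simp only [MulEquiv.coe_toMonoidHom, MulAut.conj_apply]; group⟩
    · simpa using conj_mem_coreC hg' hx.1
    · have h1 := Subgroup.mem_centralizer_singleton_iff.1 hx.2
      calc g⁻¹ * x * g * u = g⁻¹ * (x * (g * u * g⁻¹)) * g := by group
        _ = u * (g⁻¹ * x * g) := by rw [h1]; group

theorem card_coreFix_conj {t g : G} (hg : g * t = t * g) (u : G) :
    Nat.card (coreFix t (g * u * g⁻¹)) = Nat.card (coreFix t u) := by
  rw [← map_coreFix hg u, Subgroup.card_map_of_injective (MulEquiv.injective _)]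

/-- Two involutions generating a 2-group of order at least eight are not conjugate in it. -/
theorem not_conj_of_closure (S : Sylow 2 G) (h8 : 8 ≤ Nat.card (S : Subgroup G)) {a b : G}
    (ha : orderOf a = 2) (haS : a ∈ (S : Subgroup G))
    (hcl : Subgroup.closure ({a, b} : Set G) = (S : Subgroup G)) :
    ¬ ∃ s ∈ (S : Subgroup G), s * a * s⁻¹ = b := by
  haveI : Fact (Nat.Prime 2) := ⟨Nat.prime_two⟩
  rintro ⟨s, hs, hsab⟩
  haveI := S.2.isNilpotent
  set A : Subgroup (S : Subgroup G) := Subgroup.zpowers ⟨a, haS⟩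
  have hA : A ≠ ⊤ := fun e => by
    have h := congrArg (fun K : Subgroup (S : Subgroup G) => Nat.card K) e
    simp only [Subgroup.card_top, A, Nat.card_zpowers, Subgroup.orderOf_mk, ha] at h
    omega
  obtain ⟨M, hM, hAM⟩ := (IsCoatomic.eq_top_or_exists_le_coatom A).resolve_left hA
  haveI : M.Normal := Subgroup.NormalizerCondition.normal_of_coatom M Group.normalizerCondition_of_isNilpotent hM
  refine hM.1 (eq_top_iff.2 fun x _ => ?_)
  have hle : Subgroup.closure ({a, b} : Set G) ≤ M.map (S : Subgroup G).subtype := by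
    rw [Subgroup.closure_le]
    rintro y (rfl | rfl)
    · exact ⟨⟨y, haS⟩, hAM (Subgroup.mem_zpowers _), rfl⟩
    · exact ⟨⟨s, hs⟩ * ⟨a, haS⟩ * ⟨s, hs⟩⁻¹,
        Subgroup.Normal.conj_mem inferInstance _ (hAM (Subgroup.mem_zpowers _)) _, hsab⟩
  obtain ⟨y, hy, hyx⟩ := hle (hcl.symm ▸ x.2 : (x : G) ∈ Subgroup.closure ({a, b} : Set G))
  exact (Subtype.ext hyx : y = x) ▸ hy

/-! ## Sylow subgroups of `O` -/

/-- Outside configurations a Sylow `r`-subgroup of `O` is Sylow in `G`, or it is centralised by `a` or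
`b` up to conjugation. -/
theorem regular_or_fixed (hG : Hyp G) (hDich : PropDichotomy.{u}) {S : Sylow 2 G} {t a b : G}
    (hR : Refl S t a b) (h8 : 8 ≤ Nat.card (S : Subgroup G))
    (hnc : ¬ ∃ s ∈ (S : Subgroup G), s * a * s⁻¹ = b) {r : ℕ} [Fact r.Prime] (hr : r ≠ 2)
    (hC : ∀ V H : Subgroup G, ¬ Conf r V H) :
    (Nat.card (coreC t)).factorization r = (Nat.card G).factorization r ∨
      (Nat.card (coreC t)).factorization r ≤ (Nat.card (coreFix t a)).factorization r ∨
      (Nat.card (coreC t)).factorization r ≤ (Nat.card (coreFix t b)).factorization r := by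
  classical
  haveI : Fact (Nat.Prime 2) := ⟨Nat.prime_two⟩
  obtain ⟨R₀⟩ : Nonempty (Sylow r (coreC t)) := inferInstance
  set R := (R₀ : Subgroup (coreC t)).map (coreC t).subtype
  have hRle : R ≤ coreC t := Subgroup.map_subtype_le _
  have hRcard : Nat.card R = r ^ (Nat.card (coreC t)).factorization r := Coprime.card_sylow_map R₀
  rcases hDich G hG r hr hC t R hR.t_two (R₀.2.map _) hRle hRcard with ⟨V, hV, htV, hRV⟩ | h
  swap
  · exact Or.inl (Nat.pow_right_injective (Fact.out : r.Prime).two_le (hRcard.symm.trans h))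
  right
  set C := Subgroup.centralizer ({t} : Set G) with hCdef
  have hSC : (S : Subgroup G) ≤ C := fun s hs => Subgroup.mem_centralizer_singleton_iff.2 (hR.central s hs)
  have hVC : V ≤ C := fun v hv => Subgroup.mem_centralizer_singleton_iff.2 (hV.comm hv htV)
  obtain ⟨T, hT⟩ := ((hV.isPGroup).comap_subtype (K := C)).exists_le_sylow
  obtain ⟨k, hk⟩ := MulAction.exists_smul_eq C T (S.subtype hSC)
  have hVS : ∀ v ∈ V, (k : G) * v * (k : G)⁻¹ ∈ (S : Subgroup G) := fun v hv => by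
    have h1 : k * ⟨v, hVC hv⟩ * k⁻¹ ∈ ((S.subtype hSC : Sylow 2 C) : Subgroup C) := by
      rw [← hk]
      exact Subgroup.smul_mem_pointwise_smul _ (MulAut.conj k) (T : Subgroup C)
        (hT (show (v : G) ∈ V from hv))
    exact h1
  obtain ⟨w, hw, hw1, hwt⟩ := exists_mem_ne' hV t
  have hkt : (k : G) * t = t * (k : G) := Subgroup.mem_centralizer_singleton_iff.1 k.2
  set w' := (k : G) * w * (k : G)⁻¹ with hw'
  have hw2 : orderOf w' = 2 := by
    rw [hw', ← MulAut.conj_apply]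
    exact (MulEquiv.orderOf_eq (MulAut.conj (k : G)) w).trans (hV.orderOf_eq hw hw1)
  have hwt' : w' ≠ t := fun e => hwt (by
    calc w = (k : G)⁻¹ * w' * k := by rw [hw']; group
      _ = t := by rw [e, mul_assoc, ← hkt, inv_mul_cancel_left])
  have key : ∀ x : G, ∀ s ∈ (S : Subgroup G), s * x * s⁻¹ = w' →
      (Nat.card (coreC t)).factorization r ≤ (Nat.card (coreFix t x)).factorization r := by
    intro x s hs hsw
    have hx : x = s⁻¹ * k * w * (s⁻¹ * k)⁻¹ := by
      calc x = s⁻¹ * (s * x * s⁻¹) * s := by group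
        _ = s⁻¹ * ((k : G) * w * (k : G)⁻¹) * s := by rw [hsw, hw']
        _ = s⁻¹ * k * w * (s⁻¹ * k)⁻¹ := by group
    have hgt : s⁻¹ * k * t = t * (s⁻¹ * k) := by
      rw [mul_assoc, hkt, ← mul_assoc, hR.central _ (inv_mem hs), mul_assoc]
    have hRw : R ≤ coreFix t w := le_inf hRle fun y hy => Subgroup.mem_centralizer_singleton_iff.2
      (Subgroup.mem_centralizer_iff.1 (hRV hy) w hw).symm
    have h2 := Subgroup.card_dvd_of_le hRw
    rw [hRcard, ← card_coreFix_conj hgt w, ← hx] at h2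
    exact ((Fact.out : r.Prime).pow_dvd_iff_le_factorization Nat.card_pos.ne').1 h2
  rcases classify_reflection hG S h8 hR.t_mem hR.t_two hR.central hR.u_mem hR.u_two hR.u_ne hR.v_mem
    hR.v_two hR.v_ne hnc (hVS w hw) hw2 hwt' with ⟨s, hs, hsw⟩ | ⟨s, hs, hsw⟩
  · exact Or.inl (key a s hs hsw)
  · exact Or.inr (key b s hs hsw)
where
  exists_mem_ne' {V : Subgroup G} (hV : IsFour V) (v : G) : ∃ a ∈ V, a ≠ 1 ∧ a ≠ v := by
    by_contra hno
    push Not at hno
    have hs : Set.ncard (V : Set G) ≤ Set.ncard ({1, v} : Set G) := Set.ncard_le_ncard (fun x hx => by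
      by_cases hx1 : x = 1
      · exact Or.inl hx1
      · exact Or.inr (hno x hx hx1)) (Set.toFinite _)
    rw [← Nat.card_coe_set_eq, show Nat.card (V : Set G) = 4 from hV.1] at hs
    have h := Set.ncard_insert_le (1 : G) {v}
    rw [Set.ncard_singleton] at h
    omega

/-- If the fixed points of an involution contain a Sylow `s`-subgroup of `K`, it centralises every
invariant `s`-subgroup of `K`. -/
theorem fixed_invariant {K : Subgroup G} (hK : Odd (Nat.card K)) {u : G} (hu : orderOf u = 2)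
    (hn : ∀ y ∈ K, u * y * u⁻¹ ∈ K) {s : ℕ} [Fact s.Prime]
    (hv : (Nat.card K).factorization s ≤
      (Nat.card ↥(K ⊓ Subgroup.centralizer ({u} : Set G))).factorization s)
    {P : Subgroup G} (hP : IsPGroup s P) (hPK : P ≤ K) (hPu : ∀ y ∈ P, u * y * u⁻¹ ∈ P) :
    P ≤ Subgroup.centralizer ({u} : Set G) := by
  classical
  set A := Subgroup.zpowers u with hA
  set K₀ := K ⊓ Subgroup.centralizer ({u} : Set G) with hK₀
  have hle : ∀ Q : Subgroup G, (∀ y ∈ Q, u * y * u⁻¹ ∈ Q) → A ≤ Subgroup.normalizer (Q : Set G) :=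
    fun Q hQ => Subgroup.zpowers_le.2 (Subgroup.mem_normalizer_fintype hQ)
  have hcop : (Nat.card A).Coprime (Nat.card K) := by
    rw [Nat.card_zpowers, hu]
    exact Nat.coprime_two_left.2 hK
  have hsolv : Group.IsSolvable A ∨ Group.IsSolvable K := Or.inl (Coprime.isSolvable_zpowers u)
  obtain ⟨P₁, hPP₁, hP₁⟩ := Coprime.exists_invariant_sylow_ge (hle K hn) hcop hsolv s P hPK hP (hle P hPu)
  obtain ⟨Q₀⟩ : Nonempty (Sylow s K₀) := inferInstance
  set Q := (Q₀ : Subgroup K₀).map K₀.subtype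
  have hQK₀ : Q ≤ K₀ := Subgroup.map_subtype_le _
  have hQcard : Nat.card Q = s ^ (Nat.card K).factorization s := by
    rw [Coprime.card_sylow_map Q₀, le_antisymm
      ((Nat.factorization_le_iff_dvd Nat.card_pos.ne' Nat.card_pos.ne').2
        (Subgroup.card_dvd_of_le inf_le_left) s) hv]
  obtain ⟨Q₁, hQ₁⟩ := Coprime.exists_sylow_of_card (hQK₀.trans inf_le_left) hQcard
  have hQu : ∀ y ∈ Q, u * y = y * u := fun y hy =>
    (Subgroup.mem_centralizer_singleton_iff.1 (hQK₀ hy).2).symm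
  obtain ⟨c, hc, hce⟩ := Coprime.exists_conj_invariant_sylow (hle K hn) hcop hsolv P₁ Q₁ hP₁ (hQ₁ ▸
    hle Q fun y hy => by rw [hQu y hy, mul_inv_cancel_right]; exact hy)
  rw [hQ₁] at hce
  intro y hy
  have hcu : u * c = c * u := Subgroup.mem_centralizer_iff.1 hc.2 u (Subgroup.mem_zpowers u)
  have h1 : c * y * c⁻¹ ∈ Q := by
    rw [← hce, Coprime.mem_conj_smul]
    simpa [mul_assoc] using hPP₁ hy
  have h2 := hQu _ h1
  rw [Subgroup.mem_centralizer_singleton_iff]
  calc y * u = c⁻¹ * (c * y * c⁻¹ * (c * u)) := by group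
    _ = c⁻¹ * (c * y * c⁻¹ * (u * c)) := by rw [hcu]
    _ = c⁻¹ * ((c * y * c⁻¹ * u) * c) := by group
    _ = c⁻¹ * ((u * c) * y) := by rw [← h2]; group
    _ = u * y := by rw [hcu]; group

/-- Containment of every invariant Sylow subgroup gives containment. -/
theorem exists_moved_invariant_pgroup {A K C : Subgroup G} (hAK : A ≤ Subgroup.normalizer (K : Set G))
    (hcop : (Nat.card A).Coprime (Nat.card K)) (hsolv : Group.IsSolvable A ∨ Group.IsSolvable K)
    (hK : ¬ K ≤ C) :
    ∃ (s : ℕ) (P : Subgroup G), s.Prime ∧ s ∣ Nat.card K ∧ P ≤ K ∧ IsPGroup s P ∧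
      A ≤ Subgroup.normalizer (P : Set G) ∧ ¬ P ≤ C := by
  classical
  by_contra hno
  push Not at hno
  refine hK (Coprime.le_of_forall_sylow fun p hp => ?_)
  haveI := Fact.mk hp
  obtain ⟨P, hP⟩ := Coprime.exists_invariant_sylow hAK hcop hsolv p
  refine ⟨P, ?_⟩
  by_cases hd : p ∣ Nat.card K
  · exact hno p _ hp hd (Subgroup.map_subtype_le _) (P.2.map _) hP
  · have h1 := Coprime.card_sylow_map P
    rw [Nat.factorization_eq_zero_of_not_dvd hd, pow_zero] at h1
    rw [Subgroup.card_eq_one.1 h1]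
    exact bot_le

/-! ## Small primes -/

/-- What a small prime leaves in `O`. -/
theorem small_witness (hG : Hyp G) (hnk : ¬ IsKnownD G) (hNo : PropNoConf.{u}) {r : ℕ}
    [Fact r.Prime] (hr : r ≠ 2) (hsm : SmallPrime r G) {t a : G} (ht : orderOf t = 2)
    (ha : orderOf a = 2) (hat : a ≠ t) (hc : a * t = t * a) :
    ∃ (e : G) (s : ℕ) (P : Subgroup G), e ∈ coreC t ∧ orderOf e = r ∧ a * e * a⁻¹ = e⁻¹ ∧
      Fact s.Prime ∧ s ≠ 2 ∧ (∀ V H : Subgroup G, ¬ Conf s V H) ∧ P ≤ coreC t ∧ IsPGroup s P ∧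
      (∀ y ∈ P, a * y * a⁻¹ ∈ P) ∧ (∀ y ∈ P, e * y * e⁻¹ ∈ P) ∧
      ¬ P ≤ Subgroup.centralizer ({e} : Set G) ∧ ¬ P ≤ Subgroup.centralizer ({a} : Set G) ∧
      ∃ z ∈ P, z ≠ 1 ∧ z * a = a * z := by
  classical
  haveI : Fact (Nat.Prime 2) := ⟨Nat.prime_two⟩
  have haa := mul_self_of_two ha
  have hai : a⁻¹ = a := inv_eq_of_mul_eq_one_right haa
  set O := coreC t with hO
  have haO : ∀ y ∈ O, a * y * a⁻¹ ∈ O := fun y hy => conj_mem_coreC hc hy
  obtain ⟨hV, htV, haV, hVO⟩ := hG.four_coreFix ht ha hat hc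
  have hcA : (Nat.card (Subgroup.zpowers a)).Coprime (Nat.card O) := by
    rw [Nat.card_zpowers, ha]
    exact Nat.coprime_two_left.2 (coreC_odd t)
  obtain ⟨R₀, hR₀⟩ := Coprime.exists_invariant_sylow
    (Subgroup.zpowers_le.2 (Subgroup.mem_normalizer_fintype haO)) hcA
    (Or.inl (Coprime.isSolvable_zpowers a)) r
  set R := (R₀ : Subgroup O).map O.subtype with hRdef
  have hRO : R ≤ O := Subgroup.map_subtype_le _
  have hinv := inverts_of_fixed_bot ((coreC_odd t).of_dvd_nat (Subgroup.card_dvd_of_le hRO)) haa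
    (fun y hy => conj_mem_of_mem_normalizer (hR₀ (Subgroup.mem_zpowers a)) hy) fun y hy hya => by
      have h1 : y ∈ coreV (fourOf t a) := by
        rw [hVO]
        exact ⟨hRO hy, Subgroup.mem_centralizer_singleton_iff.2 hya.symm⟩
      have h2 := hsm.free (fourOf t a) (Subgroup.zpowers y) hV
        ((R₀.2.map O.subtype).to_le (Subgroup.zpowers_le.2 hy))
        (Subgroup.zpowers_le.2 (coreV_le _ h1))
      rwa [Subgroup.zpowers_eq_bot] at h2
  -- a moving element of order `r`, inverted by `a`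
  obtain ⟨e₀, he₀t, he₀o, he₀m⟩ := hsm.moves t ht
  have he₀O : e₀ ∈ O := hG.mem_coreC ht (Subgroup.mem_centralizer_singleton_iff.2 he₀t)
    (he₀o ▸ (Fact.out : r.Prime).odd_of_ne_two hr)
  have hcyc : IsPGroup r (Subgroup.zpowers (⟨e₀, he₀O⟩ : O)) := IsPGroup.of_card (n := 1)
    (by rw [Nat.card_zpowers, Subgroup.orderOf_mk, he₀o, pow_one])
  obtain ⟨R₁, hR₁⟩ := hcyc.exists_le_sylow
  obtain ⟨g, hg⟩ := MulAction.exists_smul_eq O R₁ R₀
  set e := (g : G) * e₀ * (g : G)⁻¹ with he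
  have heR : e ∈ R := ⟨g * ⟨e₀, he₀O⟩ * g⁻¹, by
    rw [← hg]
    exact Subgroup.smul_mem_pointwise_smul _ (MulAut.conj g) (R₁ : Subgroup O)
      (hR₁ (Subgroup.mem_zpowers _)), rfl⟩
  have heO : e ∈ O := hRO heR
  have heo : orderOf e = r := by
    rw [he, ← MulAut.conj_apply]
    exact (MulEquiv.orderOf_eq (MulAut.conj (g : G)) e₀).trans he₀o
  have heinv : a * e * a⁻¹ = e⁻¹ := hinv e heR
  set U := coreR r t with hU
  have hUO : U ≤ O := Subgroup.map_subtype_le _
  have hOU : O ≤ Subgroup.normalizer (U : Set G) := by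
    intro x hx
    haveI : (Cfsg.pPrimeCore r O).Normal := inferInstance
    exact Subgroup.le_normalizer_map O.subtype
      ⟨⟨x, hx⟩, by rw [Subgroup.normalizer_eq_top]; trivial, rfl⟩
  have hmove : ¬ U ≤ Subgroup.centralizer ({e} : Set G) := fun h => he₀m fun y hy => by
    have h1 := Subgroup.mem_centralizer_singleton_iff.1 (h (conj_mem_of_mem_normalizer (hOU g.2) hy))
    rw [Subgroup.mem_centralizer_singleton_iff]
    calc y * e₀ = (g : G)⁻¹ * ((g : G) * y * (g : G)⁻¹ * ((g : G) * e₀ * (g : G)⁻¹)) * g := by group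
      _ = e₀ * y := by rw [← he, h1, he]; group
  have haU : a ∈ Subgroup.normalizer (U : Set G) := by
    have h1 : a ∈ Subgroup.normalizer (O : Set G) := Subgroup.mem_normalizer_fintype haO
    refine Subgroup.mem_normalizer_fintype ?_
    rintro _ ⟨x, hx, rfl⟩
    let φ : O ≃* O :=
      { toFun := fun y => ⟨a * y * a⁻¹, haO y y.2⟩
        invFun := fun y => ⟨a⁻¹ * y * a, (Subgroup.mem_normalizer_iff''.1 h1 y).1 y.2⟩
        left_inv := fun y => Subtype.ext (by simp [mul_assoc])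
        right_inv := fun y => Subtype.ext (by simp [mul_assoc])
        map_mul' := fun y z => Subtype.ext (by simp [mul_assoc]) }
    refine ⟨φ x, ?_, rfl⟩
    show φ x ∈ Cfsg.pPrimeCore r O
    rw [← Cores.map_pPrimeCore_equiv φ]
    exact ⟨x, hx, rfl⟩
  -- `⟨a, e⟩` is dihedral of order `2r`
  set E := Subgroup.zpowers e with hE
  set A := Subgroup.zpowers a ⊔ E with hA
  have haE : Subgroup.zpowers a ≤ Subgroup.normalizer (E : Set G) :=
    Subgroup.zpowers_le.2 (Subgroup.mem_normalizer_fintype fun y hy => by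
      obtain ⟨k, rfl⟩ := hy
      rw [SetLike.mem_coe, ← MulAut.conj_apply, map_zpow, MulAut.conj_apply, heinv, inv_zpow']
      exact ⟨-k, rfl⟩)
  have hcop2r : (Nat.card (Subgroup.zpowers a)).Coprime (Nat.card E) := by
    rw [Nat.card_zpowers, Nat.card_zpowers, ha, heo]
    exact Nat.coprime_two_left.2 ((Fact.out : r.Prime).odd_of_ne_two hr)
  have hAcard : Nat.card A = 2 * r := by
    rw [hA, Coprime.card_sup_of_disjoint haE (disjoint_iff.2 (Coprime.inf_eq_bot_of_coprime hcop2r)), Nat.card_zpowers,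
      Nat.card_zpowers, ha, heo]
  have hUr : ¬ r ∣ Nat.card U := by
    rw [hU, Subgroup.card_map_of_injective O.subtype_injective]
    exact ((Fact.out : r.Prime).coprime_iff_not_dvd).1 (Cores.pPrimeCore_coprime r).symm
  have hcopU : (Nat.card A).Coprime (Nat.card U) := by
    rw [hAcard]
    exact Nat.Coprime.mul_left (Nat.coprime_two_left.2 ((coreC_odd t).of_dvd_nat (Subgroup.card_dvd_of_le hUO)))
      ((Fact.out : r.Prime).coprime_iff_not_dvd.2 hUr)
  obtain ⟨s, P, hs, hsU, hPU, hPs, hPA, hPe⟩ := exists_moved_invariant_pgroup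
    (sup_le (Subgroup.zpowers_le.2 haU) (Subgroup.zpowers_le.2 (hOU heO))) hcopU
    (Or.inr (@Coprime.isSolvable_of_le _ _ _ _ hUO (isSolvable_coreC t))) hmove
  have hPO : P ≤ O := hPU.trans hUO
  have hs2 : s ≠ 2 := fun h => ((coreC_odd t).of_dvd_nat (Subgroup.card_dvd_of_le hUO)).not_two_dvd_nat
    (h ▸ hsU)
  have haP : ∀ y ∈ P, a * y * a⁻¹ ∈ P := fun y hy =>
    conj_mem_of_mem_normalizer (hPA (Subgroup.mem_sup_left (Subgroup.mem_zpowers a))) hy
  have heP : ∀ y ∈ P, e * y * e⁻¹ ∈ P := fun y hy =>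
    conj_mem_of_mem_normalizer (hPA (Subgroup.mem_sup_right (Subgroup.mem_zpowers e))) hy
  have he2 : ∀ y : G, e * y * e⁻¹ = e⁻¹ * y * e → y * e = e * y := by
    intro y h
    have h1 : Commute (e ^ 2) y := by
      show e ^ 2 * y = y * e ^ 2
      calc e ^ 2 * y = e * (e * y * e⁻¹) * e := by rw [sq]; group
        _ = y * e ^ 2 := by rw [h, sq]; group
    obtain ⟨j, hj⟩ := (Fact.out : r.Prime).odd_of_ne_two hr
    have h2 : e = (e ^ 2) ^ (j + 1) := by
      rw [← pow_mul, show 2 * (j + 1) = orderOf e + 1 by omega, pow_succ, pow_orderOf_eq_one, one_mul]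
    rw [h2]
    exact (h1.pow_left (j + 1)).eq.symm
  have hnc : ¬ P ≤ Subgroup.centralizer ({a} : Set G) := fun h => hPe fun y hy => by
    rw [Subgroup.mem_centralizer_singleton_iff]
    refine he2 y ?_
    have h1 := Subgroup.mem_centralizer_singleton_iff.1 (h hy)
    have h2 := Subgroup.mem_centralizer_singleton_iff.1 (h (heP y hy))
    calc e * y * e⁻¹ = a * (e * y * e⁻¹) * a⁻¹ := by rw [← h2, mul_inv_cancel_right]
      _ = a * e * a⁻¹ * (a * y * a⁻¹) * (a * e * a⁻¹)⁻¹ := by group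
      _ = e⁻¹ * y * e := by rw [heinv, inv_inv, show a * y * a⁻¹ = y by rw [← h1, mul_inv_cancel_right]]
  obtain ⟨z, hz, hz1, hza⟩ : ∃ z ∈ P, z ≠ 1 ∧ z * a = a * z := by
    by_contra hno
    push Not at hno
    have hPinv := inverts_of_fixed_bot ((coreC_odd t).of_dvd_nat (Subgroup.card_dvd_of_le hPO)) haa haP
      fun y hy hya => by
        by_contra hy1
        exact hno y hy hy1 hya.symm
    refine hPe fun y hy => Subgroup.mem_centralizer_singleton_iff.2 (he2 y ?_)
    have h1 := hPinv _ (heP y hy)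
    rw [show a * (e * y * e⁻¹) * a⁻¹ = a * e * a⁻¹ * (a * y * a⁻¹) * (a * e * a⁻¹)⁻¹ by group, heinv,
      inv_inv, hPinv y hy] at h1
    calc e * y * e⁻¹ = (e * y⁻¹ * e⁻¹)⁻¹ := by group
      _ = e⁻¹ * y * e := by
        rw [show (e * y * e⁻¹)⁻¹ = e * y⁻¹ * e⁻¹ by group] at h1
        rw [← h1]; group
  haveI := Fact.mk hs
  refine ⟨e, s, P, heO, heo, heinv, ⟨hs⟩, hs2, fun V H hcf => hz1 ?_, hPO, hPs, haP, heP, hPe, hnc,
    z, hz, hz1, hza⟩
  have hzV : z ∈ coreV (fourOf t a) := by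
    rw [hVO]
    exact ⟨hPO hz, Subgroup.mem_centralizer_singleton_iff.2 hza⟩
  have h2 := (hNo G hG hnk s hs2 V H hcf).free (fourOf t a) (Subgroup.zpowers z) hV
    (hPs.to_le (Subgroup.zpowers_le.2 hz)) (Subgroup.zpowers_le.2 (coreV_le _ hzV))
  rwa [Subgroup.zpowers_eq_bot] at h2

end Cfsg.Agent.Lib.GorensteinWalter
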