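import Cfsg.Agent.Lib.GorensteinWalter.EqualTools
import Cfsg.Agent.Lib.GorensteinWalter.CoreQuot

/-!
# Equal fixed points `C_O(a) = C_O(b) = E`: first consequences

`S` centralises `E` and acts on `O = O(C(t))` through `a`.  No nontrivial `l`-subgroup of `E` is normal in `O` if
`l` divides the index of `E` (the group would be strongly embedded), and `O` is not a semidirect product of an
abelian inverted group with `E` (invariant linear characters).  The parameter `K` of the order equations is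
`±w / h`, `w = |O : E|`, `h` a product of small primes.
-/

set_option autoImplicit false
set_option linter.unusedSectionVars false
set_option linter.style.haveILetI false

namespace Cfsg.Agent.Lib.GorensteinWalter

open Cfsg.Agent.Lib.Fusion.Dihedral

universe u

variable {G : Type u} [Group G] [Finite G]

/-- The subgroup generated by the elements of `O(C(t))` inverted by `a`. -/
abbrev invGen {G : Type u} [Group G] (t a : G) : Subgroup G :=
  Subgroup.closure {y : G | y ∈ coreC t ∧ a * y * a⁻¹ = y⁻¹}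

/-- The hypotheses of the case of equal fixed points. -/
structure EqualSetting (S : Sylow 2 G) (t a b : G) (n : ℕ) : Prop where
  hyp : Hyp G
  not_known : ¬ IsKnownD G
  refl : Refl S t a b
  cl : Subgroup.closure ({a, b} : Set G) = (S : Subgroup G)
  three_le : 3 ≤ n
  card : Nat.card (S : Subgroup G) = 2 ^ n
  eq : coreFix t a = coreFix t b
  noSE : ∀ H : Subgroup G, ¬ Cfsg.IsStronglyEmbedded H
  rot : ∀ s ∈ (S : Subgroup G), coreC t ≤ Subgroup.centralizer ({s * s} : Set G)

/-- The normaliser of a four-group normalises its core. -/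
theorem Hyp.normalizer_four_le (hG : Hyp G) {V : Subgroup G} (hV : IsFour V) :
    Subgroup.normalizer (V : Set G) ≤ Subgroup.normalizer (coreV V : Set G) := by
  intro g hg
  refine Subgroup.mem_normalizer_fintype fun y hy => ?_
  refine hG.mem_coreV hV (Subgroup.mem_centralizer_iff.2 fun x hx => ?_) ?_
  · have h1 := Subgroup.mem_centralizer_iff.1 (coreV_le _ hy) _ ((Subgroup.mem_normalizer_iff''.1 hg x).1 hx)
    calc x * (g * y * g⁻¹) = g * (g⁻¹ * x * g * y) * g⁻¹ := by group
      _ = g * y * g⁻¹ * x := by rw [h1]; group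
  · rw [← MulAut.conj_apply, MulEquiv.orderOf_eq (MulAut.conj g) y]
    exact orderOf_odd_of_mem (coreV_odd _) hy

namespace EqualSetting

variable {S : Sylow 2 G} {t a b : G} {n : ℕ} (h : EqualSetting S t a b n)
include h

theorem eight : 8 ≤ Nat.card (S : Subgroup G) := by
  rw [h.card]; exact Nat.pow_le_pow_right two_pos h.three_le

theorem not_conj : ¬ ∃ s ∈ (S : Subgroup G), s * a * s⁻¹ = b :=
  not_conj_of_closure S h.eight h.refl.u_two h.refl.u_mem h.cl

theorem aa : a * a = 1 := mul_self_of_two h.refl.u_two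

theorem a_inv : a⁻¹ = a := inv_eq_of_mul_eq_one_right h.aa

theorem conj_mem {s y : G} (hs : s ∈ (S : Subgroup G)) (hy : y ∈ coreC t) : s * y * s⁻¹ ∈ coreC t :=
  conj_mem_coreC (h.refl.central s hs) hy

theorem a_mem {y : G} (hy : y ∈ coreC t) : a * y * a⁻¹ ∈ coreC t := h.conj_mem h.refl.u_mem hy

theorem fix_iff {y : G} (hy : y ∈ coreC t) : y ∈ coreFix t a ↔ a * y = y * a :=
  ⟨fun hm => (Subgroup.mem_centralizer_singleton_iff.1 hm.2).symm,
    fun he => Subgroup.mem_inf.2 ⟨hy, Subgroup.mem_centralizer_singleton_iff.2 he.symm⟩⟩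

/-- `S` centralises `E`. -/
theorem fixed {y : G} (hy : y ∈ coreFix t a) : ∀ s ∈ (S : Subgroup G), s * y = y * s :=
  centralized_of_gens h.cl (K := coreFix t a)
    (fun d hd => (Subgroup.mem_centralizer_singleton_iff.1 hd.2).symm)
    (fun d hd => (Subgroup.mem_centralizer_singleton_iff.1 (h.eq ▸ hd : d ∈ coreFix t b).2).symm) y hy

/-- `b` acts on `O` as `a`. -/
theorem b_act {y : G} (hy : y ∈ coreC t) : b * y * b⁻¹ = a * y * a⁻¹ := by
  have h2 : ∀ x ∈ coreC t, a * b * a * b * x = x * (a * b * a * b) := fun x hx => by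
    rw [show a * b * a * b = a * b * (a * b) by group]
    exact (Subgroup.mem_centralizer_singleton_iff.1
      (h.rot _ (mul_mem h.refl.u_mem h.refl.v_mem) hx)).symm
  have hbb := mul_self_of_two h.refl.v_two
  have h1 := fixed_of_same_fixed (coreC_odd t) h.aa hbb (fun x hx => h.a_mem hx)
    (fun x hx => h.conj_mem h.refl.v_mem hx) h2
    (fun x hx he => h.fixed ((h.fix_iff hx).2 he) b h.refl.v_mem)
    (fun x hx he => by
      have h3 : x ∈ coreFix t b := Subgroup.mem_inf.2 ⟨hx, Subgroup.mem_centralizer_singleton_iff.2 he.symm⟩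
      exact (h.fix_iff hx).1 (h.eq ▸ h3)) _ (h.a_mem hy)
  -- `a b` fixes `a y a⁻¹`
  calc b * y * b⁻¹ = b⁻¹ * a⁻¹ * (a * y * a⁻¹) * (a * b) := by
        rw [inv_eq_of_mul_eq_one_right hbb, h.a_inv]
        calc b * y * b = b * (a * a) * y * (a * a) * b := by rw [h.aa, mul_one, mul_one]
          _ = b * a * (a * y * a) * (a * b) := by group
    _ = b⁻¹ * a⁻¹ * ((a * y * a⁻¹) * (a * b)) := by group
    _ = b⁻¹ * a⁻¹ * ((a * b) * (a * y * a⁻¹)) := by rw [h1]
    _ = a * y * a⁻¹ := by group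

/-- `a`-invariant subgroups of `O` are `S`-invariant. -/
theorem invariant {K : Subgroup G} (hK : K ≤ coreC t) (hKa : ∀ y ∈ K, a * y * a⁻¹ ∈ K) :
    (S : Subgroup G) ≤ Subgroup.normalizer (K : Set G) := by
  rw [← h.cl, Subgroup.closure_le]
  rintro x (rfl | rfl)
  · exact Subgroup.mem_normalizer_fintype hKa
  · exact Subgroup.mem_normalizer_fintype fun y hy => by
      rw [SetLike.mem_coe, h.b_act (hK hy)]; exact hKa y hy

/-- The reflections have the fixed points `E`. -/
theorem mem_fix_of_reflection {w y : G} (hwS : w ∈ (S : Subgroup G)) (hw : orderOf w = 2) (hwt : w ≠ t)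
    (hy : y ∈ coreC t) (hc : w * y = y * w) : y ∈ coreFix t a := by
  obtain ⟨x, hx, s, hs, hsw⟩ : ∃ x, coreFix t x = coreFix t a ∧ ∃ s ∈ (S : Subgroup G), s * x * s⁻¹ = w := by
    rcases classify_reflection h.hyp S h.eight h.refl.t_mem h.refl.t_two h.refl.central h.refl.u_mem
      h.refl.u_two h.refl.u_ne h.refl.v_mem h.refl.v_two h.refl.v_ne h.not_conj hwS hw hwt with ⟨s, hs, hsw⟩ |
      ⟨s, hs, hsw⟩
    · exact ⟨a, rfl, s, hs, hsw⟩
    · exact ⟨b, h.eq.symm, s, hs, hsw⟩
  have h1 : y ∈ coreFix t w := Subgroup.mem_inf.2 ⟨hy, Subgroup.mem_centralizer_singleton_iff.2 hc.symm⟩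
  rw [← hsw, ← map_coreFix (h.refl.central s hs) x, hx] at h1
  obtain ⟨z, hz, rfl⟩ := h1
  simp only [MulEquiv.coe_toMonoidHom, MulAut.conj_apply]
  rwa [h.fixed hz s hs, mul_inv_cancel_right]

theorem four_a : IsFour (fourOf t a) ∧ t ∈ fourOf t a ∧ a ∈ fourOf t a ∧
    coreV (fourOf t a) = coreFix t a :=
  h.hyp.four_coreFix h.refl.t_two h.refl.u_two h.refl.u_ne (h.refl.central a h.refl.u_mem)

theorem four_b : IsFour (fourOf t b) ∧ t ∈ fourOf t b ∧ b ∈ fourOf t b ∧
    coreV (fourOf t b) = coreFix t a := by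
  rw [h.eq]
  exact h.hyp.four_coreFix h.refl.t_two h.refl.v_two h.refl.v_ne (h.refl.central b h.refl.v_mem)

/-- `E` is centralised by both four-groups. -/
theorem fix_le_centralizer_four :
    coreFix t a ≤ Subgroup.centralizer (fourOf t a : Set G) ∧
      coreFix t a ≤ Subgroup.centralizer (fourOf t b : Set G) :=
  ⟨h.four_a.2.2.2 ▸ coreV_le _, h.four_b.2.2.2 ▸ coreV_le _⟩

theorem four_le : fourOf t a ≤ (S : Subgroup G) ∧ fourOf t b ≤ (S : Subgroup G) := by
  constructor
  · rw [fourOf, Subgroup.closure_le]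
    rintro x (rfl | rfl)
    exacts [h.refl.t_mem, h.refl.u_mem]
  · rw [fourOf, Subgroup.closure_le]
    rintro x (rfl | rfl)
    exacts [h.refl.t_mem, h.refl.v_mem]

/-- `C(t) = O S`. -/
theorem centralizer_le {K : Subgroup G} (hO : coreC t ≤ K) (hS : (S : Subgroup G) ≤ K) :
    Subgroup.centralizer ({t} : Set G) ≤ K := by
  haveI : Fact (Nat.Prime 2) := ⟨Nat.prime_two⟩
  have hSC : (S : Subgroup G) ≤ Subgroup.centralizer ({t} : Set G) := fun s hs =>
    Subgroup.mem_centralizer_singleton_iff.2 (h.refl.central s hs)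
  rw [← h.hyp.coreC_sup_sylow h.refl.t_two (S.subtype hSC)]
  refine sup_le hO ?_
  rintro _ ⟨x, hx, rfl⟩
  exact hS hx

/-- A proper subgroup containing `C(t)` and fused at both four-groups would be strongly embedded. -/
theorem no_overgroup {H : Subgroup G} (hH : H ≠ ⊤) (hC : Subgroup.centralizer ({t} : Set G) ≤ H)
    (ha : FusedIn (fourOf t a) H) (hb : FusedIn (fourOf t b) H) : False := by
  haveI : Fact (Nat.Prime 2) := ⟨Nat.prime_two⟩
  have hSH : (S : Subgroup G) ≤ H := fun s hs =>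
    hC (Subgroup.mem_centralizer_singleton_iff.2 (h.refl.central s hs))
  -- one class of involutions
  have hone : ∀ v ∈ H, orderOf v = 2 → ∃ k ∈ H, k * t * k⁻¹ = v := by
    intro v hvH hv
    have hp : IsPGroup 2 (Subgroup.zpowers v) := IsPGroup.of_card (n := 1) (by rw [Nat.card_zpowers, hv, pow_one])
    obtain ⟨T, hT⟩ := (hp.comap_subtype (K := H)).exists_le_sylow
    obtain ⟨k, hk⟩ := MulAction.exists_smul_eq H T (S.subtype hSH)
    set w := (k : G) * v * (k : G)⁻¹ with hw
    have hwS : w ∈ (S : Subgroup G) := by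
      have h1 : k * ⟨v, hvH⟩ * k⁻¹ ∈ ((S.subtype hSH : Sylow 2 H) : Subgroup H) := by
        rw [← hk]
        exact Subgroup.smul_mem_pointwise_smul _ (MulAut.conj k) (T : Subgroup H)
          (hT (show v ∈ Subgroup.zpowers v from Subgroup.mem_zpowers v))
      exact h1
    have hw2 : orderOf w = 2 := by
      rw [hw, ← MulAut.conj_apply]
      exact (MulEquiv.orderOf_eq (MulAut.conj (k : G)) v).trans hv
    obtain ⟨j, hj, hjw⟩ : ∃ j ∈ H, j * t * j⁻¹ = w := by
      by_cases hwt : w = t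
      · exact ⟨1, one_mem H, by rw [hwt]; group⟩
      rcases classify_reflection h.hyp S h.eight h.refl.t_mem h.refl.t_two h.refl.central h.refl.u_mem
        h.refl.u_two h.refl.u_ne h.refl.v_mem h.refl.v_two h.refl.v_ne h.not_conj hwS hw2 hwt with
        ⟨s, hs, hsw⟩ | ⟨s, hs, hsw⟩
      · obtain ⟨g, hg, -, hga⟩ := ha.2.2 t h.four_a.2.1 (ne_one_of_two h.refl.t_two) a h.four_a.2.2.1
          (ne_one_of_two h.refl.u_two)
        exact ⟨s * g, mul_mem (hSH hs) hg, by rw [← hsw, ← hga]; group⟩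
      · obtain ⟨g, hg, -, hgb⟩ := hb.2.2 t h.four_b.2.1 (ne_one_of_two h.refl.t_two) b h.four_b.2.2.1
          (ne_one_of_two h.refl.v_two)
        exact ⟨s * g, mul_mem (hSH hs) hg, by rw [← hsw, ← hgb]; group⟩
    exact ⟨(k : G)⁻¹ * j, mul_mem (inv_mem k.2) hj, by
      calc (k : G)⁻¹ * j * t * ((k : G)⁻¹ * j)⁻¹ = (k : G)⁻¹ * (j * t * j⁻¹) * k := by group
        _ = v := by rw [hjw, hw]; group⟩
  refine h.noSE H ⟨hH, ?_, fun g hg => ?_⟩
  · refine even_iff_two_dvd.2 (dvd_trans ?_ (Subgroup.card_dvd_of_le hSH))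
    rw [h.card]
    exact dvd_pow_self 2 (by have := h.three_le; omega)
  · rw [← Nat.not_even_iff_odd]
    intro heven
    obtain ⟨v, hv⟩ := exists_prime_orderOf_dvd_card' (G := ↥(H ⊓ H.map (MulAut.conj g).toMonoidHom)) 2
      (even_iff_two_dvd.1 heven)
    rw [← Subgroup.orderOf_coe] at hv
    obtain ⟨hv1, v', hv', hvv⟩ := Subgroup.mem_inf.1 v.2
    simp only [MulEquiv.coe_toMonoidHom, MulAut.conj_apply] at hvv
    have hv'2 : orderOf v' = 2 := by
      rw [← hv, ← hvv, ← MulAut.conj_apply]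
      exact (MulEquiv.orderOf_eq (MulAut.conj g) v').symm
    obtain ⟨j, hj, hjv⟩ := hone (v : G) hv1 hv
    obtain ⟨k, hk, hkv⟩ := hone v' hv' hv'2
    have hc : j⁻¹ * g * k ∈ Subgroup.centralizer ({t} : Set G) := by
      rw [Subgroup.mem_centralizer_singleton_iff]
      calc j⁻¹ * g * k * t = j⁻¹ * (g * (k * t * k⁻¹) * g⁻¹) * g * k := by group
        _ = j⁻¹ * (j * t * j⁻¹) * g * k := by rw [hkv, hvv, hjv]
        _ = t * (j⁻¹ * g * k) := by group
    refine hg ?_
    rw [show g = j * (j⁻¹ * g * k) * k⁻¹ by group]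
    exact mul_mem (mul_mem hj (hC hc)) (inv_mem hk)

/-- `E ≠ 1` is not all of `O`. -/
theorem ne_core (hE : coreFix t a ≠ ⊥) : coreFix t a ≠ coreC t := by
  intro he
  have hEodd : Odd (Nat.card (coreFix t a)) := he ▸ coreC_odd t
  set H := Subgroup.normalizer (coreFix t a : Set G) with hH
  have hfused : ∀ V : Subgroup G, IsFour V → coreV V = coreFix t a → FusedIn V H := by
    intro V hV hVe
    have hle : Subgroup.normalizer (V : Set G) ≤ H := by rw [hH, ← hVe]; exact h.hyp.normalizer_four_le hV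
    refine ⟨hV, Subgroup.le_normalizer.trans hle, fun v hv hv1 w hw hw1 => ?_⟩
    obtain ⟨g, -, hgN, hg⟩ := (h.hyp.fusedIn_top hV).2.2 v hv hv1 w hw hw1
    exact ⟨g, hle hgN, hgN, hg⟩
  refine h.no_overgroup (h.hyp.normalizer_ne_top hE (h.hyp.ne_top_of_odd hEodd)) ?_
    (hfused _ h.four_a.1 h.four_a.2.2.2) (hfused _ h.four_b.1 h.four_b.2.2.2)
  intro g hg
  show g ∈ Subgroup.normalizer (coreFix t a : Set G)
  rw [he]
  exact centralizer_le_normalizer_coreC t hg

/-- Primes dividing `|E|` carry no configuration. -/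
theorem noConf_of_dvd (hNo : PropNoConf.{u}) {r : ℕ} [Fact r.Prime] (hr : r ≠ 2)
    (hd : r ∣ Nat.card (coreFix t a)) : ∀ V H : Subgroup G, ¬ Conf r V H := by
  intro V H hcf
  obtain ⟨x, hx⟩ := exists_prime_orderOf_dvd_card' (G := coreFix t a) r hd
  rw [← Subgroup.orderOf_coe] at hx
  have h2 := (hNo G h.hyp h.not_known r hr V H hcf).free (fourOf t a) (Subgroup.zpowers (x : G)) h.four_a.1
    (IsPGroup.of_card (n := 1) (by rw [Nat.card_zpowers, hx, pow_one]))
    (Subgroup.zpowers_le.2 (h.fix_le_centralizer_four.1 x.2))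
  rw [Subgroup.zpowers_eq_bot] at h2
  rw [h2, orderOf_one] at hx
  exact (Fact.out : r.Prime).one_lt.ne hx

/-- A small prime does not divide `|E|`. -/
theorem not_dvd_of_small {r : ℕ} [Fact r.Prime] (hs : SmallPrime r G) :
    ¬ r ∣ Nat.card (coreFix t a) := by
  intro hd
  obtain ⟨x, hx⟩ := exists_prime_orderOf_dvd_card' (G := coreFix t a) r hd
  rw [← Subgroup.orderOf_coe] at hx
  have h2 := hs.free (fourOf t a) (Subgroup.zpowers (x : G)) h.four_a.1
    (IsPGroup.of_card (n := 1) (by rw [Nat.card_zpowers, hx, pow_one]))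
    (Subgroup.zpowers_le.2 (h.fix_le_centralizer_four.1 x.2))
  rw [Subgroup.zpowers_eq_bot] at h2
  rw [h2, orderOf_one] at hx
  exact (Fact.out : r.Prime).one_lt.ne hx

/-- Centralisers of `l`-subgroups of `E` are fused at both four-groups, for `l` dividing `|O : E|`. -/
theorem fused_centralizer (hNo : PropNoConf.{u}) (hFC : PropFusedCentralizer.{u}) {l : ℕ} [Fact l.Prime]
    (hl : l ≠ 2) (hmu : (Nat.card (coreFix t a)).factorization l < (Nat.card (coreC t)).factorization l)
    {Y : Subgroup G} (hY : IsPGroup l Y) (hY1 : Y ≠ ⊥) (hYE : Y ≤ coreFix t a) :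
    FusedIn (fourOf t a) (Subgroup.centralizer (Y : Set G)) ∧
      FusedIn (fourOf t b) (Subgroup.centralizer (Y : Set G)) := by
  have h8 : ∀ T : Sylow 2 G, 8 ≤ Nat.card (T : Subgroup G) := fun T => by
    rw [T.card_eq_multiplicity, ← S.card_eq_multiplicity]; exact h.eight
  have hdvd : l ∣ Nat.card (coreFix t a) := by
    obtain ⟨k, hk⟩ := hY.exists_card_eq
    have h1 := Subgroup.card_dvd_of_le hYE
    rw [hk] at h1
    refine dvd_trans (dvd_pow_self l (fun h0 => hY1 ?_)) h1
    rw [h0, pow_zero] at hk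
    exact Subgroup.card_eq_one.1 hk
  have key : ∀ V : Subgroup G, IsFour V → t ∈ V → coreV V = coreFix t a →
      FusedIn V (Subgroup.centralizer (Y : Set G)) := by
    intro V hV htV hVe
    rcases hFC G h.hyp h8 l hl (h.noConf_of_dvd hNo hl hdvd) V Y hV hY hY1 (hYE.trans (hVe ▸ coreV_le V)) with
      hf | ⟨h3, -, hexc⟩
    · exact hf
    · exfalso
      have h1 := (hexc t htV (ne_one_of_two h.refl.t_two)).1
      rw [hVe] at h1
      subst h3
      omega
  exact ⟨key _ h.four_a.1 h.four_a.2.1 h.four_a.2.2.2, key _ h.four_b.1 h.four_b.2.1 h.four_b.2.2.2⟩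

/-- No nontrivial `l`-subgroup of `E` is normal in `O`. -/
theorem normal_fixed_false (hNo : PropNoConf.{u}) (hFC : PropFusedCentralizer.{u}) {l : ℕ} [Fact l.Prime]
    (hl : l ≠ 2) (hmu : (Nat.card (coreFix t a)).factorization l < (Nat.card (coreC t)).factorization l)
    {Y : Subgroup G} (hY : IsPGroup l Y) (hY1 : Y ≠ ⊥) (hYE : Y ≤ coreFix t a)
    (hn : coreC t ≤ Subgroup.normalizer (Y : Set G)) : False := by
  obtain ⟨hfa, hfb⟩ := h.fused_centralizer hNo hFC hl hmu hY hY1 hYE
  have hYtop : Y ≠ ⊤ := h.hyp.ne_top_of_odd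
    ((coreC_odd t).of_dvd_nat (Subgroup.card_dvd_of_le (hYE.trans inf_le_left)))
  refine h.no_overgroup (h.hyp.normalizer_ne_top hY1 hYtop) (h.centralizer_le hn fun s hs => ?_)
    (hfa.mono (Subgroup.centralizer_le_normalizer _)) (hfb.mono (Subgroup.centralizer_le_normalizer _))
  refine Subgroup.mem_normalizer_fintype fun y hy => ?_
  rw [SetLike.mem_coe, h.fixed (hYE hy) s hs, mul_inv_cancel_right]
  exact hy

/-! ## The inverted part -/

theorem invGen_le : invGen t a ≤ coreC t := (Subgroup.closure_le _).2 fun _ hy => hy.1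

theorem invGen_conj {y : G} (hy : y ∈ invGen t a) : a * y * a⁻¹ ∈ invGen t a := by
  induction hy using Subgroup.closure_induction with
  | mem y hy => rw [hy.2]; exact inv_mem (Subgroup.subset_closure hy)
  | one => rw [mul_one, mul_inv_cancel]; exact one_mem _
  | mul x y _ _ hx hy =>
    rw [show a * (x * y) * a⁻¹ = a * x * a⁻¹ * (a * y * a⁻¹) by group]; exact mul_mem hx hy
  | inv x _ hx => rw [show a * x⁻¹ * a⁻¹ = (a * x * a⁻¹)⁻¹ by group]; exact inv_mem hx

/-- `O = E L₀`. -/
theorem decomp {y : G} (hy : y ∈ coreC t) :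
    ∃ c ∈ coreFix t a, ∃ l ∈ invGen t a, a * l * a⁻¹ = l⁻¹ ∧ y = c * l := by
  obtain ⟨c, hc, hca, l, hl, hli, rfl⟩ :=
    exists_fixed_mul_inverted (coreC_odd t) h.aa (fun x hx => h.a_mem hx) hy
  exact ⟨c, (h.fix_iff hc).2 hca, l, Subgroup.subset_closure ⟨hl, hli⟩, hli, rfl⟩

theorem invGen_normal : coreC t ≤ Subgroup.normalizer (invGen t a : Set G) := by
  intro g hg
  obtain ⟨c, hc, l, hl, -, rfl⟩ := h.decomp hg
  refine mul_mem ?_ (Subgroup.le_normalizer hl)
  refine Subgroup.mem_normalizer_fintype fun y hy => ?_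
  rw [SetLike.mem_coe] at hy ⊢
  induction hy using Subgroup.closure_induction with
  | mem y hy =>
    refine Subgroup.subset_closure ⟨mul_mem (mul_mem hc.1 hy.1) (inv_mem hc.1), ?_⟩
    have h1 : a * c * a⁻¹ = c := by rw [(h.fix_iff hc.1).1 hc, mul_inv_cancel_right]
    calc a * (c * y * c⁻¹) * a⁻¹ = a * c * a⁻¹ * (a * y * a⁻¹) * (a * c * a⁻¹)⁻¹ := by group
      _ = (c * y * c⁻¹)⁻¹ := by rw [h1, hy.2]; group
  | one => rw [mul_one, mul_inv_cancel]; exact one_mem _
  | mul x y _ _ hx hy =>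
    rw [show c * (x * y) * c⁻¹ = c * x * c⁻¹ * (c * y * c⁻¹) by group]; exact mul_mem hx hy
  | inv x _ hx => rw [show c * x⁻¹ * c⁻¹ = (c * x * c⁻¹)⁻¹ by group]; exact inv_mem hx

/-- `|O| |E ∩ L₀| = |L₀| |E|`. -/
theorem card_invGen :
    Nat.card (coreC t) * Nat.card ↥(invGen t a ⊓ Subgroup.centralizer ({a} : Set G)) =
      Nat.card (invGen t a) * Nat.card (coreFix t a) :=
  card_mul_fixed_eq (coreC_odd t) h.aa (fun _ hx => h.a_mem hx) h.invGen_le
    (fun _ hy => h.invGen_conj hy) fun _ hy hi => Subgroup.subset_closure ⟨hy, hi⟩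

/-- An inverted normal abelian part with `E` as complement contradicts `PropCoinvariant`. -/
theorem invGen_meets (hNo : PropNoConf.{u}) (hCo : PropCoinvariant.{u}) (hE : coreFix t a ≠ ⊥) :
    invGen t a ⊓ Subgroup.centralizer ({a} : Set G) ≠ ⊥ := by
  intro hbot
  classical
  set O := coreC t with hO
  set L := invGen t a with hL
  have hLO : L ≤ O := h.invGen_le
  have hLodd : Odd (Nat.card L) := (coreC_odd t).of_dvd_nat (Subgroup.card_dvd_of_le hLO)
  have hinv : ∀ y ∈ L, a * y * a⁻¹ = y⁻¹ := inverts_of_fixed_bot hLodd h.aa (fun y hy => h.invGen_conj hy)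
    fun y hy hya => by
      have h1 : y ∈ L ⊓ Subgroup.centralizer ({a} : Set G) :=
        Subgroup.mem_inf.2 ⟨hy, Subgroup.mem_centralizer_singleton_iff.2 hya.symm⟩
      rwa [hbot, Subgroup.mem_bot] at h1
  have habel : ∀ x ∈ L, ∀ y ∈ L, x * y = y * x := fun x hx y hy =>
    commute_of_uniform (orderOf_odd_of_mem hLodd hx) (hinv x hx)
      (fun k hk => mul_mem (mul_mem hx hk) (inv_mem hx)) (Or.inr hinv) y hy
  -- no prime is small
  have hNC : ∀ (r : ℕ) [Fact r.Prime], r ≠ 2 → ∀ V H : Subgroup G, ¬ Conf r V H := by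
    intro r _ hr V H hcf
    obtain ⟨e, s, P, he, heo, hei, hs, -, hsC, hPO, hPs, -, heP, hPe, -, -⟩ := small_witness h.hyp h.not_known
      hNo hr (hNo G h.hyp h.not_known r hr V H hcf) h.refl.t_two h.refl.u_two h.refl.u_ne
      (h.refl.central a h.refl.u_mem)
    haveI := hs
    have heL : e ∈ L := Subgroup.subset_closure ⟨he, hei⟩
    refine hPe fun y hy => Subgroup.mem_centralizer_singleton_iff.2 ?_
    set f := e * y * e⁻¹ * y⁻¹ with hf
    have hfP : f ∈ P := mul_mem (heP y hy) (inv_mem hy)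
    have hfL : f ∈ L := by
      rw [hf, show e * y * e⁻¹ * y⁻¹ = e * (y * e⁻¹ * y⁻¹) by group]
      exact mul_mem heL (conj_mem_of_mem_normalizer (h.invGen_normal (hPO hy)) (inv_mem heL))
    have hfe := habel e heL f hfL
    have key : ∀ k : ℕ, e ^ k * y * (e ^ k)⁻¹ = f ^ k * y := by
      intro k
      induction k with
      | zero => simp
      | succ k ih =>
        calc e ^ (k + 1) * y * (e ^ (k + 1))⁻¹ = e * (e ^ k * y * (e ^ k)⁻¹) * e⁻¹ := by
              rw [pow_succ']; group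
          _ = f ^ k * (e * y * e⁻¹) := by
              rw [ih, ← mul_assoc, ((show Commute e f from hfe).pow_right k).eq]; group
          _ = f ^ (k + 1) * y := by rw [pow_succ, hf]; group
    have hfr : f ^ r = 1 := by
      have h1 := key r
      rw [← heo, pow_orderOf_eq_one, inv_one, mul_one, one_mul] at h1
      rw [← heo]
      exact mul_eq_right.1 h1.symm
    obtain ⟨j, hj⟩ := hPs ⟨f, hfP⟩
    have hne : s ≠ r := fun e => hsC V H (e ▸ hcf)
    have hf1 : f = 1 := orderOf_eq_one_iff.1 (Nat.eq_one_of_dvd_coprimes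
      (((Nat.coprime_primes Fact.out Fact.out).2 hne).pow_left j)
      (orderOf_dvd_of_pow_eq_one (congrArg Subtype.val hj)) (orderOf_dvd_of_pow_eq_one hfr))
    calc y * e = (e * y * e⁻¹ * y⁻¹)⁻¹ * (e * y) := by group
      _ = e * y := by rw [← hf, hf1, inv_one, one_mul]
  -- a linear character of `O / L`
  haveI : (L.subgroupOf O).Normal := Subgroup.normal_subgroupOf_of_le_normalizer h.invGen_normal
  haveI : Group.IsSolvable O := isSolvable_coreC t
  have hne : L.subgroupOf O ≠ ⊤ := by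
    intro htop
    obtain ⟨y, hy, hy1⟩ := (coreFix t a).bot_or_exists_ne_one.resolve_left hE
    refine hy1 ?_
    have h1 : y ∈ L ⊓ Subgroup.centralizer ({a} : Set G) :=
      Subgroup.mem_inf.2 ⟨Subgroup.subgroupOf_eq_top.1 htop hy.1, hy.2⟩
    rwa [hbot, Subgroup.mem_bot] at h1
  obtain ⟨φ, hφ, hφL⟩ := exists_character (L.subgroupOf O) hne
  have hOE : coreFix t a ≠ O := h.ne_core hE
  obtain ⟨p, hp, hpmu⟩ : ∃ p : ℕ, p.Prime ∧
      (Nat.card (coreFix t a)).factorization p < (Nat.card O).factorization p := by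
    by_contra hno
    push Not at hno
    refine hOE (Subgroup.eq_of_le_of_card_ge inf_le_left (Nat.le_of_dvd Nat.card_pos ?_))
    rw [← Nat.factorization_le_iff_dvd Nat.card_pos.ne' Nat.card_pos.ne']
    intro r
    by_cases hr : r.Prime
    · exact hno r hr
    · rw [Nat.factorization_eq_zero_of_not_prime _ hr]; exact zero_le
  have hp2 : p ≠ 2 := by
    rintro rfl
    rw [Nat.factorization_eq_zero_of_not_dvd (coreC_odd t).not_two_dvd_nat] at hpmu
    omega
  haveI := Fact.mk hp
  refine hφ (hCo G h.hyp h.not_known S t a b n h.refl h.cl h.three_le h.card h.eq ⟨p, hp, hpmu, hNC p hp2⟩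
    hOE φ fun s hs x y hy => ?_)
  -- invariance under the generators suffices
  let M : Subgroup (S : Subgroup G) :=
    { carrier := {s | ∀ x y : O, (y : G) = (s : G) * x * (s : G)⁻¹ → φ y = φ x}
      one_mem' := fun x y hy => by rw [show y = x from Subtype.ext (by simpa using hy)]
      mul_mem' := fun {s s'} hs hs' x y hy => by
        have hz : (s' : G) * x * (s' : G)⁻¹ ∈ O := h.conj_mem s'.2 x.2
        rw [hs ⟨_, hz⟩ y (by rw [hy]; push_cast; group), hs' x ⟨_, hz⟩ rfl]
      inv_mem' := fun {s} hs x y hy => by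
        refine (hs y x ?_).symm
        rw [hy]; push_cast; group }
  have hgen : ∀ w ∈ ({a, b} : Set G), ∀ hw : w ∈ (S : Subgroup G), (⟨w, hw⟩ : (S : Subgroup G)) ∈ M := by
    intro w hw hwS x y hy
    have hy' : (y : G) = a * x * a⁻¹ := by
      rcases hw with rfl | rfl
      · exact hy
      · exact hy.trans (h.b_act x.2)
    obtain ⟨c, hc, l, hl, hli, hcl⟩ := h.decomp x.2
    have hyc : (y : G) = c * l⁻¹ := by
      rw [hy', hcl, show a * (c * l) * a⁻¹ = a * c * a⁻¹ * (a * l * a⁻¹) by group, hli,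
        (h.fix_iff hc.1).1 hc, mul_inv_cancel_right]
    have hlL : ⟨l, hLO hl⟩ ∈ L.subgroupOf O := hl
    rw [show x = (⟨c, hc.1⟩ : O) * ⟨l, hLO hl⟩ from Subtype.ext hcl,
      show y = (⟨c, hc.1⟩ : O) * ⟨l, hLO hl⟩⁻¹ from Subtype.ext hyc, map_mul, map_mul,
      hφL _ hlL, hφL _ (inv_mem hlL)]
  have hle : (S : Subgroup G) ≤ M.map (S : Subgroup G).subtype := by
    conv_lhs => rw [← h.cl]
    rw [Subgroup.closure_le]
    rintro w hw
    have hwS : w ∈ (S : Subgroup G) := by rcases hw with rfl | rfl; exacts [h.refl.u_mem, h.refl.v_mem]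
    exact ⟨⟨w, hwS⟩, hgen w hw hwS, rfl⟩
  obtain ⟨s', hs', hse⟩ := hle hs
  exact hs' x y (by rw [show ((s' : (S : Subgroup G)) : G) = s from hse]; exact hy)

/-- The parameter of the order equations. -/
theorem numbers (hNo : PropNoConf.{u}) (hDich : PropDichotomy.{u}) {w : ℕ}
    (hw : Nat.card (coreC t) = Nat.card (coreFix t a) * w) :
    ∃ (K : ℤ) (k : ℕ), K.natAbs * k = w ∧
      (∀ r : ℕ, r.Prime → r ∣ k → r ≠ 2 ∧ SmallPrime r G) ∧
      (Nat.card G : ℤ) = 2 ^ n * (Nat.card (coreFix t a) : ℤ) * (k : ℤ) ^ 2 * w *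
        (2 ^ n * K + 1) * (2 ^ (n - 1) * K + 1) := by
  haveI : Fact (Nat.Prime 2) := ⟨Nat.prime_two⟩
  obtain ⟨hVa, htVa, haVa, hea⟩ := h.four_a
  obtain ⟨hVb, htVb, hbVb, heb⟩ := h.four_b
  have hOD := propOrderData G h.hyp S n t a b h.three_le h.card h.refl.t_mem h.refl.u_mem h.refl.v_mem
    h.refl.t_two h.refl.u_two h.refl.v_two h.refl.central h.refl.u_ne h.refl.v_ne h.not_conj
  rw [hVa.centralizer_pair htVa haVa (ne_one_of_two h.refl.t_two) (ne_one_of_two h.refl.u_two) h.refl.u_ne.symm,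
    hVb.centralizer_pair htVb hbVb (ne_one_of_two h.refl.t_two) (ne_one_of_two h.refl.v_two) h.refl.v_ne.symm,
    ← card_coreC, ← card_coreV, ← card_coreV, hea, heb] at hOD
  obtain ⟨K, k₂, k₃, hK, -, e1, -, -, -, -, -⟩ := hOD
  set g := Nat.card G with hg
  set m := Nat.card (coreC t) with hm
  set d := Nat.card (coreFix t a) with hd
  obtain ⟨n', rfl⟩ : ∃ n', n = n' + 1 := ⟨n - 1, by have := h.three_le; omega⟩
  have hn' : 2 ≤ n' := by have := h.three_le; omega
  rw [show n' + 1 - 1 = n' by omega]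
  set X : ℤ := 2 ^ (n' + 1) * K + 1 with hX
  set M : ℤ := 2 ^ n' * K + 1 with hM
  have hd0 : (d : ℤ) ≠ 0 := by exact_mod_cast (Nat.card_pos (α := coreFix t a)).ne'
  have eq0 : (g : ℤ) * K ^ 2 * (d : ℤ) ^ 2 = 2 ^ (n' + 1) * (m : ℤ) ^ 3 * X * M := by
    refine mul_left_cancel₀ (mul_ne_zero (show (8 : ℤ) ≠ 0 by norm_num) (pow_ne_zero 2 hd0)) ?_
    rw [hX, hM]
    rw [pow_succ] at e1 ⊢
    linear_combination e1
  have hdvd : d ∣ m := ⟨w, hw⟩
  have hw0 : w ≠ 0 := fun e => (Nat.card_pos (α := coreC t)).ne' (by rw [← hm, hw, e, mul_zero])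
  have hm0 : m ≠ 0 := Nat.card_pos.ne'
  have hg0 : g ≠ 0 := Nat.card_pos.ne'
  have hd0' : d ≠ 0 := Nat.card_pos.ne'
  have hX0 : X ≠ 0 := by
    intro e
    have h1 : (2 : ℤ) ∣ X := e ▸ dvd_zero _
    rw [hX] at h1
    have : (2 : ℤ) ∣ 2 ^ (n' + 1) * K := (dvd_pow_self 2 (by omega)).mul_right K
    omega
  have hM0 : M ≠ 0 := by
    intro e
    have h1 : (2 : ℤ) ∣ M := e ▸ dvd_zero _
    rw [hM] at h1
    have : (2 : ℤ) ∣ 2 ^ n' * K := (dvd_pow_self 2 (by omega)).mul_right K
    omega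
  have eqn : g * K.natAbs ^ 2 * d ^ 2 = 2 ^ (n' + 1) * m ^ 3 * X.natAbs * M.natAbs := by
    have h1 := congrArg Int.natAbs eq0
    simpa [Int.natAbs_mul, Int.natAbs_pow] using h1
  have hk0 : K.natAbs ≠ 0 := Int.natAbs_ne_zero.2 hK
  have hfac : ∀ r : ℕ, g.factorization r + 2 * K.natAbs.factorization r + 2 * d.factorization r =
      (n' + 1) * (2 : ℕ).factorization r + 3 * m.factorization r + X.natAbs.factorization r +
        M.natAbs.factorization r := by
    intro r
    have h1 := congrArg (fun x : ℕ => x.factorization r) eqn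
    simp only [Nat.factorization_mul (mul_ne_zero hg0 (pow_ne_zero 2 hk0)) (pow_ne_zero 2 hd0'),
      Nat.factorization_mul hg0 (pow_ne_zero 2 hk0),
      Nat.factorization_mul (mul_ne_zero (mul_ne_zero (pow_ne_zero _ two_ne_zero) (pow_ne_zero 3 hm0))
        (Int.natAbs_ne_zero.2 hX0)) (Int.natAbs_ne_zero.2 hM0),
      Nat.factorization_mul (mul_ne_zero (pow_ne_zero _ two_ne_zero) (pow_ne_zero 3 hm0))
        (Int.natAbs_ne_zero.2 hX0),
      Nat.factorization_mul (pow_ne_zero _ two_ne_zero) (pow_ne_zero 3 hm0),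
      Nat.factorization_pow, Finsupp.add_apply, Finsupp.smul_apply, smul_eq_mul] at h1
    linarith
  have hcop : ∀ r : ℕ, r.Prime → K.natAbs.factorization r = 0 ∨
      X.natAbs.factorization r = 0 ∧ M.natAbs.factorization r = 0 := by
    intro r hr
    by_cases hrk : r ∣ K.natAbs
    · right
      have hrK : (r : ℤ) ∣ K := Int.natCast_dvd.2 hrk
      have key : ∀ c : ℤ, ¬ r ∣ (c * K + 1).natAbs := fun c hcd => by
        have h1 : (r : ℤ) ∣ c * K + 1 := Int.natCast_dvd.2 hcd
        have h2 : (r : ℤ) ∣ 1 := by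
          have := dvd_sub h1 (hrK.mul_left c)
          simpa using this
        exact hr.not_dvd_one (by exact_mod_cast h2)
      exact ⟨Nat.factorization_eq_zero_of_not_dvd (key _), Nat.factorization_eq_zero_of_not_dvd (key _)⟩
    · exact Or.inl (Nat.factorization_eq_zero_of_not_dvd hrk)
  have hdle : ∀ r, d.factorization r ≤ m.factorization r :=
    fun r => (Nat.factorization_le_iff_dvd hd0' hm0).2 hdvd r
  have hgle : ∀ r, m.factorization r ≤ g.factorization r :=
    fun r => (Nat.factorization_le_iff_dvd hm0 hg0).2 (Subgroup.card_subgroup_dvd_card _) r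
  have h2 : K.natAbs.factorization 2 = 0 := by
    have h1 := hfac 2
    have hg2 : g.factorization 2 = n' + 1 := Nat.pow_right_injective (le_refl 2) (by
      show 2 ^ g.factorization 2 = 2 ^ (n' + 1)
      rw [← h.card, S.card_eq_multiplicity])
    have hm2 : m.factorization 2 = 0 :=
      Nat.factorization_eq_zero_of_not_dvd (coreC_odd t).not_two_dvd_nat
    have hX2 : X.natAbs.factorization 2 = 0 := Nat.factorization_eq_zero_of_not_dvd fun hd2 => by
      have h3 : (2 : ℤ) ∣ X := Int.natCast_dvd.2 hd2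
      rw [hX] at h3
      have : (2 : ℤ) ∣ 2 ^ (n' + 1) * K := (dvd_pow_self 2 (by omega)).mul_right K
      omega
    have hM2 : M.natAbs.factorization 2 = 0 := Nat.factorization_eq_zero_of_not_dvd fun hd2 => by
      have h3 : (2 : ℤ) ∣ M := Int.natCast_dvd.2 hd2
      rw [hM] at h3
      have : (2 : ℤ) ∣ 2 ^ n' * K := (dvd_pow_self 2 (by omega)).mul_right K
      omega
    rw [Nat.prime_two.factorization_self, mul_one] at h1
    have := hdle 2
    omega
  have hodd2 : ∀ r : ℕ, r.Prime → r ≠ 2 → (2 : ℕ).factorization r = 0 := fun r hr hr2 =>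
    Nat.factorization_eq_zero_of_not_dvd fun hd2 => hr2 ((Nat.prime_dvd_prime_iff_eq hr Nat.prime_two).1 hd2)
  have hNC : ∀ (r : ℕ) [Fact r.Prime], r ≠ 2 → (∀ V H : Subgroup G, ¬ Conf r V H) →
      K.natAbs.factorization r + d.factorization r = m.factorization r := by
    intro r hrp hr hC
    have h1 := hfac r
    rw [hodd2 r Fact.out hr, mul_zero] at h1
    have hc := hcop r Fact.out
    have := hdle r
    have := hgle r
    rcases regular_or_fixed h.hyp hDich h.refl h.eight h.not_conj hr hC with he | he | he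
    · replace he : m.factorization r = g.factorization r := he
      omega
    · replace he : m.factorization r ≤ d.factorization r := he
      omega
    · rw [← h.eq] at he
      replace he : m.factorization r ≤ d.factorization r := he
      omega
  have hkd : K.natAbs * d ∣ m := by
    rw [← Nat.factorization_le_iff_dvd (mul_ne_zero hk0 hd0') hm0]
    intro r
    rw [Nat.factorization_mul hk0 hd0', Finsupp.add_apply]
    by_cases hr : r.Prime
    swap
    · simp [Nat.factorization_eq_zero_of_not_prime _ hr]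
    haveI := Fact.mk hr
    by_cases hr2 : r = 2
    · subst hr2
      rw [h2, zero_add]
      exact hdle 2
    by_cases hC : ∀ V H : Subgroup G, ¬ Conf r V H
    · exact (hNC r hr2 hC).le
    push Not at hC
    obtain ⟨V, H, hcf⟩ := hC
    have hsm := hNo G h.hyp h.not_known r hr2 V H hcf
    have hd1 : d.factorization r = 0 := Nat.factorization_eq_zero_of_not_dvd (h.not_dvd_of_small hsm)
    have h1 := hfac r
    rw [hodd2 r hr hr2, mul_zero] at h1
    have := hcop r hr
    have := hgle r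
    omega
  obtain ⟨k, hk⟩ : K.natAbs ∣ w := by
    rw [hw, mul_comm K.natAbs] at hkd
    exact (Nat.mul_dvd_mul_iff_left (Nat.pos_of_ne_zero hd0')).1 hkd
  have hk0' : k ≠ 0 := fun e => hw0 (by rw [hk, e, mul_zero])
  refine ⟨K, k, hk.symm, fun r hr hrk => ?_, ?_⟩
  · have hr2 : r ≠ 2 := by
      rintro rfl
      refine (coreC_odd t).not_two_dvd_nat ?_
      show 2 ∣ m
      rw [hw, hk]
      exact dvd_mul_of_dvd_right (dvd_mul_of_dvd_right hrk _) _
    refine ⟨hr2, ?_⟩
    haveI := Fact.mk hr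
    by_cases hC : ∀ V H : Subgroup G, ¬ Conf r V H
    · exfalso
      have h1 := hNC r hr2 hC
      rw [hw, hk, Nat.factorization_mul hd0' (mul_ne_zero hk0 hk0'), Nat.factorization_mul hk0 hk0',
        Finsupp.add_apply, Finsupp.add_apply] at h1
      have := hr.factorization_pos_of_dvd hk0' hrk
      omega
    push Not at hC
    obtain ⟨V, H, hcf⟩ := hC
    exact hNo G h.hyp h.not_known r hr2 V H hcf
  · refine mul_right_cancel₀ (mul_ne_zero (pow_ne_zero 2 hK) (pow_ne_zero 2 hd0)) ?_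
    have hw' : (w : ℤ) = (K.natAbs : ℤ) * k := by exact_mod_cast hk
    have hm' : (m : ℤ) = d * ((K.natAbs : ℤ) * k) := by rw [← hw']; exact_mod_cast hw
    have hK2 : (K.natAbs : ℤ) ^ 2 = K ^ 2 := Int.natAbs_sq K
    calc (g : ℤ) * (K ^ 2 * (d : ℤ) ^ 2) = (g : ℤ) * K ^ 2 * (d : ℤ) ^ 2 := by ring
      _ = 2 ^ (n' + 1) * (m : ℤ) ^ 3 * X * M := eq0
      _ = _ := by rw [hm', hw', ← hK2]; ring

end EqualSetting

end Cfsg.Agent.Lib.GorensteinWalter
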