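import Cfsg.Agent.Lib.GorensteinWalter.EqualBase
import Cfsg.Agent.Lib.CharP.Basic
import Cfsg.Agent.Lib.OddOrder.Cyclic

/-!
# Equal fixed points: the centraliser of an `l`-subgroup of `E ∩ F(L₀)`

For `Y ≠ 1` an `l`-subgroup of `E` inside `O_l(L₀)`, `H = C(Y)` is fused at both four-groups.  An element of small
prime order of `O ∩ H` would centralise `F(L₀)`, which is impossible, so `O(H) ≤ E` and the models apply.
-/

set_option autoImplicit false
set_option linter.unusedSectionVars false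
set_option linter.style.haveILetI false

namespace Cfsg.Agent.Lib.GorensteinWalter

open Cfsg.Agent.Lib.Fusion.Dihedral

universe u

variable {G : Type u} [Group G] [Finite G]

/-- `O_s(L₀)`. -/
abbrev genCore {G : Type u} [Group G] (s : ℕ) (t a : G) : Subgroup G :=
  (Cfsg.pCore s ↥(invGen t a)).map (invGen t a).subtype

/-- Normalisers normalise characteristic subgroups. -/
theorem normalizer_le_map_char (K : Subgroup G) (C : Subgroup K) [C.Characteristic] :
    Subgroup.normalizer (K : Set G) ≤ Subgroup.normalizer (C.map K.subtype : Set G) := by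
  intro g hg
  refine Subgroup.mem_normalizer_fintype ?_
  rintro _ ⟨⟨y, hyK⟩, hy, rfl⟩
  exact ⟨⟨g * y * g⁻¹, (Subgroup.mem_normalizer_iff.1 hg y).1 hyK⟩,
    Subgroup.characteristic_iff_map_le.1 inferInstance (K.normalizerMonoidHom ⟨g, hg⟩)
      ⟨⟨y, hyK⟩, hy, rfl⟩, rfl⟩

namespace EqualSetting

variable {S : Sylow 2 G} {t a b : G} {n : ℕ} (h : EqualSetting S t a b n)
include h

theorem genCore_le (s : ℕ) : genCore s t a ≤ coreC t := (Subgroup.map_subtype_le _).trans h.invGen_le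

theorem genCore_normal (s : ℕ) : coreC t ≤ Subgroup.normalizer (genCore s t a : Set G) :=
  h.invGen_normal.trans (normalizer_le_map_char _ _)

theorem genCore_conj (s : ℕ) {y : G} (hy : y ∈ genCore s t a) : a * y * a⁻¹ ∈ genCore s t a :=
  conj_mem_of_mem_normalizer (normalizer_le_map_char (invGen t a) (Cfsg.pCore s ↥(invGen t a))
    (Subgroup.mem_normalizer_fintype (show ∀ x ∈ (invGen t a : Set G), a * x * a⁻¹ ∈ invGen t a from
      fun _ hx => h.invGen_conj hx))) hy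

theorem genCore_pgroup (s : ℕ) : IsPGroup s (genCore s t a) := (Cores.pCore_isPGroup s).map _

theorem genCore_commute {r s : ℕ} [Fact r.Prime] [Fact s.Prime] (hrs : r ≠ s) {x y : G}
    (hx : x ∈ genCore r t a) (hy : y ∈ genCore s t a) : x * y = y * x := by
  have hxy : x * y * x⁻¹ * y⁻¹ ∈ genCore r t a ⊓ genCore s t a := by
    refine Subgroup.mem_inf.2 ⟨?_, ?_⟩
    · rw [show x * y * x⁻¹ * y⁻¹ = x * (y * x⁻¹ * y⁻¹) by group]
      exact mul_mem hx (conj_mem_of_mem_normalizer (h.genCore_normal r (h.genCore_le s hy)) (inv_mem hx))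
    · exact mul_mem (conj_mem_of_mem_normalizer (h.genCore_normal s (h.genCore_le r hx)) hy) (inv_mem hy)
  have hbot : genCore r t a ⊓ genCore s t a = ⊥ := disjoint_iff.1
    (IsPGroup.disjoint_of_ne r s hrs _ _ (h.genCore_pgroup r) (h.genCore_pgroup s))
  rw [hbot, Subgroup.mem_bot] at hxy
  calc x * y = x * y * x⁻¹ * y⁻¹ * (y * x) := by group
    _ = y * x := by rw [hxy, one_mul]

end EqualSetting

/-- A prime `l` of `|O : E|` and a nontrivial `l`-subgroup `Y` of `E` inside `O_l(L₀)`. -/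
structure EqualLocal (S : Sylow 2 G) (t a b : G) (n l : ℕ) (Y : Subgroup G) : Prop where
  base : EqualSetting S t a b n
  prime : l.Prime
  ne_two : l ≠ 2
  excess : (Nat.card (coreFix t a)).factorization l < (Nat.card (coreC t)).factorization l
  pgroup : IsPGroup l Y
  ne_bot : Y ≠ ⊥
  le_fix : Y ≤ coreFix t a
  le_core : Y ≤ genCore l t a
  noConf : PropNoConf.{u}
  fusedCent : PropFusedCentralizer.{u}

namespace EqualLocal

variable {S : Sylow 2 G} {t a b : G} {n l : ℕ} {Y : Subgroup G} (h : EqualLocal S t a b n l Y)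
include h

theorem fused : FusedIn (fourOf t a) (Subgroup.centralizer (Y : Set G)) ∧
    FusedIn (fourOf t b) (Subgroup.centralizer (Y : Set G)) :=
  haveI := Fact.mk h.prime
  h.base.fused_centralizer h.noConf h.fusedCent h.ne_two h.excess h.pgroup h.ne_bot h.le_fix

theorem coreBase : CoreBase S t a b (Subgroup.centralizer (Y : Set G)) := by
  refine ⟨h.base.hyp, h.base.refl, h.base.cl, fun htop => ?_, fun s hs => ?_, h.fused.2⟩
  · refine h.base.hyp.normalizer_ne_top h.ne_bot (h.base.hyp.ne_top_of_odd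
      ((coreC_odd t).of_dvd_nat (Subgroup.card_dvd_of_le (h.le_fix.trans inf_le_left)))) ?_
    exact top_le_iff.1 (htop ▸ Subgroup.centralizer_le_normalizer _)
  · exact Subgroup.mem_centralizer_iff.2 fun y hy => (h.base.fixed (h.le_fix hy) s hs).symm

theorem mem_cent_t {x : G} (hx : x ∈ coreC t) : x * t = t * x :=
  Subgroup.mem_centralizer_singleton_iff.1 (coreC_le t hx)

/-- Conjugates of an inverted element of `O ∩ H` commute with it modulo the core. -/
theorem conj_commute (hMC : PropModelCyclic.{u}) : ∀ e f : ↥(Subgroup.centralizer (Y : Set G)),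
    (e : G) ∈ coreC t → a * (e : G) * a⁻¹ = (e : G)⁻¹ → (f : G) ∈ coreC t →
      qm _ (f * e * f⁻¹) * qm _ e = qm _ e * qm _ (f * e * f⁻¹) := by
  set H := Subgroup.centralizer (Y : Set G) with hH
  intro e f he hei hf
  obtain ⟨w, hw⟩ := h.coreBase.inverted_cyclic hMC h.base.three_le h.base.card h.fused.1
  have hmem : ∀ x : H, (x : G) ∈ coreC t → a * (x : G) * a⁻¹ = (x : G)⁻¹ → qm H x ∈ Subgroup.zpowers w :=
    fun x hx hxi => hw x (h.mem_cent_t hx) (orderOf_odd_of_mem (coreC_odd t) hx) hxi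
  have hcomm : ∀ u v, u ∈ Subgroup.zpowers w → v ∈ Subgroup.zpowers w → u * v = v * u := by
    rintro _ _ ⟨i, rfl⟩ ⟨j, rfl⟩
    exact ((Commute.refl w).zpow_zpow i j).eq
  have haH : a ∈ H := h.coreBase.sylow_le h.base.refl.u_mem
  obtain ⟨c, hc, hca, i, hi, hii, hfci⟩ := exists_fixed_mul_inverted (K := coreC t ⊓ H)
    ((coreC_odd t).of_dvd_nat (Subgroup.card_dvd_of_le inf_le_left)) h.base.aa
    (fun y hy => Subgroup.mem_inf.2 ⟨h.base.a_mem hy.1, mul_mem (mul_mem haH hy.2) (inv_mem haH)⟩)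
    (Subgroup.mem_inf.2 ⟨hf, f.2⟩ : (f : G) ∈ coreC t ⊓ H)
  have h1 : qm H ⟨i, hi.2⟩ * qm H e = qm H e * qm H ⟨i, hi.2⟩ :=
    hcomm _ _ (hmem ⟨i, hi.2⟩ hi.1 hii) (hmem e he hei)
  have h2 : qm H (f * e * f⁻¹) = qm H (⟨c, hc.2⟩ * e * ⟨c, hc.2⟩⁻¹) := by
    rw [show f = ⟨c, hc.2⟩ * ⟨i, hi.2⟩ from Subtype.ext hfci]
    simp only [map_mul, map_inv, _root_.mul_inv_rev]
    calc _ = qm H ⟨c, hc.2⟩ * (qm H ⟨i, hi.2⟩ * qm H e) * ((qm H ⟨i, hi.2⟩)⁻¹ * (qm H ⟨c, hc.2⟩)⁻¹) := by group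
      _ = _ := by rw [h1]; group
  rw [h2]
  refine hcomm _ _ (hmem _ ?_ ?_) (hmem e he hei)
  · exact mul_mem (mul_mem hc.1 he) (inv_mem hc.1)
  · have h3 : a * c * a⁻¹ = c := by rw [hca, mul_inv_cancel_right]
    show a * (c * e * c⁻¹) * a⁻¹ = (c * e * c⁻¹)⁻¹
    calc a * (c * e * c⁻¹) * a⁻¹ = a * c * a⁻¹ * (a * e * a⁻¹) * (a * c * a⁻¹)⁻¹ := by group
      _ = (c * e * c⁻¹)⁻¹ := by rw [h3, hei]; group

/-- At a prime without configuration the invariant subgroups of `O(H)` lie in `E`. -/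
theorem core_fixed {s : ℕ} [Fact s.Prime] (hs2 : s ≠ 2) (hC : ∀ V H : Subgroup G, ¬ Conf s V H)
    {P : Subgroup G} (hP : IsPGroup s P) (hPD : P ≤ coreOf (Subgroup.centralizer (Y : Set G)))
    (hn : fourOf t a ≤ Subgroup.normalizer (P : Set G)) : P ≤ coreFix t a := by
  rw [← h.base.four_a.2.2.2]
  refine h.base.hyp.le_coreV h.base.four_a.1 ?_ (odd_card_of_pgroup hs2 hP)
  by_contra hno
  exact hC _ _ ⟨h.coreBase.ne_top, h.fused.1, P, hPD, hP, hn, hno⟩

/-- An inverted element of `O ∩ H` of order prime to `s` centralises the invariant `s`-subgroups of `O ∩ H` that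
it normalises. -/
theorem inverted_commutes (hMC : PropModelCyclic.{u}) {s : ℕ} [Fact s.Prime] (hs2 : s ≠ 2)
    (hC : ∀ V H : Subgroup G, ¬ Conf s V H) {e : G} (heH : e ∈ Subgroup.centralizer (Y : Set G))
    (heO : e ∈ coreC t) (hei : a * e * a⁻¹ = e⁻¹) (hes : (orderOf e).Coprime s) {P : Subgroup G}
    (hP : IsPGroup s P) (hPle : P ≤ coreC t ⊓ Subgroup.centralizer (Y : Set G))
    (hPa : ∀ y ∈ P, a * y * a⁻¹ ∈ P) (hPe : ∀ y ∈ P, e * y * e⁻¹ ∈ P) : ∀ y ∈ P, e * y = y * e := by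
  set H := Subgroup.centralizer (Y : Set G) with hH
  -- an element commuting with `e` up to a commutator commuting with `e`
  have hstep : ∀ u ∈ P, (u * e * u⁻¹ * e⁻¹) * e = e * (u * e * u⁻¹ * e⁻¹) → e * u = u * e := by
    intro u hu hv
    set v := u * e * u⁻¹ * e⁻¹ with hvdef
    have h1 : ∀ k : ℕ, u * e ^ k * u⁻¹ = v ^ k * e ^ k := by
      intro k
      induction k with
      | zero => simp
      | succ k ih =>
        calc u * e ^ (k + 1) * u⁻¹ = (u * e ^ k * u⁻¹) * (u * e * u⁻¹ * e⁻¹ * e) := by rw [pow_succ]; group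
          _ = v ^ k * (e ^ k * v) * e := by rw [ih, hvdef]; group
          _ = v ^ (k + 1) * e ^ (k + 1) := by
            rw [← ((show Commute v e from hv).pow_right k).eq, pow_succ, pow_succ]; group
    have h2 := h1 (orderOf e)
    rw [pow_orderOf_eq_one, mul_one, mul_one, mul_inv_cancel] at h2
    have hvP : v ∈ P := by
      rw [hvdef, show u * e * u⁻¹ * e⁻¹ = u * (e * u⁻¹ * e⁻¹) by group]
      exact mul_mem hu (hPe _ (inv_mem hu))
    obtain ⟨j, hj⟩ := hP ⟨v, hvP⟩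
    have hv1 : v = 1 := orderOf_eq_one_iff.1 (Nat.eq_one_of_dvd_coprimes (hes.pow_right j)
      (orderOf_dvd_of_pow_eq_one h2.symm) (orderOf_dvd_of_pow_eq_one (congrArg Subtype.val hj)))
    calc e * u = (u * e * u⁻¹ * e⁻¹)⁻¹ * (u * e) := by group
      _ = u * e := by rw [← hvdef, hv1, inv_one, one_mul]
  -- `e` centralises `O(H) ∩ P`
  set D := coreOf H ⊓ P
  have htP : ∀ y ∈ P, t * y = y * t := fun y hy => (h.mem_cent_t (hPle hy).1).symm
  have haH : a ∈ H := h.coreBase.sylow_le h.base.refl.u_mem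
  have hDn : fourOf t a ≤ Subgroup.normalizer (D : Set G) := by
    rw [fourOf, Subgroup.closure_le]
    rintro x (rfl | rfl)
    · exact Subgroup.mem_normalizer_fintype fun y hy => by
        rw [SetLike.mem_coe, htP y hy.2, mul_inv_cancel_right]; exact hy
    · exact Subgroup.mem_normalizer_fintype fun y hy => Subgroup.mem_inf.2
        ⟨conj_mem_of_mem_normalizer (normalizer_le_normalizer_coreOf H (Subgroup.le_normalizer haH)) hy.1,
          hPa y hy.2⟩
  have hDE := h.core_fixed hs2 hC (hP.to_le (inf_le_right : D ≤ P)) inf_le_left hDn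
  have hDc : ∀ y ∈ D, e * y = y * e := by
    intro y hy
    refine commute_of_uniform (orderOf_odd_of_mem (coreC_odd t) heO) hei (K := D) (fun k hk => ?_)
      (Or.inl fun k hk => (h.base.fix_iff (hPle hk.2).1).1 (hDE hk)) y hy
    exact Subgroup.mem_inf.2
      ⟨conj_mem_of_mem_normalizer (normalizer_le_normalizer_coreOf H (Subgroup.le_normalizer heH)) hk.1,
        hPe k hk.2⟩
  intro f hf
  refine hstep f hf ?_
  set u := f * e * f⁻¹ * e⁻¹ with hu
  have huP : u ∈ P := by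
    rw [hu, show f * e * f⁻¹ * e⁻¹ = f * (e * f⁻¹ * e⁻¹) by group]
    exact mul_mem hf (hPe _ (inv_mem hf))
  refine (hstep u huP ?_).symm
  refine (hDc _ (Subgroup.mem_inf.2 ⟨?_, ?_⟩)).symm
  · set e' : H := ⟨e, heH⟩
    set f' : H := ⟨f, (hPle hf).2⟩
    have hc := h.conj_commute hMC e' f' heO hei (hPle hf).1
    have h1 : qm H ((f' * e' * f'⁻¹ * e'⁻¹) * e' * (f' * e' * f'⁻¹ * e'⁻¹)⁻¹ * e'⁻¹) = 1 := by
      rw [map_mul _ _ e'⁻¹, map_mul, map_mul, map_inv, map_inv, map_mul _ (f' * e' * f'⁻¹) e'⁻¹, map_inv]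
      generalize qm H (f' * e' * f'⁻¹) = A at hc ⊢
      generalize qm H e' = B at hc ⊢
      calc A * B⁻¹ * B * (A * B⁻¹)⁻¹ * B⁻¹ = A * B * A⁻¹ * B⁻¹ := by group
        _ = 1 := by rw [hc]; group
    exact CoreBase.mem_core_iff.1 h1
  · rw [show u * e * u⁻¹ * e⁻¹ = u * (e * u⁻¹ * e⁻¹) by group]
    exact mul_mem huP (hPe _ (inv_mem huP))

/-- A small prime does not divide `|O ∩ H|`. -/
theorem not_dvd (hMC : PropModelCyclic.{u}) {r : ℕ} [Fact r.Prime] (hr : r ≠ 2) (hsm : SmallPrime r G) :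
    ¬ r ∣ Nat.card ↥(coreC t ⊓ Subgroup.centralizer (Y : Set G)) := by
  classical
  intro hd
  haveI := Fact.mk h.prime
  set H := Subgroup.centralizer (Y : Set G) with hH
  set O := coreC t with hO
  have hG := h.base.hyp
  have haH : a ∈ H := h.coreBase.sylow_le h.base.refl.u_mem
  set K := O ⊓ H with hK
  have haK : ∀ y ∈ K, a * y * a⁻¹ ∈ K := fun y hy =>
    Subgroup.mem_inf.2 ⟨h.base.a_mem hy.1, mul_mem (mul_mem haH hy.2) (inv_mem haH)⟩
  have hKodd : Odd (Nat.card K) := (coreC_odd t).of_dvd_nat (Subgroup.card_dvd_of_le inf_le_left)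
  -- an inverted element of order `r`
  obtain ⟨R₀, hR₀⟩ := Coprime.exists_invariant_sylow (K := K) (A := Subgroup.zpowers a)
    (Subgroup.zpowers_le.2 (Subgroup.mem_normalizer_fintype haK))
    (by rw [Nat.card_zpowers, h.base.refl.u_two]; exact Nat.coprime_two_left.2 hKodd)
    (Or.inl (Coprime.isSolvable_zpowers a)) r
  have hRa : ∀ y ∈ (R₀ : Subgroup K).map K.subtype, a * y * a⁻¹ ∈ (R₀ : Subgroup K).map K.subtype :=
    fun y hy => conj_mem_of_mem_normalizer (hR₀ (Subgroup.mem_zpowers a)) hy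
  have hRinv := inverts_of_fixed_bot (hKodd.of_dvd_nat (Subgroup.card_dvd_of_le (Subgroup.map_subtype_le _)))
    h.base.aa hRa fun y hy hya => by
      by_contra hy1
      refine h.base.not_dvd_of_small hsm ?_
      have hyE : y ∈ coreFix t a := (h.base.fix_iff (Subgroup.map_subtype_le _ hy).1).2 hya
      obtain ⟨j, hj⟩ := (R₀.2.map K.subtype) ⟨y, hy⟩
      obtain ⟨i, -, hi⟩ := (Nat.dvd_prime_pow Fact.out).1 (orderOf_dvd_of_pow_eq_one
        (show y ^ r ^ j = 1 from congrArg Subtype.val hj))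
      refine dvd_trans ?_ (Subgroup.orderOf_dvd_natCard _ hyE)
      rw [hi]
      exact dvd_pow_self r fun h0 => hy1 (orderOf_eq_one_iff.1 (by rw [hi, h0, pow_zero]))
  have hdR : r ∣ Nat.card ((R₀ : Subgroup K).map K.subtype) := by
    rw [Coprime.card_sylow_map R₀]
    exact dvd_pow_self r ((Fact.out : r.Prime).factorization_pos_of_dvd Nat.card_pos.ne' hd).ne'
  obtain ⟨⟨e, heR⟩, heo⟩ := exists_prime_orderOf_dvd_card' r hdR
  rw [Subgroup.orderOf_mk] at heo
  have heK : e ∈ K := Subgroup.map_subtype_le _ heR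
  have hei := hRinv e heR
  have heodd : Odd (orderOf e) := orderOf_odd_of_mem hKodd heK
  have heL : e ∈ invGen t a := Subgroup.subset_closure ⟨heK.1, hei⟩
  -- `e` centralises every core of `L₀`
  have hcores : ∀ s : ℕ, s.Prime → ∀ y ∈ genCore s t a, e * y = y * e := by
    intro s hs
    haveI := Fact.mk hs
    set P := genCore s t a
    have hPO : P ≤ O := h.base.genCore_le s
    have hPe : ∀ y ∈ P, e * y * e⁻¹ ∈ P := fun y hy =>
      conj_mem_of_mem_normalizer (h.base.genCore_normal s heK.1) hy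
    have hPa : ∀ y ∈ P, a * y * a⁻¹ ∈ P := fun y hy => h.base.genCore_conj s hy
    have hPodd : Odd (Nat.card P) := (coreC_odd t).of_dvd_nat (Subgroup.card_dvd_of_le hPO)
    by_cases hsd : s ∣ Nat.card (coreFix t a)
    swap
    · refine commute_of_uniform heodd hei hPe (Or.inr (inverts_of_fixed_bot hPodd h.base.aa hPa ?_))
      intro y hy hya
      by_contra hy1
      have hyE : y ∈ coreFix t a := (h.base.fix_iff (hPO hy)).2 hya
      obtain ⟨j, hj⟩ := (h.base.genCore_pgroup s) ⟨y, hy⟩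
      obtain ⟨i, -, hi⟩ := (Nat.dvd_prime_pow hs).1 (orderOf_dvd_of_pow_eq_one
        (show y ^ s ^ j = 1 from congrArg Subtype.val hj))
      refine hsd (dvd_trans ?_ (Subgroup.orderOf_dvd_natCard _ hyE))
      rw [hi]
      exact dvd_pow_self s fun h0 => hy1 (orderOf_eq_one_iff.1 (by rw [hi, h0, pow_zero]))
    have hs2 : s ≠ 2 := fun e2 =>
      ((coreC_odd t).of_dvd_nat (Subgroup.card_dvd_of_le inf_le_left)).not_two_dvd_nat (e2 ▸ hsd)
    have hsC := h.base.noConf_of_dvd h.noConf hs2 hsd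
    have hrs : r ≠ s := fun e2 => h.base.not_dvd_of_small hsm (e2 ▸ hsd)
    have hes : (orderOf e).Coprime s := heo ▸ (Nat.coprime_primes Fact.out hs).2 hrs
    have hPK : ∀ y ∈ P ⊓ H, e * y = y * e :=
      h.inverted_commutes hMC hs2 hsC heK.2 heK.1 hei hes
        ((h.base.genCore_pgroup s).to_le inf_le_left) (le_inf (inf_le_left.trans hPO) inf_le_right)
        (fun y hy => Subgroup.mem_inf.2 ⟨hPa y hy.1, mul_mem (mul_mem haH hy.2) (inv_mem haH)⟩)
        fun y hy => Subgroup.mem_inf.2 ⟨hPe y hy.1, mul_mem (mul_mem heK.2 hy.2) (inv_mem heK.2)⟩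
    by_cases hsl : s = l
    · subst hsl
      intro y hy
      exact (CharP.commute_of_axb h.pgroup hes
        (fun z hz => ((Subgroup.mem_centralizer_iff.1 heK.2 z hz).symm : e * z = z * e))
        (h.base.genCore_pgroup s) (h.le_core.trans Subgroup.le_normalizer)
        (h.base.genCore_normal s heK.1)
        (fun u hu huY => hPK u (Subgroup.mem_inf.2 ⟨hu, Subgroup.mem_centralizer_iff.2
          fun z hz => ((huY z hz).eq).symm⟩)) y hy).eq
    · intro y hy
      exact hPK y (Subgroup.mem_inf.2 ⟨hy, Subgroup.mem_centralizer_iff.2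
        fun z hz => h.base.genCore_commute (Ne.symm hsl) (h.le_core hz) hy⟩)
  -- so `e` lies in `O_r(L₀)`
  haveI : Group.IsSolvable (invGen t a) :=
    Cfsg.Agent.S0205.result ((coreC_odd t).of_dvd_nat (Subgroup.card_dvd_of_le h.base.invGen_le))
  set e' : invGen t a := ⟨e, heL⟩
  have heF : e' ∈ Cfsg.fittingSubgroup (invGen t a) := by
    refine Cores.centralizer_fittingSubgroup_le ?_
    rw [Cores.fittingSubgroup_eq_iSup_pCore]
    have hle : (⨆ p : Nat.Primes, Cfsg.pCore (p : ℕ) (invGen t a)) ≤ Subgroup.centralizer ({e'} : Set _) :=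
      iSup_le fun p y hy => Subgroup.mem_centralizer_singleton_iff.2 (Subtype.ext
        (hcores p p.2 (y : G) ⟨y, hy, rfl⟩).symm)
    exact Subgroup.mem_centralizer_iff.2 fun y hy => Subgroup.mem_centralizer_singleton_iff.1 (hle hy)
  have her : e ∈ genCore r t a := by
    set F := Cfsg.fittingSubgroup (invGen t a)
    haveI : Group.IsNilpotent F := Cores.fittingSubgroup_isNilpotent
    have hz : IsPGroup r (Subgroup.zpowers (⟨e', heF⟩ : F)) := IsPGroup.of_card (n := 1) (by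
      rw [Nat.card_zpowers, Subgroup.orderOf_mk, Subgroup.orderOf_mk, heo, pow_one])
    obtain ⟨Q, hQ⟩ := hz.exists_le_sylow
    haveI : (Q : Subgroup F).Normal := inferInstance
    haveI := Q.characteristic_of_normal this
    haveI := Cores.normal_map_subtype F (Q : Subgroup F)
    have hp' : IsPGroup r ((Q : Subgroup F).map F.subtype) := Q.2.map _
    exact ⟨e', Cores.le_pCore hp' ⟨⟨e', heF⟩, hQ (Subgroup.mem_zpowers _), rfl⟩, rfl⟩
  -- so `e` centralises `O_{r'}(O)`
  set U := coreR r t with hU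
  have hUO : U ≤ O := Subgroup.map_subtype_le _
  haveI : (Cfsg.pPrimeCore r O).Normal := inferInstance
  have hOU : O ≤ Subgroup.normalizer (U : Set G) := by
    intro x hx
    exact Subgroup.le_normalizer_map O.subtype
      ⟨⟨x, hx⟩, by rw [Subgroup.normalizer_eq_top]; trivial, rfl⟩
  have heU : U ≤ Subgroup.centralizer ({e} : Set G) := by
    intro y hy
    rw [Subgroup.mem_centralizer_singleton_iff]
    have hm : e * y * e⁻¹ * y⁻¹ ∈ genCore r t a ⊓ U := by
      refine Subgroup.mem_inf.2 ⟨?_, mul_mem (conj_mem_of_mem_normalizer (hOU heK.1) hy) (inv_mem hy)⟩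
      rw [show e * y * e⁻¹ * y⁻¹ = e * (y * e⁻¹ * y⁻¹) by group]
      exact mul_mem her (conj_mem_of_mem_normalizer (h.base.genCore_normal r (hUO hy)) (inv_mem her))
    have hcop : genCore r t a ⊓ U = ⊥ := by
      obtain ⟨k, hk⟩ := (h.base.genCore_pgroup r).exists_card_eq
      refine Coprime.inf_eq_bot_of_coprime ?_
      rw [hk, hU, Subgroup.card_map_of_injective O.subtype_injective]
      exact ((Cores.pPrimeCore_coprime r).symm).pow_left k
    rw [hcop, Subgroup.mem_bot] at hm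
    calc y * e = (e * y * e⁻¹ * y⁻¹)⁻¹ * (e * y) := by group
      _ = e * y := by rw [hm, inv_one, one_mul]
  -- against `moves`
  obtain ⟨e₀, he₀t, he₀o, he₀m⟩ := hsm.moves t h.base.refl.t_two
  have he₀O : e₀ ∈ O := hG.mem_coreC h.base.refl.t_two (Subgroup.mem_centralizer_singleton_iff.2 he₀t)
    (he₀o ▸ (Fact.out : r.Prime).odd_of_ne_two hr)
  obtain ⟨T⟩ : Nonempty (Sylow r O) := inferInstance
  set T' := (T : Subgroup O).map O.subtype
  haveI : IsCyclic T' := hsm.cyclic t h.base.refl.t_two T' (T.2.map _)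
    ((Subgroup.map_subtype_le _).trans (coreC_le t))
  have hconj : ∀ x : G, x ∈ O → orderOf x = r → ∃ g ∈ O, g * x * g⁻¹ ∈ T' := by
    intro x hx hxo
    have hp : IsPGroup r (Subgroup.zpowers (⟨x, hx⟩ : O)) := IsPGroup.of_card (n := 1) (by
      rw [Nat.card_zpowers, Subgroup.orderOf_mk, hxo, pow_one])
    obtain ⟨T₁, hT₁⟩ := hp.exists_le_sylow
    obtain ⟨g, hg⟩ := MulAction.exists_smul_eq O T₁ T
    exact ⟨g, g.2, g * ⟨x, hx⟩ * g⁻¹, by
      rw [← hg]
      exact Subgroup.smul_mem_pointwise_smul _ (MulAut.conj g) (T₁ : Subgroup O)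
        (hT₁ (Subgroup.mem_zpowers _)), rfl⟩
  obtain ⟨g, hg, hge⟩ := hconj e heK.1 heo
  obtain ⟨g₀, hg₀, hge₀⟩ := hconj e₀ he₀O he₀o
  have hord : ∀ g x : G, orderOf (g * x * g⁻¹) = orderOf x := fun g x => by
    rw [← MulAut.conj_apply]; exact MulEquiv.orderOf_eq (MulAut.conj g) x
  have heq : Subgroup.zpowers (g * e * g⁻¹) = Subgroup.zpowers (g₀ * e₀ * g₀⁻¹) :=
    OddOrder.Cyclic.eq_of_card_eq_of_isCyclic (W := T') (Subgroup.zpowers_le.2 hge)
      (Subgroup.zpowers_le.2 hge₀) (by rw [Nat.card_zpowers, Nat.card_zpowers, hord, hord, heo, he₀o])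
  refine he₀m fun y hy => Subgroup.mem_centralizer_singleton_iff.2 ?_
  set z := g₀ * y * g₀⁻¹
  have hz : z ∈ U := conj_mem_of_mem_normalizer (hOU hg₀) hy
  obtain ⟨i, hi⟩ : g₀ * e₀ * g₀⁻¹ ∈ Subgroup.zpowers (g * e * g⁻¹) := heq ▸ Subgroup.mem_zpowers _
  have hz' : g⁻¹ * z * g ∈ U := by
    have h1 := conj_mem_of_mem_normalizer (hOU (inv_mem hg)) hz
    rwa [inv_inv] at h1
  have hc : Commute z (g * e * g⁻¹) := by
    show z * (g * e * g⁻¹) = g * e * g⁻¹ * z
    have h2 := Subgroup.mem_centralizer_singleton_iff.1 (heU hz')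
    calc z * (g * e * g⁻¹) = g * (g⁻¹ * z * g * e) * g⁻¹ := by group
      _ = g * e * g⁻¹ * z := by rw [h2]; group
  have h3 : z * (g₀ * e₀ * g₀⁻¹) = g₀ * e₀ * g₀⁻¹ * z := hi ▸ (hc.zpow_right i).eq
  have hzd : z = g₀ * y * g₀⁻¹ := rfl
  calc y * e₀ = g₀⁻¹ * (z * (g₀ * e₀ * g₀⁻¹)) * g₀ := by rw [hzd]; group
    _ = e₀ * y := by rw [h3, hzd]; group

/-- A small prime has no invariant part in `H`. -/
theorem no_invariant (hMC : PropModelCyclic.{u}) {r : ℕ} [Fact r.Prime] (hr : r ≠ 2) (hsm : SmallPrime r G)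
    {P : Subgroup G} (hP : IsPGroup r P) (hPH : P ≤ Subgroup.centralizer (Y : Set G))
    (hn : fourOf t b ≤ Subgroup.normalizer (P : Set G)) : P = ⊥ := by
  set H := Subgroup.centralizer (Y : Set G)
  have hodd := odd_card_of_pgroup hr hP
  obtain ⟨hVb, htV, -, -⟩ := h.base.four_b
  refine le_bot_iff.1 (le_of_four hVb hodd hn fun v hv hv1 x hx => ?_)
  obtain ⟨g, hg, -, hgv⟩ := h.fused.2.2.2 v hv hv1 t htV (ne_one_of_two h.base.refl.t_two)
  have hxH : g * x * g⁻¹ ∈ H := mul_mem (mul_mem hg (hPH hx.1)) (inv_mem hg)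
  have hxt : g * x * g⁻¹ * t = t * (g * x * g⁻¹) := by
    have h1 := Subgroup.mem_centralizer_singleton_iff.1 hx.2
    rw [← hgv]
    calc g * x * g⁻¹ * (g * v * g⁻¹) = g * (x * v) * g⁻¹ := by group
      _ = g * v * g⁻¹ * (g * x * g⁻¹) := by rw [h1]; group
  have hord : orderOf (g * x * g⁻¹) = orderOf x := by
    rw [← MulAut.conj_apply]; exact MulEquiv.orderOf_eq (MulAut.conj g) x
  have hxO : g * x * g⁻¹ ∈ coreC t := h.base.hyp.mem_coreC h.base.refl.t_two
    (Subgroup.mem_centralizer_singleton_iff.2 hxt) (hord ▸ orderOf_odd_of_mem hodd hx.1)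
  by_contra hx1
  obtain ⟨j, hj⟩ := hP ⟨x, hx.1⟩
  obtain ⟨i, -, hi⟩ := (Nat.dvd_prime_pow Fact.out).1 (orderOf_dvd_of_pow_eq_one
    (show x ^ r ^ j = 1 from congrArg Subtype.val hj))
  refine h.not_dvd hMC hr hsm (dvd_trans ?_ (Subgroup.orderOf_dvd_natCard _
    (Subgroup.mem_inf.2 ⟨hxO, hxH⟩ : g * x * g⁻¹ ∈ coreC t ⊓ H)))
  rw [hord, hi]
  exact dvd_pow_self r fun h0 => hx1 (Subgroup.mem_bot.2 (orderOf_eq_one_iff.1 (by rw [hi, h0, pow_zero])))

/-- `O(H) ≤ E`. -/
theorem core_le_fix (hMC : PropModelCyclic.{u}) :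
    coreOf (Subgroup.centralizer (Y : Set G)) ≤ coreFix t a := by
  set H := Subgroup.centralizer (Y : Set G)
  obtain ⟨hVb, htV, -, hVbe⟩ := h.base.four_b
  rw [← hVbe]
  refine h.base.hyp.le_coreV hVb ?_ (coreOf_odd H)
  by_contra hno
  obtain ⟨s, P, hs, hsD, hPD, hPs, hVP, hPC⟩ := exists_moved_invariant_pgroup (A := fourOf t b)
    ((h.fused.2.2.1.trans Subgroup.le_normalizer).trans (normalizer_le_normalizer_coreOf H))
    (by rw [hVb.1]; exact (Nat.coprime_two_left.2 (coreOf_odd H)).pow_left 2)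
    (Or.inl (Coprime.isSolvable_of_isPGroup hVb.isPGroup)) hno
  haveI := Fact.mk hs
  have hs2 : s ≠ 2 := fun e2 => (coreOf_odd H).not_two_dvd_nat (e2 ▸ hsD)
  by_cases hC : ∀ V K : Subgroup G, ¬ Conf s V K
  · exact hC _ H ⟨h.coreBase.ne_top, h.fused.2, P, hPD, hPs, hVP, hPC⟩
  · push Not at hC
    obtain ⟨V, K, hcf⟩ := hC
    refine hPC ?_
    rw [h.no_invariant hMC hs2 (h.noConf G h.base.hyp h.base.not_known s hs2 V K hcf) hPs
      (hPD.trans (Subgroup.map_subtype_le _)) hVP]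
    exact bot_le

/-- The core setting on `H`. -/
theorem coreSetting (hMC : PropModelCyclic.{u}) :
    CoreSetting S t a b (Subgroup.centralizer (Y : Set G)) :=
  ⟨h.coreBase, fun _ hd => h.base.fixed (h.core_le_fix hMC hd)⟩

/-- An inverted elementary abelian subgroup of `O ∩ H` has order at most `l`. -/
theorem inverted_card_le (hMC : PropModelCyclic.{u}) {K : Subgroup G}
    (hK : K ≤ coreC t ⊓ Subgroup.centralizer (Y : Set G)) (hinv : ∀ x ∈ K, a * x * a⁻¹ = x⁻¹)
    (hexp : ∀ x ∈ K, x ^ l = 1) : Nat.card K ≤ l := by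
  set H := Subgroup.centralizer (Y : Set G) with hH
  obtain ⟨w, hw⟩ := h.coreBase.inverted_cyclic hMC h.base.three_le h.base.card h.fused.1
  let ι : K →* ↥H ⧸ Cfsg.oddCore ↥H := (qm H).comp (Subgroup.inclusion (hK.trans inf_le_right))
  have hinj : Function.Injective ι := by
    rw [← MonoidHom.ker_eq_bot_iff, Subgroup.eq_bot_iff_forall]
    intro x hx
    have hxD : (x : G) ∈ coreOf H := CoreBase.mem_core_iff.1 hx
    have hxE := (h.base.fix_iff (hK x.2).1).1 (h.core_le_fix hMC hxD)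
    have h1 := hinv x x.2
    rw [hxE, mul_inv_cancel_right] at h1
    exact Subtype.ext (eq_one_of_eq_inv (orderOf_odd_of_mem (coreC_odd t) (hK x.2).1) h1)
  have hle : ι.range ≤ Subgroup.zpowers w := by
    rintro _ ⟨x, rfl⟩
    exact hw _ (h.mem_cent_t (hK x.2).1) (orderOf_odd_of_mem (coreC_odd t) (hK x.2).1) (hinv x x.2)
  haveI : IsCyclic ι.range := Subgroup.isCyclic_of_le hle
  rw [Nat.card_congr (MonoidHom.ofInjective hinj).toEquiv]
  obtain ⟨x, hx⟩ := IsCyclic.exists_generator (α := ι.range)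
  obtain ⟨k, hk⟩ := x.2
  rw [← orderOf_eq_card_of_forall_mem_zpowers hx]
  refine Nat.le_of_dvd h.prime.pos (orderOf_dvd_of_pow_eq_one (Subtype.ext ?_))
  rw [SubmonoidClass.coe_pow, ← hk, ← map_pow, show k ^ l = 1 from Subtype.ext (hexp k k.2), map_one]
  rfl

/-- The model of `PSL(2, q)`. -/
theorem model (hMC : PropModelCyclic.{u}) (hMS : PropModelSplit.{u}) (hMO : PropModelOne.{u}) {z : G}
    (hzK : z ∈ coreC t ⊓ Subgroup.centralizer (Y : Set G)) (hz1 : z ≠ 1) (hzi : a * z * a⁻¹ = z⁻¹) :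
    ∃ (T q : ℕ) (ε : ℤ), (ε = 1 ∨ ε = -1) ∧ IsPrimePow q ∧ Nat.Coprime q T ∧
      Nat.card ↥(coreC t ⊓ Subgroup.centralizer (Y : Set G)) =
        T * Nat.card ↥(coreFix t a ⊓ Subgroup.centralizer (Y : Set G)) ∧
      (q : ℤ) = 2 ^ n * (T : ℤ) + ε ∧
      2 * (Nat.card ↥(Subgroup.centralizer (Y : Set G)) : ℤ) = (q : ℤ) * ((q : ℤ) + ε) *
        Nat.card ↥(Subgroup.centralizer ({t} : Set G) ⊓ Subgroup.centralizer (Y : Set G)) := by
  rcases (h.coreSetting hMC).models hMS hMO h.base.three_le h.base.card with ⟨hf, -⟩ | ⟨-, hd⟩ | ⟨-, -, -, hc⟩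
  · exact absurd h.fused.1 hf
  · exact hd
  · exfalso
    have hac : a * z * a⁻¹ = z := by
      rcases hc with hc | hc
      · rw [← Subgroup.mem_centralizer_singleton_iff.1 (hc hzK), mul_inv_cancel_right]
      · rw [← h.base.b_act hzK.1, ← Subgroup.mem_centralizer_singleton_iff.1 (hc hzK), mul_inv_cancel_right]
    exact hz1 (eq_one_of_eq_inv (orderOf_odd_of_mem (coreC_odd t) hzK.1) (hac.symm.trans hzi))

end EqualLocal

end Cfsg.Agent.Lib.GorensteinWalter
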