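import Cfsg.Agent.Lib.GorensteinWalter.EqualLocal

/-!
# Equal fixed points: the shape of a minimal normal block

`Q` is minimal among the `O`- and `a`-invariant subgroups of `O_l(L₀)` in which `a` has fixed points; `Y = C_Q(a)`.
Then `Q` has class at most two and exponent `l`, some inverted `z ≠ 1` of `Q` centralises `Y`, and
`N = |L₀ : N_{L₀}(Y)|` is at most `l + 1`, or a multiple of `l` and at most `l²`.
-/

set_option autoImplicit false
set_option linter.unusedSectionVars false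
set_option linter.style.haveILetI false

namespace Cfsg.Agent.Lib.GorensteinWalter

open Cfsg.Agent.Lib.Fusion.Dihedral
open scoped commutatorElement

universe u

variable {G : Type u} [Group G] [Finite G]

/-- If the commutators with `x` fall into a subgroup that `K` centralises, `C_K(x)` has small index. -/
theorem relIndex_centralizer_le {K Z : Subgroup G} {x : G}
    (hc : ∀ g ∈ K, g * x * g⁻¹ * x⁻¹ ∈ Z) :
    (K ⊓ Subgroup.centralizer ({x} : Set G)).relIndex K ≤ Nat.card Z := by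
  classical
  let N := (K ⊓ Subgroup.centralizer ({x} : Set G)).subgroupOf K
  let f : K ⧸ N → Z := fun q => ⟨(q.out : G) * x * (q.out : G)⁻¹ * x⁻¹, hc _ q.out.2⟩
  refine Nat.card_le_card_of_injective f fun q q' hqq => ?_
  have h1 : (q.out : G) * x * (q.out : G)⁻¹ = (q'.out : G) * x * (q'.out : G)⁻¹ :=
    mul_right_cancel (congrArg Subtype.val hqq)
  rw [← QuotientGroup.out_eq' q, ← QuotientGroup.out_eq' q', QuotientGroup.eq, Subgroup.mem_subgroupOf]
  refine Subgroup.mem_inf.2 ⟨(q.out⁻¹ * q'.out).2, Subgroup.mem_centralizer_singleton_iff.2 ?_⟩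
  simp only [Subgroup.coe_mul, Subgroup.coe_inv]
  calc (q.out : G)⁻¹ * q'.out * x = (q.out : G)⁻¹ * ((q'.out : G) * x * (q'.out : G)⁻¹) * q'.out := by group
    _ = x * ((q.out : G)⁻¹ * q'.out) := by rw [← h1]; group

/-- A minimal block. -/
structure EqualBlock (S : Sylow 2 G) (t a b : G) (n l : ℕ) (Q : Subgroup G) : Prop where
  base : EqualSetting S t a b n
  prime : l.Prime
  ne_two : l ≠ 2
  excess : (Nat.card (coreFix t a)).factorization l < (Nat.card (coreC t)).factorization l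
  le : Q ≤ genCore l t a
  normal : coreC t ≤ Subgroup.normalizer (Q : Set G)
  invariant : ∀ y ∈ Q, a * y * a⁻¹ ∈ Q
  meets : Q ⊓ Subgroup.centralizer ({a} : Set G) ≠ ⊥
  minimal : ∀ K : Subgroup G, K ≤ Q → coreC t ≤ Subgroup.normalizer (K : Set G) →
    (∀ y ∈ K, a * y * a⁻¹ ∈ K) → K ⊓ Subgroup.centralizer ({a} : Set G) ≠ ⊥ → K = Q
  noConf : PropNoConf.{u}
  fusedCent : PropFusedCentralizer.{u}

namespace EqualBlock

variable {S : Sylow 2 G} {t a b : G} {n l : ℕ} {Q : Subgroup G} (h : EqualBlock S t a b n l Q)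
include h

theorem le_core : Q ≤ coreC t := h.le.trans (h.base.genCore_le l)

theorem le_gen : Q ≤ invGen t a := h.le.trans (Subgroup.map_subtype_le _)

theorem pgroup : IsPGroup l Q := (h.base.genCore_pgroup l).to_le h.le

theorem odd : Odd (Nat.card Q) := (coreC_odd t).of_dvd_nat (Subgroup.card_dvd_of_le h.le_core)

theorem gen_normal : invGen t a ≤ Subgroup.normalizer (Q : Set G) := h.base.invGen_le.trans h.normal

theorem fix_le : Q ⊓ Subgroup.centralizer ({a} : Set G) ≤ coreFix t a := inf_le_inf_right _ h.le_core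

theorem not_fixed : ¬ Q ≤ Subgroup.centralizer ({a} : Set G) := fun hle => by
  haveI := Fact.mk h.prime
  exact h.base.normal_fixed_false h.noConf h.fusedCent h.ne_two h.excess h.pgroup
    (fun e => h.meets (le_bot_iff.1 (inf_le_left.trans e.le))) (le_inf h.le_core hle) h.normal

theorem exists_inverted_mem : ∃ z ∈ Q, z ≠ 1 ∧ a * z * a⁻¹ = z⁻¹ := by
  obtain ⟨x, hx, hxa⟩ := SetLike.not_le_iff_exists.1 h.not_fixed
  exact exists_inverted h.base.aa h.invariant hx
    (fun e => hxa (Subgroup.mem_centralizer_singleton_iff.2 e.symm))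

/-- Proper invariant subgroups of `Q` are inverted and centralised by `L₀`. -/
theorem lower {K : Subgroup G} (hKQ : K ≤ Q) (hKn : coreC t ≤ Subgroup.normalizer (K : Set G))
    (hKa : ∀ y ∈ K, a * y * a⁻¹ ∈ K) (hne : K ≠ Q) :
    (∀ k ∈ K, a * k * a⁻¹ = k⁻¹) ∧ ∀ g ∈ invGen t a, ∀ k ∈ K, g * k = k * g := by
  have hbot : K ⊓ Subgroup.centralizer ({a} : Set G) = ⊥ := by
    by_contra hb
    exact hne (h.minimal K hKQ hKn hKa hb)
  have hinv := inverts_of_fixed_bot (h.odd.of_dvd_nat (Subgroup.card_dvd_of_le hKQ)) h.base.aa hKa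
    fun y hy hya => by
      have h1 : y ∈ K ⊓ Subgroup.centralizer ({a} : Set G) :=
        Subgroup.mem_inf.2 ⟨hy, Subgroup.mem_centralizer_singleton_iff.2 hya.symm⟩
      rwa [hbot, Subgroup.mem_bot] at h1
  refine ⟨hinv, fun g hg k hk => ?_⟩
  have hle : invGen t a ≤ Subgroup.centralizer (K : Set G) := (Subgroup.closure_le _).2 fun y hy =>
    Subgroup.mem_centralizer_iff.2 fun x hx => (commute_of_uniform (orderOf_odd_of_mem (coreC_odd t) hy.1) hy.2
      (fun v hv => conj_mem_of_mem_normalizer (hKn hy.1) hv) (Or.inr hinv) x hx).symm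
  exact (Subgroup.mem_centralizer_iff.1 (hle hg) k hk).symm

theorem commutator_lower :
    (∀ c ∈ ⁅Q, Q⁆, a * c * a⁻¹ = c⁻¹) ∧ ∀ g ∈ invGen t a, ∀ c ∈ ⁅Q, Q⁆, g * c = c * g := by
  have hle : ⁅Q, Q⁆ ≤ Q := Subgroup.le_normalizer_iff_commutator_le_left.1 Subgroup.le_normalizer
  have hmap : ∀ g : G, g ∈ Subgroup.normalizer (Q : Set G) → ∀ c ∈ ⁅Q, Q⁆, g * c * g⁻¹ ∈ ⁅Q, Q⁆ := by
    intro g hg c hc
    have h1 : c ∈ Subgroup.comap (MulAut.conj g).toMonoidHom ⁅Q, Q⁆ := by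
      revert hc c
      rw [← SetLike.le_def, Subgroup.commutator_le]
      intro x hx y hy
      rw [Subgroup.mem_comap, map_commutatorElement]
      exact Subgroup.commutator_mem_commutator (conj_mem_of_mem_normalizer hg hx)
        (conj_mem_of_mem_normalizer hg hy)
    exact h1
  refine h.lower hle (fun g hg => Subgroup.mem_normalizer_fintype (hmap g (h.normal hg)))
    (fun c hc => hmap a (Subgroup.mem_normalizer_fintype h.invariant) c hc) fun he => ?_
  haveI := Fact.mk h.prime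
  haveI : Group.IsSolvable Q := Coprime.isSolvable_of_isPGroup h.pgroup
  have hQ : (⊤ : Subgroup Q) ≠ ⊥ := fun e => h.meets (le_bot_iff.1 (inf_le_left.trans
    (by rw [← Q.range_subtype, MonoidHom.range_eq_map, e, Subgroup.map_bot])))
  refine (Group.IsSolvable.commutator_lt_of_ne_bot hQ).ne
    (Subgroup.map_injective Q.subtype_injective ?_)
  rw [Subgroup.map_commutator, ← MonoidHom.range_eq_map, Subgroup.range_subtype, he]

theorem exponent : ∀ q ∈ Q, q ^ l = 1 := by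
  haveI := Fact.mk h.prime
  obtain ⟨-, hcent⟩ := h.commutator_lower
  have hcomm : ∀ x ∈ Q, ∀ y ∈ Q, Commute x ⁅y, x⁆ := fun x hx y hy =>
    hcent x (h.le_gen hx) _ (Subgroup.commutator_mem_commutator hy hx)
  have hcomm' : ∀ x ∈ Q, ∀ y ∈ Q, Commute y ⁅y, x⁆ := fun x hx y hy =>
    hcent y (h.le_gen hy) _ (Subgroup.commutator_mem_commutator hy hx)
  let K : Subgroup G :=
    { carrier := {q | q ∈ Q ∧ q ^ l = 1}
      one_mem' := ⟨one_mem Q, one_pow l⟩
      mul_mem' := fun {x y} hx hy =>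
        ⟨mul_mem hx.1 hy.1, mul_pow_prime h.prime h.ne_two (hcomm x hx.1 y hy.1) (hcomm' x hx.1 y hy.1) hx.2 hy.2⟩
      inv_mem' := fun {x} hx => ⟨inv_mem hx.1, by rw [inv_pow, hx.2, inv_one]⟩ }
  have hconj : ∀ g : G, g ∈ Subgroup.normalizer (Q : Set G) → ∀ q ∈ K, g * q * g⁻¹ ∈ K := fun g hg q hq =>
    ⟨conj_mem_of_mem_normalizer hg hq.1, by
      rw [← MulAut.conj_apply, ← map_pow, hq.2, map_one]⟩
  have hKQ : K = Q := by
    refine h.minimal K (fun q hq => hq.1) (fun g hg => Subgroup.mem_normalizer_fintype (hconj g (h.normal hg)))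
      (fun q hq => hconj a (Subgroup.mem_normalizer_fintype h.invariant) q hq) fun hb => ?_
    obtain ⟨⟨y, hy⟩, hyo⟩ : ∃ y : ↥(Q ⊓ Subgroup.centralizer ({a} : Set G)), orderOf y = l := by
      refine exists_prime_orderOf_dvd_card' l ?_
      obtain ⟨k, hk⟩ := (h.pgroup.to_le (inf_le_left :
        Q ⊓ Subgroup.centralizer ({a} : Set G) ≤ Q)).exists_card_eq
      rw [hk]
      refine dvd_pow_self l fun h0 => h.meets ?_
      rw [h0, pow_zero] at hk
      exact Subgroup.card_eq_one.1 hk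
    rw [Subgroup.orderOf_mk] at hyo
    have h1 : y ∈ K ⊓ Subgroup.centralizer ({a} : Set G) :=
      Subgroup.mem_inf.2 ⟨⟨hy.1, by rw [← hyo, pow_orderOf_eq_one]⟩, hy.2⟩
    rw [hb, Subgroup.mem_bot] at h1
    rw [h1, orderOf_one] at hyo
    exact h.prime.one_lt.ne hyo
  intro q hq
  rw [← hKQ] at hq
  exact hq.2

/-- The local setting at a nontrivial subgroup of `C_Q(a)`. -/
theorem localAt {Y : Subgroup G} (hY : Y ≤ Q ⊓ Subgroup.centralizer ({a} : Set G)) (hY1 : Y ≠ ⊥) :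
    EqualLocal S t a b n l Y :=
  ⟨h.base, h.prime, h.ne_two, h.excess, h.pgroup.to_le (hY.trans inf_le_left), hY1, hY.trans h.fix_le,
    (hY.trans inf_le_left).trans h.le, h.noConf, h.fusedCent⟩

/-- The inverted elements of a subgroup of `O ∩ C(Y')` inside `Q` are few. -/
theorem inverted_le (hMC : PropModelCyclic.{u}) {Y' K : Subgroup G}
    (hY : Y' ≤ Q ⊓ Subgroup.centralizer ({a} : Set G)) (hY1 : Y' ≠ ⊥) (hKQ : K ≤ Q)
    (hK : K ≤ Subgroup.centralizer (Y' : Set G)) (hinv : ∀ x ∈ K, a * x * a⁻¹ = x⁻¹) :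
    Nat.card K ≤ l :=
  (h.localAt hY hY1).inverted_card_le hMC (le_inf (hKQ.trans h.le_core) hK) hinv fun x hx =>
    h.exponent x (hKQ hx)

theorem card_bot_or_ge {K : Subgroup G} (hKQ : K ≤ Q) (hK : K ≠ ⊥) : l ≤ Nat.card K := by
  haveI := Fact.mk h.prime
  obtain ⟨k, hk⟩ := (h.pgroup.to_le hKQ).exists_card_eq
  rw [hk]
  refine Nat.le_self_pow (fun h0 => hK ?_) l
  rw [h0, pow_zero] at hk
  exact Subgroup.card_eq_one.1 hk

/-- `E` normalises `C_Q(a)`, so `L₀` does not. -/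
theorem gen_not_normalize :
    ¬ invGen t a ≤ Subgroup.normalizer ((Q ⊓ Subgroup.centralizer ({a} : Set G) : Subgroup G) : Set G) := by
  intro hle
  haveI := Fact.mk h.prime
  refine h.base.normal_fixed_false h.noConf h.fusedCent h.ne_two h.excess (h.pgroup.to_le inf_le_left)
    h.meets h.fix_le fun g hg => ?_
  obtain ⟨c, hc, x, hx, -, rfl⟩ := h.base.decomp hg
  refine mul_mem (Subgroup.mem_normalizer_fintype fun y hy => Subgroup.mem_inf.2
    ⟨conj_mem_of_mem_normalizer (h.normal hc.1) hy.1, Subgroup.mem_centralizer_singleton_iff.2 ?_⟩) (hle hx)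
  have h1 := (h.base.fix_iff hc.1).1 hc
  have h2 := (Subgroup.mem_centralizer_singleton_iff.1 hy.2)
  exact ((((show Commute c a from h1.symm).mul_left (show Commute y a from h2)).mul_left
    (show Commute c a from h1.symm).inv_left)).eq

theorem relIndex_ne_one :
    (invGen t a ⊓ Subgroup.normalizer ((Q ⊓ Subgroup.centralizer ({a} : Set G) : Subgroup G) : Set G)).relIndex
      (invGen t a) ≠ 1 := fun he =>
  h.gen_not_normalize ((Subgroup.relIndex_eq_one.1 he).trans inf_le_right)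

theorem card_fixed_mul {K : Subgroup G} (hKQ : K ≤ Q) (hKa : ∀ y ∈ K, a * y * a⁻¹ ∈ K)
    (Km : Subgroup G) (hKm : ∀ y, y ∈ Km ↔ y ∈ K ∧ a * y * a⁻¹ = y⁻¹) :
    Nat.card K = Nat.card ↥(K ⊓ Subgroup.centralizer ({a} : Set G)) * Nat.card Km := by
  rw [card_fixed_mul_inverted (h.odd.of_dvd_nat (Subgroup.card_dvd_of_le hKQ)) h.base.aa hKa]
  congr 1
  exact Nat.card_congr (Equiv.subtypeEquivRight fun y => (hKm y).symm)

/-- With two independent fixed lines an inverted element of order prime to `l` centralises `Q`. -/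
theorem inverted_trivial (hMC : PropModelCyclic.{u}) (hab : ∀ x ∈ Q, ∀ y ∈ Q, x * y = y * x)
    (hbig : Nat.card Q < Nat.card ↥(Q ⊓ Subgroup.centralizer ({a} : Set G)) ^ 2)
    {g : G} (hg : g ∈ coreC t) (hgi : a * g * a⁻¹ = g⁻¹) (hgl : (orderOf g).Coprime l) :
    ∀ q ∈ Q, g * q = q * g := by
  classical
  set Y := Q ⊓ Subgroup.centralizer ({a} : Set G)
  have hgo := orderOf_odd_of_mem (coreC_odd t) hg
  have hgQ : ∀ q ∈ Q, g * q * g⁻¹ ∈ Q := fun q hq => conj_mem_of_mem_normalizer (h.normal hg) hq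
  obtain ⟨r, hrz, hr2, hri⟩ := exists_sqrt_inverted hgo
  have hrO : r ∈ coreC t := Subgroup.zpowers_le.2 hg hrz
  have hra := hri a hgi
  -- a fixed element with fixed image
  obtain ⟨x, hx, hxY, hx1⟩ : ∃ x ∈ Y, r⁻¹ * x * r ∈ Y ∧ x ≠ 1 := by
    by_contra hno
    push Not at hno
    let f : Y × Y → Q := fun p => ⟨(p.1 : G) * (r * p.2 * r⁻¹),
      mul_mem p.1.2.1 (conj_mem_of_mem_normalizer (h.normal hrO) p.2.2.1)⟩
    have hf : Function.Injective f := by
      rintro ⟨u, v⟩ ⟨u', v'⟩ he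
      have h1 : (u : G) * (r * v * r⁻¹) = u' * (r * v' * r⁻¹) := congrArg Subtype.val he
      have h2 : (u' : G)⁻¹ * u = r * (v' * (v : G)⁻¹) * r⁻¹ := by
        calc (u' : G)⁻¹ * u = (u' : G)⁻¹ * ((u : G) * (r * v * r⁻¹)) * (r * (v : G)⁻¹ * r⁻¹) := by group
          _ = _ := by rw [h1]; group
      have h3 := hno _ (mul_mem (inv_mem u'.2) u.2) (by
        rw [h2, show r⁻¹ * (r * (v' * (v : G)⁻¹) * r⁻¹) * r = v' * (v : G)⁻¹ by group]
        exact mul_mem v'.2 (inv_mem v.2))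
      rw [inv_mul_eq_one] at h3
      rw [← h3] at h1
      exact Prod.ext (Subtype.ext h3.symm) (Subtype.ext (mul_left_cancel (mul_right_cancel (mul_left_cancel h1))))
    have := Nat.card_le_card_of_injective f hf
    rw [Nat.card_prod] at this
    rw [sq] at hbig
    omega
  have hgx : g * x = x * g := by
    have h2 : r * x * r⁻¹ = r⁻¹ * x * r := by
      calc r * x * r⁻¹ = (a * r * a⁻¹)⁻¹ * (a * x * a⁻¹) * (a * r * a⁻¹) := by
            rw [hra, inv_inv, ← Subgroup.mem_centralizer_singleton_iff.1 hx.2, mul_inv_cancel_right]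
        _ = a * (r⁻¹ * x * r) * a⁻¹ := by group
        _ = r⁻¹ * x * r := by rw [← Subgroup.mem_centralizer_singleton_iff.1 hxY.2, mul_inv_cancel_right]
    rw [← hr2]
    calc r * r * x = r * (r * x * r⁻¹) * r := by group
      _ = x * (r * r) := by rw [h2]; group
  -- at `C(x)`
  have hx1' : Subgroup.zpowers x ≠ ⊥ := by rwa [ne_eq, Subgroup.zpowers_eq_bot]
  have hl := h.localAt (Subgroup.zpowers_le.2 hx) hx1'
  set H := Subgroup.centralizer ((Subgroup.zpowers x : Subgroup G) : Set G)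
  have hcH : ∀ w : G, w * x = x * w → w ∈ H := fun w hw => Subgroup.mem_centralizer_iff.2 fun y hy => by
    obtain ⟨i, rfl⟩ := Subgroup.mem_zpowers_iff.1 hy
    exact ((show Commute w x from hw).zpow_right i).eq.symm
  have hgH := hcH g hgx
  obtain ⟨w, hw⟩ := hl.coreBase.inverted_cyclic hMC h.base.three_le h.base.card hl.fused.1
  have hmem : ∀ v (hv : v ∈ H), v ∈ coreC t → a * v * a⁻¹ = v⁻¹ → qm H ⟨v, hv⟩ ∈ Subgroup.zpowers w :=
    fun v hv hvO hvi => hw ⟨v, hv⟩ (Subgroup.mem_centralizer_singleton_iff.1 (coreC_le t hvO))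
      (orderOf_odd_of_mem (coreC_odd t) hvO) hvi
  -- `g` fixes the inverted elements of `Q`
  have hz : ∀ z ∈ Q, a * z * a⁻¹ = z⁻¹ → g * z = z * g := by
    intro z hzQ hzi
    have hzH := hcH z (hab z hzQ x hx.1)
    set d := g * z * g⁻¹ * z⁻¹ with hd
    have hdQ : d ∈ Q := mul_mem (hgQ z hzQ) (inv_mem hzQ)
    have hdD : d ∈ coreOf H := by
      refine (CoreBase.mem_core_iff (x := ⟨d, mul_mem (mul_mem (mul_mem hgH hzH) (inv_mem hgH)) (inv_mem hzH)⟩)).1 ?_
      obtain ⟨i, hi⟩ := Subgroup.mem_zpowers_iff.1 (hmem g hgH hg hgi)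
      obtain ⟨j, hj⟩ := Subgroup.mem_zpowers_iff.1 (hmem z hzH (h.le_core hzQ) hzi)
      show qm H (⟨g, hgH⟩ * ⟨z, hzH⟩ * ⟨g, hgH⟩⁻¹ * ⟨z, hzH⟩⁻¹) = 1
      rw [map_mul, map_mul, map_mul, map_inv, map_inv, ← hi, ← hj,
        ((Commute.refl w).zpow_zpow i j).eq, mul_inv_cancel_right, mul_inv_cancel]
    have hda : a * d * a⁻¹ = d := by
      rw [← Subgroup.mem_centralizer_singleton_iff.1 (hl.core_le_fix hMC hdD).2, mul_inv_cancel_right]
    have h1 : g * z * g⁻¹ = d * z := by rw [hd]; group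
    have h2 : g⁻¹ * z * g = d⁻¹ * z := by
      have h3 : g⁻¹ * z⁻¹ * g = d * z⁻¹ := by
        calc g⁻¹ * z⁻¹ * g = (a * g * a⁻¹) * (a * z * a⁻¹) * (a * g * a⁻¹)⁻¹ := by rw [hgi, hzi, inv_inv]
          _ = a * (g * z * g⁻¹) * a⁻¹ := by group
          _ = (a * d * a⁻¹) * (a * z * a⁻¹) := by rw [h1]; group
          _ = d * z⁻¹ := by rw [hda, hzi]
      calc g⁻¹ * z * g = (g⁻¹ * z⁻¹ * g)⁻¹ := by group
        _ = z * d⁻¹ := by rw [h3]; group
        _ = d⁻¹ * z := hab z hzQ _ (inv_mem hdQ)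
    have h4 : g * d = d * g := by
      have : z = g * d⁻¹ * g⁻¹ * (g * z * g⁻¹) := by
        calc z = g * (g⁻¹ * z * g) * g⁻¹ := by group
          _ = _ := by rw [h2]; group
      rw [h1] at this
      have h5 : g * d⁻¹ * g⁻¹ * d = 1 := mul_eq_right.1 (by rw [mul_assoc]; exact this.symm)
      calc g * d = (g * d⁻¹ * g⁻¹)⁻¹ * g := by simp [mul_assoc]
        _ = d * g := by rw [eq_inv_of_mul_eq_one_left h5, inv_inv]
    have hk : ∀ k : ℕ, g ^ k * z * (g ^ k)⁻¹ = d ^ k * z := by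
      intro k
      induction k with
      | zero => simp
      | succ k ih =>
        calc g ^ (k + 1) * z * (g ^ (k + 1))⁻¹ = g * (g ^ k * z * (g ^ k)⁻¹) * g⁻¹ := by rw [pow_succ']; group
          _ = d ^ k * (g * z * g⁻¹) := by
            rw [ih, ← mul_assoc, ((show Commute g d from h4).pow_right k).eq]; group
          _ = d ^ (k + 1) * z := by rw [h1, pow_succ]; group
    have h6 := hk (orderOf g)
    rw [pow_orderOf_eq_one, one_mul, inv_one, mul_one] at h6
    have hd1 : d = 1 := orderOf_eq_one_iff.1 (Nat.eq_one_of_dvd_coprimes hgl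
      (orderOf_dvd_of_pow_eq_one (mul_eq_right.1 h6.symm)) (orderOf_dvd_of_pow_eq_one (h.exponent d hdQ)))
    calc g * z = g * z * g⁻¹ * g := by group
      _ = z * g := by rw [h1, hd1, one_mul]
  -- `g` fixes the fixed elements
  have hu : ∀ u ∈ Y, g * u = u * g := by
    intro u hu
    obtain ⟨p, hp, hpa, c, hc, hci, hpc⟩ := exists_fixed_mul_inverted h.odd h.base.aa h.invariant
      (mul_mem (hgQ u hu.1) (inv_mem hu.1) : g * u * g⁻¹ * u⁻¹ ∈ Q)
    have hua : a * u * a⁻¹ = u := by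
      rw [← Subgroup.mem_centralizer_singleton_iff.1 hu.2, mul_inv_cancel_right]
    have hpa' : a * p * a⁻¹ = p := by rw [hpa, mul_inv_cancel_right]
    have h1 : g * u * g⁻¹ = p * c * u := by rw [← hpc]; group
    have h2 : g⁻¹ * u * g = p * c⁻¹ * u := by
      calc g⁻¹ * u * g = (a * g * a⁻¹) * (a * u * a⁻¹) * (a * g * a⁻¹)⁻¹ := by rw [hgi, hua, inv_inv]
        _ = a * (g * u * g⁻¹) * a⁻¹ := by group
        _ = (a * p * a⁻¹) * (a * c * a⁻¹) * (a * u * a⁻¹) := by rw [h1]; group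
        _ = _ := by rw [hpa', hci, hua]
    have hgc := hz c hc hci
    have h3 : g * p * g⁻¹ = p⁻¹ := by
      have e1 : u = g * p * g⁻¹ * c⁻¹ * (g * u * g⁻¹) := by
        calc u = g * (g⁻¹ * u * g) * g⁻¹ := by group
          _ = g * p * g⁻¹ * (g * c⁻¹ * g⁻¹) * (g * u * g⁻¹) := by rw [h2]; group
          _ = g * p * g⁻¹ * c⁻¹ * (g * u * g⁻¹) := by
            rw [show g * c⁻¹ * g⁻¹ = (g * c * g⁻¹)⁻¹ by group, hgc, mul_inv_cancel_right]
      rw [h1, ← hab c hc p hp, ← mul_assoc, ← mul_assoc, inv_mul_cancel_right] at e1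
      exact eq_inv_of_mul_eq_one_left (mul_eq_right.1 e1.symm)
    have hp1 : p = 1 := eq_one_of_conj_eq_inv hgo (orderOf_odd_of_mem h.odd hp) h3
    rw [hp1, one_mul] at h1
    have hk : ∀ k : ℕ, g ^ k * u * (g ^ k)⁻¹ = c ^ k * u := by
      intro k
      induction k with
      | zero => simp
      | succ k ih =>
        calc g ^ (k + 1) * u * (g ^ (k + 1))⁻¹ = g * (g ^ k * u * (g ^ k)⁻¹) * g⁻¹ := by rw [pow_succ']; group
          _ = c ^ k * (g * u * g⁻¹) := by
            rw [ih, ← mul_assoc, ((show Commute g c from hgc).pow_right k).eq]; group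
          _ = c ^ (k + 1) * u := by rw [h1, pow_succ]; group
    have h6 := hk (orderOf g)
    rw [pow_orderOf_eq_one, one_mul, inv_one, mul_one] at h6
    have hc1 : c = 1 := orderOf_eq_one_iff.1 (Nat.eq_one_of_dvd_coprimes hgl
      (orderOf_dvd_of_pow_eq_one (mul_eq_right.1 h6.symm)) (orderOf_dvd_of_pow_eq_one (h.exponent c hc)))
    calc g * u = g * u * g⁻¹ * g := by group
      _ = u * g := by rw [h1, hc1, one_mul]
  intro q hq
  obtain ⟨p, hp, hpa, c, hc, hci, rfl⟩ := exists_fixed_mul_inverted h.odd h.base.aa h.invariant hq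
  rw [← mul_assoc, hu p (Subgroup.mem_inf.2 ⟨hp, Subgroup.mem_centralizer_singleton_iff.2 hpa.symm⟩),
    mul_assoc, hz c hc hci, mul_assoc]

/-- With two independent fixed lines `L₀` has fixed points on `Q`. -/
theorem center_meets (hMC : PropModelCyclic.{u}) (hab : ∀ x ∈ Q, ∀ y ∈ Q, x * y = y * x)
    (hbig : Nat.card Q < Nat.card ↥(Q ⊓ Subgroup.centralizer ({a} : Set G)) ^ 2) :
    Q ⊓ Subgroup.centralizer (invGen t a : Set G) ≠ ⊥ := by
  classical
  intro hZ
  haveI := Fact.mk h.prime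
  set L := invGen t a with hL
  have hLO : L ≤ coreC t := h.base.invGen_le
  have hLodd : Odd (Nat.card L) := (coreC_odd t).of_dvd_nat (Subgroup.card_dvd_of_le hLO)
  haveI : ((Q.subgroupOf L)).Normal := Subgroup.normal_subgroupOf_of_le_normalizer h.gen_normal
  set K := (Subgroup.centralizer (Q : Set G)).subgroupOf L with hK
  haveI : K.Normal := Subgroup.normal_subgroupOf_of_le_normalizer
    (h.gen_normal.trans (normalizer_le_normalizer_centralizer Q))
  -- the action of `a`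
  let σ₀ : L ≃* L :=
    { toFun := fun y => ⟨a * y * a⁻¹, h.base.invGen_conj y.2⟩
      invFun := fun y => ⟨a * y * a⁻¹, h.base.invGen_conj y.2⟩
      left_inv := fun y => Subtype.ext (by
        show a * (a * (y : G) * a⁻¹) * a⁻¹ = y
        rw [show a * (a * (y : G) * a⁻¹) * a⁻¹ = (a * a) * y * (a * a)⁻¹ by group, h.base.aa, inv_one, mul_one,
          one_mul])
      right_inv := fun y => Subtype.ext (by
        show a * (a * (y : G) * a⁻¹) * a⁻¹ = y
        rw [show a * (a * (y : G) * a⁻¹) * a⁻¹ = (a * a) * y * (a * a)⁻¹ by group, h.base.aa, inv_one, mul_one,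
          one_mul])
      map_mul' := fun y z => Subtype.ext (by simp [mul_assoc]) }
  have hσK : K.map σ₀.toMonoidHom = K := by
    have hle : K.map σ₀.toMonoidHom ≤ K := by
      rintro _ ⟨y, hy, rfl⟩
      exact conj_mem_of_mem_normalizer (normalizer_le_normalizer_centralizer Q
        (Subgroup.mem_normalizer_fintype h.invariant)) hy
    exact Subgroup.eq_of_le_of_card_ge hle (Subgroup.card_map_of_injective σ₀.injective).ge
  let σ : L ⧸ K ≃* L ⧸ K := QuotientGroup.congr K K σ₀ hσK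
  have hσ : ∀ y : L, σ (QuotientGroup.mk y) = QuotientGroup.mk (σ₀ y) := fun y => rfl
  have hXodd : Odd (Nat.card (L ⧸ K)) := hLodd.of_dvd_nat (Subgroup.card_quotient_dvd_card K)
  have hgen : Subgroup.closure {x : L ⧸ K | σ x = x⁻¹} = ⊤ := by
    rw [eq_top_iff]
    rintro x -
    obtain ⟨⟨y, hy⟩, rfl⟩ := QuotientGroup.mk_surjective x
    induction hy using Subgroup.closure_induction with
    | mem y hy =>
      refine Subgroup.subset_closure ?_
      show σ _ = _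
      rw [hσ, ← QuotientGroup.mk_inv]
      exact congrArg _ (Subtype.ext hy.2)
    | one => exact one_mem _
    | mul x y hx' hy' hx hy =>
      exact (show (QuotientGroup.mk (⟨x * y, _⟩ : L) : L ⧸ K) ∈ _ from by
        rw [show (⟨x * y, mul_mem hx' hy'⟩ : L) = ⟨x, hx'⟩ * ⟨y, hy'⟩ from rfl, QuotientGroup.mk_mul]
        exact mul_mem hx hy)
    | inv x hx' hx =>
      exact (show (QuotientGroup.mk (⟨x⁻¹, _⟩ : L) : L ⧸ K) ∈ _ from by
        rw [show (⟨x⁻¹, inv_mem hx'⟩ : L) = (⟨x, hx'⟩ : L)⁻¹ from rfl, QuotientGroup.mk_inv]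
        exact inv_mem hx)
  -- inverted elements are `l`-elements
  have hlel : ∀ x : L ⧸ K, σ x = x⁻¹ → (orderOf x).Coprime l → x = 1 := by
    intro x hx hxl
    obtain ⟨g, rfl⟩ := QuotientGroup.mk_surjective x
    obtain ⟨c, hc, hca, i, hi, hii, hgci⟩ := exists_fixed_mul_inverted hLodd h.base.aa
      (fun y hy => h.base.invGen_conj hy) g.2
    have hσc : σ₀ ⟨c, hc⟩ = ⟨c, hc⟩ := Subtype.ext (show a * c * a⁻¹ = c by rw [hca, mul_inv_cancel_right])
    have hσi : σ₀ ⟨i, hi⟩ = (⟨i, hi⟩ : L)⁻¹ := Subtype.ext hii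
    have hg' : g = (⟨c, hc⟩ : L) * ⟨i, hi⟩ := Subtype.ext hgci
    rw [hg', hσ, map_mul, hσc, hσi, QuotientGroup.mk_mul, QuotientGroup.mk_mul, QuotientGroup.mk_inv,
      _root_.mul_inv_rev] at hx
    have hc1 : (QuotientGroup.mk (⟨c, hc⟩ : L) : L ⧸ K) = 1 := by
      refine eq_one_of_conj_eq_inv (g := QuotientGroup.mk (⟨i, hi⟩ : L))
        (hXodd.of_dvd_nat (orderOf_dvd_natCard _)) (hXodd.of_dvd_nat (orderOf_dvd_natCard _)) ?_
      rw [mul_assoc, hx]
      group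
    rw [hg', QuotientGroup.mk_mul, hc1, one_mul] at hxl ⊢
    -- the part of `i` prime to `l`
    obtain ⟨k, m, hm, hkm⟩ : ∃ k m, ¬ l ∣ m ∧ orderOf i = l ^ k * m :=
      ⟨_, _, Nat.not_dvd_ordCompl h.prime (orderOf_pos i).ne', (Nat.ordProj_mul_ordCompl_eq_self _ l).symm⟩
    have hio : orderOf (i ^ l ^ k) = m := by
      rw [orderOf_pow' _ (pow_ne_zero _ h.prime.ne_zero), hkm, Nat.gcd_eq_right (dvd_mul_right _ _),
        Nat.mul_div_cancel_left _ (pow_pos h.prime.pos _)]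
    have hcomm := h.inverted_trivial hMC hab hbig (pow_mem (hLO hi) (l ^ k))
      (by rw [← MulAut.conj_apply, map_pow, MulAut.conj_apply, hii, inv_pow])
      (hio ▸ ((h.prime.coprime_iff_not_dvd).2 hm).symm)
    have h1 : (QuotientGroup.mk (⟨i, hi⟩ : L) : L ⧸ K) ^ l ^ k = 1 := by
      rw [← QuotientGroup.mk_pow, QuotientGroup.eq_one_iff]
      exact Subgroup.mem_centralizer_iff.2 fun q hq => (hcomm q hq).symm
    exact orderOf_eq_one_iff.1 (Nat.eq_one_of_dvd_coprimes (hxl.pow_right k) dvd_rfl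
      (orderOf_dvd_of_pow_eq_one h1))
  have hinv2 : ∀ x : L ⧸ K, σ (σ x) = x := fun x => by
    obtain ⟨y, rfl⟩ := QuotientGroup.mk_surjective x
    rw [hσ, hσ]
    exact congrArg _ (σ₀.left_inv y)
  -- the `l`-core
  have hcl : Cfsg.pCore l (L ⧸ K) = ⊥ := by
    by_contra hne
    set M := (Cfsg.pCore l (L ⧸ K)).comap (QuotientGroup.mk' K) with hM
    have hMn : ∀ g ∈ coreC t, ∀ y ∈ M.map L.subtype, g * y * g⁻¹ ∈ M.map L.subtype ∧
        a * y * a⁻¹ ∈ M.map L.subtype := by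
      rintro g hg _ ⟨y, hy, rfl⟩
      have hgL : g ∈ Subgroup.normalizer (L : Set G) := h.base.invGen_normal hg
      let τ₀ : L ≃* L :=
        { toFun := fun y => ⟨g * y * g⁻¹, conj_mem_of_mem_normalizer hgL y.2⟩
          invFun := fun y => ⟨g⁻¹ * y * g, (Subgroup.mem_normalizer_iff''.1 hgL y).1 y.2⟩
          left_inv := fun y => Subtype.ext (by simp [mul_assoc])
          right_inv := fun y => Subtype.ext (by simp [mul_assoc])
          map_mul' := fun y z => Subtype.ext (by simp [mul_assoc]) }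
      have hτK : K.map τ₀.toMonoidHom = K := by
        have hle : K.map τ₀.toMonoidHom ≤ K := by
          rintro _ ⟨y, hy, rfl⟩
          exact conj_mem_of_mem_normalizer (normalizer_le_normalizer_centralizer Q (h.normal hg)) hy
        exact Subgroup.eq_of_le_of_card_ge hle (Subgroup.card_map_of_injective τ₀.injective).ge
      have key : ∀ (τ : L ≃* L) (hτ : K.map τ.toMonoidHom = K), τ y ∈ M := fun τ hτ => by
        show QuotientGroup.mk (τ y) ∈ Cfsg.pCore l (L ⧸ K)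
        rw [← Cores.map_pCore_equiv (QuotientGroup.congr K K τ hτ)]
        exact ⟨QuotientGroup.mk y, hy, rfl⟩
      exact ⟨⟨τ₀ y, key τ₀ hτK, rfl⟩, ⟨σ₀ y, key σ₀ hσK, rfl⟩⟩
    -- the fixed points of `M` on `Q`
    set F := Q ⊓ Subgroup.centralizer (M.map L.subtype : Set G) with hF
    have hFn : coreC t ≤ Subgroup.normalizer (F : Set G) := fun g hg => Subgroup.mem_normalizer_fintype fun y hy => by
      refine Subgroup.mem_inf.2 ⟨conj_mem_of_mem_normalizer (h.normal hg) hy.1, Subgroup.mem_centralizer_iff.2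
        fun w hw => ?_⟩
      have h1 := (hMn g⁻¹ (inv_mem hg) w hw).1
      rw [inv_inv] at h1
      have h2 := Subgroup.mem_centralizer_iff.1 hy.2 _ h1
      calc w * (g * y * g⁻¹) = g * (g⁻¹ * w * g * y) * g⁻¹ := by group
        _ = g * y * g⁻¹ * w := by rw [h2]; group
    have hFa : ∀ y ∈ F, a * y * a⁻¹ ∈ F := fun y hy => by
      refine Subgroup.mem_inf.2 ⟨h.invariant y hy.1, Subgroup.mem_centralizer_iff.2 fun w hw => ?_⟩
      have h2 := Subgroup.mem_centralizer_iff.1 hy.2 _ (hMn 1 (one_mem _) w hw).2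
      rw [h.base.a_inv] at h2 ⊢
      calc w * (a * y * a) = (a * a) * w * (a * y * a) := by rw [h.base.aa, one_mul]
        _ = a * (a * w * a * y) * a := by group
        _ = a * y * a * w * (a * a) := by rw [h2]; group
        _ = a * y * a * w := by rw [h.base.aa, mul_one]
    let ψ : M →* MulAut Q := (Subgroup.normalizerMonoidHom Q).comp
      ((Subgroup.inclusion h.gen_normal).comp M.subtype)
    have hψ : IsPGroup l ψ.range := by
      rintro ⟨_, ⟨m, rfl⟩⟩
      obtain ⟨j, hj⟩ := (Cores.pCore_isPGroup (G := L ⧸ K) l) ⟨_, m.2⟩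
      refine ⟨j, Subtype.ext ?_⟩
      show ψ m ^ l ^ j = 1
      rw [← map_pow]
      have hm : ((m ^ l ^ j : M) : L) ∈ K := by
        rw [← QuotientGroup.eq_one_iff, Subgroup.coe_pow, QuotientGroup.mk_pow]
        exact congrArg Subtype.val hj
      apply MulEquiv.ext
      intro q
      refine Subtype.ext ?_
      show (((m ^ l ^ j : M) : L) : G) * q * (((m ^ l ^ j : M) : L) : G)⁻¹ = q
      have hm' : (q : G) * (((m ^ l ^ j : M) : L) : G) = (((m ^ l ^ j : M) : L) : G) * q :=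
        Subgroup.mem_centralizer_iff.1 hm q q.2
      rw [← hm', mul_inv_cancel_right]
    have hlQ : l ∣ Nat.card Q := by
      obtain ⟨j, hj⟩ := h.pgroup.exists_card_eq
      rw [hj]
      refine dvd_pow_self l fun h0 => h.meets ?_
      rw [h0, pow_zero] at hj
      exact le_bot_iff.1 (inf_le_left.trans (Subgroup.card_eq_one.1 hj).le)
    obtain ⟨v, hv, hv1⟩ := hψ.exists_fixed_point_of_prime_dvd_card_of_fixed_point Q hlQ (a := 1)
      (fun g => by
        show (g : MulAut Q) • (1 : Q) = 1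
        exact map_one (g : MulAut Q))
    have hvF : (v : G) ∈ F := by
      refine Subgroup.mem_inf.2 ⟨v.2, Subgroup.mem_centralizer_iff.2 ?_⟩
      rintro _ ⟨m, hm, rfl⟩
      have h1 : (ψ ⟨m, hm⟩) v = v := hv ⟨_, ⟨⟨m, hm⟩, rfl⟩⟩
      have h2 : (m : G) * v * (m : G)⁻¹ = v := congrArg Subtype.val h1
      calc (m : G) * v = (m : G) * v * (m : G)⁻¹ * m := by group
        _ = v * m := by rw [h2]
    have hFQ : F ≠ Q := by
      intro he
      obtain ⟨x, hx, hx1⟩ := (Cfsg.pCore l (L ⧸ K)).bot_or_exists_ne_one.resolve_left hne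
      obtain ⟨y, rfl⟩ := QuotientGroup.mk_surjective x
      refine hx1 ((QuotientGroup.eq_one_iff y).2 (Subgroup.mem_centralizer_iff.2 fun q hq => ?_))
      have hq' : q ∈ F := he.symm ▸ hq
      exact (Subgroup.mem_centralizer_iff.1 hq'.2 _ ⟨y, hx, rfl⟩).symm
    have h1 : (v : G) ∈ Q ⊓ Subgroup.centralizer (L : Set G) := Subgroup.mem_inf.2
      ⟨v.2, Subgroup.mem_centralizer_iff.2 fun g hg => (h.lower inf_le_left hFn hFa hFQ).2 g hg _ hvF⟩
    rw [hZ, Subgroup.mem_bot] at h1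
    exact hv1 (Subtype.ext h1.symm)
  obtain ⟨hall, -⟩ := inverts_of_cores hXodd σ hgen (by
    intro r hr
    haveI := Fact.mk hr
    by_cases hrl : r = l
    · subst hrl
      left
      intro x hx
      rw [hcl, Subgroup.mem_bot] at hx
      rw [hx, map_one]
    · left
      intro x hx
      have hxσ : σ x ∈ Cfsg.pCore r (L ⧸ K) := by
        rw [← Cores.map_pCore_equiv σ]; exact ⟨x, hx, rfl⟩
      have h1 : x⁻¹ * σ x = 1 := by
        refine hlel _ ?_ ?_
        · rw [map_mul, map_inv, hinv2, _root_.mul_inv_rev, inv_inv]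
        · obtain ⟨j, hj⟩ := (Cores.pCore_isPGroup (G := L ⧸ K) r) ⟨_, mul_mem (inv_mem hx) hxσ⟩
          refine Nat.Coprime.coprime_dvd_left (orderOf_dvd_of_pow_eq_one (congrArg Subtype.val hj)) ?_
          exact Nat.Coprime.pow_left j ((Nat.coprime_primes hr h.prime).2 hrl)
      exact (inv_mul_eq_one.1 h1).symm)
  have hp : IsPGroup l (L ⧸ K) := by
    intro x
    obtain ⟨k, m, hm, hkm⟩ : ∃ k m, ¬ l ∣ m ∧ orderOf x = l ^ k * m :=
      ⟨_, _, Nat.not_dvd_ordCompl h.prime (orderOf_pos x).ne', (Nat.ordProj_mul_ordCompl_eq_self _ l).symm⟩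
    refine ⟨k, hlel _ (by rw [map_pow, hall x, inv_pow]) ?_⟩
    rw [orderOf_pow' _ (pow_ne_zero _ h.prime.ne_zero), hkm, Nat.gcd_eq_right (dvd_mul_right _ _),
      Nat.mul_div_cancel_left _ (pow_pos h.prime.pos _)]
    exact ((h.prime.coprime_iff_not_dvd).2 hm).symm
  rw [Cores.pCore_eq_top_iff.2 hp] at hcl
  have hK1 : ∀ y : L, y ∈ K := fun y => by
    rw [← QuotientGroup.eq_one_iff, ← Subgroup.mem_bot, ← hcl]
    exact Subgroup.mem_top _
  refine h.meets (le_bot_iff.1 ?_)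
  rw [← hZ]
  exact le_inf inf_le_left fun q hq => Subgroup.mem_centralizer_iff.2 fun g hg =>
    (Subgroup.mem_centralizer_iff.1 (hK1 ⟨g, hg⟩) q hq.1).symm

/-- The shape when `Q` is abelian. -/
theorem shape_abelian (hMC : PropModelCyclic.{u}) (hab : ∀ x ∈ Q, ∀ y ∈ Q, x * y = y * x) :
    (invGen t a ⊓ Subgroup.normalizer ((Q ⊓ Subgroup.centralizer ({a} : Set G) : Subgroup G) : Set G)).relIndex
        (invGen t a) ≤ l + 1 ∨
      l ∣ (invGen t a ⊓ Subgroup.normalizer ((Q ⊓ Subgroup.centralizer ({a} : Set G) : Subgroup G) : Set G)).relIndex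
        (invGen t a) ∧
      (invGen t a ⊓ Subgroup.normalizer ((Q ⊓ Subgroup.centralizer ({a} : Set G) : Subgroup G) : Set G)).relIndex
        (invGen t a) ≤ l * l := by
  classical
  haveI := Fact.mk h.prime
  set L := invGen t a with hL
  set Y := Q ⊓ Subgroup.centralizer ({a} : Set G) with hY
  have hYQ : Y ≤ Q := inf_le_left
  let Qm : Subgroup G :=
    { carrier := {q | q ∈ Q ∧ a * q * a⁻¹ = q⁻¹}
      one_mem' := ⟨one_mem Q, by simp⟩
      mul_mem' := fun {x y} hx hy => ⟨mul_mem hx.1 hy.1, by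
        rw [show a * (x * y) * a⁻¹ = a * x * a⁻¹ * (a * y * a⁻¹) by group, hx.2, hy.2, _root_.mul_inv_rev]
        exact hab _ (inv_mem hx.1) _ (inv_mem hy.1)⟩
      inv_mem' := fun {x} hx => ⟨inv_mem hx.1, by
        rw [show a * x⁻¹ * a⁻¹ = (a * x * a⁻¹)⁻¹ by group, hx.2]⟩ }
  have hQm : Qm ≤ Q := fun q hq => hq.1
  obtain ⟨z₀, hz₀, hz₀1, hz₀i⟩ := h.exists_inverted_mem
  have hQm1 : Qm ≠ ⊥ := fun e => hz₀1 (Subgroup.mem_bot.1 (e ▸ (⟨hz₀, hz₀i⟩ : z₀ ∈ Qm)))
  have hQml : Nat.card Qm = l := le_antisymm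
    (h.inverted_le hMC le_rfl h.meets hQm
      (fun q hq => Subgroup.mem_centralizer_iff.2 fun y hy => hab y (hYQ hy) q hq.1) fun q hq => hq.2)
    (h.card_bot_or_ge hQm hQm1)
  have hcard : Nat.card Q = Nat.card Y * l := by
    rw [h.card_fixed_mul le_rfl h.invariant Qm fun y => Iff.rfl, hQml]
  have hYl := h.card_bot_or_ge hYQ h.meets
  rcases hYl.eq_or_lt with hYeq | hYgt
  · left
    have hc := conj_count h.prime hYeq.symm hYQ h.gen_normal (Z := ⊥) bot_le
      (fun g _ => Subgroup.mem_normalizer_fintype fun x hx => by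
        rw [SetLike.mem_coe, Subgroup.mem_bot] at hx ⊢
        rw [hx, mul_one, mul_inv_cancel]) (inf_bot_eq _)
    rw [hcard, ← hYeq, Subgroup.card_bot] at hc
    set N := (L ⊓ Subgroup.normalizer (Y : Set G)).relIndex L
    obtain ⟨l', hl'⟩ := Nat.exists_eq_add_of_le h.prime.two_le
    subst hl'
    rw [show 2 + l' - 1 = l' + 1 by omega] at hc
    nlinarith
  right
  have hbig : Nat.card Q < Nat.card Y ^ 2 := by
    rw [hcard, sq]
    exact Nat.mul_lt_mul_of_pos_left hYgt Nat.card_pos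
  set Zc := Q ⊓ Subgroup.centralizer (L : Set G) with hZc
  have hZ1 : Zc ≠ ⊥ := h.center_meets hMC hab hbig
  have hZn : coreC t ≤ Subgroup.normalizer (Zc : Set G) := fun g hg => Subgroup.mem_normalizer_fintype fun y hy =>
    Subgroup.mem_inf.2 ⟨conj_mem_of_mem_normalizer (h.normal hg) hy.1,
      conj_mem_of_mem_normalizer (normalizer_le_normalizer_centralizer L (h.base.invGen_normal hg)) hy.2⟩
  have hZQ : Zc ≠ Q := fun e => h.gen_not_normalize fun g hg => Subgroup.mem_normalizer_fintype fun y hy => by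
    have hy' : y ∈ Zc := e.symm ▸ (hy : y ∈ Y).1
    rw [SetLike.mem_coe, Subgroup.mem_centralizer_iff.1 hy'.2 g hg, mul_inv_cancel_right]
    exact hy
  have hZa : ∀ y ∈ Zc, a * y * a⁻¹ ∈ Zc := fun y hy => Subgroup.mem_inf.2 ⟨h.invariant y hy.1,
    conj_mem_of_mem_normalizer (normalizer_le_normalizer_centralizer L
      (Subgroup.mem_normalizer_fintype fun x hx => h.base.invGen_conj hx)) hy.2⟩
  obtain ⟨hZinv, hZcen⟩ := h.lower inf_le_left hZn hZa hZQ
  have hZeq : Zc = Qm := Subgroup.eq_of_le_of_card_ge (fun q hq => ⟨hq.1, hZinv q hq⟩)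
    (by rw [hQml]; exact h.card_bot_or_ge inf_le_left hZ1)
  -- commutators with `Y`
  have hcomm : ∀ g ∈ L, ∀ u ∈ Y, g * u * g⁻¹ * u⁻¹ ∈ Zc := by
    intro g hg
    induction hg using Subgroup.closure_induction with
    | mem g hg =>
      intro u hu
      have hgQ : ∀ q ∈ Q, g * q * g⁻¹ ∈ Q := fun q hq => conj_mem_of_mem_normalizer (h.normal hg.1) hq
      obtain ⟨p, hp, hpa, c, hc, hci, hpc⟩ := exists_fixed_mul_inverted h.odd h.base.aa h.invariant
        (mul_mem (hgQ u hu.1) (inv_mem hu.1) : g * u * g⁻¹ * u⁻¹ ∈ Q)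
      have hcZ : c ∈ Zc := hZeq.symm ▸ (⟨hc, hci⟩ : c ∈ Qm)
      have hua : a * u * a⁻¹ = u := by
        rw [← Subgroup.mem_centralizer_singleton_iff.1 hu.2, mul_inv_cancel_right]
      have hpa' : a * p * a⁻¹ = p := by rw [hpa, mul_inv_cancel_right]
      have h1 : g * u * g⁻¹ = p * c * u := by rw [← hpc]; group
      have h2 : g⁻¹ * u * g = p * c⁻¹ * u := by
        calc g⁻¹ * u * g = (a * g * a⁻¹) * (a * u * a⁻¹) * (a * g * a⁻¹)⁻¹ := by rw [hg.2, hua, inv_inv]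
          _ = a * (g * u * g⁻¹) * a⁻¹ := by group
          _ = (a * p * a⁻¹) * (a * c * a⁻¹) * (a * u * a⁻¹) := by rw [h1]; group
          _ = _ := by rw [hpa', hci, hua]
      have hgc : g * c = c * g := hZcen g (Subgroup.subset_closure hg) c hcZ
      have h3 : g * p * g⁻¹ = p⁻¹ := by
        have e1 : u = g * p * g⁻¹ * c⁻¹ * (g * u * g⁻¹) := by
          calc u = g * (g⁻¹ * u * g) * g⁻¹ := by group
            _ = g * p * g⁻¹ * (g * c⁻¹ * g⁻¹) * (g * u * g⁻¹) := by rw [h2]; group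
            _ = g * p * g⁻¹ * c⁻¹ * (g * u * g⁻¹) := by
              rw [show g * c⁻¹ * g⁻¹ = (g * c * g⁻¹)⁻¹ by group, hgc, mul_inv_cancel_right]
        rw [h1, ← hab c hc p hp, ← mul_assoc, ← mul_assoc, inv_mul_cancel_right] at e1
        exact eq_inv_of_mul_eq_one_left (mul_eq_right.1 e1.symm)
      have hp1 : p = 1 := eq_one_of_conj_eq_inv (orderOf_odd_of_mem (coreC_odd t) hg.1)
        (orderOf_odd_of_mem h.odd hp) h3
      rw [hpc, hp1, one_mul]
      exact hcZ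
    | one => intro u _; simp
    | mul x y hx hy ihx ihy =>
      intro u hu
      have h1 := hZcen x hx _ (ihy u hu)
      rw [show x * y * u * (x * y)⁻¹ * u⁻¹ = x * (y * u * y⁻¹ * u⁻¹) * x⁻¹ * (x * u * x⁻¹ * u⁻¹) by group,
        h1, mul_inv_cancel_right]
      exact mul_mem (ihy u hu) (ihx u hu)
    | inv x hx ih =>
      intro u hu
      have h1 := hZcen x hx _ (inv_mem (ih u hu))
      have e : x⁻¹ * u * x⁻¹⁻¹ * u⁻¹ = (x * u * x⁻¹ * u⁻¹)⁻¹ := by
        calc x⁻¹ * u * x⁻¹⁻¹ * u⁻¹ = x⁻¹ * (x * u * x⁻¹ * u⁻¹)⁻¹ * x := by group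
          _ = (x * u * x⁻¹ * u⁻¹)⁻¹ := by rw [mul_assoc, ← h1, inv_mul_cancel_left]
      rw [e]
      exact inv_mem (ih u hu)
  have hfix1 : ∀ v ∈ Zc, a * v = v * a → v = 1 := fun v hv he => by
    have h1 := hZinv v hv
    rw [he, mul_inv_cancel_right] at h1
    exact eq_one_of_eq_inv (orderOf_odd_of_mem h.odd hv.1) h1
  set C := L ⊓ Subgroup.centralizer (Y : Set G) with hC
  have hNC : L ⊓ Subgroup.normalizer (Y : Set G) = C := by
    refine le_antisymm (fun g hg => Subgroup.mem_inf.2 ⟨hg.1, Subgroup.mem_centralizer_iff.2 fun u hu => ?_⟩)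
      (inf_le_inf_left _ (Subgroup.centralizer_le_normalizer _))
    have h2 : g * u * g⁻¹ * u⁻¹ ∈ Y := mul_mem (conj_mem_of_mem_normalizer hg.2 hu) (inv_mem hu)
    have h3 := hfix1 _ (hcomm g hg.1 u hu) (Subgroup.mem_centralizer_singleton_iff.1 h2.2).symm
    calc u * g = (g * u * g⁻¹ * u⁻¹)⁻¹ * (g * u) := by group
      _ = g * u := by rw [h3, inv_one, one_mul]
  rw [hNC]
  -- `L₀ / C` has exponent `l`
  have hpow : ∀ g ∈ L, g ^ l ∈ C := fun g hg => Subgroup.mem_inf.2 ⟨pow_mem hg l,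
    Subgroup.mem_centralizer_iff.2 fun u hu => by
      have key : ∀ k : ℕ, g ^ k * u * (g ^ k)⁻¹ = (g * u * g⁻¹ * u⁻¹) ^ k * u := by
        intro k
        induction k with
        | zero => simp
        | succ k ih =>
          calc g ^ (k + 1) * u * (g ^ (k + 1))⁻¹ = g * (g ^ k * u * (g ^ k)⁻¹) * g⁻¹ := by rw [pow_succ']; group
            _ = g * (g * u * g⁻¹ * u⁻¹) ^ k * g⁻¹ * (g * u * g⁻¹) := by rw [ih]; group
            _ = (g * u * g⁻¹ * u⁻¹) ^ k * (g * u * g⁻¹) := by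
              rw [hZcen g hg _ (pow_mem (hcomm g hg u hu) k), mul_inv_cancel_right]
            _ = _ := by rw [pow_succ]; group
      have h1 := key l
      rw [h.exponent _ (hcomm g hg u hu).1, one_mul] at h1
      calc u * g ^ l = g ^ l * u * (g ^ l)⁻¹ * g ^ l := by rw [h1]
        _ = g ^ l * u := by group⟩
  haveI hCn : (C.subgroupOf L).Normal := ⟨fun c hc g => by
    refine Subgroup.mem_subgroupOf.2 (Subgroup.mem_inf.2 ⟨Subtype.coe_prop _, Subgroup.mem_centralizer_iff.2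
      fun u hu => ?_⟩)
    simp only [Subgroup.coe_mul, Subgroup.coe_inv]
    set v := (g : G)⁻¹ * u * g * u⁻¹
    have hv : v ∈ Zc := by
      have := hcomm _ (inv_mem g.2) u hu
      rwa [inv_inv] at this
    have hcv := hZcen c c.2 v hv
    have hcu := Subgroup.mem_centralizer_iff.1 (Subgroup.mem_subgroupOf.1 hc).2 u hu
    have h1 : ((g : G)⁻¹ * u * g) * c = c * ((g : G)⁻¹ * u * g) := by
      rw [show (g : G)⁻¹ * u * g = v * u by simp only [v]; group]
      rw [mul_assoc, hcu, ← mul_assoc, ← hcv, mul_assoc]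
    calc u * ((g : G) * c * (g : G)⁻¹) = (g : G) * (((g : G)⁻¹ * u * g) * c) * (g : G)⁻¹ := by group
      _ = (g : G) * c * (g : G)⁻¹ * u := by rw [h1]; group⟩
  have hq : IsPGroup l (L ⧸ C.subgroupOf L) := fun x => by
    obtain ⟨g, rfl⟩ := QuotientGroup.mk_surjective x
    refine ⟨1, ?_⟩
    rw [pow_one, ← QuotientGroup.mk_pow, QuotientGroup.eq_one_iff]
    exact hpow g g.2
  obtain ⟨k, hk⟩ := hq.exists_card_eq
  have hN : C.relIndex L = l ^ k := hk
  refine ⟨?_, ?_⟩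
  · rw [hN]
    refine dvd_pow_self l fun h0 => h.relIndex_ne_one ?_
    show (L ⊓ Subgroup.normalizer (Y : Set G)).relIndex L = 1
    rw [hNC, hN, h0, pow_zero]
  obtain ⟨x, hxY, hx1⟩ := Y.bot_or_exists_ne_one.resolve_left h.meets
  set Mx := L ⊓ Subgroup.centralizer ({x} : Set G) with hMx
  have hCMx : C ≤ Mx := inf_le_inf_left _ (Subgroup.centralizer_le (Set.singleton_subset_iff.2 hxY))
  rw [← Subgroup.relIndex_mul_relIndex C Mx L hCMx inf_le_left, mul_comm]
  refine Nat.mul_le_mul ((relIndex_centralizer_le fun g hg => hcomm g hg x hxY).trans ?_) ?_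
  · rw [hZeq, hQml]
  -- `C_{L₀}(x) / C` is cyclic
  have hl := h.localAt (Subgroup.zpowers_le.2 hxY) (by rwa [ne_eq, Subgroup.zpowers_eq_bot])
  set H := Subgroup.centralizer ((Subgroup.zpowers x : Subgroup G) : Set G)
  have hMH : Mx ≤ H := fun w hw => Subgroup.mem_centralizer_iff.2 fun y hy => by
    obtain ⟨i, rfl⟩ := Subgroup.mem_zpowers_iff.1 hy
    exact ((show Commute w x from Subgroup.mem_centralizer_singleton_iff.1 hw.2).zpow_right i).eq.symm
  obtain ⟨w, hw⟩ := hl.coreBase.inverted_cyclic hMC h.base.three_le h.base.card hl.fused.1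
  have hLO : L ≤ coreC t := h.base.invGen_le
  have haM : ∀ g ∈ Mx, a * g * a⁻¹ ∈ Mx := fun g hg => Subgroup.mem_inf.2 ⟨h.base.invGen_conj hg.1, by
    have h1 : a * x * a⁻¹ = x := by
      rw [← Subgroup.mem_centralizer_singleton_iff.1 hxY.2, mul_inv_cancel_right]
    rw [Subgroup.mem_centralizer_singleton_iff]
    have h2 := Subgroup.mem_centralizer_singleton_iff.1 hg.2
    calc a * g * a⁻¹ * x = a * g * a⁻¹ * (a * x * a⁻¹) := by rw [h1]
      _ = a * (g * x) * a⁻¹ := by group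
      _ = a * x * a⁻¹ * (a * g * a⁻¹) := by rw [h2]; group
      _ = x * (a * g * a⁻¹) := by rw [h1]⟩
  -- an inverted `l`-element, up to `C`
  have hsplit : ∀ g ∈ Mx, ∃ i ∈ Mx, a * i * a⁻¹ = i⁻¹ ∧ (∃ j, i ^ l ^ j = 1) ∧
      ∃ k : ℕ, (i ^ k)⁻¹ * g ∈ C := by
    intro g hg
    obtain ⟨c, hc, hca, i, hi, hii, rfl⟩ := exists_fixed_mul_inverted
      ((coreC_odd t).of_dvd_nat (Subgroup.card_dvd_of_le ((inf_le_left : Mx ≤ L).trans hLO))) h.base.aa haM hg
    have hcC : c ∈ C := Subgroup.mem_inf.2 ⟨hc.1, Subgroup.mem_centralizer_iff.2 fun u hu => by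
      have h3 := hfix1 _ (hcomm c hc.1 u hu) ((((show Commute a c from hca).mul_right
        (show Commute a u from (Subgroup.mem_centralizer_singleton_iff.1 hu.2).symm)).mul_right
        (show Commute a c from hca).inv_right).mul_right
        (show Commute a u from (Subgroup.mem_centralizer_singleton_iff.1 hu.2).symm).inv_right).eq
      calc u * c = (c * u * c⁻¹ * u⁻¹)⁻¹ * (c * u) := by group
        _ = c * u := by rw [h3, inv_one, one_mul]⟩
    obtain ⟨j, m, hm, hjm⟩ : ∃ j m, ¬ l ∣ m ∧ orderOf i = l ^ j * m :=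
      ⟨_, _, Nat.not_dvd_ordCompl h.prime (orderOf_pos i).ne', (Nat.ordProj_mul_ordCompl_eq_self _ l).symm⟩
    refine ⟨i ^ m, pow_mem hi m, by rw [← MulAut.conj_apply, map_pow, MulAut.conj_apply, hii, inv_pow],
      ⟨j, by rw [← pow_mul, mul_comm m, ← hjm, pow_orderOf_eq_one]⟩, ?_⟩
    obtain ⟨q, hq⟩ := Nat.exists_mul_mod_eq_one_of_coprime ((h.prime.coprime_iff_not_dvd).2 hm).symm
      h.prime.one_lt
    refine ⟨q, ?_⟩
    -- `i ^ (m q) ≡ i`
    have hdiv := Nat.mod_add_div (m * q) l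
    rw [hq.2] at hdiv
    have h4 : i⁻¹ * c * i ∈ C := by
      have := hCn.conj_mem ⟨c, hc.1⟩ (Subgroup.mem_subgroupOf.2 hcC) ⟨i⁻¹, inv_mem hi.1⟩
      simpa [Subgroup.mem_subgroupOf] using this
    generalize m * q / l = e at hdiv
    have h5 : ((i ^ m) ^ q)⁻¹ * (c * i) = ((i ^ l) ^ e)⁻¹ * (i⁻¹ * c * i) := by
      rw [← pow_mul i m q, ← hdiv, pow_add, pow_one, pow_mul, _root_.mul_inv_rev]
      group
    rw [h5]
    exact mul_mem (inv_mem (pow_mem (hpow i hi.1) _)) h4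
  let ord : G → ℕ := fun i => if hiM : i ∈ Mx then orderOf (qm H ⟨i, hMH hiM⟩) else 0
  let I : Set G := {i | i ∈ Mx ∧ a * i * a⁻¹ = i⁻¹ ∧ ∃ j, i ^ l ^ j = 1}
  obtain ⟨i₀, ⟨hi₀, hi₀i, j₀, hj₀⟩, hmax⟩ := Set.exists_max_image I ord (Set.toFinite _)
    ⟨1, one_mem _, by simp, 0, by simp⟩
  have hqI : ∀ i (hi : i ∈ Mx), a * i * a⁻¹ = i⁻¹ → qm H ⟨i, hMH hi⟩ ∈ Subgroup.zpowers w := fun i hi hii =>
    hw ⟨i, hMH hi⟩ (Subgroup.mem_centralizer_singleton_iff.1 (coreC_le t (hLO hi.1)))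
      (orderOf_odd_of_mem (coreC_odd t) (hLO hi.1)) hii
  have hI : ∀ i ∈ I, ∃ k : ℕ, (i₀ ^ k)⁻¹ * i ∈ C := by
    rintro i ⟨hi, hii, j, hj⟩
    set q := qm H ⟨i, hMH hi⟩
    set q₀ := qm H ⟨i₀, hMH hi₀⟩
    have hole : orderOf q ≤ orderOf q₀ := by
      have h1 := hmax i ⟨hi, hii, j, hj⟩
      simp only [ord, dif_pos hi, dif_pos hi₀] at h1
      exact h1
    have hdvd : orderOf q ∣ orderOf q₀ := by
      have hpw : ∀ (v : G) (hv : v ∈ Mx) (j : ℕ), v ^ l ^ j = 1 → ∃ e, orderOf (qm H ⟨v, hMH hv⟩) = l ^ e :=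
        fun v hv j hj => by
          obtain ⟨e, -, he⟩ := (Nat.dvd_prime_pow h.prime).1 ((orderOf_map_dvd (qm H) ⟨v, hMH hv⟩).trans
            (by rw [Subgroup.orderOf_mk]; exact orderOf_dvd_of_pow_eq_one hj))
          exact ⟨e, he⟩
      obtain ⟨e, he⟩ := hpw i hi j hj
      obtain ⟨e₀, he₀⟩ := hpw i₀ hi₀ j₀ hj₀
      rw [show orderOf q = l ^ e from he, show orderOf q₀ = l ^ e₀ from he₀] at hole ⊢
      exact pow_dvd_pow l ((Nat.pow_le_pow_iff_right h.prime.one_lt).1 hole)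
    obtain ⟨o, ho⟩ := hdvd
    have ho0 : o ≠ 0 := fun e => by rw [e, mul_zero] at ho; exact (orderOf_pos q₀).ne' ho
    haveI : IsCyclic (Subgroup.zpowers w) := inferInstance
    have heq : Subgroup.zpowers q = Subgroup.zpowers (q₀ ^ o) :=
      OddOrder.Cyclic.eq_of_card_eq_of_isCyclic (W := Subgroup.zpowers w)
        (Subgroup.zpowers_le.2 (hqI i hi hii)) (Subgroup.zpowers_le.2 (pow_mem (hqI i₀ hi₀ hi₀i) o)) (by
          rw [Nat.card_zpowers, Nat.card_zpowers, orderOf_pow_of_dvd ho0 ⟨orderOf q, by rw [ho, mul_comm]⟩, ho,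
            Nat.mul_div_cancel _ (Nat.pos_of_ne_zero ho0)])
    have hmemq : q ∈ Subgroup.zpowers q₀ :=
      Subgroup.zpowers_le.2 (pow_mem (Subgroup.mem_zpowers q₀) o) (heq ▸ Subgroup.mem_zpowers q)
    obtain ⟨e, he⟩ := (mem_powers_iff_mem_zpowers (x := q₀) (y := q)).2 hmemq
    refine ⟨e, ?_⟩
    have he' : q₀ ^ e = q := he
    have h1 : (i₀ ^ e)⁻¹ * i ∈ coreOf H := by
      refine (CoreBase.mem_core_iff (x := (⟨i₀, hMH hi₀⟩ ^ e)⁻¹ * ⟨i, hMH hi⟩)).1 ?_
      rw [map_mul, map_inv, map_pow, he', inv_mul_cancel]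
    have h2 := hl.core_le_fix hMC h1
    have hmem : (i₀ ^ e)⁻¹ * i ∈ L := mul_mem (inv_mem (pow_mem hi₀.1 e)) hi.1
    refine Subgroup.mem_inf.2 ⟨hmem, Subgroup.mem_centralizer_iff.2 fun u hu => ?_⟩
    have hfx : Commute a ((i₀ ^ e)⁻¹ * i) := (h.base.fix_iff h2.1).1 h2
    have hau : Commute a u := (Subgroup.mem_centralizer_singleton_iff.1 hu.2).symm
    have h3 := hfix1 _ (hcomm _ hmem u hu) (((hfx.mul_right hau).mul_right hfx.inv_right).mul_right hau.inv_right).eq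
    calc u * ((i₀ ^ e)⁻¹ * i) = ((i₀ ^ e)⁻¹ * i * u * ((i₀ ^ e)⁻¹ * i)⁻¹ * u⁻¹)⁻¹ * ((i₀ ^ e)⁻¹ * i * u) := by
          group
      _ = (i₀ ^ e)⁻¹ * i * u := by rw [h3, inv_one, one_mul]
  haveI : (C.subgroupOf Mx).Normal := ⟨fun c hc g => by
    refine Subgroup.mem_subgroupOf.2 ?_
    have := hCn.conj_mem ⟨c, c.2.1⟩ (Subgroup.mem_subgroupOf.2 (Subgroup.mem_subgroupOf.1 hc)) ⟨g, g.2.1⟩
    simpa [Subgroup.mem_subgroupOf] using this⟩
  set P := QuotientGroup.mk' (C.subgroupOf Mx) with hP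
  have hPeq : ∀ u v : Mx, (u : G)⁻¹ * v ∈ C → P u = P v := fun u v huv =>
    QuotientGroup.eq.2 (Subgroup.mem_subgroupOf.2 huv)
  have hgenq : ∀ g : Mx, P g ∈ Subgroup.zpowers (P ⟨i₀, hi₀⟩) := by
    intro g
    obtain ⟨i, hi, hii, hil, k', hk'⟩ := hsplit g g.2
    obtain ⟨k₀, hk₀⟩ := hI i ⟨hi, hii, hil⟩
    rw [← hPeq ((⟨i, hi⟩ : Mx) ^ k') g hk', map_pow,
      ← hPeq ((⟨i₀, hi₀⟩ : Mx) ^ k₀) ⟨i, hi⟩ hk₀, map_pow, ← pow_mul]
    exact pow_mem (Subgroup.mem_zpowers _) _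
  have htop : Subgroup.zpowers (P ⟨i₀, hi₀⟩) = ⊤ := by
    refine top_le_iff.1 fun q _ => ?_
    obtain ⟨g, rfl⟩ := QuotientGroup.mk'_surjective _ q
    exact hgenq g
  show Nat.card (Mx ⧸ C.subgroupOf Mx) ≤ l
  rw [← Subgroup.card_top, ← htop, Nat.card_zpowers]
  refine Nat.le_of_dvd h.prime.pos (orderOf_dvd_of_pow_eq_one ?_)
  rw [← map_pow]
  exact (QuotientGroup.eq_one_iff _).2 (Subgroup.mem_subgroupOf.2 (hpow i₀ hi₀.1))

/-- The shape. -/
theorem shape (hMC : PropModelCyclic.{u}) :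
    (∃ z ∈ Q, z ≠ 1 ∧ a * z * a⁻¹ = z⁻¹ ∧ ∀ y ∈ Q ⊓ Subgroup.centralizer ({a} : Set G), z * y = y * z) ∧
    ∀ N, N = (invGen t a ⊓ Subgroup.normalizer
        ((Q ⊓ Subgroup.centralizer ({a} : Set G) : Subgroup G) : Set G)).relIndex (invGen t a) →
      1 < N ∧ Odd N ∧ (N ≤ l + 1 ∨ l ∣ N ∧ N ≤ l * l) := by
  classical
  haveI := Fact.mk h.prime
  set L := invGen t a with hL
  set Y := Q ⊓ Subgroup.centralizer ({a} : Set G) with hY
  have hNodd : ∀ N, N = (L ⊓ Subgroup.normalizer (Y : Set G)).relIndex L → Odd N := fun N hN =>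
    hN ▸ ((coreC_odd t).of_dvd_nat (Subgroup.card_dvd_of_le h.base.invGen_le)).of_dvd_nat
      (Subgroup.relIndex_dvd_card _ _)
  have hN1 : ∀ N, N = (L ⊓ Subgroup.normalizer (Y : Set G)).relIndex L → 1 < N := fun N hN => by
    have h1 := (hNodd N hN).pos
    have h2 : N ≠ 1 := fun e => h.relIndex_ne_one (hN.symm.trans e)
    omega
  by_cases hab : ∀ x ∈ Q, ∀ y ∈ Q, x * y = y * x
  · obtain ⟨z, hz, hz1, hzi⟩ := h.exists_inverted_mem
    exact ⟨⟨z, hz, hz1, hzi, fun y hy => hab z hz y hy.1⟩, fun N hN =>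
      ⟨hN1 N hN, hNodd N hN, hN ▸ h.shape_abelian hMC hab⟩⟩
  obtain ⟨hCinv, hCcen⟩ := h.commutator_lower
  set Zq := Q ⊓ Subgroup.centralizer (Q : Set G) with hZq
  have hQn : ∀ g, g ∈ Subgroup.normalizer (Q : Set G) → ∀ y ∈ Zq, g * y * g⁻¹ ∈ Zq := fun g hg y hy =>
    Subgroup.mem_inf.2 ⟨conj_mem_of_mem_normalizer hg hy.1,
      conj_mem_of_mem_normalizer (normalizer_le_normalizer_centralizer Q hg) hy.2⟩
  have hZne : Zq ≠ Q := fun e => hab fun x hx y hy =>
    (Subgroup.mem_centralizer_iff.1 (e.symm ▸ hy : y ∈ Zq).2 x hx)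
  obtain ⟨hZinv, hZcen⟩ := h.lower inf_le_left (fun g hg => Subgroup.mem_normalizer_fintype (hQn g (h.normal hg)))
    (fun y hy => hQn a (Subgroup.mem_normalizer_fintype h.invariant) y hy) hZne
  have hcommZ : ∀ x ∈ Q, ∀ y ∈ Q, x * y * x⁻¹ * y⁻¹ ∈ Zq := fun x hx y hy => by
    have hmem : ⁅x, y⁆ ∈ ⁅Q, Q⁆ := Subgroup.commutator_mem_commutator hx hy
    rw [commutatorElement_def] at hmem
    exact Subgroup.mem_inf.2 ⟨mul_mem (mul_mem (mul_mem hx hy) (inv_mem hx)) (inv_mem hy),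
      Subgroup.mem_centralizer_iff.2 fun q hq => hCcen q (h.le_gen hq) _ hmem⟩
  have hcomm1 : ∀ x ∈ Q, ∀ y ∈ Q, a * (x * y * x⁻¹ * y⁻¹) * a⁻¹ = x * y * x⁻¹ * y⁻¹ → x * y = y * x := by
    intro x hx y hy he
    have h1 := eq_one_of_eq_inv (orderOf_odd_of_mem h.odd (hcommZ x hx y hy).1)
      (he.symm.trans (hZinv _ (hcommZ x hx y hy)))
    calc x * y = x * y * x⁻¹ * y⁻¹ * (y * x) := by group
      _ = y * x := by rw [h1, one_mul]
  have hYab : ∀ x ∈ Y, ∀ y ∈ Y, x * y = y * x := fun x hx y hy => by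
    refine hcomm1 x hx.1 y hy.1 ?_
    have h1 : a * x * a⁻¹ = x := by rw [← Subgroup.mem_centralizer_singleton_iff.1 hx.2, mul_inv_cancel_right]
    have h2 : a * y * a⁻¹ = y := by rw [← Subgroup.mem_centralizer_singleton_iff.1 hy.2, mul_inv_cancel_right]
    calc a * (x * y * x⁻¹ * y⁻¹) * a⁻¹
          = a * x * a⁻¹ * (a * y * a⁻¹) * (a * x * a⁻¹)⁻¹ * (a * y * a⁻¹)⁻¹ := by group
      _ = _ := by rw [h1, h2]
  have hmab : ∀ x ∈ Q, a * x * a⁻¹ = x⁻¹ → ∀ y ∈ Q, a * y * a⁻¹ = y⁻¹ → x * y = y * x :=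
    fun x hx hxi y hy hyi => by
      refine hcomm1 x hx y hy ?_
      have hd := Subgroup.mem_centralizer_iff.1 (hcommZ x hx y hy).2
      calc a * (x * y * x⁻¹ * y⁻¹) * a⁻¹
            = a * x * a⁻¹ * (a * y * a⁻¹) * (a * x * a⁻¹)⁻¹ * (a * y * a⁻¹)⁻¹ := by group
        _ = x⁻¹ * (y⁻¹ * ((x * y * x⁻¹ * y⁻¹) * (y * x))) := by rw [hxi, hyi]; group
        _ = _ := by rw [← hd _ (mul_mem hy hx)]; group
  let Qm : Subgroup G :=
    { carrier := {q | q ∈ Q ∧ a * q * a⁻¹ = q⁻¹}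
      one_mem' := ⟨one_mem Q, by simp⟩
      mul_mem' := fun {x y} hx hy => ⟨mul_mem hx.1 hy.1, by
        rw [show a * (x * y) * a⁻¹ = a * x * a⁻¹ * (a * y * a⁻¹) by group, hx.2, hy.2, _root_.mul_inv_rev,
          ← _root_.mul_inv_rev, ← _root_.mul_inv_rev, hmab y hy.1 hy.2 x hx.1 hx.2]⟩
      inv_mem' := fun {x} hx => ⟨inv_mem hx.1, by
        rw [show a * x⁻¹ * a⁻¹ = (a * x * a⁻¹)⁻¹ by group, hx.2]⟩ }
  have hQmQ : Qm ≤ Q := fun q hq => hq.1
  have hZm : Zq ≤ Qm := fun q hq => ⟨hq.1, hZinv q hq⟩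
  obtain ⟨z, hz, hz1⟩ : ∃ z ∈ Zq, z ≠ 1 := by
    refine Zq.bot_or_exists_ne_one.resolve_left fun hb => hab fun x hx y hy => ?_
    have h1 : x * y * x⁻¹ * y⁻¹ = 1 := Subgroup.mem_bot.1 (hb ▸ hcommZ x hx y hy)
    calc x * y = x * y * x⁻¹ * y⁻¹ * (y * x) := by group
      _ = y * x := by rw [h1, one_mul]
  have hzY : ∀ y ∈ Y, z * y = y * z := fun y hy => (Subgroup.mem_centralizer_iff.1 hz.2 y hy.1).symm
  refine ⟨⟨z, hz.1, hz1, hZinv z hz, hzY⟩, fun N hN => ⟨hN1 N hN, hNodd N hN, Or.inr ?_⟩⟩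
  have hZl : Nat.card Zq = l := le_antisymm
    (h.inverted_le hMC le_rfl h.meets inf_le_left (fun q hq => Subgroup.mem_centralizer_iff.2 fun y hy =>
      Subgroup.mem_centralizer_iff.1 hq.2 y (hy : y ∈ Y).1) hZinv)
    (h.card_bot_or_ge inf_le_left fun e => hz1 (Subgroup.mem_bot.1 (e ▸ hz)))
  -- `C_{Q⁻}(y) = Z(Q)`
  have hcm : ∀ y ∈ Y, y ≠ 1 → ∀ x ∈ Qm, x * y = y * x → x ∈ Zq := by
    intro y hy hy1 x hx hxy
    have hle : Zq ≤ Qm ⊓ Subgroup.centralizer ({y} : Set G) := le_inf hZm fun q hq =>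
      Subgroup.mem_centralizer_singleton_iff.2 (Subgroup.mem_centralizer_iff.1 hq.2 y hy.1).symm
    have hb := h.inverted_le hMC (Subgroup.zpowers_le.2 hy) (by rwa [ne_eq, Subgroup.zpowers_eq_bot])
      (inf_le_left.trans hQmQ : Qm ⊓ Subgroup.centralizer ({y} : Set G) ≤ Q) (fun q hq =>
        Subgroup.mem_centralizer_iff.2 fun v hv => by
          obtain ⟨i, rfl⟩ := Subgroup.mem_zpowers_iff.1 hv
          exact ((show Commute q y from Subgroup.mem_centralizer_singleton_iff.1 hq.2).zpow_right i).eq.symm)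
      fun q hq => hq.1.2
    rw [Subgroup.eq_of_le_of_card_ge hle (hb.trans hZl.ge)]
    exact Subgroup.mem_inf.2 ⟨hx, Subgroup.mem_centralizer_singleton_iff.2 hxy⟩
  obtain ⟨x, hx, hxZ⟩ : ∃ x ∈ Qm, x ∉ Zq := by
    by_contra hno
    push Not at hno
    refine hab fun u hu v hv => ?_
    obtain ⟨c, hc, hca, i, hi, hii, rfl⟩ := exists_fixed_mul_inverted h.odd h.base.aa h.invariant hu
    obtain ⟨c', hc', hca', i', hi', hii', rfl⟩ := exists_fixed_mul_inverted h.odd h.base.aa h.invariant hv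
    have hc0 : c ∈ Y := Subgroup.mem_inf.2 ⟨hc, Subgroup.mem_centralizer_singleton_iff.2 hca.symm⟩
    have hc0' : c' ∈ Y := Subgroup.mem_inf.2 ⟨hc', Subgroup.mem_centralizer_singleton_iff.2 hca'.symm⟩
    have hci : ∀ q ∈ Q, Commute q i := fun q hq =>
      Subgroup.mem_centralizer_iff.1 (hno i ⟨hi, hii⟩).2 q hq
    have hci' : ∀ q ∈ Q, Commute q i' := fun q hq =>
      Subgroup.mem_centralizer_iff.1 (hno i' ⟨hi', hii'⟩).2 q hq
    exact (((show Commute c c' from hYab c hc0 c' hc0').mul_right (hci' c hc)).mul_left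
      ((hci c' hc').symm.mul_right (hci' i hi))).eq
  obtain ⟨y, hy, hy1⟩ := Y.bot_or_exists_ne_one.resolve_left h.meets
  have hQm2 : Nat.card Qm ≤ l * l := by
    have hle : Qm ⊓ Subgroup.centralizer ({y} : Set G) ≤ Zq := fun q hq =>
      hcm y hy hy1 q hq.1 (Subgroup.mem_centralizer_singleton_iff.1 hq.2)
    rw [← Subgroup.relIndex_bot_left Qm, ← Subgroup.relIndex_mul_relIndex ⊥ _ Qm bot_le
      (inf_le_left : Qm ⊓ Subgroup.centralizer ({y} : Set G) ≤ Qm), Subgroup.relIndex_bot_left]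
    refine Nat.mul_le_mul ((Subgroup.card_le_of_le hle).trans hZl.le) ?_
    exact (relIndex_centralizer_le (K := Qm) (Z := Zq) (x := y) fun g hg => hcommZ g hg.1 y hy.1).trans hZl.le
  have hYl : Nat.card Y = l := by
    refine le_antisymm ?_ (h.card_bot_or_ge inf_le_left h.meets)
    have hbot : Y ⊓ Subgroup.centralizer ({x} : Set G) = ⊥ := by
      rw [Subgroup.eq_bot_iff_forall]
      intro v hv
      by_contra hv1
      exact hxZ (hcm v hv.1 hv1 x hx (Subgroup.mem_centralizer_singleton_iff.1 hv.2).symm)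
    have h1 := relIndex_centralizer_le (K := Y) (Z := Zq) (x := x) fun g hg => hcommZ g hg.1 x hx.1
    rw [hbot, Subgroup.relIndex_bot_left, hZl] at h1
    exact h1
  have hQ3 : Nat.card Q ≤ l * (l * l) := by
    rw [h.card_fixed_mul le_rfl h.invariant Qm fun v => Iff.rfl, hYl]
    exact Nat.mul_le_mul_left l hQm2
  have hLZ : L ≤ Subgroup.normalizer (Zq : Set G) := fun g hg => Subgroup.mem_normalizer_fintype fun v hv => by
    rw [SetLike.mem_coe, hZcen g hg v hv, mul_inv_cancel_right]; exact hv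
  have hdis : Y ⊓ Zq = ⊥ := by
    rw [Subgroup.eq_bot_iff_forall]
    intro v hv
    have h1 := hZinv v hv.2
    rw [← Subgroup.mem_centralizer_singleton_iff.1 hv.1.2, mul_inv_cancel_right] at h1
    exact eq_one_of_eq_inv (orderOf_odd_of_mem h.odd hv.2.1) h1
  have hcount := conj_count h.prime hYl inf_le_left h.gen_normal (inf_le_left : Zq ≤ Q) hLZ hdis
  rw [← hN, hZl] at hcount
  -- `l` divides `N`
  set Ny := L ⊓ Subgroup.normalizer (Y : Set G) with hNy
  have hlN : l ∣ N := by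
    have hQL : Q ≤ L := h.le_gen
    have hNQ : Ny ≤ Subgroup.normalizer (Q : Set G) := inf_le_left.trans h.gen_normal
    have h1 := card_sup_mul_card_inf hNQ
    have h2 : Nat.card ↥(Ny ⊔ Q) ∣ Nat.card L := Subgroup.card_dvd_of_le (sup_le inf_le_left hQL)
    have h3 : Nat.card Ny * N = Nat.card L := by
      rw [hN, ← Subgroup.relIndex_bot_left Ny, Subgroup.relIndex_mul_relIndex _ _ _ bot_le inf_le_left,
        Subgroup.relIndex_bot_left]
    obtain ⟨i, hi⟩ := h.pgroup.exists_card_eq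
    obtain ⟨j, hj⟩ := (h.pgroup.to_le (inf_le_left : Q ⊓ Ny ≤ Q)).exists_card_eq
    have hji : j < i := by
      by_contra hge
      have hle : Q ≤ Ny := by
        rw [← inf_eq_left]
        refine Subgroup.eq_of_le_of_card_ge inf_le_left ?_
        rw [hi, hj]
        exact Nat.pow_le_pow_right h.prime.pos (not_lt.1 hge)
      refine hxZ (hcm y hy hy1 x hx ?_)
      have h4 : x * y * x⁻¹ * y⁻¹ ∈ Y := mul_mem (conj_mem_of_mem_normalizer (hle hx.1).2 hy) (inv_mem hy)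
      have h5 : x * y * x⁻¹ * y⁻¹ ∈ Y ⊓ Zq := Subgroup.mem_inf.2 ⟨h4, hcommZ x hx.1 y hy.1⟩
      rw [hdis, Subgroup.mem_bot] at h5
      calc x * y = x * y * x⁻¹ * y⁻¹ * (y * x) := by group
        _ = y * x := by rw [h5, one_mul]
    have h2' : Nat.card ↥(Ny ⊔ Q) * l ^ j ∣ Nat.card L * l ^ j := Nat.mul_dvd_mul_right h2 _
    rw [← hj, h1, hi, hj, ← h3] at h2'
    have h6 : l ^ i ∣ N * l ^ j := by
      rw [mul_comm (l ^ i), mul_assoc] at h2'
      exact (Nat.mul_dvd_mul_iff_left Nat.card_pos).1 h2'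
    obtain ⟨e, rfl⟩ := Nat.exists_eq_add_of_lt hji
    rw [show j + e + 1 = e + 1 + j by omega, pow_add] at h6
    exact (dvd_pow_self l (Nat.succ_ne_zero e)).trans ((Nat.mul_dvd_mul_iff_right (pow_pos h.prime.pos j)).1 h6)
  refine ⟨hlN, ?_⟩
  obtain ⟨N', rfl⟩ := hlN
  have hodd := hNodd _ hN
  have hN'le : N' ≤ l + 1 := by
    obtain ⟨l', hl'⟩ := Nat.exists_eq_add_of_le h.prime.two_le
    have hle := hcount.trans hQ3
    rw [show l - 1 = l' + 1 by omega] at hle
    subst hl'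
    nlinarith
  have hN'odd : Odd N' := (Nat.odd_mul.1 hodd).2
  have hlodd : Odd l := h.prime.odd_of_ne_two h.ne_two
  refine Nat.mul_le_mul_left l ?_
  obtain ⟨p, rfl⟩ := hN'odd
  obtain ⟨p', hp'⟩ := hlodd
  omega

end EqualBlock

end Cfsg.Agent.Lib.GorensteinWalter
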