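import Cfsg.Agent.Lib.GorensteinWalter.EqualShape
import Cfsg.Agent.Lib.GorensteinWalter.Structure
import Cfsg.Agent.Lib.GorensteinWalter.OneTrivial

/-!
# Equal fixed points: the Sylow `l`-subgroups

An `S`-invariant Sylow `l`-subgroup `R` of `O` containing `Q` is a Sylow subgroup of `G`; its normaliser has
no fused four-group and its odd core centralises `t`, so it lies in `C(t)`, and `|G : C(t)| ≡ 1` modulo `l`.
-/

set_option autoImplicit false
set_option linter.unusedSectionVars false
set_option linter.style.haveILetI false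

namespace Cfsg.Agent.Lib.GorensteinWalter

open Cfsg.Agent.Lib.Fusion.Dihedral

universe u

variable {G : Type u} [Group G] [Finite G]

/-- If a Sylow `l`-subgroup has its normaliser in `C`, the index of `C` is `1` modulo `l`. -/
theorem index_modEq_one {l : ℕ} [Fact l.Prime] (R : Sylow l G) {C : Subgroup G}
    (hM : Subgroup.normalizer ((R : Subgroup G) : Set G) ≤ C) : C.index ≡ 1 [MOD l] := by
  have hRC : (R : Subgroup G) ≤ C := Subgroup.le_normalizer.trans hM
  have h1 := card_sylow_modEq_one l G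
  rw [R.card_eq_index_normalizer] at h1
  change (Subgroup.normalizer ((R : Subgroup G) : Set G)).index ≡ 1 [MOD l] at h1
  rw [← Subgroup.relIndex_mul_index hM] at h1
  have h2 := card_sylow_modEq_one l C
  rw [(R.subtype hRC).card_eq_index_normalizer] at h2
  change (Subgroup.normalizer (((R : Subgroup G).subgroupOf C : Subgroup C) : Set C)).index ≡ 1 [MOD l] at h2
  rw [← Subgroup.subgroupOf_normalizer_eq hRC] at h2
  have h3 : (Subgroup.normalizer ((R : Subgroup G) : Set G)).relIndex C * C.index ≡ C.index [MOD l] := by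
    have := h2.mul_right C.index
    rwa [one_mul] at this
  exact h3.symm.trans h1

namespace EqualBlock

variable {S : Sylow 2 G} {t a b : G} {n l : ℕ} {Q : Subgroup G} (h : EqualBlock S t a b n l Q)
include h

theorem dvd_fix : l ∣ Nat.card (coreFix t a) := by
  haveI := Fact.mk h.prime
  obtain ⟨k, hk⟩ := (h.pgroup.to_le (inf_le_left : Q ⊓ Subgroup.centralizer ({a} : Set G) ≤ Q)).exists_card_eq
  have h1 := Subgroup.card_dvd_of_le h.fix_le
  rw [hk] at h1
  refine dvd_trans (dvd_pow_self l fun h0 => h.meets ?_) h1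
  rw [h0, pow_zero] at hk
  exact Subgroup.card_eq_one.1 hk

theorem centralizer_index (hDich : PropDichotomy.{u}) (hInv : PropInvariant.{u}) (hMC : PropModelCyclic.{u})
    {z : G} (hz : z ∈ Q) (hz1 : z ≠ 1) (hzi : a * z * a⁻¹ = z⁻¹) :
    (Subgroup.centralizer ({t} : Set G)).index ≡ 1 [MOD l] := by
  classical
  haveI : Fact (Nat.Prime 2) := ⟨Nat.prime_two⟩
  haveI := Fact.mk h.prime
  have hG := h.base.hyp
  have hR' := h.base.refl
  set O := coreC t with hO
  set C := Subgroup.centralizer ({t} : Set G) with hC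
  have hSC : (S : Subgroup G) ≤ C := fun s hs => Subgroup.mem_centralizer_singleton_iff.2 (hR'.central s hs)
  have hSO : (S : Subgroup G) ≤ Subgroup.normalizer (O : Set G) := fun s hs =>
    Subgroup.mem_normalizer_fintype fun y hy => h.base.conj_mem hs hy
  have hcop : (Nat.card (S : Subgroup G)).Coprime (Nat.card O) := by
    rw [h.base.card]; exact (Nat.coprime_two_left.2 (coreC_odd t)).pow_left n
  -- the Sylow subgroup
  obtain ⟨R₀, hQR, hSR⟩ := Coprime.exists_invariant_sylow_ge hSO hcop
    (Or.inl (Coprime.isSolvable_of_isPGroup S.2)) l Q h.le_core h.pgroup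
    (h.base.invariant h.le_core h.invariant)
  set R := (R₀ : Subgroup O).map O.subtype with hRdef
  have hRO : R ≤ O := Subgroup.map_subtype_le _
  have hRcard : Nat.card R = l ^ (Nat.card G).factorization l := by
    rcases regular_or_fixed hG hDich hR' h.base.eight h.base.not_conj h.ne_two
      (h.base.noConf_of_dvd h.noConf h.ne_two h.dvd_fix) with he | he | he
    · rw [hRdef, Coprime.card_sylow_map R₀, he]
    · exact absurd he (not_le.2 h.excess)
    · rw [← h.base.eq] at he
      exact absurd he (not_le.2 h.excess)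
  let Rs : Sylow l G := Sylow.ofCard R hRcard
  refine index_modEq_one Rs ?_
  show Subgroup.normalizer (R : Set G) ≤ C
  set M := Subgroup.normalizer (R : Set G) with hM
  have hSM : (S : Subgroup G) ≤ M := hSR
  have ht1 : t ≠ 1 := ne_one_of_two hR'.t_two
  -- no four-group is fused in `M`
  have hMfused : ∀ V : Subgroup G, ¬ FusedIn V M := by
    intro V hV
    obtain ⟨T, hT⟩ := ((hV.1.isPGroup).comap_subtype (K := M)).exists_le_sylow
    obtain ⟨k, hk⟩ := MulAction.exists_smul_eq M T (S.subtype hSM)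
    have hVS : ∀ w ∈ V, (k : G) * w * (k : G)⁻¹ ∈ (S : Subgroup G) := fun w hw => by
      have h1 : k * ⟨w, hV.2.1 hw⟩ * k⁻¹ ∈ ((S.subtype hSM : Sylow 2 M) : Subgroup M) := by
        rw [← hk]
        exact Subgroup.smul_mem_pointwise_smul _ (MulAut.conj k) (T : Subgroup M)
          (hT (show (w : G) ∈ V from hw))
      exact h1
    set W := V.map (MulAut.conj (k : G)).toMonoidHom with hW
    have hW4 : IsFour W := hV.1.map _
    have hWS : W ≤ (S : Subgroup G) := by
      rintro _ ⟨w, hw, rfl⟩
      exact hVS w hw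
    have htW : t ∈ W := hG.cd.mem_four_of_central hW4 hWS (mul_self_of_two hR'.t_two) hR'.central
    have hWf : FusedIn W M := by
      refine ⟨hW4, hWS.trans hSM, ?_⟩
      rintro _ ⟨v, hv, rfl⟩ hv1 _ ⟨w, hw, rfl⟩ hw1
      obtain ⟨g, hgM, hgN, hgv⟩ := hV.2.2 v hv (fun e => hv1 (by rw [e, map_one])) w hw
        (fun e => hw1 (by rw [e, map_one]))
      refine ⟨(k : G) * g * (k : G)⁻¹, mul_mem (mul_mem k.2 hgM) (inv_mem k.2), ?_, ?_⟩
      · rw [hW, ← MulAut.conj_apply]
        exact Subgroup.le_normalizer_map _ ⟨g, hgN, rfl⟩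
      · rw [← hgv]
        simp only [MulEquiv.coe_toMonoidHom, MulAut.conj_apply]
        group
    have hRW := centralizes_of_fused hWf le_rfl htW ht1 (hRO.trans (coreC_le t))
    obtain ⟨w, hw, hw1, hwt⟩ : ∃ w ∈ W, w ≠ 1 ∧ w ≠ t := regular_or_fixed.exists_mem_ne' (S := S) hW4 t
    have hzE := h.base.mem_fix_of_reflection (hWS hw) (hW4.orderOf_eq hw hw1) hwt (hRO (hQR hz))
      (Subgroup.mem_centralizer_iff.1 (hRW (hQR hz)) w hw)
    have h1 := (h.base.fix_iff (hRO (hQR hz))).1 hzE
    rw [h1, mul_inv_cancel_right] at hzi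
    exact hz1 (eq_one_of_eq_inv (orderOf_odd_of_mem h.odd hz) hzi)
  -- the odd core of `M` centralises `t`
  set N := coreOf M with hN
  have hMN : M ≤ Subgroup.normalizer (N : Set G) := Subgroup.le_normalizer.trans (normalizer_le_normalizer_coreOf M)
  have hNC : N ≤ C := by
    by_contra hno
    obtain ⟨s, P, hs, hsN, hPN, hPs, hSP, hPC⟩ := exists_moved_invariant_pgroup (A := (S : Subgroup G))
      (hSM.trans hMN) (by rw [h.base.card]; exact (Nat.coprime_two_left.2 (coreOf_odd M)).pow_left n)
      (Or.inl (Coprime.isSolvable_of_isPGroup S.2)) hno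
    haveI := Fact.mk hs
    have hs2 : s ≠ 2 := fun e => (coreOf_odd M).not_two_dvd_nat (e ▸ hsN)
    by_cases hsC : ∀ V K : Subgroup G, ¬ Conf s V K
    · exact hPC (hInv G hG s hs2 hsC S t P (by have := h.base.eight; omega) hR'.t_two hR'.t_mem hR'.central
        hPs hSP)
    push Not at hsC
    obtain ⟨V, K, hcf⟩ := hsC
    have hsm := h.noConf G hG h.base.not_known s hs2 V K hcf
    have hl := h.localAt (Y := Q ⊓ Subgroup.centralizer ({a} : Set G)) le_rfl h.meets
    -- `P ∩ C(R)` is trivial
    have hbot : P ⊓ Subgroup.centralizer (R : Set G) = ⊥ := by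
      refine hl.no_invariant hMC hs2 hsm (hPs.to_le inf_le_left)
        (inf_le_right.trans (Subgroup.centralizer_le (inf_le_left.trans hQR))) ?_
      intro v hv
      have hvS := h.base.four_le.2 hv
      exact Subgroup.mem_normalizer_fintype fun y hy => Subgroup.mem_inf.2
        ⟨conj_mem_of_mem_normalizer (hSP hvS) hy.1,
          conj_mem_of_mem_normalizer (normalizer_le_normalizer_centralizer R (hSM hvS)) hy.2⟩
    refine hPC fun x hx => Subgroup.mem_centralizer_singleton_iff.2 ?_
    have htP : t * x * t⁻¹ ∈ P := conj_mem_of_mem_normalizer (hSP hR'.t_mem) hx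
    have hxM : x ∈ Subgroup.normalizer (R : Set G) := Subgroup.map_subtype_le _ (hPN hx)
    have htR : ∀ r ∈ R, t * r = r * t := fun r hr =>
      (Subgroup.mem_centralizer_singleton_iff.1 (coreC_le t (hRO hr))).symm
    have hu : t * x * t⁻¹ * x⁻¹ ∈ P ⊓ Subgroup.centralizer (R : Set G) := by
      refine Subgroup.mem_inf.2 ⟨mul_mem htP (inv_mem hx), Subgroup.mem_centralizer_iff.2 fun r hr => ?_⟩
      have h1 := conj_mem_of_mem_normalizer (inv_mem hxM) hr
      rw [inv_inv] at h1
      have h2 : t⁻¹ * r * t = r := by rw [mul_assoc, ← htR r hr, inv_mul_cancel_left]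
      calc r * (t * x * t⁻¹ * x⁻¹) = t * (t⁻¹ * r * t) * x * t⁻¹ * x⁻¹ := by group
        _ = t * x * ((x⁻¹ * r * x) * t⁻¹) * x⁻¹ := by rw [h2]; group
        _ = t * x * (t⁻¹ * (x⁻¹ * r * x)) * x⁻¹ := by
          rw [(show Commute t (x⁻¹ * r * x) from htR _ h1).inv_left.eq]
        _ = t * x * t⁻¹ * x⁻¹ * r := by group
    rw [hbot, Subgroup.mem_bot] at hu
    calc x * t = (t * x * t⁻¹ * x⁻¹)⁻¹ * (t * x) := by group
      _ = t * x := by rw [hu, inv_one, one_mul]
  -- so `M ≤ C(t)`
  have htop : (S.subtype hSM : Subgroup M) ≤ C.subgroupOf M := fun x hx => hSC hx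
  have : C.subgroupOf M = ⊤ := by
    by_contra hne
    obtain ⟨p, hp, hpd⟩ := Nat.exists_prime_and_dvd (mt Subgroup.index_eq_one.1 hne)
    haveI := Fact.mk hp
    by_cases hp2 : p = 2
    · subst hp2
      exact (S.subtype hSM).not_dvd_index (hpd.trans (Subgroup.index_dvd_of_le htop))
    obtain ⟨P⟩ : Nonempty (Sylow p M) := inferInstance
    have hPN : (P : Subgroup M) ≤ C.subgroupOf M := fun x hx =>
      hNC (propUnfused G hG M hMfused x x.2 (by
        obtain ⟨j, hj⟩ := P.2 ⟨x, hx⟩
        have h1 : x ^ p ^ j = 1 := congrArg Subtype.val hj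
        rw [Subgroup.orderOf_coe]
        exact Odd.of_dvd_nat ((hp.odd_of_ne_two hp2).pow) (orderOf_dvd_of_pow_eq_one h1)))
    exact P.not_dvd_index (hpd.trans (Subgroup.index_dvd_of_le hPN))
  intro x hx
  exact (this.ge (Subgroup.mem_top ⟨x, hx⟩) : _)

end EqualBlock

end Cfsg.Agent.Lib.GorensteinWalter
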