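import Cfsg.Agent.Lib.GorensteinWalter.CoreSylow
import Cfsg.Agent.Lib.GorensteinWalter.ActTools
import Cfsg.Agent.Lib.PGroups.MaxAbelian
import Mathlib.GroupTheory.FiniteAbelian.Duality
import Mathlib.RingTheory.RootsOfUnity.AlgebraicallyClosed

/-!
# Tools for the case of equal fixed points

An involution `a` acting on groups of odd order: inverted elements centralise what `a` fixes or inverts, the
count `|K| = |C_K(a)| · #inverted`, a group all of whose cores are fixed or inverted is abelian, and counts.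
-/

set_option autoImplicit false
set_option linter.unusedSectionVars false
set_option linter.style.haveILetI false

namespace Cfsg.Agent.Lib.GorensteinWalter

open scoped commutatorElement

universe u

variable {G : Type u} [Group G]

/-- `g` and `g⁻¹` conjugate alike only if they commute. -/
theorem commute_of_conj_same {g k : G} (hg : Odd (orderOf g)) (h : g * k * g⁻¹ = g⁻¹ * k * g) :
    g * k = k * g := by
  have h1 : Commute (g ^ 2) k := by
    show g ^ 2 * k = k * g ^ 2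
    calc g ^ 2 * k = g * (g * k * g⁻¹) * g := by rw [sq]; group
      _ = k * g ^ 2 := by rw [h, sq]; group
  obtain ⟨j, hj⟩ := hg
  have h2 : g = (g ^ 2) ^ (j + 1) := by
    rw [← pow_mul, show 2 * (j + 1) = orderOf g + 1 by omega, pow_succ, pow_orderOf_eq_one, one_mul]
  rw [h2]
  exact (h1.pow_left (j + 1)).eq

/-- An inverted element centralises a fixed element with fixed image. -/
theorem commute_of_fixed_image {a g k : G} (hg : Odd (orderOf g)) (hgi : a * g * a⁻¹ = g⁻¹)
    (hk : a * k = k * a) (hk' : a * (g * k * g⁻¹) = g * k * g⁻¹ * a) : g * k = k * g := by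
  refine commute_of_conj_same hg ?_
  calc g * k * g⁻¹ = a * (g * k * g⁻¹) * a⁻¹ := by rw [hk', mul_inv_cancel_right]
    _ = a * g * a⁻¹ * (a * k * a⁻¹) * (a * g * a⁻¹)⁻¹ := by group
    _ = g⁻¹ * k * g := by rw [hgi, inv_inv, hk, mul_inv_cancel_right]

/-- An inverted element centralises an inverted element with inverted image. -/
theorem commute_of_inverted_image {a g k : G} (hg : Odd (orderOf g)) (hgi : a * g * a⁻¹ = g⁻¹)
    (hk : a * k * a⁻¹ = k⁻¹) (hk' : a * (g * k * g⁻¹) * a⁻¹ = (g * k * g⁻¹)⁻¹) : g * k = k * g := by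
  refine commute_of_conj_same hg ?_
  calc g * k * g⁻¹ = (a * (g * k * g⁻¹) * a⁻¹)⁻¹ := by rw [hk', inv_inv]
    _ = (a * g * a⁻¹ * (a * k * a⁻¹) * (a * g * a⁻¹)⁻¹)⁻¹ := by group
    _ = g⁻¹ * k * g := by rw [hgi, hk]; group

/-- An inverted element centralises a group that it normalises and that `a` fixes or inverts. -/
theorem commute_of_uniform {a g : G} (hg : Odd (orderOf g)) (hgi : a * g * a⁻¹ = g⁻¹) {K : Subgroup G}
    (hgK : ∀ k ∈ K, g * k * g⁻¹ ∈ K)
    (h : (∀ k ∈ K, a * k = k * a) ∨ ∀ k ∈ K, a * k * a⁻¹ = k⁻¹) : ∀ k ∈ K, g * k = k * g :=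
  fun k hk => h.elim (fun h => commute_of_fixed_image hg hgi (h k hk) (h _ (hgK k hk)))
    (fun h => commute_of_inverted_image hg hgi (h k hk) (h _ (hgK k hk)))

/-- The square root in the cyclic group. -/
theorem exists_sqrt_inverted {y : G} (hy : Odd (orderOf y)) :
    ∃ x ∈ Subgroup.zpowers y, x * x = y ∧ ∀ a : G, a * y * a⁻¹ = y⁻¹ → a * x * a⁻¹ = x⁻¹ := by
  obtain ⟨j, hj⟩ := hy
  refine ⟨y ^ (j + 1), pow_mem (Subgroup.mem_zpowers y) _, ?_, fun a ha => ?_⟩
  · rw [← pow_add, show j + 1 + (j + 1) = orderOf y + 1 by omega, pow_succ, pow_orderOf_eq_one, one_mul]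
  · rw [← MulAut.conj_apply, map_pow, MulAut.conj_apply, ha, inv_pow]

variable [Finite G]

/-- `|K| = |C_K(a)| · #{inverted elements}`. -/
theorem card_fixed_mul_inverted {K : Subgroup G} (hK : Odd (Nat.card K)) {a : G} (ha : a * a = 1)
    (hn : ∀ y ∈ K, a * y * a⁻¹ ∈ K) :
    Nat.card K = Nat.card ↥(K ⊓ Subgroup.centralizer ({a} : Set G)) *
      Nat.card {y : G // y ∈ K ∧ a * y * a⁻¹ = y⁻¹} := by
  rw [← Nat.card_prod]
  let f : ↥(K ⊓ Subgroup.centralizer ({a} : Set G)) × {y : G // y ∈ K ∧ a * y * a⁻¹ = y⁻¹} → K :=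
    fun p => ⟨p.1 * p.2, mul_mem p.1.2.1 p.2.2.1⟩
  refine (Nat.card_eq_of_bijective f ⟨?_, ?_⟩).symm
  · rintro ⟨c, l⟩ ⟨c', l'⟩ h
    have h1 : (c : G) * l = c' * l' := congrArg Subtype.val h
    have hfix : ∀ c : ↥(K ⊓ Subgroup.centralizer ({a} : Set G)), a * (c : G) * a⁻¹ = c := fun c => by
      rw [← Subgroup.mem_centralizer_singleton_iff.1 c.2.2, mul_inv_cancel_right]
    have h2 : (c : G) * (l : G)⁻¹ = c' * (l' : G)⁻¹ := by
      calc (c : G) * (l : G)⁻¹ = (a * c * a⁻¹) * (a * l * a⁻¹) := by rw [hfix, l.2.2]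
        _ = a * ((c : G) * l) * a⁻¹ := by group
        _ = (a * c' * a⁻¹) * (a * l' * a⁻¹) := by rw [h1]; group
        _ = _ := by rw [hfix, l'.2.2]
    have h3 : (l : G) * l = l' * l' := by
      calc (l : G) * l = ((c : G) * (l : G)⁻¹)⁻¹ * ((c : G) * l) := by group
        _ = (l' : G) * l' := by rw [h1, h2]; group
    have hl : (l : G) = l' := by
      have e : ∀ x : G, x ∈ K → (x * x) ^ ((Nat.card K + 1) / 2) = x := fun x hx => by
        obtain ⟨j, hj⟩ := hK
        rw [← sq, ← pow_mul, show 2 * ((Nat.card K + 1) / 2) = Nat.card K + 1 by omega, pow_succ,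
          orderOf_dvd_iff_pow_eq_one.1 (Subgroup.orderOf_dvd_natCard K hx), one_mul]
      rw [← e _ l.2.1, h3, e _ l'.2.1]
    rw [hl] at h1
    exact Prod.ext (Subtype.ext (mul_right_cancel h1)) (Subtype.ext hl)
  · rintro ⟨k, hk⟩
    obtain ⟨c, hc, hca, l, hl, hli, rfl⟩ := exists_fixed_mul_inverted hK ha hn hk
    exact ⟨(⟨c, Subgroup.mem_inf.2 ⟨hc, Subgroup.mem_centralizer_singleton_iff.2 hca.symm⟩⟩, ⟨l, hl, hli⟩),
      rfl⟩

/-- Groups with the same inverted elements have the same index over their fixed points. -/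
theorem card_mul_fixed_eq {K L : Subgroup G} (hK : Odd (Nat.card K)) {a : G} (ha : a * a = 1)
    (hn : ∀ y ∈ K, a * y * a⁻¹ ∈ K) (hLK : L ≤ K) (hLn : ∀ y ∈ L, a * y * a⁻¹ ∈ L)
    (hinv : ∀ y ∈ K, a * y * a⁻¹ = y⁻¹ → y ∈ L) :
    Nat.card K * Nat.card ↥(L ⊓ Subgroup.centralizer ({a} : Set G)) =
      Nat.card L * Nat.card ↥(K ⊓ Subgroup.centralizer ({a} : Set G)) := by
  have he : Nat.card {y : G // y ∈ K ∧ a * y * a⁻¹ = y⁻¹} = Nat.card {y : G // y ∈ L ∧ a * y * a⁻¹ = y⁻¹} :=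
    Nat.card_congr (Equiv.subtypeEquivRight fun y => ⟨fun h => ⟨hinv y h.1 h.2, h.2⟩,
      fun h => ⟨hLK h.1, h.2⟩⟩)
  rw [card_fixed_mul_inverted hK ha hn,
    card_fixed_mul_inverted (hK.of_dvd_nat (Subgroup.card_dvd_of_le hLK)) ha hLn, he]
  ring

/-- If every core is fixed or inverted by `σ` and the inverted elements generate, then `σ` inverts all. -/
theorem inverts_of_cores {X : Type*} [Group X] [Finite X] (hodd : Odd (Nat.card X)) (σ : X ≃* X)
    (hgen : Subgroup.closure {x : X | σ x = x⁻¹} = ⊤)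
    (hcores : ∀ r : ℕ, r.Prime →
      (∀ x ∈ Cfsg.pCore r X, σ x = x) ∨ ∀ x ∈ Cfsg.pCore r X, σ x = x⁻¹) :
    (∀ x : X, σ x = x⁻¹) ∧ ∀ x y : X, x * y = y * x := by
  haveI : Group.IsSolvable X := Cfsg.Agent.S0205.result hodd
  have hcent : ∀ r : ℕ, r.Prime → Cfsg.pCore r X ≤ Subgroup.center X := by
    intro r hr k hk
    rw [Subgroup.mem_center_iff]
    intro g
    have hg : g ∈ Subgroup.closure {x : X | σ x = x⁻¹} := hgen ▸ Subgroup.mem_top g
    induction hg using Subgroup.closure_induction with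
    | mem g hg =>
      haveI := (inferInstance : (Cfsg.pCore r X).Characteristic)
      have hgk : g * k * g⁻¹ ∈ Cfsg.pCore r X := Subgroup.Normal.conj_mem inferInstance k hk g
      refine commute_of_conj_same (hodd.of_dvd_nat (orderOf_dvd_natCard g)) ?_
      rcases hcores r hr with h | h
      · calc g * k * g⁻¹ = σ (g * k * g⁻¹) := (h _ hgk).symm
          _ = g⁻¹ * k * g := by rw [map_mul, map_mul, map_inv, h k hk, show σ g = g⁻¹ from hg, inv_inv]
      · calc g * k * g⁻¹ = (σ (g * k * g⁻¹))⁻¹ := by rw [h _ hgk, inv_inv]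
          _ = g⁻¹ * k * g := by
            rw [map_mul, map_mul, map_inv, h k hk, show σ g = g⁻¹ from hg]; group
    | one => rw [one_mul, mul_one]
    | mul x y _ _ hx hy => rw [mul_assoc, hy, ← mul_assoc, hx, mul_assoc]
    | inv x _ hx => exact ((show Commute x k from hx).inv_left).eq
  have hF : (⨆ p : Nat.Primes, Cfsg.pCore (p : ℕ) X) ≤ Subgroup.center X := by
    refine iSup_le fun p => hcent p p.2
  have htop : (Subgroup.center X) = ⊤ := by
    refine top_le_iff.1 fun x _ => hF ?_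
    rw [← Cores.fittingSubgroup_eq_iSup_pCore]
    refine Cores.centralizer_fittingSubgroup_le (Subgroup.mem_centralizer_iff.2 fun y hy => ?_)
    rw [SetLike.mem_coe, Cores.fittingSubgroup_eq_iSup_pCore] at hy
    exact (Subgroup.mem_center_iff.1 (hF hy) x).symm
  have hab : ∀ x y : X, x * y = y * x := fun x y =>
    Subgroup.mem_center_iff.1 (htop ▸ Subgroup.mem_top y : y ∈ Subgroup.center X) x
  refine ⟨fun x => ?_, hab⟩
  have hx : x ∈ Subgroup.closure {x : X | σ x = x⁻¹} := hgen ▸ Subgroup.mem_top x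
  induction hx using Subgroup.closure_induction with
  | mem g hg => exact hg
  | one => rw [map_one, inv_one]
  | mul x y _ _ hx hy => rw [map_mul, hx, hy, _root_.mul_inv_rev, hab]
  | inv x _ hx => rw [map_inv, hx]

/-- In class two an odd prime `l` is preserved by products of elements of order `l`. -/
theorem mul_pow_prime {l : ℕ} (hl : l.Prime) (hl2 : l ≠ 2) {x y : G} (hx : Commute x ⁅y, x⁆)
    (hy : Commute y ⁅y, x⁆) (hxl : x ^ l = 1) (hyl : y ^ l = 1) : (x * y) ^ l = 1 := by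
  have key : ∀ k : ℕ, y ^ k * x * (y ^ k)⁻¹ = ⁅y, x⁆ ^ k * x := by
    intro k
    induction k with
    | zero => simp
    | succ k ih =>
      rw [pow_succ' y]
      calc y * y ^ k * x * (y * y ^ k)⁻¹ = y * (y ^ k * x * (y ^ k)⁻¹) * y⁻¹ := by group
        _ = ⁅y, x⁆ ^ k * (y * x * y⁻¹) := by
          rw [ih, ← mul_assoc, (hy.pow_right k).eq]; group
        _ = ⁅y, x⁆ ^ (k + 1) * x := by rw [pow_succ, commutatorElement_def]; group
  have hc : ⁅y, x⁆ ^ l = 1 := by
    have h := key l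
    rw [hyl, one_mul, inv_one, mul_one] at h
    exact mul_eq_right.1 h.symm
  obtain ⟨j, hj⟩ := hl.dvd_choose_self (k := 2) (by norm_num) (lt_of_le_of_ne hl.two_le (Ne.symm hl2))
  rw [PGroups.mul_pow_of_central_commutator x y hx hy, hxl, hyl, hj, pow_mul, hc, one_pow, one_mul, one_mul]

/-- Counting the conjugates of a group of prime order inside `Q ∖ Z`. -/
theorem conj_count {L Y Q Z : Subgroup G} {l : ℕ} (hl : l.Prime) (hY : Nat.card Y = l) (hYQ : Y ≤ Q)
    (hLQ : L ≤ Subgroup.normalizer (Q : Set G)) (hZQ : Z ≤ Q)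
    (hLZ : L ≤ Subgroup.normalizer (Z : Set G)) (hYZ : Y ⊓ Z = ⊥) :
    (L ⊓ Subgroup.normalizer (Y : Set G)).relIndex L * (l - 1) + Nat.card Z ≤ Nat.card Q := by
  classical
  haveI := Fact.mk hl
  set N := (L ⊓ Subgroup.normalizer (Y : Set G)).subgroupOf L
  let f : (L ⧸ N) × {u : G // u ∈ Y ∧ u ≠ 1} ⊕ Z → Q := Sum.elim
    (fun p => ⟨(p.1.out : G) * p.2 * (p.1.out : G)⁻¹,
      conj_mem_of_mem_normalizer (hLQ p.1.out.2) (hYQ p.2.2.1)⟩)
    fun z => ⟨z, hZQ z.2⟩
  have hgen : ∀ u : G, u ∈ Y → u ≠ 1 → Subgroup.zpowers u = Y := fun u hu hu1 =>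
    Subgroup.eq_of_le_of_card_ge (Subgroup.zpowers_le.2 hu) (by
      rw [Nat.card_zpowers, hY]
      refine Nat.le_of_eq ((hl.eq_one_or_self_of_dvd _ (hY ▸ Subgroup.orderOf_dvd_natCard Y hu)).resolve_left
        fun h => hu1 (orderOf_eq_one_iff.1 h)).symm)
  have hf : Function.Injective f := by
    rintro (⟨q, u⟩ | z) (⟨q', u'⟩ | z') h
    · have h1 : (q.out : G) * u * (q.out : G)⁻¹ = (q'.out : G) * u' * (q'.out : G)⁻¹ :=
        congrArg Subtype.val h
      have h2 : ((q'.out : G)⁻¹ * q.out) * u * ((q'.out : G)⁻¹ * q.out)⁻¹ = u' := by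
        calc _ = (q'.out : G)⁻¹ * ((q.out : G) * u * (q.out : G)⁻¹) * q'.out := by group
          _ = _ := by rw [h1]; group
      have h3 : q' = q := by
        rw [← QuotientGroup.out_eq' q, ← QuotientGroup.out_eq' q', QuotientGroup.eq,
          Subgroup.mem_subgroupOf]
        refine Subgroup.mem_inf.2 ⟨(q'.out⁻¹ * q.out).2, Subgroup.mem_normalizer_fintype fun v hv => ?_⟩
        rw [SetLike.mem_coe, ← hgen u u.2.1 u.2.2] at hv
        obtain ⟨i, rfl⟩ := Subgroup.mem_zpowers_iff.1 hv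
        rw [SetLike.mem_coe, ← MulAut.conj_apply, map_zpow, MulAut.conj_apply]
        simp only [Subgroup.coe_mul, Subgroup.coe_inv]
        rw [h2]
        exact zpow_mem u'.2.1 i
      subst h3
      have h4 : (u : G) = u' := mul_left_cancel (mul_right_cancel h1)
      exact congrArg _ (Prod.ext rfl (Subtype.ext h4))
    · exfalso
      have h1 : (q.out : G) * u * (q.out : G)⁻¹ = z' := congrArg Subtype.val h
      have h2 := (Subgroup.mem_normalizer_iff.1 (hLZ q.out.2) u).2 (h1 ▸ z'.2)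
      exact u.2.2 (Subgroup.mem_bot.1 (hYZ ▸ Subgroup.mem_inf.2 ⟨u.2.1, h2⟩))
    · exfalso
      have h1 : (z : G) = (q'.out : G) * u' * (q'.out : G)⁻¹ := congrArg Subtype.val h
      have h2 := (Subgroup.mem_normalizer_iff.1 (hLZ q'.out.2) u').2 (h1 ▸ z.2)
      exact u'.2.2 (Subgroup.mem_bot.1 (hYZ ▸ Subgroup.mem_inf.2 ⟨u'.2.1, h2⟩))
    · exact congrArg _ (Subtype.ext (congrArg (fun x : Q => (x : G)) h))
  have hc := Nat.card_le_card_of_injective f hf
  rw [Nat.card_sum, Nat.card_prod] at hc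
  have hu : Nat.card {u : G // u ∈ Y ∧ u ≠ 1} = l - 1 := by
    show ({u : G | u ∈ Y ∧ u ≠ 1} : Set G).ncard = l - 1
    rw [show ({u : G | u ∈ Y ∧ u ≠ 1} : Set G) = (Y : Set G) \ {1} from rfl,
      Set.ncard_diff_singleton_of_mem Y.one_mem, ← Nat.card_coe_set_eq]
    exact congrArg (· - 1) hY
  rw [hu] at hc
  exact hc

/-- `|H ⊔ E| |H ∩ E| = |H| |E|` if `E` normalises `H`. -/
theorem card_sup_mul_card_inf {H E : Subgroup G} (hE : E ≤ Subgroup.normalizer (H : Set G)) :
    Nat.card ↥(E ⊔ H) * Nat.card ↥(H ⊓ E) = Nat.card H * Nat.card E := by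
  set N := Subgroup.normalizer (H : Set G)
  haveI : (H.subgroupOf N).Normal := Subgroup.normal_subgroupOf_of_le_normalizer le_rfl
  have h1 : H.relIndex (E ⊔ H) = H.relIndex E := by
    rw [← Subgroup.relIndex_subgroupOf (sup_le hE Subgroup.le_normalizer),
      ← Subgroup.relIndex_subgroupOf (K := E) hE, Subgroup.subgroupOf_sup hE Subgroup.le_normalizer,
      Subgroup.relIndex_sup_right]
  have h2 : Nat.card H * H.relIndex (E ⊔ H) = Nat.card ↥(E ⊔ H) := by
    rw [← Subgroup.relIndex_bot_left H, Subgroup.relIndex_mul_relIndex _ _ _ bot_le le_sup_right,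
      Subgroup.relIndex_bot_left]
  have h3 : Nat.card ↥(H ⊓ E) * H.relIndex E = Nat.card E := by
    rw [← Subgroup.inf_relIndex_right H E, ← Subgroup.relIndex_bot_left (H ⊓ E),
      Subgroup.relIndex_mul_relIndex _ _ _ bot_le inf_le_right, Subgroup.relIndex_bot_left]
  rw [← h2, ← h3, h1]
  ring

/-- A proper normal subgroup of a finite solvable group is killed by a nontrivial linear character. -/
theorem exists_character {X : Type*} [Group X] [Finite X] [Group.IsSolvable X] (N : Subgroup X) [N.Normal]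
    (hN : N ≠ ⊤) : ∃ φ : X →* ℂˣ, φ ≠ 1 ∧ ∀ x ∈ N, φ x = 1 := by
  haveI : Nontrivial (X ⧸ N) := QuotientGroup.nontrivial_iff.2 hN
  haveI : Group.IsSolvable (X ⧸ N) :=
    Group.isSolvable_of_surjective (f := QuotientGroup.mk' N) (QuotientGroup.mk'_surjective N)
  have hlt := Group.IsSolvable.commutator_lt_top_of_nontrivial (X ⧸ N)
  obtain ⟨x, -, hx⟩ := SetLike.exists_of_lt hlt
  haveI : NeZero (Monoid.exponent (Abelianization (X ⧸ N))) := ⟨Monoid.exponent_ne_zero_of_finite⟩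
  obtain ⟨φ, hφ⟩ := CommGroup.exists_apply_ne_one_of_hasEnoughRootsOfUnity (Abelianization (X ⧸ N)) ℂ
    (a := Abelianization.of x) (fun h => hx ((QuotientGroup.eq_one_iff x).1 h))
  obtain ⟨y, rfl⟩ := QuotientGroup.mk'_surjective N x
  refine ⟨φ.comp (Abelianization.of.comp (QuotientGroup.mk' N)), fun h => hφ (DFunLike.congr_fun h y),
    fun z hz => ?_⟩
  show φ (Abelianization.of (QuotientGroup.mk' N z)) = 1
  rw [show QuotientGroup.mk' N z = 1 from (QuotientGroup.eq_one_iff z).2 hz, map_one, map_one]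

end Cfsg.Agent.Lib.GorensteinWalter
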