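import Cfsg.Agent.Lib.GorensteinWalter.InterfaceF
import Cfsg.Prelude.Def_Involutions

/-!
# Gorenstein–Walter: interface for Sylow 2-subgroups of order four with a nontrivial four-group core

Owner: helper14 (proof: `notes/gorenstein_walter_four.md`, sections 3 and 4; sections 1 and 2, which
produce a `FourSetting`, are owned by helper31).
-/

set_option autoImplicit false

universe u

namespace Cfsg.Agent.Lib.GorensteinWalter

open Cfsg.Agent.Lib.Fusion.Dihedral

/-- What sections 1 and 2 prove for a minimal counterexample with `|S| = 4`, `V = ⟨t, a⟩` and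
`O(C(V)) ≠ 1`. -/
structure FourSetting {G : Type u} [Group G] (V : Subgroup G) (t a : G) : Prop where
  hyp : Hyp G
  not_known : ¬ IsKnownD G
  sylow : ∀ S : Sylow 2 G, Nat.card (S : Subgroup G) = 4
  four : IsFour V
  t_mem : t ∈ V
  a_mem : a ∈ V
  t_ne : t ≠ 1
  a_ne : a ≠ 1
  ne : a ≠ t
  core_ne : coreV V ≠ ⊥
  nonabelian : ∃ x ∈ coreC t, ∃ y ∈ coreC t, x * y ≠ y * x
  noStronglyEmbedded : ∀ H : Subgroup G, ¬ Cfsg.IsStronglyEmbedded H
  noConf : ∀ r : ℕ, r.Prime → r ∣ Nat.card (coreV V) → ∀ W H : Subgroup G, ¬ Conf r W H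
  generated : coreC t ≤ Subgroup.closure {y : G | y ∈ coreC t ∧ a * y * a⁻¹ = y⁻¹}
  fused : ∀ x ∈ coreV V, (orderOf x).Prime → FusedIn V (Subgroup.centralizer ({x} : Set G))
  bound : 9 * Nat.card G * Nat.card (coreV V) ^ 2 ≤ 364 * Nat.card (coreC t) ^ 3

/-- The conjugates of `⟨x⟩` in `O(C(t))`. -/
def lines {G : Type u} [Group G] (t x : G) : Set (Subgroup G) :=
  {X | X ≤ coreC t ∧ ∃ g : G, X = (Subgroup.zpowers x).map (MulAut.conj g).toMonoidHom}

/-- A line: an element `x` of prime order of `O(C(V))` any two conjugates of which, in `O(C(t))`,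
generate a subgroup containing an element of order `r` commuting with `x` and inverted by `a`. -/
structure Line {G : Type u} [Group G] (V : Subgroup G) (t a : G) (r : ℕ) (x : G) : Prop where
  mem : x ∈ coreV V
  order : orderOf x = r
  normalized : coreV V ≤ Subgroup.normalizer (Subgroup.zpowers x : Set G)
  good : ∀ X ∈ lines t x, X ≠ Subgroup.zpowers x →
    ∃ y ∈ Subgroup.zpowers x ⊔ X, orderOf y = r ∧ y * x = x * y ∧ a * y * a⁻¹ = y⁻¹

/-- The extraspecial case: the Sylow `r`-subgroup `Q` of `O(C(t))` is normal, of order `r³` and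
exponent `r`, with centre `⟨z⟩` inverted by `a` and central in `O(C(t))`. -/
structure Heisenberg {G : Type u} [Group G] (V : Subgroup G) (t a : G) (r : ℕ) (x z : G)
    (Q : Subgroup G) : Prop where
  le : Q ≤ coreC t
  normal : coreC t ≤ Subgroup.normalizer (Q : Set G)
  card : Nat.card Q = r ^ 3
  sylow : (Nat.card (coreC t)).factorization r = 3
  core_part : (Nat.card (coreV V)).factorization r = 1
  exponent : ∀ g ∈ Q, g ^ r = 1
  x_mem : x ∈ Q
  z_mem : z ∈ Q
  z_order : orderOf z = r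
  z_inverted : a * z * a⁻¹ = z⁻¹
  z_central : coreC t ≤ Subgroup.centralizer ({z} : Set G)
  comm : ∀ g ∈ Q, ∀ h ∈ Q, g * h * g⁻¹ * h⁻¹ ∈ Subgroup.zpowers z
  cent : ∀ g ∈ Q, g * x = x * g → g ∈ Subgroup.zpowers x ⊔ Subgroup.zpowers z

/-- Section 3: a line with at most `r` conjugates, or the extraspecial case. -/
def PropFourPlane : Prop :=
  ∀ (G : Type u) [Group G] [Finite G] (V : Subgroup G) (t a : G), FourSetting V t a →
    ∃ (r : ℕ) (x : G), r.Prime ∧ Line V t a r x ∧
      ((lines t x).ncard ≤ r ∨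
        ((lines t x).ncard ≤ r ^ 2 ∧ ∃ (z : G) (Q : Subgroup G), Heisenberg V t a r x z Q))

/-- The model: a core-free group with known sections and Sylow 2-subgroups of order four, fused at
`⟨t, a⟩`, in which `C(t)` has an element of odd order moved by `a`. -/
def PropModelKlein : Prop :=
  ∀ (X : Type u) [Group X] [Finite X] (V : Subgroup X) (t a : X), Cfsg.oddCore X = ⊥ →
    HasDihedralSylow X → (∀ S : Sylow 2 X, Nat.card (S : Subgroup X) = 4) →
    (∀ (L : Subgroup X) (N : Subgroup L) [N.Normal],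
      IsSimpleGroup (L ⧸ N) → ¬ IsMulCommutative (L ⧸ N) → IsKnownD (L ⧸ N)) →
    FusedIn V ⊤ → t ∈ V → a ∈ V → t ≠ 1 → a ≠ 1 → a ≠ t →
    (∃ y : X, Odd (orderOf y) ∧ y * t = t * y ∧ y * a ≠ a * y) →
      ∃ (T q : ℕ) (ε : ℤ), (ε = 1 ∨ ε = -1) ∧ IsPrimePow q ∧ Odd T ∧ (q : ℤ) = 4 * (T : ℤ) + ε ∧
        Nat.card (coreC t) = T * Nat.card (coreV V) ∧
        2 * (Nat.card X : ℤ) = (q : ℤ) * ((q : ℤ) + ε) * Nat.card (Subgroup.centralizer ({t} : Set X)) ∧
        (∀ y : X, Odd (orderOf y) → y * t = t * y → a * y * a⁻¹ = y⁻¹ →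
          orderOf y ∣ T ∧ (y ≠ 1 → ∀ j : X, orderOf j = 2 → j * y = y * j → j = t)) ∧
        {j : X | orderOf j = 2 ∧ ∃ y y' b : X, orderOf b = 2 ∧ b * j = j * b ∧
            y ≠ 1 ∧ y' ≠ 1 ∧ Odd (orderOf y) ∧ Odd (orderOf y') ∧
            y * t = t * y ∧ a * y * a⁻¹ = y⁻¹ ∧ y' * j = j * y' ∧ b * y' * b⁻¹ = y'⁻¹ ∧
            Odd (Nat.card (Subgroup.closure ({y, y'} : Set X)))}.ncard ≤ 2 * q ∧
        ∃ C : Subgroup X, IsCyclic C ∧ coreC t ≤ Subgroup.normalizer (C : Set X) ∧
          ∀ y : X, Odd (orderOf y) → y * t = t * y → a * y * a⁻¹ = y⁻¹ → y ∈ C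

/-- With at most `r²` conjugates, the torus of a line has no element of order `r²`. -/
def PropLineTorus : Prop :=
  ∀ (G : Type u) [Group G] [Finite G] (V : Subgroup G) (t a : G), FourSetting V t a →
    ∀ (r : ℕ) (x : G), r.Prime → Line V t a r x → (lines t x).ncard ≤ r ^ 2 →
      ∀ c ∈ coreC t, c * x = x * c → a * c * a⁻¹ = c⁻¹ → c ^ r ^ 2 = 1 → c ^ r = 1

/-- Section 4, first level: at most `r` conjugates is impossible. -/
def PropLevelOne : Prop :=
  ∀ (G : Type u) [Group G] [Finite G] (V : Subgroup G) (t a : G), FourSetting V t a →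
    ∀ (r : ℕ) (x : G), r.Prime → Line V t a r x → r < (lines t x).ncard

/-- Section 4, second level: the extraspecial case is impossible. -/
def PropLevelTwo : Prop :=
  ∀ (G : Type u) [Group G] [Finite G] (V : Subgroup G) (t a : G), FourSetting V t a →
    ∀ (r : ℕ) (x z : G) (Q : Subgroup G), r.Prime → Line V t a r x →
      (lines t x).ncard ≤ r ^ 2 → Heisenberg V t a r x z Q → False

/-- There is no `FourSetting`. -/
theorem false_of_fourSetting (hP : PropFourPlane.{u}) (h1 : PropLevelOne.{u}) (h2 : PropLevelTwo.{u})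
    {G : Type u} [Group G] [Finite G] {V : Subgroup G} {t a : G} (h : FourSetting V t a) : False := by
  obtain ⟨r, x, hr, hl, hk | ⟨hk, z, Q, hH⟩⟩ := hP G V t a h
  · exact absurd hk (not_le.2 (h1 G V t a h r x hr hl))
  · exact h2 G V t a h r x z Q hr hl hk hH

end Cfsg.Agent.Lib.GorensteinWalter
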