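import Cfsg.Agent.Lib.GorensteinWalter.InterfaceF
import Cfsg.Agent.Lib.GorensteinWalter.InterfaceC

/-!
# Gorenstein–Walter: interface for section C (nontrivial four-group cores)

Owner: helper60 (proofs: `notes/gorenstein_walter_C.md`).  `S` is a Sylow 2-subgroup of order at least
eight, `t` its central involution, `a`, `b` reflections, `O = O(C(t))`, `coreFix t u = C_O(u)`.
-/

set_option autoImplicit false

universe u

namespace Cfsg.Agent.Lib.GorensteinWalter

open Cfsg.Agent.Lib.Fusion.Dihedral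

/-- `O(C(t)) ∩ C(u)`. -/
abbrev coreFix {G : Type u} [Group G] (t u : G) : Subgroup G :=
  coreC t ⊓ Subgroup.centralizer ({u} : Set G)

/-- The four-group (for commuting involutions) `⟨t, u⟩`. -/
abbrev fourOf {G : Type u} [Group G] (t u : G) : Subgroup G := Subgroup.closure ({t, u} : Set G)

/-- `(S, t, u, v)`: `t` central in `S`, and `u`, `v` are other involutions of `S` with `t ∈ ⟨u, v⟩`. -/
structure Refl {G : Type u} [Group G] (S : Sylow 2 G) (t u v : G) : Prop where
  t_mem : t ∈ (S : Subgroup G)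
  u_mem : u ∈ (S : Subgroup G)
  v_mem : v ∈ (S : Subgroup G)
  t_two : orderOf t = 2
  u_two : orderOf u = 2
  v_two : orderOf v = 2
  central : ∀ s ∈ (S : Subgroup G), s * t = t * s
  u_ne : u ≠ t
  v_ne : v ≠ t
  noncomm : fourOf t u ≠ fourOf t v
  t_gen : t ∈ Subgroup.closure ({u, v} : Set G)

/-! ## Models -/

/-- In a core-free group with known sections, fused at `⟨t, u⟩` and not at `⟨t, v⟩`: odd elements of
`C(t)` fixed by `v` are fixed by `u`, and the torus `T'` of `v` is coprime to and at least twice, less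
one, the torus `T` of `t`. -/
def PropModelSplit : Prop :=
  ∀ (X : Type u) [Group X] [Finite X] (t u v : X), Cfsg.oddCore X = ⊥ → HasDihedralSylow X →
    (∀ (L : Subgroup X) (N : Subgroup L) [N.Normal],
      IsSimpleGroup (L ⧸ N) → ¬ IsMulCommutative (L ⧸ N) → IsKnownD (L ⧸ N)) →
    orderOf t = 2 → orderOf u = 2 → orderOf v = 2 → u * t = t * u → v * t = t * v →
    IsPGroup 2 (Subgroup.closure ({u, v} : Set X)) → t ∈ Subgroup.closure ({u, v} : Set X) →
    FusedIn (fourOf t u) ⊤ → v ≠ t → ¬ FusedIn (fourOf t v) ⊤ →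
      (∀ x : X, x * t = t * x → Odd (orderOf x) → x * v = v * x → x * u = u * x) ∧
      ∃ T T' : ℕ, Nat.Coprime T T' ∧ 2 * T ≤ T' + 1 ∧
        Nat.card (coreC t) = T * Nat.card (coreFix t u) ∧
        Nat.card (coreC v) = T' * Nat.card (coreFix v t)

/-- In a core-free group with known sections, fused at both four-groups: either rotations centralise
the odd part of `C(t)` and the group is like `PSL(2, q)`, or it is like `A₇`. -/
def PropModelOne : Prop :=
  ∀ (X : Type u) [Group X] [Finite X] (S : Sylow 2 X) (t a b : X) (n : ℕ), Cfsg.oddCore X = ⊥ →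
    HasDihedralSylow X →
    (∀ (L : Subgroup X) (N : Subgroup L) [N.Normal],
      IsSimpleGroup (L ⧸ N) → ¬ IsMulCommutative (L ⧸ N) → IsKnownD (L ⧸ N)) →
    3 ≤ n → Nat.card (S : Subgroup X) = 2 ^ n → Refl S t a b →
    Subgroup.closure ({a, b} : Set X) = (S : Subgroup X) →
    FusedIn (fourOf t a) ⊤ → FusedIn (fourOf t b) ⊤ →
      ((∀ x : X, x * t = t * x → Odd (orderOf x) → x * (a * b) = (a * b) * x) ∧
        ∃ (T q : ℕ) (ε : ℤ), (ε = 1 ∨ ε = -1) ∧ IsPrimePow q ∧ Nat.Coprime q T ∧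
          Nat.card (coreC t) = T * Nat.card (coreFix t a) ∧
          (q : ℤ) = 2 ^ n * (T : ℤ) + ε ∧
          2 * (Nat.card X : ℤ) = (q : ℤ) * ((q : ℤ) + ε) * Nat.card (Subgroup.centralizer ({t} : Set X))) ∨
      (n = 3 ∧ Nat.card X = 2520 ∧ Nat.card (coreC t) = 3 ∧
        (coreC t ≤ Subgroup.centralizer ({a} : Set X) ∨ coreC t ≤ Subgroup.centralizer ({b} : Set X)))

/-! ## Fused centralisers -/

/-- The `A₇`-like exception at `3` for the four-group `V`. -/
def Exception {G : Type u} [Group G] (p : ℕ) (V : Subgroup G) : Prop :=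
  p = 3 ∧ (∀ S : Sylow 2 G, Nat.card (S : Subgroup G) = 8) ∧
    ∀ v ∈ V, v ≠ 1 →
      (Nat.card (coreC v)).factorization 3 = (Nat.card (coreV V)).factorization 3 ∧
      ∃ W : Subgroup G, IsFour W ∧ v ∈ W ∧ W ≠ V ∧ 3 ∣ Nat.card ↥(coreV V ⊓ Subgroup.centralizer (W : Set G))

/-- Centralisers of `p`-subgroups centralised by a four-group are fused at it, outside the exception. -/
def PropFusedCentralizer : Prop :=
  ∀ (G : Type u) [Group G] [Finite G], Hyp G → (∀ S : Sylow 2 G, 8 ≤ Nat.card (S : Subgroup G)) →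
    ∀ (p : ℕ) [Fact p.Prime], p ≠ 2 → (∀ V H : Subgroup G, ¬ Conf p V H) →
      ∀ V Y : Subgroup G, IsFour V → IsPGroup p Y → Y ≠ ⊥ → Y ≤ Subgroup.centralizer (V : Set G) →
        FusedIn V (Subgroup.centralizer (Y : Set G)) ∨ Exception p V

/-! ## Main steps -/

/-- Two reflections acting on `O` as a four-group have comparable fixed points. -/
def PropComparable : Prop :=
  ∀ (G : Type u) [Group G] [Finite G], Hyp G → ¬ IsKnownD G → ∀ (S : Sylow 2 G) (t u v : G),
    Refl S t u v → (∀ o ∈ coreC t, u * v * u * v * o = o * (u * v * u * v)) →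
      coreFix t u ≤ Subgroup.centralizer ({v} : Set G) ∨ coreFix t v ≤ Subgroup.centralizer ({u} : Set G)

/-- Squares of elements of `S` centralise `O`. -/
def PropRotation : Prop :=
  ∀ (G : Type u) [Group G] [Finite G], Hyp G → ¬ IsKnownD G → ∀ (S : Sylow 2 G) (t : G),
    8 ≤ Nat.card (S : Subgroup G) → t ∈ (S : Subgroup G) → orderOf t = 2 →
    (∀ s ∈ (S : Subgroup G), s * t = t * s) →
      ∀ s ∈ (S : Subgroup G), coreC t ≤ Subgroup.centralizer ({s * s} : Set G)

/-- A strict inclusion of the fixed points forces `A₇`. -/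
def PropUnequal : Prop :=
  ∀ (G : Type u) [Group G] [Finite G], Hyp G → ∀ (S : Sylow 2 G) (t a b : G),
    Refl S t a b → Subgroup.closure ({a, b} : Set G) = (S : Subgroup G) →
    8 ≤ Nat.card (S : Subgroup G) → coreFix t b < coreFix t a → IsKnownD G

/-- Equal fixed points, some prime of `O : C_O(a)` without configuration (so the parameter of the order
equations is divisible by it): `O` has no `S`-invariant linear character. -/
def PropCoinvariant : Prop :=
  ∀ (G : Type u) [Group G] [Finite G], Hyp G → ¬ IsKnownD G → ∀ (S : Sylow 2 G) (t a b : G) (n : ℕ),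
    Refl S t a b → Subgroup.closure ({a, b} : Set G) = (S : Subgroup G) →
    3 ≤ n → Nat.card (S : Subgroup G) = 2 ^ n → coreFix t a = coreFix t b →
    (∃ p : ℕ, p.Prime ∧
      (Nat.card (coreFix t a)).factorization p < (Nat.card (coreC t)).factorization p ∧
      ∀ V H : Subgroup G, ¬ Conf p V H) →
    coreFix t a ≠ coreC t →
    ∀ φ : ↥(coreC t) →* ℂˣ,
      (∀ s ∈ (S : Subgroup G), ∀ x y : ↥(coreC t), (y : G) = s * x * s⁻¹ → φ y = φ x) → φ = 1

/-- The arithmetic of the case of equal fixed points: `q` divides none of the three factors. -/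
def PropEqualArith : Prop :=
  ∀ (n T N p q : ℕ) (ε s : ℤ), 3 ≤ n → (ε = 1 ∨ ε = -1) → (s = 1 ∨ s = -1) → p.Prime → Odd p →
    Odd T → Odd N → p ∣ T → 1 < N → (N ≤ p + 1 ∨ p ∣ N ∧ N ≤ p * p) →
    (q : ℤ) = 2 ^ n * (T : ℤ) + ε → IsPrimePow q → Nat.Coprime q T →
      ¬ (q : ℤ) ∣ (N : ℤ) * (2 ^ n * (T : ℤ) * N * s + 1) * (2 ^ (n - 1) * (T : ℤ) * N * s + 1)

/-- Equal nontrivial fixed points are impossible. -/
def PropEqual : Prop :=
  ∀ (G : Type u) [Group G] [Finite G], Hyp G → ∀ (S : Sylow 2 G) (t a b : G),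
    Refl S t a b → Subgroup.closure ({a, b} : Set G) = (S : Subgroup G) →
    8 ≤ Nat.card (S : Subgroup G) → coreFix t a = coreFix t b → coreFix t a ≠ ⊥ → IsKnownD G

end Cfsg.Agent.Lib.GorensteinWalter
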