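import Cfsg.Agent.Lib.GorensteinWalter.InterfaceL
import Cfsg.Agent.Lib.GorensteinWalter.TrivialCores
import Cfsg.Agent.Lib.GorensteinWalter.StronglyEmbedded

/-!
# The Gorenstein–Walter theorem: assembly of the local sections
-/

set_option autoImplicit false
set_option linter.unusedSectionVars false
set_option linter.style.haveILetI false

namespace Cfsg.Agent.Lib.GorensteinWalter

open Cfsg.Agent.Lib.Fusion.Dihedral DihedralGroup
open Cfsg.Agent.Lib.Fusion.Alperin

universe u

variable {G : Type u} [Group G] [Finite G]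

theorem coreV_conjS (hG : Hyp G) {V : Subgroup G} (hV : IsFour V) {s : G}
    (h : coreV (conjS s V) = ⊥) : coreV V = ⊥ := by
  rw [eq_bot_iff]
  intro x hx
  have h1 : s * x * s⁻¹ ∈ coreV (conjS s V) := by
    refine hG.mem_coreV (hV.map s) (Subgroup.mem_centralizer_iff.2 fun y hy => ?_) ?_
    · have hy' := mem_conjS.1 hy
      have hc := Subgroup.mem_centralizer_iff.1 (coreV_le V hx) _ hy'
      calc y * (s * x * s⁻¹) = s * (s⁻¹ * y * s * x) * s⁻¹ := by group
        _ = s * x * s⁻¹ * y := by rw [hc]; group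
    · rw [← MulAut.conj_apply, MulEquiv.orderOf_eq (MulAut.conj s) x]
      exact orderOf_odd_of_mem (coreV_odd V) hx
  rw [h, Subgroup.mem_bot, conj_eq_one_iff] at h1
  exact Subgroup.mem_bot.2 h1

/-- The case of two trivial four-group cores, in coordinates. -/
theorem coreV_bot_of_frame (hG : Hyp G) {S : Sylow 2 G} {m : ℕ} (D : Coords S m) (hm : 2 ≤ m)
    (hm4 : 4 ∣ m) {t : G} (htS : t ∈ (S : Subgroup G)) (htt : t * t = 1) (ht1 : t ≠ 1)
    (hcen : ∀ s ∈ (S : Subgroup G), s * t = t * s)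
    (h0 : Nat.card (Cfsg.oddCore ↥(Subgroup.centralizer ({t, D.φ (sr 0)} : Set G))) = 1)
    (h1 : Nat.card (Cfsg.oddCore ↥(Subgroup.centralizer ({t, D.φ (sr 1)} : Set G))) = 1)
    (V : Subgroup G) (hV : IsFour V) (hVS : V ≤ (S : Subgroup G)) : coreV V = ⊥ := by
  obtain ⟨i, hi⟩ := D.four_contains_sr hm hVS hV
  have h2 : (2 : ℕ) ∣ m := dvd_trans (by norm_num) hm4
  haveI : Fact (1 < 2) := ⟨one_lt_two⟩
  have key : ∀ j : ZMod m, par h2 j = par h2 i →
      Nat.card (Cfsg.oddCore ↥(Subgroup.centralizer ({t, D.φ (sr j)} : Set G))) = 1 →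
      coreV V = ⊥ := by
    intro j hj hc
    obtain ⟨R, hRS, hR, hjR⟩ := D.exists_four hm hm4 j
    have htR : t ∈ R := hG.cd.mem_four_of_central hR hRS htt fun x hx => hcen x hx
    have hj1 : D.φ (sr j) ≠ 1 := fun e => D.sr_notMem_rot j (e ▸ one_mem _)
    have htj : t ≠ D.φ (sr j) := by
      intro e
      have h := hcen _ (D.mem (r 1))
      rw [e, ← map_mul, ← map_mul, r_mul_sr, sr_mul_r] at h
      have h' := sr.inj (D.inj h)
      haveI : NeZero m := ⟨by omega⟩
      have h2' : ((2 : ℕ) : ZMod m) = 0 := by push_cast; linear_combination -h'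
      rw [ZMod.natCast_eq_zero_iff] at h2'
      have := Nat.le_of_dvd two_pos h2'
      have := Nat.le_of_dvd (by omega) hm4
      omega
    obtain ⟨s, -, hs⟩ := D.four_conj hm h2 hVS hV hRS hR hi hjR hj.symm
    refine coreV_conjS hG hV (s := s) ?_
    rw [hs, ← Subgroup.card_eq_one, card_coreV]
    exact (hR.centralizer_pair htR hjR ht1 hj1 htj) ▸ hc
  have hcases : ∀ x : ZMod 2, x = 0 ∨ x = 1 := by decide
  rcases hcases (par h2 i) with h | h
  · exact key 0 (by rw [h, map_zero]) h0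
  · exact key 1 (by rw [h, map_one]) h1

theorem frame_of_coords {m' : ℕ} (hm : 2 < m') {S : Sylow 2 G} (D : Coords S m') {t : G} (hto : orderOf t = 2)
    (htS : t ∈ (S : Subgroup G)) (hcen : ∀ s ∈ (S : Subgroup G), s * t = t * s) {i j : ZMod m'}
    (hij : ∀ h : 2 ∣ m', par h i ≠ par h j) :
    ∃ n, Frame S n t (D.φ (sr i)) (D.φ (sr j)) := by
  obtain ⟨k, hk⟩ := D.exists_pow (by omega)
  have h2 : 2 ∣ m' := hk ▸ dvd_pow_self 2 k.succ_ne_zero
  have hne : ∀ l : ZMod m', D.φ (sr l) ≠ t := by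
    intro l e
    have h := hcen _ (D.mem (r 1))
    rw [← e, ← map_mul, ← map_mul, r_mul_sr, sr_mul_r] at h
    have h' := sr.inj (D.inj h)
    haveI : NeZero m' := ⟨by omega⟩
    have h2' : ((2 : ℕ) : ZMod m') = 0 := by push_cast; linear_combination -h'
    rw [ZMod.natCast_eq_zero_iff] at h2'
    have := Nat.le_of_dvd two_pos h2'
    omega
  have ho : ∀ l : ZMod m', orderOf (D.φ (sr l)) = 2 := fun l => by
    rw [orderOf_injective D.φ D.inj, orderOf_sr]
  refine ⟨k + 2, ⟨?_, ?_, htS, D.mem _, D.mem _, hto, ho i, ho j, hcen, hne i, hne j, ?_⟩⟩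
  · by_contra hk2
    have : k = 0 := by omega
    subst this
    omega
  · rw [D.card, hk, pow_succ, pow_succ, pow_succ]
    ring
  · rintro ⟨s, hs, hsab⟩
    exact hij h2 (D.par_conj h2 hs hsab).symm

/-- The main proposition from the local sections. -/
theorem propMain_of_local (hP : BenderConsumers23.PropPartOne.{u})
    (hBS : BenderSuzuki.PropMain.{u, u}) (hF : PropFusedCore.{u}) (hL : PropCentralised.{u})
    (h4 : PropFourOrder.{u}) (h1 : PropOneTrivial.{u}) (hB : PropBothNontrivial.{u}) :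
    PropMain.{u} := by
  intro G _ _ hG
  haveI : Fact (Nat.Prime 2) := ⟨Nat.prime_two⟩
  by_cases hSE : ∃ H : Subgroup G, Cfsg.IsStronglyEmbedded H
  · obtain ⟨H, hH⟩ := hSE
    exact known_of_stronglyEmbedded hP hBS hG hH
  have hNSE : NoStronglyEmbedded G := fun H hH => hSE ⟨H, hH⟩
  have hFC := hF G hG hNSE
  have hIC := hL G hG hFC
  obtain ⟨S⟩ : Nonempty (Sylow 2 G) := inferInstance
  obtain ⟨m, hm, ⟨e⟩⟩ := hG.dihedral S
  have hcard : Nat.card (S : Subgroup G) = 2 * m := by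
    rw [Nat.card_congr e.toEquiv, DihedralGroup.nat_card]
  rcases Nat.lt_or_ge 2 m with hm2 | hm2
  · set D := Coords.ofEquiv e
    obtain ⟨k, hk⟩ := D.exists_pow hm
    have hk1 : 1 ≤ k := by
      rcases k with _ | k
      · omega
      · omega
    have hm4 : 4 ∣ m := hk ▸ (pow_dvd_pow 2 (show 2 ≤ k + 1 by omega) : 2 ^ 2 ∣ 2 ^ (k + 1))
    haveI : Fact (1 < 2) := ⟨one_lt_two⟩
    obtain ⟨t, htS, hto, htc⟩ := exists_central_involution S.2 fun h => by
      rw [h, Subgroup.card_bot] at hcard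
      omega
    have htt : t * t = 1 := by rw [← sq, ← hto, pow_orderOf_eq_one]
    have ht1 : t ≠ 1 := fun h => by rw [h, orderOf_one] at hto; omega
    obtain ⟨n, hab⟩ := frame_of_coords hm2 D hto htS htc (i := 0) (j := 1)
      (fun h => by rw [map_zero, map_one]; exact zero_ne_one)
    obtain ⟨n', hba⟩ := frame_of_coords hm2 D hto htS htc (i := 1) (j := 0)
      (fun h => by rw [map_zero, map_one]; exact one_ne_zero)
    set d₀ := Nat.card (Cfsg.oddCore ↥(Subgroup.centralizer ({t, D.φ (sr 0)} : Set G))) with hd₀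
    set d₁ := Nat.card (Cfsg.oddCore ↥(Subgroup.centralizer ({t, D.φ (sr 1)} : Set G))) with hd₁
    rcases Nat.eq_or_lt_of_le (Nat.card_pos : 1 ≤ d₀) with h0 | h0 <;>
      rcases Nat.eq_or_lt_of_le (Nat.card_pos : 1 ≤ d₁) with h1' | h1'
    · exact known_of_trivial_cores hG S m hm ⟨e⟩ t hto htS htc (hIC S t (by omega) hto htS htc)
        fun V hV _ hVS => coreV_bot_of_frame hG D hm hm4 htS htt ht1 htc h0.symm h1'.symm V hV hVS
    · exact h1 G hG hFC hIC S n' t _ _ hba h1' h0.symm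
    · exact h1 G hG hFC hIC S n t _ _ hab h0 h1'.symm
    · exact (hB G hG hNSE hFC hIC S n t _ _ hab h0 h1').elim
  · exact h4 G hG hNSE hFC S (by omega)

end Cfsg.Agent.Lib.GorensteinWalter
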