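import Cfsg.Agent.Lib.GorensteinWalter.Basic
import Cfsg.Agent.Lib.GorensteinWalter.Structure
import Cfsg.Agent.Lib.ZJ.Control
import Cfsg.Agent.Lib.PGroups.Thompson
import Cfsg.Agent.Lib.Coprime.Glauberman
import Cfsg.Agent.Lib.Coprime.Generation

/-!
# Gorenstein–Walter, section L: invariant subgroups of odd order are centralised by `t`

Let `t` be the central involution of a Sylow 2-subgroup `S` of order at least 8 and `r` a prime.  If
in every proper subgroup `H` each fused four-group centralises the invariant `r`-subgroups of `O(H)`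
(`FusedCentral`), then `t` centralises every `S`-invariant `r`-subgroup.

A maximal such subgroup `P` with `[P, t] ≠ 1` is a Sylow subgroup of `G`.  For a four-group `V ≤ S`,
`C_P(V)` is Sylow in `O(C(V))`, so if it is not trivial `V` is fused in its normaliser, and this
forces `P ≤ C(t)`.  If all `C_P(V)` are trivial, `N(Z(J(P)))` has a normal 2-complement and controls
the fusion in `P`, and an element of `C_P(a)` gives an element of `C(V)` which is not trivial.
-/

set_option autoImplicit false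
set_option linter.unusedSectionVars false
set_option linter.style.haveILetI false

namespace Cfsg.Agent.Lib.GorensteinWalter

open Cfsg.Agent.Lib.Fusion.Dihedral
open scoped Pointwise

universe u

variable {G : Type u} [Group G] [Finite G]

/-- The odd core of `H`, inside `G`. -/
def oddIn (H : Subgroup G) : Subgroup G := (Cfsg.oddCore H).map H.subtype

/-- What section F gives at the prime `r`: a fused four-group of a proper subgroup centralises its
invariant `r`-subgroups of the odd core. -/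
def FusedCentral (G : Type u) [Group G] (r : ℕ) : Prop :=
  ∀ H : Subgroup G, H ≠ ⊤ → ∀ V : Subgroup G, FusedIn V H → ∀ Q : Subgroup G,
    Q ≤ (Cfsg.oddCore H).map H.subtype → IsPGroup r Q →
      V ≤ Subgroup.normalizer (Q : Set G) → Q ≤ Subgroup.centralizer (V : Set G)

namespace SectionL

theorem oddIn_le (H : Subgroup G) : oddIn H ≤ H := Subgroup.map_subtype_le _

theorem oddIn_odd (H : Subgroup G) : Odd (Nat.card (oddIn H)) := by
  rw [oddIn, Subgroup.card_map_of_injective H.subtype_injective]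
  exact Cores.oddCore_odd

theorem le_normalizer_oddIn (H : Subgroup G) :
    H ≤ Subgroup.normalizer (oddIn H : Set G) := by
  haveI : (Cfsg.oddCore H).Normal := by unfold Cfsg.oddCore; infer_instance
  intro m hm
  exact Subgroup.le_normalizer_map H.subtype
    ⟨⟨m, hm⟩, by rw [Subgroup.normalizer_eq_top]; trivial, rfl⟩

theorem le_oddIn {H K : Subgroup G} (hKH : K ≤ H) (hn : H ≤ Subgroup.normalizer (K : Set G))
    (hodd : Odd (Nat.card K)) : K ≤ oddIn H := by
  haveI : (K.subgroupOf H).Normal := Subgroup.normal_subgroupOf_of_le_normalizer hn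
  have hle : K.subgroupOf H ≤ Cfsg.oddCore H := Cores.le_oddCore (by
    rw [Nat.card_congr (Subgroup.subgroupOfEquivOfLe hKH).toEquiv]
    exact hodd)
  intro x hx
  exact ⟨⟨x, hKH hx⟩, hle (show (⟨x, hKH hx⟩ : H) ∈ K.subgroupOf H from hx), rfl⟩

theorem odd_of_rgroup {r : ℕ} [hr : Fact r.Prime] (hr2 : r ≠ 2) {P : Subgroup G} (hP : IsPGroup r P) :
    Odd (Nat.card P) := by
  obtain ⟨k, hk⟩ := IsPGroup.iff_card.1 hP
  rw [hk]
  exact (hr.out.odd_of_ne_two hr2).pow

/-- An `r`-subgroup of `K` has order at most the `r`-part of `|K|`. -/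
theorem card_le_part {r : ℕ} [Fact r.Prime] {P K : Subgroup G} (hP : IsPGroup r P) (hPK : P ≤ K) :
    Nat.card P ≤ r ^ (Nat.card K).factorization r := by
  obtain ⟨Q, hQ⟩ := (hP.of_equiv (Subgroup.subgroupOfEquivOfLe hPK).symm).exists_le_sylow
  rw [← Q.card_eq_multiplicity, ← Nat.card_congr (Subgroup.subgroupOfEquivOfLe hPK).toEquiv]
  exact Subgroup.card_le_of_le hQ

/-- Growth of normalisers in a nilpotent group. -/
theorem eq_of_normalizer_inf_le {r : ℕ} [Fact r.Prime] {X Y : Subgroup G} (hY : IsPGroup r Y)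
    (hXY : X ≤ Y) (h : Y ⊓ Subgroup.normalizer (X : Set G) ≤ X) : Y = X := by
  by_contra hne
  haveI := hY.isNilpotent
  have hlt : X.subgroupOf Y < ⊤ := lt_top_iff_ne_top.2 fun e =>
    hne (le_antisymm (Subgroup.subgroupOf_eq_top.1 e) hXY)
  obtain ⟨z, hz, hzX⟩ := SetLike.exists_of_lt (Group.normalizerCondition_of_isNilpotent (G := Y) _ hlt)
  rw [← Subgroup.subgroupOf_normalizer_eq hXY] at hz
  exact hzX (h ⟨z.2, hz⟩)

/-- A four-group fused in `H ≥ S` has a conjugate in `S` fused in `H`. -/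
theorem exists_fused_le {H V : Subgroup G} (S : Sylow 2 G) (hSH : (S : Subgroup G) ≤ H)
    (hV : FusedIn V H) : ∃ W : Subgroup G, W ≤ (S : Subgroup G) ∧ FusedIn W H := by
  haveI : Fact (Nat.Prime 2) := ⟨Nat.prime_two⟩
  obtain ⟨T, hT⟩ := ((hV.1.isPGroup).comap_subtype (K := H)).exists_le_sylow
  obtain ⟨k, hk⟩ := MulAction.exists_smul_eq H T (S.subtype hSH)
  set W := V.map (MulAut.conj (k : G)).toMonoidHom with hW
  have hWS : W ≤ (S : Subgroup G) := by
    rintro _ ⟨w, hw, rfl⟩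
    have h1 : k * ⟨w, hV.2.1 hw⟩ * k⁻¹ ∈ ((S.subtype hSH : Sylow 2 H) : Subgroup H) := by
      rw [← hk]
      exact Subgroup.smul_mem_pointwise_smul _ (MulAut.conj k) (T : Subgroup H)
        (hT (show (w : G) ∈ V from hw))
    exact h1
  refine ⟨W, hWS, hV.1.map _, hWS.trans hSH, ?_⟩
  rintro _ ⟨v, hv, rfl⟩ hv1 _ ⟨w, hw, rfl⟩ hw1
  obtain ⟨g, hgH, hgN, hgv⟩ := hV.2.2 v hv (fun h => hv1 (by rw [h, map_one])) w hw
    (fun h => hw1 (by rw [h, map_one]))
  refine ⟨(k : G) * g * (k : G)⁻¹, mul_mem (mul_mem k.2 hgH) (inv_mem k.2), ?_, ?_⟩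
  · rw [hW, ← MulAut.conj_apply]
    exact Subgroup.le_normalizer_map _ ⟨g, hgN, rfl⟩
  · rw [← hgv]
    simp only [MulEquiv.coe_toMonoidHom, MulAut.conj_apply]
    group

/-- With a normal 2-complement, `H = O(H) S`. -/
theorem exists_decomp (hG : Hyp G) {H : Subgroup G} (S : Sylow 2 G) (hSH : (S : Subgroup G) ≤ H)
    (hno : ∀ V : Subgroup G, ¬ FusedIn V H) {m : G} (hm : m ∈ H) :
    ∃ s ∈ (S : Subgroup G), ∃ o ∈ oddIn H, m = s * o := by
  haveI : Fact (Nat.Prime 2) := ⟨Nat.prime_two⟩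
  refine Coprime.exists_mul_of_mem_sup (hSH.trans (le_normalizer_oddIn H)) ?_
  refine (Coprime.le_of_forall_sylow (K := H) fun p hp => ?_) hm
  haveI := Fact.mk hp
  by_cases hp2 : p = 2
  · subst hp2
    refine ⟨S.subtype hSH, fun x hx => ?_⟩
    obtain ⟨y, hy, rfl⟩ := hx
    exact Subgroup.mem_sup_left (show (y : G) ∈ (S : Subgroup G) from hy)
  · obtain ⟨Q⟩ : Nonempty (Sylow p H) := inferInstance
    refine ⟨Q, fun x hx => ?_⟩
    obtain ⟨y, hy, rfl⟩ := hx
    refine Subgroup.mem_sup_right (propUnfused G hG H hno (y : G) y.2 ?_)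
    obtain ⟨j, hj⟩ := Q.2 ⟨y, hy⟩
    have h1 : y ^ p ^ j = 1 := congrArg Subtype.val hj
    rw [Subgroup.orderOf_coe]
    exact ((hp.odd_of_ne_two hp2).pow).of_dvd_nat (orderOf_dvd_of_pow_eq_one h1)

/-! ### The set up -/

variable (hG : Hyp G) (S : Sylow 2 G) {t : G} (ht : orderOf t = 2)
  (htS : t ∈ (S : Subgroup G)) (htZ : ∀ s ∈ (S : Subgroup G), s * t = t * s)

include hG S ht htS htZ

theorem le_centralizer_t : (S : Subgroup G) ≤ Subgroup.centralizer ({t} : Set G) :=
  fun s hs => Subgroup.mem_centralizer_singleton_iff.2 (htZ s hs)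

theorem sylow_le_normalizer_coreC : (S : Subgroup G) ≤ Subgroup.normalizer (coreC t : Set G) :=
  (le_centralizer_t hG S ht htS htZ).trans (centralizer_le_normalizer_coreC t)

theorem coprime_sylow {K : Subgroup G} (hK : Odd (Nat.card K)) :
    (Nat.card (S : Subgroup G)).Coprime (Nat.card K) := by
  obtain ⟨k, hk⟩ := IsPGroup.iff_card.1 S.2
  rw [hk]
  exact (Nat.coprime_two_left.2 hK).pow_left k

theorem mem_four {V : Subgroup G} (hV : IsFour V) (hVS : V ≤ (S : Subgroup G)) : t ∈ V :=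
  hG.cd.mem_four_of_central hV hVS (by rw [← sq, ← ht, pow_orderOf_eq_one]) htZ

omit htS in
theorem t_ne_one : t ≠ 1 := fun e => by rw [e, orderOf_one] at ht; omega

theorem exists_four_le : ∃ V : Subgroup G, IsFour V ∧ V ≤ (S : Subgroup G) := by
  obtain ⟨V, hV, -⟩ := hG.exists_four ht
  obtain ⟨T, hT⟩ := hV.isPGroup.exists_le_sylow
  obtain ⟨g, hg⟩ := MulAction.exists_smul_eq G T S
  refine ⟨V.map (MulAut.conj g).toMonoidHom, hV.map _, ?_⟩
  rintro _ ⟨v, hv, rfl⟩
  rw [← hg]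
  exact Subgroup.smul_mem_pointwise_smul _ (MulAut.conj g) (T : Subgroup G) (hT hv)

/-- An element centralising a four-group of `S` which lies in `S` is in the four-group. -/
theorem mem_of_centralizes {V : Subgroup G} (hV : IsFour V) (hVS : V ≤ (S : Subgroup G)) {s : G}
    (hs : s ∈ (S : Subgroup G)) (hc : s ∈ Subgroup.centralizer (V : Set G)) : s ∈ V :=
  hG.cd.mem_four hV (C := (S : Subgroup G) ⊓ Subgroup.centralizer (V : Set G))
    (S.2.to_le inf_le_left) (le_inf hVS hV.le_centralizer_self) inf_le_right ⟨hs, hc⟩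

/-- `t` is the only central involution of `S`. -/
theorem eq_t_of_central (h8 : 8 ≤ Nat.card (S : Subgroup G)) {z : G} (hz : z ∈ (S : Subgroup G))
    (hz2 : orderOf z = 2) (hzc : ∀ s ∈ (S : Subgroup G), s * z = z * s) : z = t := by
  by_contra hne
  obtain ⟨V, hV, hVS⟩ := exists_four_le hG S ht htS htZ
  have htV := mem_four hG S ht htS htZ hV hVS
  have hzV : z ∈ V :=
    hG.cd.mem_four_of_central hV hVS (by rw [← sq, ← hz2, pow_orderOf_eq_one]) hzc
  have hz1 : z ≠ 1 := fun e => by rw [e, orderOf_one] at hz2; omega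
  have hle : (S : Subgroup G) ≤ V := fun s hs => mem_of_centralizes hG S ht htS htZ hV hVS hs (by
    rw [← hV.centralizer_pair hzV htV hz1 (t_ne_one hG S ht htZ) hne, Subgroup.mem_centralizer_iff]
    rintro y (rfl | rfl)
    exacts [(hzc s hs).symm, (htZ s hs).symm])
  have h1 := Subgroup.card_le_of_le hle
  rw [hV.1] at h1
  omega

/-- The normaliser of `S` centralises `t`. -/
theorem normalizer_le_centralizer_t (h8 : 8 ≤ Nat.card (S : Subgroup G)) {g : G}
    (hg : g ∈ Subgroup.normalizer ((S : Subgroup G) : Set G)) :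
    g ∈ Subgroup.centralizer ({t} : Set G) := by
  have hz : g * t * g⁻¹ = t := by
    refine eq_t_of_central hG S ht htS htZ h8 ((Subgroup.mem_normalizer_iff.1 hg t).1 htS) ?_ ?_
    · rw [← MulAut.conj_apply]
      exact (MulEquiv.orderOf_eq (MulAut.conj g) t).trans ht
    · intro s hs
      have h1 := htZ _ ((Subgroup.mem_normalizer_iff''.1 hg s).1 hs)
      calc s * (g * t * g⁻¹) = g * (g⁻¹ * s * g * t) * g⁻¹ := by group
        _ = g * t * g⁻¹ * s := by rw [h1]; group
  exact Subgroup.mem_centralizer_singleton_iff.2 (mul_inv_eq_iff_eq_mul.1 hz)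

/-- Some element of `S` moves the involutions other than `t` of a four-group of `S`. -/
theorem exists_mover (h8 : 8 ≤ Nat.card (S : Subgroup G)) {V : Subgroup G} (hV : IsFour V)
    (hVS : V ≤ (S : Subgroup G)) :
    ∃ s ∈ (S : Subgroup G), s ∈ Subgroup.normalizer (V : Set G) ∧
      ∀ v ∈ V, v ≠ 1 → v ≠ t → s * v * s⁻¹ ≠ v := by
  haveI : Fact (Nat.Prime 2) := ⟨Nat.prime_two⟩
  obtain ⟨s, ⟨hs, hsn⟩, hsV⟩ : ∃ s ∈ (S : Subgroup G) ⊓ Subgroup.normalizer (V : Set G), s ∉ V := by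
    by_contra hno
    push Not at hno
    have h1 := eq_of_normalizer_inf_le S.2 hVS hno
    rw [h1, hV.1] at h8
    omega
  refine ⟨s, hs, hsn, fun v hv hv1 hvt he => hsV (mem_of_centralizes hG S ht htS htZ hV hVS hs ?_)⟩
  rw [← hV.centralizer_pair hv (mem_four hG S ht htS htZ hV hVS) hv1 (t_ne_one hG S ht htZ) hvt,
    Subgroup.mem_centralizer_iff]
  rintro y (rfl | rfl)
  exacts [(mul_inv_eq_iff_eq_mul.1 he).symm, (htZ s hs).symm]

variable {r : ℕ} [Fact r.Prime] (hr2 : r ≠ 2)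

include hr2

/-- If a four-group of `S` centralises an invariant Sylow `r`-subgroup of `O(C(t))`, it centralises
every invariant `r`-subgroup. -/
theorem centralizes_all {V R : Subgroup G} (hV : IsFour V) (hVS : V ≤ (S : Subgroup G))
    (hRle : R ≤ coreC t) (hRcard : Nat.card R = r ^ (Nat.card (coreC t)).factorization r)
    (hRV : R ≤ Subgroup.centralizer (V : Set G)) {Q : Subgroup G} (hQ : IsPGroup r Q)
    (hVQ : V ≤ Subgroup.normalizer (Q : Set G)) : Q ≤ Subgroup.centralizer (V : Set G) := by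
  haveI : Fact (Nat.Prime 2) := ⟨Nat.prime_two⟩
  have htV := mem_four hG S ht htS htZ hV hVS
  have ht1 := t_ne_one hG S ht htZ
  refine le_of_four hV (odd_of_rgroup hr2 hQ) hVQ fun v hv hv1 => ?_
  obtain ⟨g, -, hgN, hgt⟩ := (hG.fusedIn_top hV).2.2 t htV ht1 v hv hv1
  set Q' := (Q ⊓ Subgroup.centralizer {v}).map (MulAut.conj g⁻¹).toMonoidHom with hQ'
  have hQ'p : IsPGroup r Q' := (hQ.to_le inf_le_left).map _
  have hQ'C : Q' ≤ coreC t := by
    refine hG.le_coreC ht ?_ (odd_of_rgroup hr2 hQ'p)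
    rintro _ ⟨q, hq, rfl⟩
    rw [MulEquiv.coe_toMonoidHom, MulAut.conj_apply, inv_inv, Subgroup.mem_centralizer_singleton_iff]
    have h1 := Subgroup.mem_centralizer_singleton_iff.1 hq.2
    rw [← hgt] at h1
    calc g⁻¹ * q * g * t = g⁻¹ * (q * (g * t * g⁻¹)) * g := by group
      _ = t * (g⁻¹ * q * g) := by rw [h1]; group
  have hVQ' : V ≤ Subgroup.normalizer (Q' : Set G) := by
    rw [Subgroup.le_normalizer_iff]
    rintro w hw _ ⟨q, hq, rfl⟩
    have hw' : g * w * g⁻¹ ∈ V := (Subgroup.mem_normalizer_iff.1 hgN w).1 hw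
    refine ⟨g * w * g⁻¹ * q * (g * w * g⁻¹)⁻¹,
      Subgroup.mem_inf.2 ⟨Subgroup.le_normalizer_iff.1 hVQ _ hw' q hq.1, ?_⟩, ?_⟩
    · rw [Subgroup.mem_centralizer_singleton_iff]
      have h1 : g * w * g⁻¹ * v = v * (g * w * g⁻¹) := hV.comm hw' hv
      have h2 : q * v = v * q := Subgroup.mem_centralizer_singleton_iff.1 hq.2
      exact (((show Commute (g * w * g⁻¹) v from h1).mul_left (show Commute q v from h2)).mul_left
        (show Commute (g * w * g⁻¹) v from h1).inv_left).eq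
    · simp only [MulEquiv.coe_toMonoidHom, MulAut.conj_apply]
      group
  obtain ⟨P1, hQP, hP1⟩ := Coprime.exists_invariant_sylow_ge
    ((hVS.trans (le_centralizer_t hG S ht htS htZ)).trans (centralizer_le_normalizer_coreC t))
    (by rw [hV.1]; exact (Nat.coprime_two_left.2 (coreC_odd t)).pow_left 2)
    (Or.inr (isSolvable_coreC t)) r Q' hQ'C hQ'p hVQ'
  obtain ⟨P0, hP0⟩ := Coprime.exists_sylow_of_card hRle hRcard
  have hP0n : V ≤ Subgroup.normalizer
      (((P0 : Subgroup ↥(coreC t)).map (coreC t).subtype : Subgroup G) : Set G) := by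
    rw [hP0]
    intro w hw
    refine Subgroup.mem_normalizer_fintype fun x hx => ?_
    rw [Subgroup.mem_centralizer_iff.1 (hRV hx) w hw, mul_inv_cancel_right]
    exact hx
  obtain ⟨c, hc, hcP⟩ := Coprime.exists_conj_invariant_sylow
    ((hVS.trans (le_centralizer_t hG S ht htS htZ)).trans (centralizer_le_normalizer_coreC t))
    (by rw [hV.1]; exact (Nat.coprime_two_left.2 (coreC_odd t)).pow_left 2)
    (Or.inr (isSolvable_coreC t)) P0 P1 hP0n hP1
  intro q hq
  have h1 : g⁻¹ * q * g ∈ Subgroup.centralizer (V : Set G) := by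
    have h2 : g⁻¹ * q * g ∈ Q' := ⟨q, hq, by simp⟩
    have h3 := hQP h2
    rw [← hcP, Coprime.mem_conj_smul, hP0] at h3
    have h4 := mul_mem (mul_mem (Subgroup.mem_inf.1 hc).2 (hRV h3)) (inv_mem (Subgroup.mem_inf.1 hc).2)
    simpa [mul_assoc] using h4
  rw [Subgroup.mem_centralizer_iff]
  intro w hw
  have hw' : g⁻¹ * w * g ∈ V := (Subgroup.mem_normalizer_iff''.1 hgN w).1 hw
  have h2 := Subgroup.mem_centralizer_iff.1 h1 _ hw'
  calc w * q = g * (g⁻¹ * w * g * (g⁻¹ * q * g)) * g⁻¹ := by group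
    _ = q * w := by rw [h2]; group

/-- A maximal invariant `r`-subgroup is centralised by a four-group of `S` or is a Sylow subgroup. -/
theorem maximal_cases (hF : FusedCentral G r) {P : Subgroup G} (hP : IsPGroup r P) (hP1 : P ≠ ⊥)
    (hSP : (S : Subgroup G) ≤ Subgroup.normalizer (P : Set G))
    (hmax : ∀ P' : Subgroup G, IsPGroup r P' → (S : Subgroup G) ≤ Subgroup.normalizer (P' : Set G) →
      P ≤ P' → P' = P) :
    (∃ W : Subgroup G, IsFour W ∧ W ≤ (S : Subgroup G) ∧ P ≤ Subgroup.centralizer (W : Set G)) ∨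
      ∃ Q : Sylow r G, (Q : Subgroup G) = P := by
  haveI : Fact (Nat.Prime 2) := ⟨Nat.prime_two⟩
  set N := Subgroup.normalizer (P : Set G) with hN
  have hPodd := odd_of_rgroup hr2 hP
  have hNtop : N ≠ ⊤ := hG.normalizer_ne_top hP1 (hG.ne_top_of_odd hPodd)
  have hPO : P ≤ oddIn N := le_oddIn Subgroup.le_normalizer le_rfl hPodd
  by_cases hfus : ∃ V : Subgroup G, FusedIn V N
  · obtain ⟨V, hV⟩ := hfus
    obtain ⟨W, hWS, hW⟩ := exists_fused_le S hSP hV
    exact Or.inl ⟨W, hW.1, hWS, hF N hNtop W hW P hPO hP (hWS.trans hSP)⟩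
  push Not at hfus
  right
  have hOodd := oddIn_odd N
  obtain ⟨P', hPP', hP'⟩ := Coprime.exists_invariant_sylow_ge (hSP.trans (le_normalizer_oddIn N))
    (coprime_sylow hG S ht htS htZ hOodd) (Or.inr (Cfsg.Agent.S0205.result hOodd)) r P hPO hP hSP
  have heq := hmax _ (P'.2.map _) hP' hPP'
  have hcard : Nat.card P = r ^ (Nat.card (oddIn N)).factorization r := by
    rw [← heq, Coprime.card_sylow_map]
  obtain ⟨Q, hQ⟩ := hP.exists_le_sylow
  refine ⟨Q, eq_of_normalizer_inf_le Q.2 hQ ?_⟩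
  have hle : (Q : Subgroup G) ⊓ N ≤ oddIn N := fun x hx => propUnfused G hG N hfus x hx.2
    (orderOf_odd_of_mem (odd_of_rgroup hr2 Q.2) hx.1)
  exact (Subgroup.eq_of_le_of_card_ge (le_inf hQ Subgroup.le_normalizer)
    ((card_le_part (Q.2.to_le inf_le_left) hle).trans hcard.ge)).ge

/-- A maximal invariant `r`-subgroup over a given one. -/
theorem exists_maximal {K : Subgroup G} (hK : IsPGroup r K)
    (hSK : (S : Subgroup G) ≤ Subgroup.normalizer (K : Set G)) :
    ∃ P : Subgroup G, K ≤ P ∧ IsPGroup r P ∧ (S : Subgroup G) ≤ Subgroup.normalizer (P : Set G) ∧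
      ∀ P' : Subgroup G, IsPGroup r P' → (S : Subgroup G) ≤ Subgroup.normalizer (P' : Set G) →
        P ≤ P' → P' = P := by
  obtain ⟨P, hKP, hP⟩ := Finite.exists_le_maximal
    (p := fun P : Subgroup G => IsPGroup r P ∧ (S : Subgroup G) ≤ Subgroup.normalizer (P : Set G))
    ⟨hK, hSK⟩
  exact ⟨P, hKP, hP.1.1, hP.1.2, fun P' h1 h2 h3 => le_antisymm (hP.2 ⟨h1, h2⟩ h3) h3⟩

/-- For an invariant Sylow subgroup `R` of `O(C(t))` the fixed points of a four-group of `S` form a
Sylow subgroup of the core of its centraliser. -/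
theorem card_le_fixed {V R : Subgroup G} (hV : IsFour V) (hVS : V ≤ (S : Subgroup G))
    (hRle : R ≤ coreC t) (hSR : (S : Subgroup G) ≤ Subgroup.normalizer (R : Set G))
    (hRcard : Nat.card R = r ^ (Nat.card (coreC t)).factorization r) {Y : Subgroup G}
    (hY : IsPGroup r Y) (hYV : Y ≤ coreV V) :
    Nat.card Y ≤ Nat.card ↥(R ⊓ Subgroup.centralizer (V : Set G)) := by
  haveI : Fact (Nat.Prime 2) := ⟨Nat.prime_two⟩
  have hYt : Y ≤ coreC t := hYV.trans (by
    rw [hG.coreV_eq hV (mem_four hG S ht htS htZ hV hVS) (t_ne_one hG S ht htZ)]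
    exact inf_le_left)
  have hVY : V ≤ Subgroup.normalizer (Y : Set G) := fun w hw =>
    Subgroup.mem_normalizer_fintype fun x hx => by
      rw [Subgroup.mem_centralizer_iff.1 (coreV_le V (hYV hx)) w hw, mul_inv_cancel_right]
      exact hx
  have hn := (hVS.trans (le_centralizer_t hG S ht htS htZ)).trans (centralizer_le_normalizer_coreC t)
  have hcop : (Nat.card V).Coprime (Nat.card (coreC t)) := by
    rw [hV.1]; exact (Nat.coprime_two_left.2 (coreC_odd t)).pow_left 2
  obtain ⟨P1, hYP, hP1⟩ := Coprime.exists_invariant_sylow_ge hn hcop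
    (Or.inr (isSolvable_coreC t)) r Y hYt hY hVY
  obtain ⟨P0, hP0⟩ := Coprime.exists_sylow_of_card hRle hRcard
  obtain ⟨c, hc, hcP⟩ := Coprime.exists_conj_invariant_sylow hn hcop (Or.inr (isSolvable_coreC t))
    P0 P1 (by rw [hP0]; exact hVS.trans hSR) hP1
  refine (Subgroup.card_le_of_le (K := MulAut.conj c • (R ⊓ Subgroup.centralizer (V : Set G)))
    fun y hy => ?_).trans (Coprime.card_conj_smul c _).le
  rw [Coprime.mem_conj_smul]
  have h1 := hYP hy
  rw [← hcP, Coprime.mem_conj_smul, hP0] at h1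
  exact Subgroup.mem_inf.2 ⟨h1, mul_mem (mul_mem (inv_mem (Subgroup.mem_inf.1 hc).2) (coreV_le V (hYV hy)))
    (Subgroup.mem_inf.1 hc).2⟩

/-- A non-trivial `C_R(V)` forces the Sylow subgroup into `C(t)`. -/
theorem le_centralizer_of_fixed (hFO : PropFourOdd.{u}) (hF : FusedCentral G r)
    {V R P : Subgroup G} (hV : IsFour V)
    (hVS : V ≤ (S : Subgroup G)) (hRle : R ≤ coreC t)
    (hSR : (S : Subgroup G) ≤ Subgroup.normalizer (R : Set G))
    (hRcard : Nat.card R = r ^ (Nat.card (coreC t)).factorization r)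
    (hP : IsPGroup r P) (hSP : (S : Subgroup G) ≤ Subgroup.normalizer (P : Set G))
    (hPt : P ⊓ Subgroup.centralizer ({t} : Set G) = R)
    (hX : R ⊓ Subgroup.centralizer (V : Set G) ≠ ⊥) (hRV : ¬ R ≤ Subgroup.centralizer (V : Set G)) :
    P ≤ Subgroup.centralizer ({t} : Set G) := by
  haveI : Fact (Nat.Prime 2) := ⟨Nat.prime_two⟩
  have htV := mem_four hG S ht htS htZ hV hVS
  have ht1 := t_ne_one hG S ht htZ
  have hRP : R ≤ P := hPt.ge.trans inf_le_left
  set X := R ⊓ Subgroup.centralizer (V : Set G) with hXdef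
  have hXp : IsPGroup r X := hP.to_le (inf_le_left.trans hRP)
  set N := Subgroup.normalizer (X : Set G) with hN
  have hNtop : N ≠ ⊤ := hG.normalizer_ne_top hX (hG.ne_top_of_odd (odd_of_rgroup hr2 hXp))
  have hVN : V ≤ N := fun w hw => Subgroup.mem_normalizer_fintype fun x hx => by
    rw [Subgroup.mem_centralizer_iff.1 hx.2 w hw, mul_inv_cancel_right]
    exact hx
  -- `V` is fused in `N`
  have hXV : X ≤ coreV V := hG.le_coreV hV inf_le_right (odd_of_rgroup hr2 hXp)
  have hXcard : Nat.card X = r ^ (Nat.card (coreV V)).factorization r := by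
    refine le_antisymm (card_le_part hXp hXV) ?_
    obtain ⟨Y⟩ : Nonempty (Sylow r ↥(coreV V)) := inferInstance
    rw [← Coprime.card_sylow_map Y]
    exact card_le_fixed hG S ht htS htZ hr2 hV hVS hRle hSR hRcard (Y.2.map _)
      (Subgroup.map_subtype_le _)
  have hfus : FusedIn V N := by
    refine ⟨hV, hVN, fun v hv hv1 w hw hw1 => ?_⟩
    obtain ⟨g, -, hgN, hgv⟩ := (hG.fusedIn_top hV).2.2 v hv hv1 w hw hw1
    have hgX : MulAut.conj g • X ≤ coreV V := by
      intro x hx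
      rw [Coprime.mem_conj_smul] at hx
      refine hG.mem_coreV hV ?_ ?_
      · rw [Subgroup.mem_centralizer_iff]
        intro z hz
        have h1 := Subgroup.mem_centralizer_iff.1 hx.2 _ ((Subgroup.mem_normalizer_iff''.1 hgN z).1 hz)
        calc z * x = g * (g⁻¹ * z * g * (g⁻¹ * x * g)) * g⁻¹ := by group
          _ = x * z := by rw [h1]; group
      · have h2 : x = MulAut.conj g (g⁻¹ * x * g) := by
          rw [MulAut.conj_apply]; group
        rw [h2, MulEquiv.orderOf_eq]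
        exact orderOf_odd_of_mem (odd_of_rgroup hr2 hXp) hx
    obtain ⟨P1, hP1⟩ := Coprime.exists_sylow_of_card hgX (by rw [Coprime.card_conj_smul]; exact hXcard)
    obtain ⟨P2, hP2⟩ := Coprime.exists_sylow_of_card hXV hXcard
    obtain ⟨d, hd, hdP⟩ := Coprime.exists_conj_sylow_map P1 P2
    rw [hP1, hP2, ← Coprime.conj_smul_mul] at hdP
    have hdV : ∀ z ∈ V, d * z = z * d := fun z hz =>
      (Subgroup.mem_centralizer_iff.1 (coreV_le V hd) z hz).symm
    refine ⟨d * g, Coprime.mem_normalizer_of_conj_smul_eq hdP,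
      mul_mem (Subgroup.centralizer_le_normalizer _ (coreV_le V hd)) hgN, ?_⟩
    calc d * g * v * (d * g)⁻¹ = d * (g * v * g⁻¹) * d⁻¹ := by group
      _ = w := by rw [hgv, hdV w hw, mul_inv_cancel_right]
  -- an involution of `V` centralises `P ∩ N`
  set K := P ⊓ N with hK
  have hKp : IsPGroup r K := hP.to_le inf_le_left
  have hVK : V ≤ Subgroup.normalizer (K : Set G) :=
    Coprime.le_normalizer_inf (hVS.trans hSP) (hVN.trans Subgroup.le_normalizer)
  obtain ⟨v, hv, hv1, hvK⟩ := hFO G hG N hNtop V K hV hVN inf_le_right (odd_of_rgroup hr2 hKp) hVK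
  have hvK' : ∀ k ∈ K, k * v = v * k := by
    intro k hk
    have hvv : v * v = 1 := hV.2 v hv
    have hvi : v⁻¹ = v := inv_eq_of_mul_eq_one_right hvv
    set c := k * v * k⁻¹ * v⁻¹ with hc
    have hcP : c ∈ P := by
      have h1 := mul_mem hk.1 ((Subgroup.mem_normalizer_iff.1 (hSP (hVS hv)) k⁻¹).1 (inv_mem hk.1))
      rw [hc, show k * v * k⁻¹ * v⁻¹ = k * (v * k⁻¹ * v⁻¹) by group]
      exact h1
    have hQV : V ≤ Subgroup.normalizer ((P ⊓ oddIn N : Subgroup G) : Set G) :=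
      Coprime.le_normalizer_inf (hVS.trans hSP) (hVN.trans (le_normalizer_oddIn N))
    have hcomm : v * c = c * v := Subgroup.mem_centralizer_iff.1
      (hF N hNtop V hfus (P ⊓ oddIn N) inf_le_right (hP.to_le inf_le_left) hQV ⟨hcP, hvK k hk⟩) v hv
    have h2 : v * c * v = c⁻¹ := by
      rw [hc, hvi, _root_.mul_inv_rev, _root_.mul_inv_rev, _root_.mul_inv_rev, inv_inv, hvi]
      calc v * (k * v * k⁻¹ * v) * v = v * k * v * k⁻¹ * (v * v) := by group
        _ = _ := by rw [hvv, mul_one]; group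
    rw [hcomm, mul_assoc, hvv, mul_one] at h2
    have hc1 : c = 1 := orderOf_eq_one_iff.1 (Nat.eq_one_of_dvd_coprimes
      (Nat.coprime_two_right.2 (orderOf_odd_of_mem (odd_of_rgroup hr2 hP) hcP)) dvd_rfl
      (orderOf_dvd_of_pow_eq_one (by rw [sq]; nth_rewrite 1 [h2]; exact inv_mul_cancel c)))
    rw [hc, hvi] at hc1
    calc k * v = k * v * k⁻¹ * v * (v⁻¹ * k) := by group
      _ = v * k := by rw [hc1, one_mul, hvi]
  -- this involution is `t`, as otherwise `R ∩ N = X`
  have hKt : ∀ k ∈ K, k * t = t * k := by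
    by_cases hvt : v = t
    · rwa [hvt] at hvK'
    refine absurd ?_ hRV
    rw [eq_of_normalizer_inf_le (hP.to_le hRP) (inf_le_left : X ≤ R) fun y hy => ?_]
    · exact inf_le_right
    refine Subgroup.mem_inf.2 ⟨hy.1, ?_⟩
    rw [← hV.centralizer_pair hv htV hv1 ht1 hvt, Subgroup.mem_centralizer_iff]
    rintro z (h | h) <;> subst z
    exacts [(hvK' y ⟨hRP hy.1, hy.2⟩).symm,
      (Subgroup.mem_centralizer_singleton_iff.1 (coreC_le t (hRle hy.1))).symm]
  refine le_of_four hV (odd_of_rgroup hr2 hP) (hVS.trans hSP) fun w hw hw1 => ?_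
  by_cases hwt : w = t
  · rw [hwt]; exact inf_le_right
  have hXY : X ≤ P ⊓ Subgroup.centralizer {w} :=
    le_inf (inf_le_left.trans hRP) (inf_le_right.trans (IsFour.centralizer_le hw))
  rw [eq_of_normalizer_inf_le (hP.to_le inf_le_left) hXY ?_]
  · exact inf_le_right.trans (IsFour.centralizer_le htV)
  intro y hy
  have hyt : y * t = t * y := hKt y ⟨hy.1.1, hy.2⟩
  refine Subgroup.mem_inf.2 ⟨hPt.le ⟨hy.1.1, Subgroup.mem_centralizer_singleton_iff.2 hyt⟩, ?_⟩
  rw [← hV.centralizer_pair hw htV hw1 ht1 hwt, Subgroup.mem_centralizer_iff]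
  rintro z (rfl | rfl)
  exacts [(Subgroup.mem_centralizer_singleton_iff.1 hy.1.2).symm, hyt.symm]

/-- If all `C_R(V)` are trivial the Sylow subgroup lies in `C(t)`. -/
theorem le_centralizer_of_free (hF : FusedCentral G r) {R : Subgroup G} (P : Sylow r G)
    (hRle : R ≤ coreC t) (hSR : (S : Subgroup G) ≤ Subgroup.normalizer (R : Set G))
    (hRcard : Nat.card R = r ^ (Nat.card (coreC t)).factorization r)
    (hSP : (S : Subgroup G) ≤ Subgroup.normalizer ((P : Subgroup G) : Set G))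
    (hPt : (P : Subgroup G) ⊓ Subgroup.centralizer ({t} : Set G) = R)
    (hfree : ∀ V : Subgroup G, IsFour V → V ≤ (S : Subgroup G) →
      R ⊓ Subgroup.centralizer (V : Set G) = ⊥) :
    (P : Subgroup G) ≤ Subgroup.centralizer ({t} : Set G) := by
  haveI : Fact (Nat.Prime 2) := ⟨Nat.prime_two⟩
  by_contra hPC
  have ht1 := t_ne_one hG S ht htZ
  have htt : t * t = 1 := by rw [← sq, ← ht, pow_orderOf_eq_one]
  have hRP : R ≤ (P : Subgroup G) := hPt.ge.trans inf_le_left
  have hP1 : (P : Subgroup G) ≠ ⊥ := fun e => hPC (e ▸ bot_le)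
  have hrodd : Odd (Nat.card (P : Subgroup G)) := odd_of_rgroup hr2 P.2
  set Z := Cfsg.centerThompsonOf r (P : Subgroup G) with hZ
  have hZP : Z ≤ (P : Subgroup G) := PGroups.centerThompsonOf_le r _
  have hZ1 : Z ≠ ⊥ := by
    haveI : Nontrivial (P : Subgroup G) := (Subgroup.nontrivial_iff_ne_bot _).2 hP1
    haveI := P.2.center_nontrivial
    obtain ⟨k, hk⟩ := IsPGroup.iff_card.1 (P.2.to_subgroup (Subgroup.center (P : Subgroup G)))
    have hk0 : k ≠ 0 := fun e => by
      rw [e, pow_zero] at hk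
      exact absurd hk (ne_of_gt (Finite.one_lt_card_iff_nontrivial.2 inferInstance))
    obtain ⟨z, hz⟩ := exists_prime_orderOf_dvd_card' (G := Subgroup.center (P : Subgroup G)) r
      (hk ▸ dvd_pow_self r hk0)
    have hzo : orderOf (((z : (P : Subgroup G)) : G)) = r := by
      rw [Subgroup.orderOf_coe, Subgroup.orderOf_coe, hz]
    intro e
    have hm : ((z : (P : Subgroup G)) : G) ∈ Z := PGroups.mem_centerThompsonOf_of_center
      (z : (P : Subgroup G)).2
      (fun y hy => (congrArg Subtype.val (Subgroup.mem_center_iff.1 z.2 ⟨y, hy⟩)).symm)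
      (by have h := pow_orderOf_eq_one ((z : (P : Subgroup G)) : G); rwa [hzo] at h)
    rw [e, Subgroup.mem_bot] at hm
    rw [hm, orderOf_one] at hzo
    exact (Fact.out : r.Prime).ne_one hzo.symm
  have hZodd : Odd (Nat.card Z) := hrodd.of_dvd_nat (Subgroup.card_dvd_of_le hZP)
  set M := Subgroup.normalizer (Z : Set G) with hM
  have hMtop : M ≠ ⊤ := hG.normalizer_ne_top hZ1 (hG.ne_top_of_odd hZodd)
  have hSM : (S : Subgroup G) ≤ M :=
    hSP.trans (PGroups.normalizer_le_normalizer_centerThompson (p := r) _)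
  have hno : ∀ V : Subgroup G, ¬ FusedIn V M := by
    intro V hV
    obtain ⟨W, hWS, hW⟩ := exists_fused_le S hSM hV
    have hZW := hF M hMtop W hW Z (le_oddIn Subgroup.le_normalizer le_rfl hZodd)
      (P.2.to_le hZP) (hWS.trans hSM)
    apply hZ1
    rw [eq_bot_iff, ← hfree W hW.1 hWS]
    refine le_inf ((le_inf hZP (hZW.trans ?_)).trans hPt.le) hZW
    exact IsFour.centralizer_le (mem_four hG S ht htS htZ hW.1 hWS)
  -- an element of `C_P(a)`
  obtain ⟨V, hV, hVS⟩ := exists_four_le hG S ht htS htZ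
  have htV := mem_four hG S ht htS htZ hV hVS
  obtain ⟨a, ha, ha1, hat, x, hx, hx1⟩ : ∃ a ∈ V, a ≠ 1 ∧ a ≠ t ∧
      ∃ x ∈ (P : Subgroup G) ⊓ Subgroup.centralizer {a}, x ≠ 1 := by
    by_contra hno'
    refine hPC (le_of_four hV hrodd (hVS.trans hSP) fun w hw hw1 => ?_)
    by_cases hwt : w = t
    · rw [hwt]; exact inf_le_right
    intro y hy
    by_cases hy1 : y = 1
    · rw [hy1]; exact one_mem _
    exact absurd ⟨w, hw, hw1, hwt, y, hy, hy1⟩ hno'
  -- move it into `R`
  have haa : orderOf a = 2 := hV.orderOf_eq ha ha1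
  obtain ⟨g, hg⟩ := isConj_iff.1 (hG.isConj haa ht)
  have hxodd : Odd (orderOf x) := orderOf_odd_of_mem hrodd hx.1
  have hgxt : g * x * g⁻¹ ∈ Subgroup.centralizer ({t} : Set G) := by
    rw [Subgroup.mem_centralizer_singleton_iff, ← hg]
    have h1 := Subgroup.mem_centralizer_singleton_iff.1 hx.2
    calc g * x * g⁻¹ * (g * a * g⁻¹) = g * (x * a) * g⁻¹ := by group
      _ = g * a * g⁻¹ * (g * x * g⁻¹) := by rw [h1]; group
  have hgxO : g * x * g⁻¹ ∈ coreC t := hG.mem_coreC ht hgxt (by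
    rw [← MulAut.conj_apply, MulEquiv.orderOf_eq]; exact hxodd)
  obtain ⟨P0, hP0⟩ := Coprime.exists_sylow_of_card hRle hRcard
  have hzp : IsPGroup r (Subgroup.zpowers (g * x * g⁻¹)) := by
    refine (((P.2.to_le (Subgroup.zpowers_le.2 hx.1)).map (MulAut.conj g).toMonoidHom)).to_le ?_
    rw [Subgroup.zpowers_le]
    exact ⟨x, Subgroup.mem_zpowers x, rfl⟩
  obtain ⟨Pz, hPz⟩ := (hzp.of_equiv (Subgroup.subgroupOfEquivOfLe
    (Subgroup.zpowers_le.2 hgxO)).symm).exists_le_sylow
  obtain ⟨c, hc, hcP⟩ := Coprime.exists_conj_sylow_map Pz P0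
  rw [hP0] at hcP
  obtain ⟨h, hht, hhR⟩ : ∃ h : G, h * a * h⁻¹ = t ∧ h * x * h⁻¹ ∈ R := by
    refine ⟨c * g, ?_, ?_⟩
    · have hct := Subgroup.mem_centralizer_singleton_iff.1 (coreC_le t hc)
      calc c * g * a * (c * g)⁻¹ = c * (g * a * g⁻¹) * c⁻¹ := by group
        _ = t := by rw [hg, hct, mul_inv_cancel_right]
    · rw [← hcP, Coprime.mem_conj_smul]
      refine ⟨⟨g * x * g⁻¹, hgxO⟩, hPz (Subgroup.mem_zpowers (g * x * g⁻¹)), ?_⟩
      show g * x * g⁻¹ = _
      group
  -- fusion is controlled by `M`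
  obtain ⟨m, hm, hme⟩ := ZJ.exists_conj_centerThompsonOf hr2 (hG.noSLTwo hr2) P
    (A := ({x} : Set G)) (g := h) (Set.singleton_subset_iff.2 hx.1)
    (by rintro _ ⟨y, hy, rfl⟩; rw [Set.mem_singleton_iff.1 hy]; exact hRP hhR)
  have hmx : m * x * m⁻¹ = h * x * h⁻¹ := hme x rfl
  set y := h * x * h⁻¹ with hy
  have hy1 : y ≠ 1 := fun e => hx1 (conj_eq_one_iff.1 e)
  have hyt : y * t = t * y := Subgroup.mem_centralizer_singleton_iff.1 (coreC_le t (hRle hhR))
  -- two involutions of `C_M(y)` in one Sylow subgroup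
  set C := M ⊓ Subgroup.centralizer ({y} : Set G) with hC
  have htC : t ∈ C := ⟨hSM htS, Subgroup.mem_centralizer_singleton_iff.2 hyt.symm⟩
  have haC : m * a * m⁻¹ ∈ C := by
    refine Subgroup.mem_inf.2 ⟨mul_mem (mul_mem hm (hSM (hVS ha))) (inv_mem hm),
      Subgroup.mem_centralizer_singleton_iff.2 ?_⟩
    rw [← hmx]
    have h1 := Subgroup.mem_centralizer_singleton_iff.1 hx.2
    calc m * a * m⁻¹ * (m * x * m⁻¹) = m * (a * x) * m⁻¹ := by group
      _ = m * x * m⁻¹ * (m * a * m⁻¹) := by rw [← h1]; group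
  have hp2 : ∀ z : C, z * z = 1 → IsPGroup 2 (Subgroup.zpowers z) := fun z hz => by
    obtain ⟨j, -, hj⟩ := (Nat.dvd_prime_pow Nat.prime_two).1
      (orderOf_dvd_of_pow_eq_one (show z ^ 2 ^ 1 = 1 by rw [pow_one, sq, hz]))
    exact IsPGroup.of_card (n := j) (by rw [Nat.card_zpowers, hj])
  obtain ⟨T, hT⟩ := (hp2 ⟨t, htC⟩ (Subtype.ext htt)).exists_le_sylow
  obtain ⟨T', hT'⟩ := (hp2 ⟨m * a * m⁻¹, haC⟩ (Subtype.ext (by
    show m * a * m⁻¹ * (m * a * m⁻¹) = 1
    calc m * a * m⁻¹ * (m * a * m⁻¹) = m * (a * a) * m⁻¹ := by group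
      _ = 1 := by rw [hV.2 a ha]; group))).exists_le_sylow
  obtain ⟨e, he⟩ := MulAction.exists_smul_eq C T' T
  set b := (e : G) * (m * a * m⁻¹) * (e : G)⁻¹ with hb
  have hbC : b ∈ C := mul_mem (mul_mem e.2 haC) (inv_mem e.2)
  have hbT : (⟨b, hbC⟩ : C) ∈ (T : Subgroup C) := by
    rw [← he]
    exact Subgroup.smul_mem_pointwise_smul _ (MulAut.conj e) (T' : Subgroup C)
      (hT' (Subgroup.mem_zpowers _))
  -- move the Sylow subgroup of `C` into `S` fixing `t`
  set TM := ((T : Subgroup C).map C.subtype).subgroupOf M with hTM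
  have hTMp : IsPGroup 2 TM :=
    (T.2.map C.subtype).of_equiv (Subgroup.subgroupOfEquivOfLe ((Subgroup.map_subtype_le _).trans inf_le_left)).symm
  obtain ⟨TS, hTS⟩ := hTMp.exists_le_sylow
  obtain ⟨k, hk⟩ := MulAction.exists_smul_eq M TS (S.subtype hSM)
  obtain ⟨s, hs, o, ho, hko⟩ := exists_decomp hG S hSM hno k.2
  have hmove : ∀ z : G, z ∈ (T : Subgroup C).map C.subtype → o * z * o⁻¹ ∈ (S : Subgroup G) := by
    intro z hz
    have hzM : z ∈ M := ((Subgroup.map_subtype_le _).trans inf_le_left) hz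
    have h1 : k * ⟨z, hzM⟩ * k⁻¹ ∈ ((S.subtype hSM : Sylow 2 M) : Subgroup M) := by
      rw [← hk]
      exact Subgroup.smul_mem_pointwise_smul _ (MulAut.conj k) (TS : Subgroup M) (hTS hz)
    have h2 : (k : G) * z * (k : G)⁻¹ ∈ (S : Subgroup G) := h1
    rw [hko] at h2
    have h3 := mul_mem (mul_mem (inv_mem hs) h2) hs
    convert h3 using 1
    group
  have hOn : ∀ q ∈ M, ∀ w ∈ oddIn M, q * w * q⁻¹ ∈ oddIn M := fun q hq w hw =>
    (Subgroup.mem_normalizer_iff.1 (le_normalizer_oddIn M hq) w).1 hw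
  have hSO : ∀ q ∈ (S : Subgroup G), q ∈ oddIn M → q = 1 := fun q hq hqO => by
    have hd : q ∈ (S : Subgroup G) ⊓ oddIn M := ⟨hq, hqO⟩
    rwa [Coprime.inf_eq_bot_of_coprime (coprime_sylow hG S ht htS htZ (oddIn_odd M)),
      Subgroup.mem_bot] at hd
  have htT : t ∈ (T : Subgroup C).map C.subtype := ⟨⟨t, htC⟩, hT (Subgroup.mem_zpowers _), rfl⟩
  have hbT' : b ∈ (T : Subgroup C).map C.subtype := ⟨⟨b, hbC⟩, hbT, rfl⟩
  have hoM : o ∈ M := oddIn_le M ho
  have hot : o * t * o⁻¹ = t := by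
    have h1 : t⁻¹ * (o * t * o⁻¹) ∈ oddIn M := by
      have h2 := mul_mem (hOn t⁻¹ (inv_mem (hSM htS)) o ho) (inv_mem ho)
      convert h2 using 1
      group
    exact (inv_mul_eq_one.1 (hSO _ (mul_mem (inv_mem htS) (hmove t htT)) h1)).symm
  set b' := o * b * o⁻¹ with hb'
  have hb'S : b' ∈ (S : Subgroup G) := hmove b hbT'
  have hb'2 : b' * b' = 1 := by
    rw [hb', hb]
    calc _ = o * (e : G) * m * (a * a) * m⁻¹ * (e : G)⁻¹ * o⁻¹ := by group
      _ = 1 := by rw [hV.2 a ha]; group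
  have hb'1 : b' ≠ 1 := fun e' => ha1 (conj_eq_one_iff.1 (conj_eq_one_iff.1 (conj_eq_one_iff.1 e')))
  have hb't : b' ≠ t := by
    intro e'
    obtain ⟨s', hs', o', ho', hq⟩ := exists_decomp hG S hSM hno
      (mul_mem (mul_mem hoM e.2.1) hm : o * (e : G) * m ∈ M)
    have h1 : o * (e : G) * m * a * (o * (e : G) * m)⁻¹ = t := by
      rw [← e', hb', hb]; group
    rw [hq] at h1
    have h2 : o' * a * o'⁻¹ = t := by
      have h2' : s' * t = t * s' := htZ s' hs'
      calc o' * a * o'⁻¹ = s'⁻¹ * (s' * o' * a * (s' * o')⁻¹) * s' := by group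
        _ = t := by rw [h1, mul_assoc, ← h2']; group
    have h3 : a⁻¹ * t ∈ oddIn M := by
      have h4 := mul_mem (hOn a⁻¹ (inv_mem (hSM (hVS ha))) o' ho') (inv_mem ho')
      rw [← h2]
      convert h4 using 1
      group
    exact hat (inv_mul_eq_one.1 (hSO _ (mul_mem (inv_mem (hVS ha)) htS) h3))
  obtain ⟨W, hW, htW, hbW, hle⟩ : ∃ W : Subgroup G, IsFour W ∧ t ∈ W ∧ b' ∈ W ∧
      ∀ H : Subgroup G, t ∈ H → b' ∈ H → W ≤ H := by
    have hcomm : t * b' = b' * t := (htZ b' hb'S).symm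
    have htb2 : t * b' * (t * b') = 1 := by
      rw [(show Commute b' t from hcomm.symm).mul_mul_mul_comm, htt, hb'2, one_mul]
    classical
    let W : Subgroup G :=
      { carrier := {g | g = 1 ∨ g = t ∨ g = b' ∨ g = t * b'}
        one_mem' := Or.inl rfl
        mul_mem' := by
          have p1 : t * (t * b') = b' := by rw [← mul_assoc, htt, one_mul]
          have p2 : b' * (t * b') = t := by rw [← mul_assoc, ← hcomm, mul_assoc, hb'2, mul_one]
          have p3 : t * b' * t = b' := by rw [hcomm, mul_assoc, htt, mul_one]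
          have p4 : t * b' * b' = t := by rw [mul_assoc, hb'2, mul_one]
          rintro g k (rfl | rfl | rfl | rfl) (rfl | rfl | rfl | rfl) <;>
            simp [htt, hb'2, ← hcomm, p1, p2, p3, p4, htb2]
        inv_mem' := by
          rintro g (rfl | rfl | rfl | rfl)
          · exact Or.inl inv_one
          · exact Or.inr (Or.inl (inv_eq_of_mul_eq_one_right htt))
          · exact Or.inr (Or.inr (Or.inl (inv_eq_of_mul_eq_one_right hb'2)))
          · exact Or.inr (Or.inr (Or.inr (inv_eq_of_mul_eq_one_right htb2))) }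
    refine ⟨W, ⟨?_, ?_⟩, Or.inr (Or.inl rfl), Or.inr (Or.inr (Or.inl rfl)), ?_⟩
    · have hset : (W : Set G) = {1, t, b', t * b'} := by
        ext g
        show (g = 1 ∨ g = t ∨ g = b' ∨ g = t * b') ↔ _
        simp
      rw [show Nat.card W = (W : Set G).ncard from (Nat.card_coe_set_eq _), hset,
        Set.ncard_insert_of_notMem, Set.ncard_insert_of_notMem, Set.ncard_pair]
      · exact fun e' => ht1 (mul_eq_right.1 e'.symm)
      · simp only [Set.mem_insert_iff, Set.mem_singleton_iff, not_or]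
        exact ⟨fun e' => hb't e'.symm, fun e' => hb'1 (mul_eq_left.1 e'.symm)⟩
      · simp only [Set.mem_insert_iff, Set.mem_singleton_iff, not_or]
        refine ⟨ht1.symm, hb'1.symm, fun e' => hb't ?_⟩
        calc b' = (t * t) * b' := by rw [htt, one_mul]
          _ = t := by rw [mul_assoc, ← e', mul_one]
    · rintro g (rfl | rfl | rfl | rfl)
      exacts [one_mul 1, htt, hb'2, htb2]
    · rintro H htH hbH g (rfl | rfl | rfl | rfl)
      exacts [one_mem H, htH, hbH, mul_mem htH hbH]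
  have hWS : W ≤ (S : Subgroup G) := hle _ htS hb'S
  -- `o y o⁻¹` is centralised by `W`
  set y' := o * y * o⁻¹ with hy'
  have hy'W : y' ∈ Subgroup.centralizer (W : Set G) := by
    rw [← hW.centralizer_pair htW hbW ht1 hb'1 hb't.symm, Subgroup.mem_centralizer_iff]
    rintro z (h | h) <;> subst z
    · calc t * (o * y * o⁻¹) = o * t * o⁻¹ * (o * y * o⁻¹) := by rw [hot]
        _ = o * (t * y) * o⁻¹ := by group
        _ = o * y * o⁻¹ * (o * t * o⁻¹) := by rw [← hyt]; group
        _ = _ := by rw [hot]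
    · have h1 := Subgroup.mem_centralizer_singleton_iff.1 hbC.2
      calc o * b * o⁻¹ * (o * y * o⁻¹) = o * (b * y) * o⁻¹ := by group
        _ = o * y * o⁻¹ * (o * b * o⁻¹) := by rw [h1]; group
  have hYp : IsPGroup r (Subgroup.zpowers y') := by
    refine (((P.2.to_le (Subgroup.zpowers_le.2 (hRP hhR))).map (MulAut.conj o).toMonoidHom)).to_le ?_
    rw [Subgroup.zpowers_le]
    exact ⟨y, Subgroup.mem_zpowers y, rfl⟩
  have h1 := card_le_fixed hG S ht htS htZ hr2 hW hWS hRle hSR hRcard hYp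
    (hG.le_coreV hW (Subgroup.zpowers_le.2 hy'W) (odd_of_rgroup hr2 hYp))
  rw [hfree W hW hWS, Subgroup.card_bot, Nat.card_zpowers] at h1
  have h2 : orderOf y' = 1 := le_antisymm h1 (orderOf_pos y')
  exact hy1 (conj_eq_one_iff.1 (orderOf_eq_one_iff.1 h2))

/-- An invariant Sylow `r`-subgroup of `O(C(t))` which no four-group of `S` centralises is a Sylow
subgroup of `G`. -/
theorem exists_sylow_eq (hFO : PropFourOdd.{u}) (hF : FusedCentral G r) {R : Subgroup G}
    (hRle : R ≤ coreC t) (hRcard : Nat.card R = r ^ (Nat.card (coreC t)).factorization r)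
    (hRp : IsPGroup r R) (hR0 : (S : Subgroup G) ≤ Subgroup.normalizer (R : Set G))
    (hcent : ¬ ∃ W : Subgroup G, IsFour W ∧ W ≤ (S : Subgroup G) ∧
      R ≤ Subgroup.centralizer (W : Set G)) :
    ∃ P : Sylow r G, (P : Subgroup G) = R := by
  have hR1 : R ≠ ⊥ := by
    intro e
    obtain ⟨V, hV, hVS⟩ := exists_four_le hG S ht htS htZ
    exact hcent ⟨V, hV, hVS, e ▸ bot_le⟩
  obtain ⟨P0, hRP0, hP0p, hSP0, hP0max⟩ := exists_maximal hG S ht htS htZ hr2 hRp hR0
  rcases maximal_cases hG S ht htS htZ hr2 hF hP0p (fun e => hR1 (le_bot_iff.1 (e ▸ hRP0))) hSP0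
    hP0max with ⟨W, hW, hWS, hPW⟩ | ⟨P, hP⟩
  · exact absurd ⟨W, hW, hWS, hRP0.trans hPW⟩ hcent
  rw [← hP] at hRP0 hSP0
  have hPt : (P : Subgroup G) ⊓ Subgroup.centralizer ({t} : Set G) = R := by
    refine (Subgroup.eq_of_le_of_card_ge (le_inf hRP0 (hRle.trans (coreC_le t))) ?_).symm
    rw [hRcard]
    exact card_le_part (P.2.to_le inf_le_left)
      (hG.le_coreC ht inf_le_right (odd_of_rgroup hr2 (P.2.to_le inf_le_left)))
  refine ⟨P, Eq.trans (inf_eq_left.2 ?_).symm hPt⟩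
  by_cases hex : ∃ V : Subgroup G, IsFour V ∧ V ≤ (S : Subgroup G) ∧
      R ⊓ Subgroup.centralizer (V : Set G) ≠ ⊥
  · obtain ⟨V, hV, hVS, hX⟩ := hex
    exact le_centralizer_of_fixed hG S ht htS htZ hr2 hFO hF hV hVS hRle hR0 hRcard P.2 hSP0
      hPt hX fun hc => hcent ⟨V, hV, hVS, hc⟩
  · push Not at hex
    exact le_centralizer_of_free hG S ht htS htZ hr2 hF P hRle hR0 hRcard hSP0 hPt hex

/-- Section L at one prime. -/
theorem le_centralizer_of_invariant (hFO : PropFourOdd.{u}) (hF : FusedCentral G r)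
    (h8 : 8 ≤ Nat.card (S : Subgroup G)) {K : Subgroup G} (hK : IsPGroup r K)
    (hSK : (S : Subgroup G) ≤ Subgroup.normalizer (K : Set G)) :
    K ≤ Subgroup.centralizer ({t} : Set G) := by
  haveI : Fact (Nat.Prime 2) := ⟨Nat.prime_two⟩
  by_cases hK1 : K = ⊥
  · rw [hK1]; exact bot_le
  obtain ⟨R0, hR0⟩ := Coprime.exists_invariant_sylow (sylow_le_normalizer_coreC hG S ht htS htZ)
    (coprime_sylow hG S ht htS htZ (coreC_odd t)) (Or.inr (isSolvable_coreC t)) r
  set R := (R0 : Subgroup ↥(coreC t)).map (coreC t).subtype with hR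
  have hRle : R ≤ coreC t := Subgroup.map_subtype_le _
  have hRcard := Coprime.card_sylow_map R0
  have hRp : IsPGroup r R := R0.2.map _
  by_cases hcent : ∃ W : Subgroup G, IsFour W ∧ W ≤ (S : Subgroup G) ∧
      R ≤ Subgroup.centralizer (W : Set G)
  · obtain ⟨W, hW, hWS, hRW⟩ := hcent
    exact (centralizes_all hG S ht htS htZ hr2 hW hWS hRle hRcard hRW hK (hWS.trans hSK)).trans
      (IsFour.centralizer_le (mem_four hG S ht htS htZ hW hWS))
  obtain ⟨P, hP⟩ := exists_sylow_eq hG S ht htS htZ hr2 hFO hF hRle hRcard hRp hR0 hcent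
  have hSP0 : (S : Subgroup G) ≤ Subgroup.normalizer ((P : Subgroup G) : Set G) := by
    rw [hP]; exact hR0
  have hPC : (P : Subgroup G) ≤ Subgroup.centralizer ({t} : Set G) := by
    rw [hP]; exact hRle.trans (coreC_le t)
  obtain ⟨P1, hKP1, hP1p, hSP1, hP1max⟩ := exists_maximal hG S ht htS htZ hr2 hK hSK
  rcases maximal_cases hG S ht htS htZ hr2 hF hP1p (fun e => hK1 (le_bot_iff.1 (e ▸ hKP1))) hSP1
    hP1max with ⟨W, hW, hWS, hPW⟩ | ⟨Q, hQ⟩
  · exact (hKP1.trans hPW).trans (IsFour.centralizer_le (mem_four hG S ht htS htZ hW hWS))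
  rw [← hQ] at hKP1 hSP1
  obtain ⟨g, hg⟩ := MulAction.exists_smul_eq G P Q
  have hgQ : MulAut.conj g • (P : Subgroup G) = (Q : Subgroup G) := by
    rw [← hg]; rfl
  have hS' : ∀ s ∈ (S : Subgroup G), g⁻¹ * s * g ∈ Subgroup.normalizer ((P : Subgroup G) : Set G) := by
    intro s hs
    refine Coprime.mem_normalizer_of_conj_smul_eq ?_
    rw [mul_assoc, Coprime.conj_smul_mul, Coprime.conj_smul_mul, hgQ,
      Coprime.conj_smul_eq_self_of_mem_normalizer (hSP1 hs), ← hgQ, ← Coprime.conj_smul_mul,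
      inv_mul_cancel, map_one, one_smul]
  set N := Subgroup.normalizer ((P : Subgroup G) : Set G) with hN
  have hle : ((g⁻¹ • S : Sylow 2 G) : Subgroup G) ≤ N := by
    intro x hx
    rw [Sylow.coe_subgroup_smul, Coprime.mem_conj_smul, inv_inv] at hx
    have h1 := hS' _ hx
    convert h1 using 1
    group
  obtain ⟨n, hn⟩ := MulAction.exists_smul_eq N ((g⁻¹ • S).subtype hle) (S.subtype hSP0)
  have hgn : (n : G) * g⁻¹ ∈ Subgroup.normalizer ((S : Subgroup G) : Set G) := by
    refine Subgroup.mem_normalizer_fintype fun x hx => ?_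
    have hx' : g⁻¹ * x * g ∈ ((g⁻¹ • S : Sylow 2 G) : Subgroup G) := by
      rw [Sylow.coe_subgroup_smul, Coprime.mem_conj_smul]
      convert (show x ∈ (S : Subgroup G) from hx) using 1
      group
    have h1 : n * ⟨g⁻¹ * x * g, hle hx'⟩ * n⁻¹ ∈ ((S.subtype hSP0 : Sylow 2 N) : Subgroup N) := by
      rw [← hn]
      exact Subgroup.smul_mem_pointwise_smul _ (MulAut.conj n)
        ((g⁻¹ • S).subtype hle : Subgroup N) hx'
    have h2 : (n : G) * (g⁻¹ * x * g) * (n : G)⁻¹ ∈ (S : Subgroup G) := h1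
    show (n : G) * g⁻¹ * x * ((n : G) * g⁻¹)⁻¹ ∈ (S : Subgroup G)
    rw [show (n : G) * g⁻¹ * x * ((n : G) * g⁻¹)⁻¹ = (n : G) * (g⁻¹ * x * g) * (n : G)⁻¹ by group]
    exact h2
  have hct := normalizer_le_centralizer_t hG S ht htS htZ h8 hgn
  intro k hk
  have hk' : g⁻¹ * k * g ∈ (P : Subgroup G) := by
    rw [← Coprime.mem_conj_smul, hgQ]; exact hKP1 hk
  have h3 : (n : G) * (g⁻¹ * k * g) * (n : G)⁻¹ ∈ (P : Subgroup G) :=
    (Subgroup.mem_normalizer_iff.1 n.2 _).1 hk'
  have h4 := mul_mem (mul_mem (inv_mem hct) (hPC h3)) hct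
  convert h4 using 1
  group

end SectionL

/-- Section L: `t` centralises every `S`-invariant subgroup of odd order. -/
theorem centralizes_invariant_odd (hFO : PropFourOdd.{u}) (hG : Hyp G) (S : Sylow 2 G) {t : G}
    (ht : orderOf t = 2) (htS : t ∈ (S : Subgroup G)) (htZ : ∀ s ∈ (S : Subgroup G), s * t = t * s)
    (h8 : 8 ≤ Nat.card (S : Subgroup G))
    (hF : ∀ r : ℕ, r.Prime → r ≠ 2 → r ∣ Nat.card G → FusedCentral G r) {K : Subgroup G}
    (hK : Odd (Nat.card K)) (hSK : (S : Subgroup G) ≤ Subgroup.normalizer (K : Set G)) :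
    K ≤ Subgroup.centralizer ({t} : Set G) := by
  refine Coprime.le_of_forall_sylow fun p hp => ?_
  haveI := Fact.mk hp
  obtain ⟨P, hP⟩ := Coprime.exists_invariant_sylow hSK
    (SectionL.coprime_sylow hG S ht htS htZ hK) (Or.inr (Cfsg.Agent.S0205.result hK)) p
  by_cases hpK : p ∣ Nat.card K
  · have hp2 : p ≠ 2 := fun e => Nat.not_even_iff_odd.2 hK (even_iff_two_dvd.2 (e ▸ hpK))
    exact ⟨P, SectionL.le_centralizer_of_invariant hG S ht htS htZ hp2 hFO
      (hF p hp hp2 (hpK.trans (Subgroup.card_subgroup_dvd_card K))) h8 (P.2.map _) hP⟩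
  · refine ⟨P, ?_⟩
    have hc : Nat.card ((P : Subgroup K).map K.subtype) = 1 := by
      rw [Coprime.card_sylow_map, Nat.factorization_eq_zero_of_not_dvd hpK, pow_zero]
    rw [Subgroup.eq_bot_of_card_eq _ hc]
    exact bot_le

end Cfsg.Agent.Lib.GorensteinWalter
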